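import Groth.Agent.Lib.RefHull.HomSh
import Groth.Agent.Lib.RefHull.Reflexive
import Groth.Agent.Lib.Snapper.Finite
import Groth.Agent.Lib.Curves.GlobalSections
import Groth.Agent.Lib.Cyc.FP.Stalk
import Groth.Agent.Lib.Ample.QAffCrit
import Groth.Prelude.Def_KLin
import Groth.Prelude.Def_Omega2

/-!
# Homs between coherent modules on a proper scheme form a finite-dimensional space
-/

noncomputable section

universe u

open CategoryTheory AlgebraicGeometry Opposite

namespace Groth.Agent.Lib.ArtinFun.HomFinite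

open Groth.Agent.Lib

variable {k : Type u} [Field k] {X : Scheme.{u}} [X.Over (Spec (CommRingCat.of k))]

theorem finite_hom [IsProper (X ↘ Spec (CommRingCat.of k))] {F G : X.Modules} (hF : Coh.IsCoh F)
    (hG : Coh.IsCoh G) : Module.Finite k (F ⟶ G) := by
  haveI : IsLocallyNoetherian X :=
    LocallyOfFiniteType.isLocallyNoetherian (X ↘ Spec (CommRingCat.of k))
  letI := Curves.GlobalSections.secModule k (RefHull.homSh F G)
  haveI : Module.Finite k (Coh.HH X (RefHull.homSh F G) 0) :=
    Snapper.Finite.cohFinite k X _ (RefHull.HomSh.isCoh_homSh hF hG) 0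
  haveI : Module.Finite k ((RefHull.homSh F G).val.obj (op ⊤) : Type u) :=
    Module.Finite.equiv (Curves.GlobalSections.h0Linear k (RefHull.homSh F G))
  haveI : IsNoetherian k ((RefHull.homSh F G).val.obj (op ⊤) : Type u) := isNoetherian_of_isNoetherianRing_of_finite _ _
  let L : (F ⟶ G) →ₗ[k] ((RefHull.homSh F G).val.obj (op ⊤) : Type u) :=
    { toFun := fun φ => _root_.RefHull.ofHom φ ⊤
      map_add' := fun φ ψ => Subtype.ext <| funext fun x => LinearMap.ext fun v => by
        obtain ⟨U, hx, m, rfl⟩ := TopCat.Presheaf.exists_germ_eq F.presheaf v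
        show _root_.RefHull.stalkMapₗ (φ + ψ) x.1 _ =
          _root_.RefHull.stalkMapₗ φ x.1 _ + _root_.RefHull.stalkMapₗ ψ x.1 _
        rw [_root_.RefHull.stalkMapₗ_germ, _root_.RefHull.stalkMapₗ_germ, _root_.RefHull.stalkMapₗ_germ,
          ← map_add]
        rfl
      map_smul' := fun c φ => Subtype.ext <| funext fun x => LinearMap.ext fun v => by
        obtain ⟨U, hx, m, rfl⟩ := TopCat.Presheaf.exists_germ_eq F.presheaf v
        show _root_.RefHull.stalkMapₗ (c • φ) x.1 _ =
          X.presheaf.germ ⊤ x.1 x.2 (Coh.toGlobal (X ↘ Spec (CommRingCat.of k)) c) •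
            _root_.RefHull.stalkMapₗ φ x.1 _
        rw [_root_.RefHull.stalkMapₗ_germ, _root_.RefHull.stalkMapₗ_germ, KLin.smul_app_apply,
          Mero.germ_smul, TopCat.Presheaf.germ_res_apply] }
  refine Module.Finite.of_injective L fun φ ψ h => ?_
  refine Scheme.Modules.hom_ext _ _ fun U => ?_
  ext m
  refine RefHull.SecHom.sec_ext fun y hy => ?_
  have h' : _root_.RefHull.stalkMapₗ φ y = _root_.RefHull.stalkMapₗ ψ y :=
    congrFun (congrArg Subtype.val h) ⟨y, trivial⟩
  rw [← _root_.RefHull.stalkMapₗ_germ, ← _root_.RefHull.stalkMapₗ_germ, h']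

/-- The conormal sheaf of a closed subscheme of a locally Noetherian scheme is coherent. -/
theorem isCoh_conormal {Z Y : Scheme.{u}} [IsLocallyNoetherian Y] (i : Z ⟶ Y) :
    Coh.IsCoh (Omega.conormal i) :=
  Cyc.FP.Stalk.isCoh_pullback i
    ⟨Ample.QAffCrit.isQCoh_idealMod i.ker, Ample.QAffCrit.isFT_idealMod i.ker fun U => by
      haveI : IsNoetherianRing Γ(Y, U.1) := IsLocallyNoetherian.component_noetherian U
      exact IsNoetherian.noetherian _⟩

end Groth.Agent.Lib.ArtinFun.HomFinite
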