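import Groth.Agent.Lib.ArtinFun.CRingBasic
import Groth.Agent.Lib.FSAdic.PowerSeries
import Mathlib.RingTheory.MvPowerSeries.Inverse
import Mathlib.RingTheory.MvPowerSeries.Trunc
import Mathlib.RingTheory.Filtration

/-!
# Power series rings over coefficient rings
-/

universe u v

open CategoryTheory ArtFun MvPowerSeries

set_option linter.style.haveILetI false

namespace Groth.Agent.Lib.ArtinFun

variable {Λ : Type u} {k : Type u} [CommRing Λ] [Field k] [Algebra Λ k]

/-- The augmentation of a power series ring. -/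
noncomputable def psRes (R : CRing Λ k) (n : ℕ) : MvPowerSeries (Fin n) R.carrier →ₐ[Λ] k :=
  { R.res.toRingHom.comp MvPowerSeries.constantCoeff with
    commutes' := fun l => by
      change R.res (MvPowerSeries.constantCoeff (algebraMap Λ (MvPowerSeries (Fin n) R.carrier) l)) = _
      rw [MvPowerSeries.algebraMap_apply, MvPowerSeries.constantCoeff_C, AlgHom.commutes] }

lemma psRes_apply (R : CRing Λ k) (n : ℕ) (f : MvPowerSeries (Fin n) R.carrier) :
    psRes R n f = R.res (MvPowerSeries.constantCoeff f) := rfl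

lemma psRes_surjective (R : CRing Λ k) (n : ℕ) : Function.Surjective (psRes R n) := fun c => by
  obtain ⟨r, rfl⟩ := R.res_surjective c
  exact ⟨MvPowerSeries.C r, by rw [psRes_apply, MvPowerSeries.constantCoeff_C]⟩

lemma mem_maximalIdeal_ps (R : CRing Λ k) (n : ℕ) (f : MvPowerSeries (Fin n) R.carrier) :
    f ∈ IsLocalRing.maximalIdeal (MvPowerSeries (Fin n) R.carrier) ↔ psRes R n f = 0 := by
  rw [← IsLocalRing.eq_maximalIdeal (RingHom.ker_isMaximal_of_surjective (psRes R n).toRingHom
    (psRes_surjective R n)), RingHom.mem_ker]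
  rfl

section Filtration

variable {R : Type u} [CommRing R] (m : Ideal R) {σ : Type}

/-- Series whose coefficient in degree `d` lies in `m ^ (N - d)`. -/
def totalFiltration (N : ℕ) : Ideal (MvPowerSeries σ R) where
  carrier := {f | ∀ d, coeff d f ∈ m ^ (N - d.degree)}
  add_mem' hf hg d := by rw [map_add]; exact add_mem (hf d) (hg d)
  zero_mem' d := by rw [map_zero]; exact zero_mem _
  smul_mem' c f hf d := by
    classical
    rw [smul_eq_mul, MvPowerSeries.coeff_mul]
    refine Ideal.sum_mem _ fun p hp => Ideal.mul_mem_left _ _ ?_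
    rw [Finset.mem_antidiagonal] at hp
    refine Ideal.pow_le_pow_right ?_ (hf p.2)
    rw [← hp, map_add]
    omega

lemma totalFiltration_mul (a b : ℕ) :
    totalFiltration (σ := σ) m a * totalFiltration m b ≤ totalFiltration m (a + b) := by
  classical
  rw [Ideal.mul_le]
  intro f hf g hg d
  rw [MvPowerSeries.coeff_mul]
  refine Ideal.sum_mem _ fun p hp => ?_
  rw [Finset.mem_antidiagonal] at hp
  refine Ideal.pow_le_pow_right ?_ (pow_add m _ _ ▸ Ideal.mul_mem_mul (hf p.1) (hg p.2))
  rw [← hp, map_add]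
  omega

end Filtration

lemma coeff_mem_of_mem_maximalIdeal_pow (R : CRing Λ k) {n : ℕ} {N : ℕ}
    {f : MvPowerSeries (Fin n) R.carrier}
    (hf : f ∈ IsLocalRing.maximalIdeal (MvPowerSeries (Fin n) R.carrier) ^ N) (d : Fin n →₀ ℕ) :
    coeff d f ∈ IsLocalRing.maximalIdeal R.carrier ^ (N - d.degree) := by
  suffices h : IsLocalRing.maximalIdeal (MvPowerSeries (Fin n) R.carrier) ^ N ≤
      totalFiltration (IsLocalRing.maximalIdeal R.carrier) N from h hf d
  clear hf
  induction N with
  | zero => intro f _ d; simp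
  | succ N ih =>
    rw [pow_succ]
    have h1 : IsLocalRing.maximalIdeal (MvPowerSeries (Fin n) R.carrier) ≤
        totalFiltration (IsLocalRing.maximalIdeal R.carrier) 1 := by
      intro f hf d
      by_cases hd : d.degree = 0
      · rw [hd, Nat.sub_zero, pow_one, CRing.mem_maximalIdeal_iff,
          (Finsupp.degree_eq_zero_iff d).1 hd, MvPowerSeries.coeff_zero_eq_constantCoeff_apply]
        exact (mem_maximalIdeal_ps R n f).1 hf
      · rw [show 1 - d.degree = 0 by omega, pow_zero, Ideal.one_eq_top]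
        exact Submodule.mem_top
    exact le_trans (Ideal.mul_mono ih h1) (totalFiltration_mul _ N 1)

lemma span_X_le_maximalIdeal (R : CRing Λ k) (n : ℕ) :
    Ideal.span (Set.range X) ≤ IsLocalRing.maximalIdeal (MvPowerSeries (Fin n) R.carrier) := by
  rw [Ideal.span_le]
  rintro _ ⟨i, rfl⟩
  rw [SetLike.mem_coe, mem_maximalIdeal_ps, psRes_apply, MvPowerSeries.constantCoeff_X, map_zero]

lemma sub_truncTotal_mem_pow (R : CRing Λ k) {n : ℕ} (f : MvPowerSeries (Fin n) R.carrier) (N : ℕ) :
    f - ((truncTotal N f : MvPolynomial (Fin n) R.carrier) : MvPowerSeries (Fin n) R.carrier) ∈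
      IsLocalRing.maximalIdeal (MvPowerSeries (Fin n) R.carrier) ^ N :=
  Ideal.pow_right_mono (span_X_le_maximalIdeal R n) N
    (Groth.Agent.Lib.FSAdic.PowerSeries.sub_truncTotal_mem f N)

lemma mem_pow_of_coeff_mem (R : CRing Λ k) {n : ℕ} {N : ℕ} {f : MvPowerSeries (Fin n) R.carrier}
    (hf : ∀ d : Fin n →₀ ℕ, d.degree < N → coeff d f ∈ IsLocalRing.maximalIdeal R.carrier ^ (N - d.degree)) :
    f ∈ IsLocalRing.maximalIdeal (MvPowerSeries (Fin n) R.carrier) ^ N := by
  classical
  rw [← sub_add_cancel f ((truncTotal N f : MvPolynomial (Fin n) R.carrier) : MvPowerSeries (Fin n) R.carrier)]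
  refine add_mem (sub_truncTotal_mem_pow R f N) ?_
  rw [← MvPolynomial.coeToMvPowerSeries.ringHom_apply]
  rw [MvPolynomial.as_sum (truncTotal N f)]
  rw [map_sum]
  refine Ideal.sum_mem _ fun d hd => ?_
  have hlt : d.degree < N := by
    by_contra h
    exact MvPolynomial.mem_support_iff.1 hd (coeff_truncTotal_eq_zero _ (not_lt.1 h))
  rw [coeff_truncTotal _ hlt, MvPolynomial.monomial_eq, map_mul,
    show IsLocalRing.maximalIdeal (MvPowerSeries (Fin n) R.carrier) ^ N =
      IsLocalRing.maximalIdeal (MvPowerSeries (Fin n) R.carrier) ^ ((N - d.degree) + d.degree) by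
      rw [Nat.sub_add_cancel hlt.le], pow_add]
  refine Ideal.mul_mem_mul ?_ ?_
  · rw [MvPolynomial.coeToMvPowerSeries.ringHom_apply, MvPolynomial.coe_C]
    have hC : (IsLocalRing.maximalIdeal R.carrier).map (MvPowerSeries.C (σ := Fin n)) ≤
        IsLocalRing.maximalIdeal (MvPowerSeries (Fin n) R.carrier) := by
      rw [Ideal.map_le_iff_le_comap]
      intro r hr
      rw [Ideal.mem_comap, mem_maximalIdeal_ps, psRes_apply, MvPowerSeries.constantCoeff_C]
      exact (CRing.mem_maximalIdeal_iff R r).1 hr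
    have h2 : MvPowerSeries.C (coeff d f) ∈
        ((IsLocalRing.maximalIdeal R.carrier).map (MvPowerSeries.C (σ := Fin n))) ^ (N - d.degree) := by
      rw [← Ideal.map_pow]
      exact Ideal.mem_map_of_mem _ (hf d hlt)
    exact Ideal.pow_right_mono hC _ h2
  · rw [Finsupp.prod, map_prod, Finsupp.degree_apply, ← Finset.prod_pow_eq_pow_sum]
    refine Ideal.prod_mem_prod fun i _ => ?_
    rw [MvPolynomial.coeToMvPowerSeries.ringHom_apply, MvPolynomial.coe_pow, MvPolynomial.coe_X]
    exact Ideal.pow_mem_pow (span_X_le_maximalIdeal R n (Ideal.subset_span ⟨i, rfl⟩)) _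

theorem isAdicComplete_ps (R : CRing Λ k) (n : ℕ) :
    IsAdicComplete (IsLocalRing.maximalIdeal (MvPowerSeries (Fin n) R.carrier))
      (MvPowerSeries (Fin n) R.carrier) := by
  refine { haus' := fun x hx => ?_, prec' := fun f hf => ?_ }
  · refine MvPowerSeries.ext fun d => ?_
    rw [map_zero]
    refine (isHausdorff_cRing R).haus' _ fun N => ?_
    have h := hx (N + d.degree)
    rw [SModEq.zero, smul_eq_mul, Ideal.mul_top] at h
    rw [SModEq.zero, smul_eq_mul, Ideal.mul_top]
    have := coeff_mem_of_mem_maximalIdeal_pow R h d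
    rwa [Nat.add_sub_cancel] at this
  · simp only [SModEq.sub_mem, smul_eq_mul, Ideal.mul_top] at hf ⊢
    have hc : ∀ (d : Fin n →₀ ℕ) {a b : ℕ}, a ≤ b →
        coeff d (f a) - coeff d (f b) ∈ IsLocalRing.maximalIdeal R.carrier ^ (a - d.degree) :=
      fun d a b hab => by
        rw [← map_sub]
        exact coeff_mem_of_mem_maximalIdeal_pow R (hf hab) d
    have hlim : ∀ d : Fin n →₀ ℕ, ∃ L : R.carrier, ∀ N,
        coeff d (f (N + d.degree)) - L ∈ IsLocalRing.maximalIdeal R.carrier ^ N := fun d => by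
      have hp := (isPrecomplete_cRing R).prec' (fun N => coeff d (f (N + d.degree))) (fun {a b} hab => by
        rw [SModEq.sub_mem, smul_eq_mul, Ideal.mul_top]
        have := hc d (Nat.add_le_add_right hab d.degree)
        rwa [Nat.add_sub_cancel] at this)
      simp only [SModEq.sub_mem, smul_eq_mul, Ideal.mul_top] at hp
      exact hp
    choose L hL using hlim
    let g : MvPowerSeries (Fin n) R.carrier := fun d => L d
    refine ⟨g, fun N => mem_pow_of_coeff_mem R fun d hd => ?_⟩
    have h1 := hL d (N - d.degree)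
    rw [Nat.sub_add_cancel hd.le] at h1
    rw [map_sub]
    exact h1

/-- The power series ring over a coefficient ring as a coefficient ring. -/
noncomputable def psCRing (R : CRing Λ k) (n : ℕ) : CRing Λ k :=
  { carrier := MvPowerSeries (Fin n) R.carrier
    res := psRes R n
    res_surjective := psRes_surjective R n
    isAdicComplete := isAdicComplete_ps R n }

lemma ker_psRes (R : CRing Λ k) (n : ℕ) :
    RingHom.ker (psRes R n) = IsLocalRing.maximalIdeal (MvPowerSeries (Fin n) R.carrier) := by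
  ext f
  rw [RingHom.mem_ker, mem_maximalIdeal_ps]

/-- Maps out of a power series ring agree when they agree on constants and variables. -/
theorem homSet_ps_ext (R : CRing Λ k) {n : ℕ} {A : Art Λ k}
    {ψ₁ ψ₂ : HomSet (MvPowerSeries (Fin n) R.carrier) (psRes R n) A}
    (hC : ∀ r, ψ₁.1 (MvPowerSeries.C r) = ψ₂.1 (MvPowerSeries.C r))
    (hX : ∀ i, ψ₁.1 (X i) = ψ₂.1 (X i)) : ψ₁ = ψ₂ := by
  obtain ⟨N, hN⟩ := exists_maximalIdeal_pow_eq_bot A
  have hp : ∀ p : MvPolynomial (Fin n) R.carrier,
      ψ₁.1 (p : MvPowerSeries (Fin n) R.carrier) = ψ₂.1 (p : MvPowerSeries (Fin n) R.carrier) := fun p => by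
    induction p using MvPolynomial.induction_on with
    | C a => simpa [MvPolynomial.coe_C] using hC a
    | add p q hp hq => rw [MvPolynomial.coe_add, map_add, map_add, hp, hq]
    | mul_X p i hp => rw [MvPolynomial.coe_mul, map_mul, map_mul, hp, MvPolynomial.coe_X, hX]
  refine homSet_ext' fun f => ?_
  have h₁ := homSet_pow_le_ker ψ₁ hN (ker_psRes R n ▸ sub_truncTotal_mem_pow R f N)
  have h₂ := homSet_pow_le_ker ψ₂ hN (ker_psRes R n ▸ sub_truncTotal_mem_pow R f N)
  rw [map_sub, sub_eq_zero] at h₁ h₂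
  rw [h₁, h₂, hp]

/-- A map of the constants and values of the variables extend to the power series ring. -/
theorem exists_homSet_ps (R : CRing Λ k) {n : ℕ} {A : Art Λ k} (φ : HomSet R.carrier R.res A)
    (a : Fin n → A) (ha : ∀ i, a i ∈ IsLocalRing.maximalIdeal A) :
    ∃ ψ : HomSet (MvPowerSeries (Fin n) R.carrier) (psRes R n) A,
      (∀ r, ψ.1 (MvPowerSeries.C r) = φ.1 r) ∧ ∀ i, ψ.1 (X i) = a i := by
  letI : Algebra R.carrier A := φ.1.toRingHom.toAlgebra
  haveI : IsScalarTower Λ R.carrier A := IsScalarTower.of_algebraMap_eq fun x => (φ.1.commutes x).symm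
  obtain ⟨N₀, hN₀⟩ := exists_maximalIdeal_pow_eq_bot A
  let N := N₀ + 2
  have hN : IsLocalRing.maximalIdeal A ^ N = ⊥ := by
    rw [← le_bot_iff, ← hN₀]
    exact Ideal.pow_le_pow_right (by omega)
  let p : MvPolynomial (Fin n) R.carrier →ₐ[R.carrier] A := MvPolynomial.aeval a
  have hp : MvPolynomial.idealOfVars (Fin n) R.carrier ^ N ≤ RingHom.ker p.toRingHom := by
    intro g hg
    have h1 : (MvPolynomial.idealOfVars (Fin n) R.carrier).map p.toRingHom ≤ IsLocalRing.maximalIdeal A := by
      rw [Ideal.map_span, Ideal.span_le]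
      rintro _ ⟨_, ⟨i, rfl⟩, rfl⟩
      simpa [p] using ha i
    have h2 := Ideal.pow_right_mono h1 N (Ideal.map_pow p.toRingHom _ N ▸ Ideal.mem_map_of_mem p.toRingHom hg)
    rw [hN, Ideal.mem_bot] at h2
    exact h2
  let v : MvPowerSeries (Fin n) R.carrier →ₐ[R.carrier] A :=
    (Ideal.Quotient.liftₐ _ p fun g hg => hp hg).comp
      ((truncTotalAlgHom (Fin n) R.carrier N).restrictScalars R.carrier)
  have hv : ∀ f, v f = p (truncTotal N f) := fun f => rfl
  have hvC : ∀ r, v (MvPowerSeries.C r) = φ.1 r := fun r => v.commutes r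
  have hvX : ∀ i, v (X i) = a i := fun i => by
    rw [hv, show truncTotal N (X i : MvPowerSeries (Fin n) R.carrier) = MvPolynomial.X i from ?_]
    · simp [p]
    · rw [← MvPolynomial.coe_X]
      refine MvPolynomial.ext _ _ fun d => ?_
      by_cases hd : d.degree < N
      · rw [coeff_truncTotal _ hd, MvPolynomial.coeff_coe]
      · rw [coeff_truncTotal_eq_zero _ (not_lt.1 hd), MvPolynomial.coeff_X]
        rw [if_neg]
        rintro rfl
        rw [Finsupp.degree_single] at hd
        omega
  refine ⟨⟨v.restrictScalars Λ, AlgHom.ext fun f => ?_⟩, hvC, hvX⟩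
  change A.res (v f) = psRes R n f
  rw [hv]
  have : ∀ g : MvPolynomial (Fin n) R.carrier, A.res (p g) = R.res (MvPolynomial.constantCoeff g) := fun g => by
    induction g using MvPolynomial.induction_on with
    | C c => simp only [p, MvPolynomial.aeval_C, MvPolynomial.constantCoeff_C]; exact homSet_res φ c
    | add x y hx hy => simp [hx, hy]
    | mul_X x i hx => simp [p, (Art.mem_maximalIdeal_iff _ _).1 (ha i)]
  rw [this, psRes_apply, MvPolynomial.constantCoeff_eq, coeff_truncTotal _ (by simp [N]),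
    MvPowerSeries.coeff_zero_eq_constantCoeff_apply]

/-- A map of the constants and values of the variables extend to maps into coefficient rings. -/
theorem exists_algHom_ps (R S : CRing Λ k) {n : ℕ} (φ : R.carrier →ₐ[Λ] S.carrier)
    (hφ : S.res.comp φ = R.res) (x : Fin n → S.carrier) (hx : ∀ i, S.res (x i) = 0) :
    ∃ g : MvPowerSeries (Fin n) R.carrier →ₐ[Λ] S.carrier, S.res.comp g = psRes R n ∧
      (∀ r, g (MvPowerSeries.C r) = φ r) ∧ ∀ i, g (X i) = x i := by
  have hxm : ∀ m i, (S.truncHom m).1 (x i) ∈ IsLocalRing.maximalIdeal (S.trunc m) := fun m i => by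
    rw [Art.mem_maximalIdeal_iff, homSet_res, hx]
  choose θ hθC hθX using fun m => exists_homSet_ps R
    (⟨(S.truncHom m).1.comp φ, by rw [← AlgHom.comp_assoc, (S.truncHom m).2, hφ]⟩ :
      HomSet R.carrier R.res (S.trunc m)) (fun i => (S.truncHom m).1 (x i)) (hxm m)
  obtain ⟨g, hg, hgθ⟩ := exists_algHom_of_trunc S θ (fun m => by
    refine homSet_ps_ext R (fun r => ?_) fun i => ?_
    · change S.truncMap m ((θ (m + 1)).1 _) = _
      rw [hθC, hθC]
      rfl
    · change S.truncMap m ((θ (m + 1)).1 _) = _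
      rw [hθX, hθX]
      rfl)
  refine ⟨g, hg, fun r => ?_, fun i => ?_⟩
  · have : (AlgHom.comp g (IsScalarTower.toAlgHom Λ R.carrier (MvPowerSeries (Fin n) R.carrier))) = φ :=
      algHom_ext_trunc S fun m r => by
        change (S.truncHom m).1 (g (MvPowerSeries.C r)) = _
        rw [hgθ, hθC]
        rfl
    exact AlgHom.congr_fun this r
  · refine sub_eq_zero.1 ((isHausdorff_cRing S).haus' _ fun m => ?_)
    rw [SModEq.zero, smul_eq_mul, Ideal.mul_top]
    have h : (S.truncHom m).1 (g (X i) - x i) = 0 := by rw [map_sub, hgθ, hθX, sub_self]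
    exact Ideal.pow_le_pow_right (Nat.le_succ m) (Ideal.Quotient.eq_zero_iff_mem.1 h)

/-- Maps of a power series ring into a coefficient ring agree when they agree on generators. -/
theorem algHom_ps_ext (R S : CRing Λ k) {n : ℕ} {g₁ g₂ : MvPowerSeries (Fin n) R.carrier →ₐ[Λ] S.carrier}
    (h₁ : S.res.comp g₁ = psRes R n) (h₂ : S.res.comp g₂ = psRes R n)
    (hC : ∀ r, g₁ (MvPowerSeries.C r) = g₂ (MvPowerSeries.C r)) (hX : ∀ i, g₁ (X i) = g₂ (X i)) :
    g₁ = g₂ := by
  refine algHom_ext_trunc S fun m f => ?_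
  have e : (⟨(S.truncHom m).1.comp g₁, by rw [← AlgHom.comp_assoc, (S.truncHom m).2, h₁]⟩ :
      HomSet _ (psRes R n) (S.trunc m)) = ⟨(S.truncHom m).1.comp g₂, by rw [← AlgHom.comp_assoc, (S.truncHom m).2, h₂]⟩ :=
    homSet_ps_ext R (fun r => congrArg _ (hC r)) fun i => congrArg _ (hX i)
  exact AlgHom.congr_fun (congrArg Subtype.val e) f

end Groth.Agent.Lib.ArtinFun
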