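import Mathlib.AlgebraicGeometry.Modules.Sheaf
import Mathlib.AlgebraicGeometry.AffineScheme
import Mathlib.Topology.Sheaves.SheafCondition.Sites

/-!
# Morphisms of modules from compatible maps on affine opens
-/

noncomputable section

universe u

open CategoryTheory AlgebraicGeometry Opposite TopologicalSpace

namespace Groth.Agent.Lib.ArtinFun.HomAffine

variable {X : Scheme.{u}} {M N : X.Modules}

lemma isBasis_range : Opens.IsBasis (Set.range (fun U : X.affineOpens => U.1)) := by
  rw [Subtype.range_coe]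
  exact X.isBasis_affineOpens

lemma section_ext_affine (P : X.Modules) {V : X.Opens} {a b : Γ(P, V)}
    (h : ∀ (U : X.affineOpens) (hU : U.1 ≤ V),
      P.presheaf.map (homOfLE hU).op a = P.presheaf.map (homOfLE hU).op b) : a = b := by
  refine TopCat.Sheaf.eq_of_locally_eq' (⟨P.presheaf, P.isSheaf⟩ : TopCat.Sheaf Ab X)
    (fun U : {U : X.affineOpens // U.1 ≤ V} => U.1.1) V (fun U => homOfLE U.2) ?_ a b fun U => h U.1 U.2
  intro x hx
  obtain ⟨W, hW, hxW, hle⟩ := exists_isAffineOpen_mem_and_subset hx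
  exact Opens.mem_iSup.mpr ⟨⟨⟨W, hW⟩, hle⟩, hxW⟩

lemma app_map (φ : M ⟶ N) {U V : X.Opens} (h : V ≤ U) (s : Γ(M, U)) :
    φ.app V (M.presheaf.map (homOfLE h).op s) = N.presheaf.map (homOfLE h).op (φ.app U s) := by
  have := φ.mapPresheaf.naturality (homOfLE h).op
  exact congr($this s)

theorem hom_ext_affine {φ ψ : M ⟶ N}
    (h : ∀ (U : X.affineOpens) (s : Γ(M, U.1)), φ.app U.1 s = ψ.app U.1 s) : φ = ψ := by
  refine Scheme.Modules.hom_ext _ _ fun V => ?_
  ext s
  refine section_ext_affine N fun U hU => ?_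
  rw [← app_map, ← app_map]
  exact h U _

/-- **Extension from affine opens.** -/
theorem exists_hom_of_affine (d : ∀ U : X.affineOpens, Γ(M, U.1) →+ Γ(N, U.1))
    (hsmul : ∀ (U : X.affineOpens) (r : Γ(X, U.1)) (s : Γ(M, U.1)), d U (r • s) = r • d U s)
    (hnat : ∀ (U V : X.affineOpens) (h : V.1 ≤ U.1) (s : Γ(M, U.1)),
      N.presheaf.map (homOfLE h).op (d U s) = d V (M.presheaf.map (homOfLE h).op s)) :
    ∃ φ : M ⟶ N, ∀ (U : X.affineOpens) (s : Γ(M, U.1)), φ.app U.1 s = d U s := by
  let α : (inducedFunctor (fun U : X.affineOpens => U.1)).op ⋙ M.presheaf ⟶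
      (inducedFunctor (fun U : X.affineOpens => U.1)).op ⋙ N.presheaf :=
    { app := fun U => AddCommGrpCat.ofHom (d U.unop)
      naturality := fun U V i => by
        ext s
        exact (hnat U.unop V.unop i.unop.hom.le s).symm }
  let β : M.presheaf ⟶ N.presheaf := TopCat.Sheaf.restrictHomEquivHom M.presheaf
    (⟨N.presheaf, N.isSheaf⟩ : TopCat.Sheaf Ab X) isBasis_range α
  have hβ : ∀ (U : X.affineOpens) (s : Γ(M, U.1)), β.app (op U.1) s = d U s := fun U s =>
    congr($(TopCat.Sheaf.extend_hom_app M.presheaf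
      (⟨N.presheaf, N.isSheaf⟩ : TopCat.Sheaf Ab X) isBasis_range α U) s)
  have hmap : ∀ (V W : X.Opens) (e : W ≤ V) (s : Γ(M, V)),
      β.app (op W) (M.presheaf.map (homOfLE e).op s) = N.presheaf.map (homOfLE e).op (β.app (op V) s) :=
    fun V W e s => congr($(β.naturality (homOfLE e).op) s)
  let f : ∀ V : X.Opens, Γ(M, V) →+ Γ(N, V) := fun V => (β.app (op V)).hom
  have key : ∀ (V : X.Opens) (r : Γ(X, V)) (s : Γ(M, V)), f V (r • s) = r • f V s := fun V r s => by
    refine section_ext_affine N fun U hU => ?_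
    show N.presheaf.map (homOfLE hU).op (β.app (op V) (r • s)) = N.presheaf.map (homOfLE hU).op (r • f V s)
    rw [← hmap, Scheme.Modules.map_smul, Scheme.Modules.map_smul, hβ, hsmul]
    congr 1
    rw [← hβ, hmap]
  exact ⟨⟨PresheafOfModules.homMk β fun V r s => key V.unop r s⟩, fun U s => hβ U s⟩

end Groth.Agent.Lib.ArtinFun.HomAffine
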