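import Groth.Agent.Lib.ClSub.Basis
import Groth.Prelude.Def_ClSub2
import Mathlib.AlgebraicGeometry.Modules.Sheaf
import Mathlib.AlgebraicGeometry.Morphisms.ClosedImmersion

/-!
# `i_* O_Z` is `O_X / ker i`
-/

noncomputable section

universe u

open CategoryTheory AlgebraicGeometry Opposite

namespace Groth.Agent.Lib.ArtinFun.QuotModIso

instance isIso_unitToPush {Z S : Scheme.{u}} (g : Z ⟶ S) [IsIso g] : IsIso (ClSub.unitToPush g) := by
  have hb : ∀ U : S.affineOpens, Function.Bijective ((ClSub.unitToPush g).app U.1) := fun U =>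
    (ConcreteCategory.isIso_iff_bijective (g.app U.1)).1 inferInstance
  haveI := ClSub.Basis.mono_of_injective_affine (ClSub.unitToPush g) fun U => (hb U).1
  haveI := ClSub.Basis.epi_of_surjective_affine (ClSub.unitToPush g) fun U => (hb U).2
  exact isIso_of_mono_of_epi _

/-- `i_* O_Z ≅ O_X / ker i`. -/
theorem nonempty_iso_quotMod {Z X : Scheme.{u}} (i : Z ⟶ X) [IsClosedImmersion i] :
    Nonempty ((Scheme.Modules.pushforward i).obj (Coh.structureModule Z) ≅ ClSub.quotMod i.ker) := by
  let e : Z ⟶ i.ker.subscheme := i.toImage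
  haveI : IsIso e := inferInstanceAs (IsIso i.toImage)
  have he : e ≫ i.ker.subschemeι = i := i.toImage_imageι
  exact ⟨(Scheme.Modules.pushforwardCongr he.symm).app _ ≪≫
    ((Scheme.Modules.pushforwardComp e i.ker.subschemeι).app _).symm ≪≫
    (Scheme.Modules.pushforward i.ker.subschemeι).mapIso (asIso (ClSub.unitToPush e)).symm⟩

end Groth.Agent.Lib.ArtinFun.QuotModIso
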