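import Groth.Agent.Lib.ArtinFun.Basic

/-!
# Smooth morphisms of functors of Artin rings: formal properties
-/

universe u v

open CategoryTheory ArtFun

namespace Groth.Agent.Lib.ArtinFun

variable {Λ : Type u} {k : Type u} [CommRing Λ] [Field k] [Algebra Λ k]
variable {F G H : Art Λ k ⥤ Type v}

lemma relCmp_surjective_iff (η : F ⟶ G) {B A : Art Λ k} (μ : B ⟶ A) :
    Function.Surjective (relCmp η μ) ↔
      ∀ (x : F.obj A) (y : G.obj B), η.app A x = G.map μ y →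
        ∃ z : F.obj B, F.map μ z = x ∧ η.app B z = y := by
  constructor
  · intro h x y hxy
    obtain ⟨z, hz⟩ := h ⟨(x, y), hxy⟩
    exact ⟨z, congrArg (fun t => t.1.1) hz, congrArg (fun t => t.1.2) hz⟩
  · intro h y
    obtain ⟨z, h₁, h₂⟩ := h y.1.1 y.1.2 y.2
    exact ⟨z, Subtype.ext (Prod.ext h₁ h₂)⟩

theorem isSmooth_iff (η : F ⟶ G) :
    IsSmooth η ↔ ∀ ⦃B A : Art Λ k⦄ (μ : B ⟶ A), Function.Surjective μ →
      ∀ (x : F.obj A) (y : G.obj B), η.app A x = G.map μ y →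
        ∃ z : F.obj B, F.map μ z = x ∧ η.app B z = y :=
  forall_congr' fun _ => forall_congr' fun _ => forall_congr' fun μ =>
    imp_congr_right fun _ => relCmp_surjective_iff η μ

/-- Smoothness may be tested on small extensions. -/
theorem isSmooth_of_smallExt (η : F ⟶ G)
    (h : ∀ ⦃B A : Art Λ k⦄ (μ : B ⟶ A), Art.IsSmallExt μ → Function.Surjective (relCmp η μ)) :
    IsSmooth η := by
  intro B A μ hμ
  refine surjective_induction (fun A B μ => Function.Surjective (relCmp η μ)) ?_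
    (fun A B μ hμ => h μ hμ) ?_ μ hμ
  · intro A B e he
    rw [relCmp_surjective_iff]
    intro x y hxy
    obtain ⟨z, rfl⟩ := (bijective_map_of_isIso F e).2 x
    refine ⟨z, rfl, (bijective_map_of_isIso G e).1 ?_⟩
    rw [← hxy]
    exact (NatTrans.naturality_apply η e z).symm
  · intro A B C p q hp hq
    rw [relCmp_surjective_iff] at hp hq ⊢
    intro x y hxy
    rw [← map_map] at hxy
    obtain ⟨w, hw₁, hw₂⟩ := hq x (G.map p y) hxy
    obtain ⟨z, hz₁, hz₂⟩ := hp w y hw₂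
    exact ⟨z, by rw [← map_map, hz₁, hw₁], hz₂⟩

theorem surjective_app_of_isSmooth (η : F ⟶ G) (hη : IsSmooth η)
    (h0 : Function.Surjective (η.app (Art.base Λ k))) (A : Art Λ k) :
    Function.Surjective (η.app A) := by
  intro y
  obtain ⟨x, hx⟩ := h0 (G.map (Art.toBase A) y)
  obtain ⟨z, -, hz⟩ := (isSmooth_iff η).1 hη (Art.toBase A) (toBase_surjective A) x y hx
  exact ⟨z, hz⟩

theorem isSmooth_comp (φ : F ⟶ G) (ψ : G ⟶ H) (hφ : IsSmooth φ) (hψ : IsSmooth ψ) :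
    IsSmooth (φ ≫ ψ) := by
  rw [isSmooth_iff] at hφ hψ ⊢
  intro B A μ hμ x y hxy
  obtain ⟨w, hw₁, hw₂⟩ := hψ μ hμ (φ.app A x) y hxy
  obtain ⟨z, hz₁, hz₂⟩ := hφ μ hμ x w hw₁.symm
  exact ⟨z, hz₁, (congrArg (ψ.app B) hz₂).trans hw₂⟩

theorem isSmooth_of_comp_of_surjective (φ : F ⟶ G) (ψ : G ⟶ H)
    (hφ : ∀ A : Art Λ k, Function.Surjective (φ.app A)) (h : IsSmooth (φ ≫ ψ)) : IsSmooth ψ := by
  rw [isSmooth_iff] at h ⊢
  intro B A μ hμ x y hxy
  obtain ⟨x', rfl⟩ := hφ A x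
  obtain ⟨z, hz₁, hz₂⟩ := h μ hμ x' y hxy
  exact ⟨φ.app B z, by rw [← NatTrans.naturality_apply φ μ z, hz₁], hz₂⟩

theorem isSmoothFunctor_iff_of_isSmooth (η : F ⟶ G) (hη : IsSmooth η)
    (h0 : Function.Surjective (η.app (Art.base Λ k))) :
    IsSmoothFunctor F ↔ IsSmoothFunctor G := by
  constructor
  · intro hF B A μ hμ y
    obtain ⟨x, rfl⟩ := surjective_app_of_isSmooth η hη h0 A y
    obtain ⟨z, rfl⟩ := hF μ hμ x
    exact ⟨η.app B z, (NatTrans.naturality_apply η μ z).symm⟩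
  · intro hG B A μ hμ x
    obtain ⟨y, hy⟩ := hG μ hμ (η.app A x)
    obtain ⟨z, hz, -⟩ := (isSmooth_iff η).1 hη μ hμ x y hy.symm
    exact ⟨z, hz⟩

end Groth.Agent.Lib.ArtinFun
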