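import Groth.Agent.Lib.ArtinFun.CRingBasic

/-!
# Formal elements: lifting through versal families, uniqueness through universal ones
-/

universe u v

open CategoryTheory ArtFun

namespace Groth.Agent.Lib.ArtinFun

variable {Λ : Type u} {k : Type u} [CommRing Λ] [Field k] [Algebra Λ k] {F : Art Λ k ⥤ Type v}

lemma along_elt {R : CRing Λ k} (ξ : Family R.carrier R.res F) {S : CRing Λ k}
    (g : R.carrier →ₐ[Λ] S.carrier) (hg : S.res.comp g = R.res) (n : ℕ)
    (φ : HomSet R.carrier R.res (S.trunc n)) (h : ∀ r, φ.1 r = (S.truncHom n).1 (g r)) :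
    (ξ.along g hg).toFormalElt.elt n = ξ.app _ φ :=
  congrArg (ξ.app _) (homSet_ext' fun r => (h r).symm)

/-- Every formal element is induced from a versal family. -/
theorem exists_along_eq (R : CRing Λ k) (ξ : Family R.carrier R.res F) (hξ : IsVersal ξ)
    (hb : Function.Surjective (ξ.app (Art.base Λ k))) (S : CRing Λ k) (η : FormalElt F S) :
    ∃ (g : R.carrier →ₐ[Λ] S.carrier) (hg : S.res.comp g = R.res),
      (ξ.along g hg).toFormalElt = η := by
  have step : ∀ (n : ℕ) (φ : {φ : HomSet R.carrier R.res (S.trunc n) // ξ.app _ φ = η.elt n}),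
      ∃ ψ : {ψ : HomSet R.carrier R.res (S.trunc (n + 1)) // ξ.app _ ψ = η.elt (n + 1)},
        HomSet.map (S.truncMap n) ψ.1 = φ.1 := by
    intro n φ
    obtain ⟨ψ, h₁, h₂⟩ := hξ (S.truncMap n) (truncMap_surjective S n) φ.1 (η.elt (n + 1))
      (by rw [η.compat, φ.2])
    exact ⟨⟨ψ, h₂⟩, h₁⟩
  obtain ⟨φ₀, hφ₀⟩ := surjective_app_of_isVersal ξ hξ hb (S.trunc 0) (η.elt 0)
  choose next hnext using step
  let θ : ∀ n, {φ : HomSet R.carrier R.res (S.trunc n) // ξ.app _ φ = η.elt n} :=
    fun n => n.rec ⟨φ₀, hφ₀⟩ next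
  obtain ⟨g, hg, hgθ⟩ := exists_algHom_of_trunc S (fun n => (θ n).1) fun n => hnext n (θ n)
  refine ⟨g, hg, FormalElt.ext' fun n => ?_⟩
  rw [along_elt ξ g hg n (θ n).1 fun r => (hgθ n r).symm, (θ n).2]

/-- A formal element is induced in at most one way from a universal family. -/
theorem eq_of_along_eq (R : CRing Λ k) (ξ : Family R.carrier R.res F)
    (hξ : ∀ A, Function.Injective (ξ.app A)) (S : CRing Λ k)
    (g₁ g₂ : R.carrier →ₐ[Λ] S.carrier) (hg₁ : S.res.comp g₁ = R.res) (hg₂ : S.res.comp g₂ = R.res)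
    (h : (ξ.along g₁ hg₁).toFormalElt = (ξ.along g₂ hg₂).toFormalElt) : g₁ = g₂ := by
  refine algHom_ext_trunc S fun n r => ?_
  have h' := hξ _ (congrArg (fun u : FormalElt F S => u.elt n) h)
  exact AlgHom.congr_fun (congrArg Subtype.val h') r

/-- Two pro-representing pairs are uniquely isomorphic. -/
theorem existsUnique_algEquiv (P Q : ProRep F) :
    ∃! e : P.ring.carrier ≃ₐ[Λ] Q.ring.carrier,
      ∃ he : Q.ring.res.comp e.toAlgHom = P.ring.res, P.family.along e.toAlgHom he = Q.family := by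
  obtain ⟨g, hg, hgu⟩ := exists_along_eq P.ring P.family
    (fun B A μ _ φ y hy => by
      obtain ⟨ψ, rfl⟩ := (P.universal B).2 y
      exact ⟨ψ, (P.universal A).1 (by rw [P.family.natural, hy]), rfl⟩)
    (P.universal _).2 Q.ring Q.family.toFormalElt
  obtain ⟨g', hg', hgu'⟩ := exists_along_eq Q.ring Q.family
    (fun B A μ _ φ y hy => by
      obtain ⟨ψ, rfl⟩ := (Q.universal B).2 y
      exact ⟨ψ, (Q.universal A).1 (by rw [Q.family.natural, hy]), rfl⟩)
    (Q.universal _).2 P.ring P.family.toFormalElt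
  have hgF := family_ext hgu
  have hgF' := family_ext hgu'
  have e1 : g'.comp g = AlgHom.id Λ _ := by
    refine eq_of_along_eq P.ring P.family (fun A => (P.universal A).1) P.ring _ _
      (by rw [← AlgHom.comp_assoc, hg', hg]) (AlgHom.comp_id _) (FormalElt.ext' fun n => ?_)
    refine (Eq.trans ?_ (congrArg (fun u : FormalElt F P.ring => u.elt n) hgu'))
    change _ = Q.family.app _ _
    rw [← hgF]
    rfl
  have e2 : g.comp g' = AlgHom.id Λ _ := by
    refine eq_of_along_eq Q.ring Q.family (fun A => (Q.universal A).1) Q.ring _ _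
      (by rw [← AlgHom.comp_assoc, hg, hg']) (AlgHom.comp_id _) (FormalElt.ext' fun n => ?_)
    refine (Eq.trans ?_ (congrArg (fun u : FormalElt F Q.ring => u.elt n) hgu))
    change _ = P.family.app _ _
    rw [← hgF']
    rfl
  refine ⟨AlgEquiv.ofAlgHom g g' e2 e1, ⟨hg, hgF⟩, ?_⟩
  rintro e ⟨he, hee⟩
  have := eq_of_along_eq P.ring P.family (fun A => (P.universal A).1) Q.ring e.toAlgHom g he hg
    (by rw [hee, hgu])
  exact AlgEquiv.ext fun x => AlgHom.congr_fun this x

/-- A smooth morphism is surjective on formal elements. -/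
theorem surjective_formalElt_map {G : Art Λ k ⥤ Type v} (η : F ⟶ G) (hη : IsSmooth η)
    (h0 : Function.Surjective (η.app (Art.base Λ k))) (R : CRing Λ k) :
    Function.Surjective fun u : FormalElt F R => u.map η := by
  intro w
  have step : ∀ (n : ℕ) (x : {x : F.obj (R.trunc n) // η.app _ x = w.elt n}),
      ∃ z : {z : F.obj (R.trunc (n + 1)) // η.app _ z = w.elt (n + 1)},
        F.map (R.truncMap n) z.1 = x.1 := by
    intro n x
    obtain ⟨z, h₁, h₂⟩ := (isSmooth_iff η).1 hη (R.truncMap n) (truncMap_surjective R n) x.1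
      (w.elt (n + 1)) (by rw [w.compat, x.2])
    exact ⟨⟨z, h₂⟩, h₁⟩
  obtain ⟨x₀, hx₀⟩ := surjective_app_of_isSmooth η hη h0 _ (w.elt 0)
  choose next hnext using step
  let θ : ∀ n, {x : F.obj (R.trunc n) // η.app _ x = w.elt n} := fun n => n.rec ⟨x₀, hx₀⟩ next
  exact ⟨⟨fun n => (θ n).1, fun n => hnext n (θ n)⟩, FormalElt.ext' fun n => (θ n).2⟩

end Groth.Agent.Lib.ArtinFun
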