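import Groth.Agent.Lib.ArtinFun.Torsor
import Groth.Agent.Lib.ArtinFun.Smooth

/-!
# The functors `h_R`, families, versality
-/

universe u v

open CategoryTheory ArtFun

namespace Groth.Agent.Lib.ArtinFun

variable {Λ : Type u} {k : Type u} [CommRing Λ] [Field k] [Algebra Λ k]
variable {R : Type u} [CommRing R] [Algebra Λ R] {resR : R →ₐ[Λ] k}

lemma homSet_ext' {A : Art Λ k} {φ ψ : HomSet R resR A} (h : ∀ r, φ.1 r = ψ.1 r) : φ = ψ :=
  Subtype.ext (AlgHom.ext h)

lemma homSet_res {A : Art Λ k} (φ : HomSet R resR A) (r : R) : A.res (φ.1 r) = resR r :=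
  AlgHom.congr_fun φ.2 r

lemma homSet_map_map {A B C : Art Λ k} (f : A ⟶ B) (g : B ⟶ C) (φ : HomSet R resR A) :
    HomSet.map g (HomSet.map f φ) = HomSet.map (f ≫ g) φ := rfl

lemma homSet_map_id {A : Art Λ k} (φ : HomSet R resR A) : HomSet.map (𝟙 A) φ = φ := rfl

lemma subsingleton_homSet_base : Subsingleton (HomSet R resR (Art.base Λ k)) :=
  ⟨fun φ ψ => homSet_ext' fun r => (homSet_res φ r).trans (homSet_res ψ r).symm⟩

/-- The point of `h_R(k)`. -/
def homSetBase (R : Type u) [CommRing R] [Algebra Λ R] (resR : R →ₐ[Λ] k) :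
    HomSet R resR (Art.base Λ k) :=
  ⟨resR, AlgHom.id_comp _⟩

lemma homSetBase_eq (φ : HomSet R resR (Art.base Λ k)) : φ = homSetBase R resR :=
  @Subsingleton.elim _ subsingleton_homSet_base _ _

variable (R resR) in
theorem h0_hR : H0 (hR R resR) := ⟨⟨homSetBase R resR⟩, subsingleton_homSet_base⟩

variable (R resR) in
theorem isLeftExact_hR : IsLeftExact (hR R resR) := by
  intro B A A' A'' p' p'' f' f'' h
  refine ⟨(cmp_injective_iff h).2 fun z w h₁ h₂ => IsFibreProd.homSet_ext h h₁ h₂,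
    (cmp_surjective_iff h).2 fun x y hxy => IsFibreProd.exists_homSet h x y hxy⟩

variable (R resR) in
theorem rs_hR : RS (hR R resR) := fun _ _ _ _ p' p'' f' f'' h _ => isLeftExact_hR R resR p' p'' f' f'' h

variable {F : Art Λ k ⥤ Type v}

lemma subsingleton_base_of_surjective (ξ : Family R resR F)
    (h : Function.Surjective (ξ.app (Art.base Λ k))) : Subsingleton (F.obj (Art.base Λ k)) :=
  ⟨fun x y => by
    obtain ⟨a, rfl⟩ := h x
    obtain ⟨b, rfl⟩ := h y
    rw [homSetBase_eq a, homSetBase_eq b]⟩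

lemma surjective_base_of_h0 (ξ : Family R resR F) (h0 : H0 F) :
    Function.Surjective (ξ.app (Art.base Λ k)) :=
  fun _ => ⟨homSetBase R resR, @Subsingleton.elim _ h0.2 _ _⟩

theorem surjective_app_of_isVersal (ξ : Family R resR F) (hξ : IsVersal ξ)
    (h : Function.Surjective (ξ.app (Art.base Λ k))) (A : Art Λ k) :
    Function.Surjective (ξ.app A) := by
  intro y
  obtain ⟨φ, hφ⟩ := h (F.map (Art.toBase A) y)
  obtain ⟨ψ, -, hψ⟩ := hξ (Art.toBase A) (toBase_surjective A) φ y hφ.symm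
  exact ⟨ψ, hψ⟩

/-- Versality may be tested on small extensions. -/
theorem isVersal_of_smallExt (ξ : Family R resR F)
    (h : ∀ ⦃B A : Art Λ k⦄ (μ : B ⟶ A), Art.IsSmallExt μ →
      ∀ (φ : HomSet R resR A) (y : F.obj B), F.map μ y = ξ.app A φ →
        ∃ ψ : HomSet R resR B, HomSet.map μ ψ = φ ∧ ξ.app B ψ = y) :
    IsVersal ξ := by
  intro B A μ hμ
  refine surjective_induction (fun A B μ => ∀ (φ : HomSet R resR A) (y : F.obj B),
    F.map μ y = ξ.app A φ → ∃ ψ : HomSet R resR B, HomSet.map μ ψ = φ ∧ ξ.app B ψ = y) ?_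
    (fun A B μ hμ => h μ hμ) ?_ μ hμ
  · intro A B e he φ y hy
    refine ⟨HomSet.map (inv e) φ, ?_, (bijective_map_of_isIso F e).1 ?_⟩
    · rw [homSet_map_map, IsIso.inv_hom_id, homSet_map_id]
    · rw [← ξ.natural, homSet_map_map, IsIso.inv_hom_id, homSet_map_id, hy]
  · intro A B C p q hp hq φ y hy
    rw [← map_map] at hy
    obtain ⟨w, hw₁, hw₂⟩ := hq φ (F.map p y) hy
    obtain ⟨z, hz₁, hz₂⟩ := hp w y hw₂.symm
    exact ⟨z, by rw [← homSet_map_map, hz₁, hw₁], hz₂⟩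

theorem hbar_of_isVersal (ξ : Family R resR F) (hξ : IsVersal ξ)
    (h0 : Function.Surjective (ξ.app (Art.base Λ k))) : S1 F := by
  intro B A A' A'' p' p'' f' f'' h hf
  rw [cmp_surjective_iff]
  intro x' x'' hc
  obtain ⟨φ', rfl⟩ := surjective_app_of_isVersal ξ hξ h0 A' x'
  obtain ⟨φ'', hφ'', rfl⟩ := hξ f'' hf (HomSet.map f' φ') x'' (by rw [ξ.natural, hc])
  obtain ⟨ψ, hψ', hψ''⟩ := IsFibreProd.exists_homSet h φ' φ'' hφ''.symm
  exact ⟨ξ.app B ψ, by rw [← ξ.natural, hψ'], by rw [← ξ.natural, hψ'']⟩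

theorem heps_of_isMiniversal (ξ : Family R resR F) (hξ : IsMiniversal ξ)
    (h0 : Function.Surjective (ξ.app (Art.base Λ k))) : Heps F := by
  intro B A' p' p'' h
  refine ⟨?_, hbar_of_isVersal ξ hξ.1 h0 p' p'' _ _ h (toBase_surjective _)⟩
  rw [cmp_injective_iff]
  intro z w h' h''
  obtain ⟨φ, hφ⟩ := surjective_app_of_isVersal ξ hξ.1 h0 A' (F.map p' z)
  have hs : Function.Surjective p' := IsFibreProd.surjective_fst h (toBase_surjective _)
  obtain ⟨ψz, hz₁, hz₂⟩ := hξ.1 p' hs φ z hφ.symm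
  obtain ⟨ψw, hw₁, hw₂⟩ := hξ.1 p' hs φ w (by rw [← h', hφ])
  have e : ψz = ψw := IsFibreProd.homSet_ext h (by rw [hz₁, hw₁])
    (hξ.2.1 (by rw [ξ.natural, ξ.natural, hz₂, hw₂, h'']))
  rw [← hz₂, e, hw₂]

/-- The morphism out of the residue field when the base ring is the field itself. -/
def ofBaseHom {k : Type u} [Field k] (A : Art k k) : Art.base k k ⟶ A :=
  ⟨Algebra.ofId k A, AlgHom.ext fun x => A.res.commutes x⟩

theorem unique_obj_of_subsingleton_tangent {k : Type u} [Field k] {F : Art k k ⥤ Type v}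
    (h0 : H0 F) (h1 : Hbar F) (h2 : Heps F) (ht : Subsingleton (F.obj (Art.dual k k)))
    (A : Art k k) : Nonempty (F.obj A) ∧ Subsingleton (F.obj A) := by
  refine ⟨⟨F.map (ofBaseHom A) h0.1.some⟩, ⟨fun x y => ?_⟩⟩
  refine injective_of_tangent_injective (G := (Functor.const (Art k k)).obj (PUnit.{v + 1}))
    (fun _ _ => PUnit.unit) (fun _ _ _ _ => rfl)
    (fun _ _ _ p₁ p₂ f h hf => h1 p₁ p₂ f f h hf) (fun _ _ p' p'' h => (h2 p' p'' h).1)
    (fun _ _ _ _ _ _ h _ => (cmp_injective_iff h).2 fun _ _ _ _ => rfl)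
    (fun a b _ => @Subsingleton.elim _ h0.2 a b) (fun a b _ => @Subsingleton.elim _ ht a b) A rfl

end Groth.Agent.Lib.ArtinFun
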