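import Groth.Agent.Lib.ArtinFun.PowerSeries
import Groth.Agent.Lib.ArtinFun.Formal
import Groth.Agent.Lib.ArtinFun.HR
import Groth.Prelude.Def_W4sfdMinVersal

/-!
# Smooth maps of coefficient rings
-/

universe u v

open CategoryTheory ArtFun MvPowerSeries

set_option linter.style.haveILetI false

namespace Groth.Agent.Lib.ArtinFun

variable {Λ : Type u} {k : Type u} [CommRing Λ] [Field k] [Algebra Λ k]

/-- The map of truncations induced by a map of coefficient rings. -/
lemma exists_truncHom_map {A' A : CRing Λ k} (g : A'.carrier →ₐ[Λ] A.carrier)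
    (hg : A.res.comp g = A'.res) (n : ℕ) :
    ∃ G : A'.trunc n ⟶ A.trunc n, ∀ a, G ((A'.truncHom n).1 a) = (A.truncHom n).1 (g a) := by
  refine ⟨CRing.truncMapOfHom g hg n, fun a => rfl⟩

variable [IsNoetherianRing Λ] [Module.Finite Λ k]

/-- The lifting property of a versal family along surjections of coefficient rings. -/
theorem exists_lift_formal {F : Art Λ k ⥤ Type v} (hRS : RS F) (R : CRing Λ k)
    (ξ : Family R.carrier R.res F) (hξ : IsVersal ξ)
    (A' A : CRing Λ k) (g : A'.carrier →ₐ[Λ] A.carrier) (hg : A.res.comp g = A'.res)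
    (hgs : Function.Surjective g) (η' : FormalElt F A')
    (φ : R.carrier →ₐ[Λ] A.carrier) (hφ : A.res.comp φ = R.res)
    (hsq : (ξ.along φ hφ).toFormalElt = η'.push g hg) :
    ∃ (ψ : R.carrier →ₐ[Λ] A'.carrier) (hψ : A'.res.comp ψ = R.res),
      g.comp ψ = φ ∧ (ξ.along ψ hψ).toFormalElt = η' := by
  let G : ∀ n, A'.trunc n ⟶ A.trunc n := fun n => CRing.truncMapOfHom g hg n
  have hG : ∀ n a, G n ((A'.truncHom n).1 a) = (A.truncHom n).1 (g a) := fun n a => rfl
  have hGs : ∀ n, Function.Surjective (G n) := fun n x => by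
    obtain ⟨a, rfl⟩ := truncHom_surjective A n x
    obtain ⟨a, rfl⟩ := hgs a
    exact ⟨_, hG n a⟩
  let Φ : ∀ n, HomSet R.carrier R.res (A.trunc n) := fun n =>
    ⟨(A.truncHom n).1.comp φ, by rw [← AlgHom.comp_assoc, (A.truncHom n).2, hφ]⟩
  have hΦ : ∀ n, ξ.app _ (Φ n) = F.map (G n) (η'.elt n) := fun n =>
    (along_elt ξ φ hφ n (Φ n) fun r => rfl).symm.trans (congrArg (fun u : FormalElt F A => u.elt n) hsq)
  let T : ∀ n, Type u := fun n =>
    {ψ : HomSet R.carrier R.res (A'.trunc n) // ξ.app _ ψ = η'.elt n ∧ HomSet.map (G n) ψ = Φ n}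
  have step : ∀ (n : ℕ) (θ : T n), ∃ θ' : T (n + 1), HomSet.map (A'.truncMap n) θ'.1 = θ.1 := by
    rintro n ⟨θ, hθ, hθG⟩
    have hw : A'.truncMap n ≫ G n = G (n + 1) ≫ A.truncMap n := by
      apply hom_ext_apply
      intro x
      obtain ⟨a, rfl⟩ := truncHom_surjective A' (n + 1) x
      rfl
    obtain ⟨Q, q₁, q₂, hQ⟩ := exists_isFibreProd (G n) (A.truncMap n) (truncMap_surjective A n)
    let L : A'.trunc (n + 1) ⟶ Q := IsFibreProd.lift hQ (A'.truncMap n) (G (n + 1)) hw
    have hL₁ : L ≫ q₁ = A'.truncMap n := IsFibreProd.lift_fst _ _ _ _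
    have hL₂ : L ≫ q₂ = G (n + 1) := IsFibreProd.lift_snd _ _ _ _
    have hLs : Function.Surjective L := by
      intro z
      obtain ⟨a, ha⟩ := truncHom_surjective A' n (q₁ z)
      obtain ⟨b, hb⟩ := truncHom_surjective A (n + 1) (q₂ z)
      have hab : (A.truncHom n).1 (g a) = (A.truncHom n).1 b := by
        rw [← hG, ha, hQ.w_apply, ← hb]
        rfl
      have hmem : b - g a ∈ IsLocalRing.maximalIdeal A.carrier ^ (n + 1) := by
        rw [← neg_sub]
        exact neg_mem (Ideal.Quotient.eq.1 hab)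
      rw [← IsLocalRing.map_maximalIdeal_of_surjective (g : A'.carrier →+* A.carrier) hgs,
        ← Ideal.map_pow] at hmem
      obtain ⟨c, hc, hgc⟩ := (Ideal.mem_map_iff_of_surjective (g : A'.carrier →+* A.carrier) hgs).1 hmem
      refine ⟨(A'.truncHom (n + 1)).1 (a + c), hQ.inj _ _ ?_ ?_⟩
      · rw [← hom_comp_apply, hL₁, ← ha]
        change (A'.truncHom n).1 (a + c) = _
        rw [map_add, show (A'.truncHom n).1 c = 0 from Ideal.Quotient.eq_zero_iff_mem.2 hc, add_zero]
      · rw [← hom_comp_apply, hL₂, ← hb, hG, map_add]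
        congr 1
        change g a + g c = b
        rw [show g c = b - g a from hgc, add_sub_cancel]
    obtain ⟨ψ₀, hψ₀, hψ₀'⟩ := IsFibreProd.exists_homSet hQ θ (Φ (n + 1)) (by
      rw [hθG]
      exact homSet_ext' fun r => rfl)
    have hval : ξ.app _ ψ₀ = F.map L (η'.elt (n + 1)) := by
      refine (cmp_injective_iff hQ).1 (hRS q₁ q₂ _ _ hQ (truncMap_surjective A n)).1 _ _ ?_ ?_
      · rw [← ξ.natural, hψ₀, hθ, map_map, hL₁, η'.compat]
      · rw [← ξ.natural, hψ₀', hΦ, map_map, hL₂]
    obtain ⟨ψ, hψ₁, hψ₂⟩ := hξ L hLs ψ₀ (η'.elt (n + 1)) hval.symm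
    refine ⟨⟨ψ, hψ₂, ?_⟩, ?_⟩
    · rw [← hL₂, ← homSet_map_map, hψ₁, hψ₀']
    · change HomSet.map (A'.truncMap n) ψ = θ
      rw [← hL₁, ← homSet_map_map, hψ₁, hψ₀]
  obtain ⟨ψ₀, hψ₀, hψ₀'⟩ := hξ (G 0) (hGs 0) (Φ 0) (η'.elt 0) (hΦ 0).symm
  choose next hnext using step
  let θ : ∀ n, T n := fun n => n.rec ⟨ψ₀, hψ₀', hψ₀⟩ next
  obtain ⟨ψ, hψ, hψθ⟩ := exists_algHom_of_trunc A' (fun n => (θ n).1) fun n => hnext n (θ n)
  refine ⟨ψ, hψ, algHom_ext_trunc A fun n r => ?_, FormalElt.ext' fun n => ?_⟩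
  · rw [AlgHom.comp_apply, ← hG, hψθ]
    exact AlgHom.congr_fun (congrArg Subtype.val (θ n).2.2) r
  · rw [along_elt ξ ψ hψ n (θ n).1 fun r => (hψθ n r).symm, (θ n).2.1]

omit [IsNoetherianRing Λ] [Module.Finite Λ k] in
/-- An algebra isomorphism onto a power series ring respects augmentations. -/
lemma psRes_algEquiv (R S : CRing Λ k) [Algebra R.carrier S.carrier] [IsScalarTower Λ R.carrier S.carrier]
    (hRS : S.res.comp (IsScalarTower.toAlgHom Λ R.carrier S.carrier) = R.res) {n : ℕ}
    (e : S.carrier ≃ₐ[R.carrier] MvPowerSeries (Fin n) R.carrier) (s : S.carrier) :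
    psRes R n (e s) = S.res s := by
  have h0 : ∀ t : S.carrier, S.res t = 0 → psRes R n (e t) = 0 := fun t ht => by
    rw [← mem_maximalIdeal_ps]
    rw [← CRing.mem_maximalIdeal_iff, IsLocalRing.mem_maximalIdeal] at ht
    rw [IsLocalRing.mem_maximalIdeal]
    exact fun hu => ht (by simpa using hu.map e.symm)
  obtain ⟨r, hr⟩ := R.res_surjective (S.res s)
  have hr' : S.res (algebraMap R.carrier S.carrier r) = R.res r := AlgHom.congr_fun hRS r
  have h := h0 (s - algebraMap R.carrier S.carrier r) (by rw [map_sub, hr', hr, sub_self])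
  rw [map_sub, AlgEquiv.commutes, map_sub, sub_eq_zero] at h
  rw [h, psRes_apply, MvPowerSeries.algebraMap_apply]
  simp [hr]

omit [IsNoetherianRing Λ] [Module.Finite Λ k] in
/-- Power series rings are smooth over the coefficient ring. -/
theorem isVersal_of_powerSeries (R S : CRing Λ k) [Algebra R.carrier S.carrier]
    [IsScalarTower Λ R.carrier S.carrier]
    (hRS : S.res.comp (IsScalarTower.toAlgHom Λ R.carrier S.carrier) = R.res) {n : ℕ}
    (e : S.carrier ≃ₐ[R.carrier] MvPowerSeries (Fin n) R.carrier) :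
    IsVersal ((Family.self R.carrier R.res).along
        (IsScalarTower.toAlgHom Λ R.carrier S.carrier) hRS) := by
  intro B A μ hμ φ y hy
  let x : Fin n → S.carrier := fun i => e.symm (X i)
  have hx : ∀ i, S.res (x i) = 0 := fun i => by
    rw [← psRes_algEquiv R S hRS e, AlgEquiv.apply_symm_apply, psRes_apply,
      MvPowerSeries.constantCoeff_X, map_zero]
  choose b hb using fun i => hμ (φ.1 (x i))
  have hbm : ∀ i, b i ∈ IsLocalRing.maximalIdeal B := fun i => by
    rw [Art.mem_maximalIdeal_iff, ← Art.res_app μ, hb, homSet_res, hx]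
  obtain ⟨ψ, hψC, hψX⟩ := exists_homSet_ps R y b hbm
  let e' : S.carrier →ₐ[Λ] MvPowerSeries (Fin n) R.carrier := e.toAlgHom.restrictScalars Λ
  let Ψ : HomSet S.carrier S.res B :=
    ⟨ψ.1.comp e', AlgHom.ext fun s => (homSet_res ψ (e s)).trans (psRes_algEquiv R S hRS e s)⟩
  refine ⟨Ψ, homSet_ext' fun s => ?_, homSet_ext' fun r => ?_⟩
  · let es : MvPowerSeries (Fin n) R.carrier →ₐ[Λ] S.carrier := e.symm.toAlgHom.restrictScalars Λ
    let φ' : HomSet (MvPowerSeries (Fin n) R.carrier) (psRes R n) A :=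
      ⟨φ.1.comp es, AlgHom.ext fun f => by
        change A.res (φ.1 (e.symm f)) = psRes R n f
        rw [homSet_res, ← psRes_algEquiv R S hRS e, AlgEquiv.apply_symm_apply]⟩
    have key : HomSet.map μ ψ = φ' := by
      refine homSet_ps_ext R (fun r => ?_) fun i => ?_
      · change μ (ψ.1 (MvPowerSeries.C r)) = φ.1 (e.symm (MvPowerSeries.C r))
        rw [hψC]
        refine (AlgHom.congr_fun (congrArg Subtype.val hy) r).trans ?_
        exact congrArg φ.1 (e.symm.commutes r).symm
      · change μ (ψ.1 (X i)) = φ.1 (x i)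
        rw [hψX, hb]
    exact (AlgHom.congr_fun (congrArg Subtype.val key) (e s)).trans
      (congrArg φ.1 (e.symm_apply_apply s))
  · change ψ.1 (e (algebraMap R.carrier S.carrier r)) = y.1 r
    rw [e.commutes]
    exact hψC r

set_option maxHeartbeats 1000000 in
/-- A smooth map of coefficient rings is a power series extension. -/
theorem exists_powerSeries_of_isVersal (R S : CRing Λ k) [Algebra R.carrier S.carrier]
    [IsScalarTower Λ R.carrier S.carrier]
    (hRS : S.res.comp (IsScalarTower.toAlgHom Λ R.carrier S.carrier) = R.res)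
    (hv : IsVersal ((Family.self R.carrier R.res).along
        (IsScalarTower.toAlgHom Λ R.carrier S.carrier) hRS)) :
    ∃ n : ℕ, Nonempty (S.carrier ≃ₐ[R.carrier] MvPowerSeries (Fin n) R.carrier) := by
  classical
  let ι := IsScalarTower.toAlgHom Λ R.carrier S.carrier
  set mS := IsLocalRing.maximalIdeal S.carrier with hmS
  set J := (IsLocalRing.maximalIdeal R.carrier).map ι ⊔ mS ^ 2 with hJ
  have hmapR : (IsLocalRing.maximalIdeal R.carrier).map ι ≤ mS := by
    rw [Ideal.map_le_iff_le_comap]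
    intro r hr
    rw [Ideal.mem_comap, hmS, CRing.mem_maximalIdeal_iff]
    exact (AlgHom.congr_fun hRS r).trans ((CRing.mem_maximalIdeal_iff R r).1 hr)
  have hJle : J ≤ mS := sup_le hmapR (Ideal.pow_le_self two_ne_zero)
  have hex : ∃ n, ∃ x : Fin n → S.carrier, (∀ i, x i ∈ mS) ∧ Ideal.span (Set.range x) ⊔ J = mS := by
    obtain ⟨s, hs⟩ := IsNoetherian.noetherian mS
    refine ⟨s.card, fun i => (s.equivFin.symm i : S.carrier), fun i => ?_, ?_⟩
    · rw [← hs]; exact Submodule.subset_span (s.equivFin.symm i).2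
    · have hr : Set.range (fun i => (s.equivFin.symm i : S.carrier)) = (s : Set S.carrier) := by
        ext a
        exact ⟨fun ⟨i, hi⟩ => hi ▸ (s.equivFin.symm i).2, fun ha => ⟨s.equivFin ⟨a, ha⟩, by simp⟩⟩
      rw [hr, show Ideal.span (s : Set S.carrier) = mS from hs, sup_eq_left.2 hJle]
  obtain ⟨n, ⟨x, hxm, hspan⟩, hmin⟩ :
      ∃ n, (∃ x : Fin n → S.carrier, (∀ i, x i ∈ mS) ∧ Ideal.span (Set.range x) ⊔ J = mS) ∧
        ∀ m < n, ¬ ∃ x : Fin m → S.carrier, (∀ i, x i ∈ mS) ∧ Ideal.span (Set.range x) ⊔ J = mS :=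
    ⟨Nat.find hex, Nat.find_spec hex, fun m => Nat.find_min hex⟩
  have hindep : ∀ c : Fin n → S.carrier, (∑ i, c i * x i) ∈ J → ∀ i, c i ∈ mS := by
    intro c hc i
    by_contra hi
    obtain ⟨d, hd⟩ : ∃ d, n = d + 1 := ⟨n - 1, by have := i.2; omega⟩
    refine hmin d (by omega) ⟨fun j => x (Fin.cast hd.symm ((Fin.cast hd i).succAbove j)),
      fun j => hxm _, le_antisymm (sup_le ?_ hJle) ?_⟩
    · rw [Ideal.span_le]
      rintro _ ⟨j, rfl⟩
      exact hxm _
    · rw [← hspan]
      refine sup_le ?_ le_sup_right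
      have hother : ∀ l, l ≠ i → x l ∈
          Ideal.span (Set.range fun j => x (Fin.cast hd.symm ((Fin.cast hd i).succAbove j))) ⊔ J := by
        intro l hl
        obtain ⟨j, hj⟩ := Fin.exists_succAbove_eq (x := Fin.cast hd l) (y := Fin.cast hd i)
          (fun h => hl (Fin.cast_injective _ h))
        refine Ideal.mem_sup_left (Ideal.subset_span ⟨j, ?_⟩)
        change x (Fin.cast hd.symm ((Fin.cast hd i).succAbove j)) = x l
        rw [hj]
        rfl
      rw [Ideal.span_le]
      rintro _ ⟨l, rfl⟩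
      by_cases hl : l = i
      · subst hl
        have hu : IsUnit (c l) := by
          by_contra h
          exact hi (by rw [hmS, IsLocalRing.mem_maximalIdeal]; exact h)
        rw [← Finset.add_sum_erase _ _ (Finset.mem_univ l)] at hc
        refine (Ideal.unit_mul_mem_iff_mem _ hu).1 ?_
        rw [← add_sub_cancel_right (c l * x l) (∑ j ∈ Finset.univ.erase l, c j * x j)]
        refine sub_mem (Ideal.mem_sup_right hc) (Ideal.sum_mem _ fun j hj => ?_)
        exact Ideal.mul_mem_left _ _ (hother j (Finset.ne_of_mem_erase hj))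
      · exact hother l hl
  have hxres : ∀ i, S.res (x i) = 0 := fun i => (CRing.mem_maximalIdeal_iff S _).1 (hxm i)
  obtain ⟨g, hg, hgC, hgX⟩ := exists_algHom_ps R S ι hRS x hxres
  let P := psCRing R n
  have hPm : RingHom.ker (psRes R n) = IsLocalRing.maximalIdeal (MvPowerSeries (Fin n) R.carrier) :=
    ker_psRes R n
  haveI hprec : IsPrecomplete (RingHom.ker (psRes R n)) (MvPowerSeries (Fin n) R.carrier) := by
    rw [hPm]
    exact (isAdicComplete_ps R n).toIsPrecomplete
  have hgs : Function.Surjective g := by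
    refine surjective_of_map_sup_sq S.res S.res_surjective (psRes R n) (psRes_surjective R n) g hg
      (le_antisymm (sup_le ?_ (Ideal.pow_le_self two_ne_zero)) ?_)
    · rw [Ideal.map_le_iff_le_comap]
      intro f hf
      rw [Ideal.mem_comap, CRing.mem_maximalIdeal_iff]
      exact (AlgHom.congr_fun hg f).trans hf
    · rw [← hmS]
      refine hspan.ge.trans ?_
      rw [hJ]
      refine sup_le ?_ (sup_le_sup_right ?_ _)
      · refine le_trans ?_ le_sup_left
        rw [Ideal.span_le]
        rintro _ ⟨i, rfl⟩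
        rw [← hgX]
        exact Ideal.mem_map_of_mem _ (RingHom.mem_ker.2 (by
          rw [psRes_apply, MvPowerSeries.constantCoeff_X, map_zero]))
      · rw [Ideal.map_le_iff_le_comap]
        intro r hr
        rw [Ideal.mem_comap, ← hgC]
        exact Ideal.mem_map_of_mem _ (RingHom.mem_ker.2 (by
          rw [psRes_apply, MvPowerSeries.constantCoeff_C]
          exact (CRing.mem_maximalIdeal_iff R r).1 hr))
  let cP : R.carrier →ₐ[Λ] P.carrier := IsScalarTower.toAlgHom Λ R.carrier (MvPowerSeries (Fin n) R.carrier)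
  have hcP : P.res.comp cP = R.res := AlgHom.ext fun r => by
    change psRes R n (MvPowerSeries.C r) = R.res r
    rw [psRes_apply, MvPowerSeries.constantCoeff_C]
  obtain ⟨ψ₀, hψ₀, hgψ₀, hψη⟩ := exists_lift_formal (rs_hR R.carrier R.res) S
    ((Family.self R.carrier R.res).along ι hRS) hv P S g hg hgs
    ((Family.self R.carrier R.res).along cP hcP).toFormalElt (AlgHom.id Λ S.carrier) (AlgHom.comp_id _)
    (FormalElt.ext' fun m => homSet_ext' fun r => by
      change (S.truncHom m).1 (ι r) = (S.truncHom m).1 (g (MvPowerSeries.C r))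
      rw [hgC])
  let ψ : S.carrier →ₐ[Λ] MvPowerSeries (Fin n) R.carrier := ψ₀
  have hψ : (psRes R n).comp ψ = S.res := hψ₀
  have hψR : ∀ r, ψ (ι r) = MvPowerSeries.C r := fun r => by
    have h1 : ψ₀.comp ι = cP := algHom_ext_trunc P fun m r =>
      AlgHom.congr_fun (congrArg Subtype.val (congrArg (fun u : FormalElt (hR R.carrier R.res) P => u.elt m) hψη)) r
    exact AlgHom.congr_fun h1 r
  have hgψ' : ∀ s, g (ψ s) = s := fun s => AlgHom.congr_fun hgψ₀ s
  haveI : IsPrecomplete (RingHom.ker S.res) S.carrier := by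
    rw [ker_res_cRing]; exact isPrecomplete_cRing S
  have hψs : Function.Surjective ψ := by
    refine surjective_of_map_sup_sq (psRes R n) (psRes_surjective R n) S.res S.res_surjective ψ hψ
      (le_antisymm (sup_le ?_ (Ideal.pow_le_self two_ne_zero)) ?_)
    · rw [Ideal.map_le_iff_le_comap]
      intro f hf
      rw [Ideal.mem_comap, mem_maximalIdeal_ps]
      exact (AlgHom.congr_fun hψ f).trans hf
    · set M := IsLocalRing.maximalIdeal (MvPowerSeries (Fin n) R.carrier) with hM
      set K := (RingHom.ker S.res).map ψ ⊔ M ^ 2 with hK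
      have hC : ∀ r, R.res r = 0 → (MvPowerSeries.C r : MvPowerSeries (Fin n) R.carrier) ∈ K := fun r hr => by
        rw [← hψR]
        exact Ideal.mem_sup_left (Ideal.mem_map_of_mem _ (RingHom.mem_ker.2 ((AlgHom.congr_fun hRS r).trans hr)))
      have hkerg : ∀ f, g f = 0 → f ∈ K := by
        intro f hf
        have hfm : psRes R n f = 0 := by
          rw [← AlgHom.congr_fun hg f]
          change S.res (g f) = 0
          rw [hf, map_zero]
        have h1 := Groth.Agent.Lib.FSAdic.PowerSeries.sub_truncTotal_mem f 1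
        rw [pow_one] at h1
        obtain ⟨h, hh⟩ := Ideal.mem_span_range_iff_exists_fun.1 h1
        have hc : ((truncTotal 1 f : MvPolynomial (Fin n) R.carrier) : MvPowerSeries (Fin n) R.carrier) =
            MvPowerSeries.C (MvPowerSeries.constantCoeff f) := by
          refine MvPowerSeries.ext fun d => ?_
          rw [MvPolynomial.coeff_coe, MvPowerSeries.coeff_C]
          by_cases hd : d = 0
          · subst hd
            rw [coeff_truncTotal _ (by simp), if_pos rfl, MvPowerSeries.coeff_zero_eq_constantCoeff_apply]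
          · rw [coeff_truncTotal_eq_zero _ (Nat.one_le_iff_ne_zero.2 fun h => hd ((Finsupp.degree_eq_zero_iff d).1 h)), if_neg hd]
        rw [hc, eq_sub_iff_add_eq] at hh
        have hc0 : R.res (MvPowerSeries.constantCoeff f) = 0 := hfm
        have hsum : (∑ i, g (h i) * x i) ∈ J := by
          have := congrArg g hh
          rw [map_add, hf, map_sum, hgC] at this
          simp only [map_mul, hgX] at this
          rw [add_eq_zero_iff_eq_neg.1 this]
          exact neg_mem (Ideal.mem_sup_left (Ideal.mem_map_of_mem _ ((CRing.mem_maximalIdeal_iff R _).2 hc0)))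
        rw [← hh]
        refine add_mem (Ideal.sum_mem _ fun i _ => Ideal.mem_sup_right ?_) (hC _ hc0)
        rw [pow_two]
        refine Ideal.mul_mem_mul ?_ (span_X_le_maximalIdeal R n (Ideal.subset_span ⟨i, rfl⟩))
        rw [hM, mem_maximalIdeal_ps, ← AlgHom.congr_fun hg (h i)]
        exact (CRing.mem_maximalIdeal_iff S _).1 (hindep _ hsum i)
      intro f hf
      rw [← sub_add_cancel f (ψ (g f))]
      refine add_mem (hkerg _ (by rw [map_sub, hgψ', sub_self])) (Ideal.mem_sup_left (Ideal.mem_map_of_mem _ ?_))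
      rw [RingHom.mem_ker, ← AlgHom.comp_apply, hg]
      exact (mem_maximalIdeal_ps R n f).1 hf
  refine ⟨n, ⟨AlgEquiv.ofBijective
    ({ ψ.toRingHom with commutes' := fun r => (hψR r).trans rfl } : S.carrier →ₐ[R.carrier] MvPowerSeries (Fin n) R.carrier)
    ⟨fun a b h => ?_, hψs⟩⟩⟩
  rw [← hgψ' a, ← hgψ' b]
  exact congrArg g h

end Groth.Agent.Lib.ArtinFun
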