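import Groth.Agent.Lib.ArtinFun.Completion
import Groth.Agent.Lib.ArtinFun.SmoothMap
import Groth.Agent.Lib.ArtinFun.Smooth
import Groth.Prelude.Def_CAlgX

/-!
# Smooth functors `h_R` and adic formal smoothness
-/

universe u v

open CategoryTheory ArtFun

set_option linter.style.haveILetI false

namespace Groth.Agent.Lib.ArtinFun

variable {Λ : Type u} {k : Type u} [CommRing Λ] [Field k] [Algebra Λ k]

omit [Algebra Λ k] in
lemma mul_eq_zero_of_sq {B : Type u} [CommRing B] {J : Ideal B} (hJ : J ^ 2 = ⊥) {x y : B}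
    (hx : x ∈ J) (hy : y ∈ J) : x * y = 0 := by
  have := Ideal.mul_mem_mul hx hy
  rwa [← pow_two, hJ, Ideal.mem_bot] at this

theorem isSmoothFunctor_hR_of_adic (R : CRing Λ k)
    (h : CAlgX.IsAdicFormallySmooth Λ R.carrier (IsLocalRing.maximalIdeal R.carrier)) :
    IsSmoothFunctor (hR R.carrier R.res) := by
  intro B A μ hμ
  refine surjective_induction (fun A B (μ : B ⟶ A) => Function.Surjective ((hR R.carrier R.res).map μ))
    ?_ ?_ ?_ μ hμ
  · exact fun A B e he => (bijective_map_of_isIso _ e).2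
  · intro A B μ hμ φ
    change HomSet R.carrier R.res A at φ
    let J := RingHom.ker μ.toAlgHom
    have hJ : J ^ 2 = ⊥ := by
      rw [← le_bot_iff, pow_two, ← hμ.2.2.2]
      exact Ideal.mul_mono_left (ker_le_maximalIdeal μ)
    let e := Ideal.quotientKerAlgEquivOfSurjective (f := μ.toAlgHom) hμ.1
    obtain ⟨N, hN⟩ := exists_maximalIdeal_pow_eq_bot A
    obtain ⟨χ, hχ⟩ := h B J hJ (e.symm.toAlgHom.comp φ.1) ⟨N, fun x hx => by
      rw [AlgHom.comp_apply, homSet_pow_le_ker φ hN (by rwa [ker_res_cRing]), map_zero]⟩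
    have hμχ : ∀ r, μ (χ r) = φ.1 r := fun r => by
      have h1 := congrArg e (AlgHom.congr_fun hχ r)
      simp only [AlgHom.comp_apply] at h1
      exact h1.trans (e.apply_symm_apply _)
    refine ⟨⟨χ, AlgHom.ext fun r => ?_⟩, homSet_ext' hμχ⟩
    rw [AlgHom.comp_apply, ← Art.res_app μ, hμχ, homSet_res]
  · intro A A₁ A₂ p q h₁ h₂ φ
    obtain ⟨ψ, rfl⟩ := h₂ φ
    obtain ⟨χ, rfl⟩ := h₁ ψ
    exact ⟨χ, rfl⟩

/-- A completed polynomial algebra mapping onto a coefficient ring. -/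
theorem exists_smooth_cover [IsNoetherianRing Λ] [Module.Finite Λ k] (R : CRing Λ k) :
    ∃ (Q : CRing Λ k) (π : Q.carrier →ₐ[Λ] R.carrier),
      R.res.comp π = Q.res ∧ Function.Surjective π ∧
      CAlgX.IsAdicFormallySmooth Λ Q.carrier (IsLocalRing.maximalIdeal Q.carrier) := by
  obtain ⟨m, x, hx⟩ := exists_generators (Λ := Λ) R.res R.res_surjective (fg_maximalIdeal R)
  let B := MvPolynomial (Fin m) Λ
  let resB : B →ₐ[Λ] k := R.res.comp (MvPolynomial.aeval x)
  have hresB : Function.Surjective resB := fun c => by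
    obtain ⟨s, rfl⟩ := R.res_surjective c
    obtain ⟨p, hp⟩ := hx s 1
    rw [pow_one, CRing.mem_maximalIdeal_iff, map_sub, sub_eq_zero] at hp
    exact ⟨p, hp.symm⟩
  obtain ⟨Q, ι, hι, happrox, htr, huniv⟩ := exists_completion_strong B resB hresB
  have hιq : ∀ {N : ℕ} {b : B}, b ∈ RingHom.ker resB ^ N → ι b ∈ IsLocalRing.maximalIdeal Q.carrier ^ N := by
    intro N b hb
    have hle : (RingHom.ker resB).map ι ≤ IsLocalRing.maximalIdeal Q.carrier := by
      rw [Ideal.map_le_iff_le_comap]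
      intro a ha
      rw [Ideal.mem_comap, CRing.mem_maximalIdeal_iff]
      exact (AlgHom.congr_fun hι a).trans ha
    exact Ideal.pow_right_mono hle N (Ideal.map_pow ι _ N ▸ Ideal.mem_map_of_mem ι hb)
  choose θ hθ hθu using fun n => huniv (R.trunc n)
    (⟨(R.truncHom n).1.comp (MvPolynomial.aeval x), by rw [← AlgHom.comp_assoc, (R.truncHom n).2]⟩ :
      HomSet B resB (R.trunc n))
  obtain ⟨π, hπ, hπθ⟩ := exists_algHom_of_trunc R θ fun n => hθu n _ fun b => by
    change R.truncMap n ((θ (n + 1)).1 (ι b)) = _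
    rw [hθ]
    rfl
  have hπι : ∀ b, π (ι b) = MvPolynomial.aeval x b := fun b => AlgHom.congr_fun
    (algHom_ext_trunc R (g₁ := π.comp ι) fun n r => by rw [AlgHom.comp_apply, hπθ, hθ]; rfl) b
  haveI : IsPrecomplete (RingHom.ker Q.res) Q.carrier := by
    rw [ker_res_cRing]; exact isPrecomplete_cRing Q
  have hπs : Function.Surjective π := by
    refine surjective_of_map_sup_sq R.res R.res_surjective Q.res Q.res_surjective π hπ
      (le_antisymm (sup_le ?_ (Ideal.pow_le_self two_ne_zero)) fun r hr => ?_)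
    · rw [Ideal.map_le_iff_le_comap]
      intro f hf
      rw [Ideal.mem_comap, CRing.mem_maximalIdeal_iff]
      exact (AlgHom.congr_fun hπ f).trans hf
    · obtain ⟨p, hp⟩ := hx r 2
      rw [← sub_add_cancel r (MvPolynomial.aeval x p), ← hπι]
      refine add_mem (Ideal.mem_sup_right (by rwa [hπι])) (Ideal.mem_sup_left (Ideal.mem_map_of_mem _ ?_))
      rw [RingHom.mem_ker, ← AlgHom.congr_fun hπ (ι p)]
      change R.res (π (ι p)) = 0
      rw [hπι, ← CRing.mem_maximalIdeal_iff]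
      have := sub_mem hr (Ideal.pow_le_self two_ne_zero hp)
      rwa [sub_sub_cancel] at this
  refine ⟨Q, π, hπ, hπs, ?_⟩
  intro A _ _ J hJ ψ ⟨N, hN⟩
  choose a ha using fun i => Ideal.Quotient.mk_surjective (ψ (ι (MvPolynomial.X i)))
  let χ₀ : B →ₐ[Λ] A := MvPolynomial.aeval a
  have hχ₀ : ∀ b, Ideal.Quotient.mk J (χ₀ b) = ψ (ι b) := fun b =>
    AlgHom.congr_fun (MvPolynomial.algHom_ext (f := (Ideal.Quotient.mkₐ Λ J).comp χ₀) (g := ψ.comp ι)
      fun i => by simp [χ₀, ha]) b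
  have hkill : ∀ b ∈ RingHom.ker resB ^ (2 * N), χ₀ b = 0 := by
    intro b hb
    rw [two_mul, pow_add] at hb
    refine Submodule.mul_induction_on hb (fun y hy z hz => ?_) fun y z hy hz => by rw [map_add, hy, hz, add_zero]
    rw [map_mul]
    refine mul_eq_zero_of_sq hJ ?_ ?_ <;> rw [← Ideal.Quotient.eq_zero_iff_mem, hχ₀]
    · exact hN _ (hιq hy)
    · exact hN _ (hιq hz)
  obtain ⟨ρ, hρ, hρ0⟩ := htr (2 * N)
  let χ : Q.carrier →ₐ[Λ] A := (Ideal.Quotient.liftₐ _ χ₀ hkill).comp ρ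
  refine ⟨χ, AlgHom.ext fun y => ?_⟩
  obtain ⟨b, hb⟩ := happrox y (2 * N)
  have h1 : χ (y - ι b) = 0 := by
    change Ideal.Quotient.liftₐ _ χ₀ hkill (ρ (y - ι b)) = 0
    rw [hρ0 _ hb, map_zero]
  have h2 : ψ (y - ι b) = 0 := hN _ (Ideal.pow_le_pow_right (by omega) hb)
  have h3 : χ (ι b) = χ₀ b := by
    change Ideal.Quotient.liftₐ _ χ₀ hkill (ρ (ι b)) = _
    rw [hρ]
    rfl
  rw [map_sub, sub_eq_zero] at h1 h2
  rw [AlgHom.comp_apply, h1, h2, h3]
  exact hχ₀ b

theorem adic_of_isSmoothFunctor_hR [IsNoetherianRing Λ] [Module.Finite Λ k] (R : CRing Λ k)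
    (h : IsSmoothFunctor (hR R.carrier R.res)) :
    CAlgX.IsAdicFormallySmooth Λ R.carrier (IsLocalRing.maximalIdeal R.carrier) := by
  obtain ⟨Q, π, hπ, hπs, hQ⟩ := exists_smooth_cover R
  let F : Art Λ k ⥤ Type u := (Functor.const (Art Λ k)).obj PUnit
  let ξ : Family R.carrier R.res F := ⟨fun _ _ => PUnit.unit, fun _ _ => rfl⟩
  obtain ⟨s, hs, hπs', -⟩ := exists_lift_formal (F := F)
    (fun B A A' A'' p' p'' f' f'' hfp _ => ⟨fun _ _ _ => rfl, fun x => ⟨PUnit.unit, FibProd.ext rfl rfl⟩⟩)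
    R ξ (fun B A μ hμ φ y _ => by
      obtain ⟨ψ, hψ⟩ := h μ hμ φ
      exact ⟨ψ, hψ, rfl⟩)
    Q R π hπ hπs ⟨fun _ => PUnit.unit, fun _ => rfl⟩ (AlgHom.id Λ R.carrier) (AlgHom.comp_id _)
    (FormalElt.ext' fun _ => rfl)
  intro A _ _ J hJ ψ ⟨N, hN⟩
  obtain ⟨χ, hχ⟩ := hQ A J hJ (ψ.comp π) ⟨N, fun x hx => hN _ (by
    have hle : (IsLocalRing.maximalIdeal Q.carrier).map π ≤ IsLocalRing.maximalIdeal R.carrier :=
      Ideal.map_le_iff_le_comap.2 (CRing.maximalIdeal_le_comap π hπ)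
    exact Ideal.pow_right_mono hle N (Ideal.map_pow π _ N ▸ Ideal.mem_map_of_mem π hx))⟩
  refine ⟨χ.comp s, ?_⟩
  rw [← AlgHom.comp_assoc, hχ, AlgHom.comp_assoc, hπs', AlgHom.comp_id]

theorem isSmoothFunctor_iff_of_versal {F : Art Λ k ⥤ Type v} (h0 : H0 F) (R : CRing Λ k)
    (ξ : Family R.carrier R.res F) (hξ : IsVersal ξ) :
    IsSmoothFunctor F ↔ IsSmoothFunctor (hR R.carrier R.res) := by
  have hs := surjective_app_of_isVersal ξ hξ (surjective_base_of_h0 ξ h0)
  constructor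
  · intro hF B A μ hμ φ
    change HomSet R.carrier R.res A at φ
    obtain ⟨y, hy⟩ := hF μ hμ (ξ.app A φ)
    obtain ⟨ψ, hψ, -⟩ := hξ μ hμ φ y hy
    exact ⟨ψ, hψ⟩
  · intro hR' B A μ hμ x
    obtain ⟨φ, rfl⟩ := hs A x
    obtain ⟨ψ, rfl⟩ := hR' μ hμ φ
    exact ⟨ξ.app B ψ, (ξ.natural μ ψ).symm⟩

end Groth.Agent.Lib.ArtinFun

namespace Groth.Agent.Lib.ArtinFun

variable {Λ : Type u} {k : Type u} [CommRing Λ] [Field k] [Algebra Λ k]
variable [IsNoetherianRing Λ]

/-- A complete local base ring with residue field `k` as a coefficient ring. -/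
noncomputable def baseCRing [IsLocalRing Λ] [IsAdicComplete (IsLocalRing.maximalIdeal Λ) Λ]
    (hk : Function.Surjective (algebraMap Λ k)) : CRing Λ k :=
  { carrier := Λ
    res := Algebra.ofId Λ k
    res_surjective := hk
    isAdicComplete := inferInstance }

/-- `h_R` is smooth over a complete local base exactly for power series rings. -/
theorem isSmoothFunctor_iff_powerSeries [Module.Finite Λ k] [IsLocalRing Λ]
    [IsAdicComplete (IsLocalRing.maximalIdeal Λ) Λ] (hk : Function.Surjective (algebraMap Λ k))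
    (R : CRing Λ k) :
    IsSmoothFunctor (hR R.carrier R.res) ↔
      ∃ n : ℕ, Nonempty (R.carrier ≃ₐ[Λ] MvPowerSeries (Fin n) Λ) := by
  letI : Algebra (baseCRing hk).carrier R.carrier := R.algebra
  haveI : IsScalarTower Λ (baseCRing hk).carrier R.carrier :=
    IsScalarTower.of_algebraMap_eq fun _ => rfl
  have hι : R.res.comp (IsScalarTower.toAlgHom Λ (baseCRing hk).carrier R.carrier) = (baseCRing hk).res :=
    AlgHom.ext fun x => R.res.commutes x
  have hsub : ∀ (A : Art Λ k) (x y : HomSet (baseCRing hk).carrier (baseCRing hk).res A), x = y :=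
    fun A x y => homSet_ext' fun l => (x.1.commutes l).trans (y.1.commutes l).symm
  have hiff : IsSmoothFunctor (hR R.carrier R.res) ↔
      IsVersal ((Family.self (baseCRing hk).carrier (baseCRing hk).res).along
        (IsScalarTower.toAlgHom Λ (baseCRing hk).carrier R.carrier) hι) := by
    constructor
    · intro h B A μ hμ φ y _
      obtain ⟨ψ, hψ⟩ := h μ hμ φ
      exact ⟨ψ, hψ, hsub B _ _⟩
    · intro h B A μ hμ φ
      change HomSet R.carrier R.res A at φ
      obtain ⟨ψ, hψ, -⟩ := h μ hμ φ (⟨Algebra.ofId Λ B, AlgHom.ext fun l => B.res.commutes l⟩ :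
        HomSet (baseCRing hk).carrier (baseCRing hk).res B) (hsub A _ _)
      exact ⟨ψ, hψ⟩
  rw [hiff]
  exact ⟨fun h => exists_powerSeries_of_isVersal (baseCRing hk) R hι h,
    fun ⟨_, ⟨e⟩⟩ => isVersal_of_powerSeries (baseCRing hk) R hι e⟩

end Groth.Agent.Lib.ArtinFun
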