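import Groth.Agent.Lib.ArtinFun.Presentation

/-!
# Dimension estimates from obstruction theories
-/

universe u v

open CategoryTheory ArtFun

set_option linter.style.haveILetI false

namespace Groth.Agent.Lib.ArtinFun

variable {k : Type u} [Field k]

/-- A quotient with kernel in the square has the same number of generators. -/
lemma spanFinrank_eq_of_ker_le_sq {P R : Type u} [CommRing P] [IsLocalRing P] [IsNoetherianRing P]
    [CommRing R] [IsLocalRing R] (q : P →+* R) (hq : Function.Surjective q)
    (hker : RingHom.ker q ≤ IsLocalRing.maximalIdeal P ^ 2) :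
    (IsLocalRing.maximalIdeal R).spanFinrank = (IsLocalRing.maximalIdeal P).spanFinrank := by
  classical
  haveI : IsNoetherianRing R := isNoetherianRing_of_surjective _ _ q hq
  have hmap := IsLocalRing.map_maximalIdeal_of_surjective q hq
  refine le_antisymm ?_ ?_
  · rw [← hmap]
    exact Ideal.spanFinrank_map_le_of_fg _ (IsNoetherian.noetherian _)
  · obtain ⟨s, hcard, hs⟩ := Submodule.FG.exists_span_finset_card_eq_spanFinrank
      (IsNoetherian.noetherian (IsLocalRing.maximalIdeal R))
    choose l hl using hq
    let t := s.image l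
    have hts : Ideal.map q (Ideal.span (t : Set P)) = IsLocalRing.maximalIdeal R := by
      rw [Ideal.map_span, Finset.coe_image, Set.image_image]
      simp only [hl, Set.image_id']
      exact hs
    have htm : Ideal.span (t : Set P) ≤ IsLocalRing.maximalIdeal P := by
      have hqm : (IsLocalRing.maximalIdeal R).comap q = IsLocalRing.maximalIdeal P := by
        have hq' : IsLocalHom q := IsLocalHom.of_surjective q fun r => ⟨l r, hl r⟩
        exact ((IsLocalRing.local_hom_TFAE q).out 0 4).1 hq'
      rw [← hqm, ← hts]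
      exact Ideal.le_comap_map
    have hle : IsLocalRing.maximalIdeal P ≤ Ideal.span (t : Set P) := by
      refine Submodule.le_of_le_smul_of_le_jacobson_bot (I := IsLocalRing.maximalIdeal P)
        (IsNoetherian.noetherian _) (IsLocalRing.maximalIdeal_le_jacobson ⊥) fun x hx => ?_
      have hxR : q x ∈ Ideal.map q (Ideal.span (t : Set P)) := by
        rw [hts, ← hmap]; exact Ideal.mem_map_of_mem q hx
      obtain ⟨y, hy, hyx⟩ := (Ideal.mem_map_iff_of_surjective q fun r => ⟨l r, hl r⟩).1 hxR
      rw [← add_sub_cancel y x]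
      refine Submodule.add_mem_sup hy ?_
      rw [smul_eq_mul, ← pow_two]
      exact hker (by rw [RingHom.mem_ker, map_sub, hyx, sub_self])
    rw [le_antisymm hle htm]
    refine (Submodule.spanFinrank_span_le_ncard_of_finite t.finite_toSet).trans ?_
    rw [Set.ncard_coe_finset]
    exact Finset.card_image_le.trans hcard.le

/-- The standard estimates for a quotient of a regular local ring by `r` equations in the square of
the maximal ideal. -/
theorem estimates {P R : Type u} [CommRing P] [IsRegularLocalRing P] [CommRing R] [IsLocalRing R]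
    [IsNoetherianRing R] (q : P →+* R) (hq : Function.Surjective q)
    (hker : RingHom.ker q ≤ IsLocalRing.maximalIdeal P ^ 2) (s : Finset P)
    (hs : Ideal.span (s : Set P) = RingHom.ker q) {r : ℕ} (hsr : s.card ≤ r) :
    ringKrullDim R ≤ (Module.finrank (IsLocalRing.ResidueField R) (IsLocalRing.CotangentSpace R) : WithBot ℕ∞) ∧
      (Module.finrank (IsLocalRing.ResidueField R) (IsLocalRing.CotangentSpace R) : WithBot ℕ∞) ≤
          ringKrullDim R + (r : WithBot ℕ∞) ∧
      (r = 0 → IsRegularLocalRing R) ∧
      (ringKrullDim R + (r : WithBot ℕ∞) =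
          (Module.finrank (IsLocalRing.ResidueField R) (IsLocalRing.CotangentSpace R) : WithBot ℕ∞) →
        ∃ (P : Type u) (_ : CommRing P) (_ : IsRegularLocalRing P) (π : P →+* R) (s : Finset P),
          Function.Surjective π ∧ Ideal.span (s : Set P) = RingHom.ker π ∧
            ringKrullDim P = ringKrullDim R + (s.card : WithBot ℕ∞)) := by
  rw [← IsLocalRing.spanFinrank_maximalIdeal_eq_finrank_cotangentSpace]
  have hd := spanFinrank_eq_of_ker_le_sq q hq hker
  have hdim : ringKrullDim P = ((IsLocalRing.maximalIdeal R).spanFinrank : WithBot ℕ∞) := by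
    rw [hd]
    exact IsRegularLocalRing.spanFinrank_maximalIdeal.symm
  have h1 : ringKrullDim R ≤ ((IsLocalRing.maximalIdeal R).spanFinrank : WithBot ℕ∞) :=
    ringKrullDim_le_spanFinrank_maximalIdeal R
  have h2 : ringKrullDim P ≤ ringKrullDim R + (s.card : WithBot ℕ∞) := by
    have hsj : (s : Set P) ⊆ Ring.jacobson P := by
      rw [IsLocalRing.ringJacobson_eq_maximalIdeal]
      exact fun x hx => Ideal.pow_le_self two_ne_zero (hker (hs ▸ Ideal.subset_span hx))
    refine (ringKrullDim_le_ringKrullDim_quotient_add_card s hsj).trans (le_of_eq ?_)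
    rw [ringKrullDim_eq_of_ringEquiv
      ((Ideal.quotEquivOfEq hs).trans (RingHom.quotientKerEquivOfSurjective hq))]
  have h3 : ringKrullDim P ≤ ringKrullDim R + (r : WithBot ℕ∞) :=
    h2.trans (add_le_add le_rfl (by exact_mod_cast hsr))
  refine ⟨h1, hdim ▸ h3, fun hr => ?_, fun heq => ⟨P, inferInstance, inferInstance, q, s, hq, hs, ?_⟩⟩
  · have hs0 : s = ∅ := Finset.card_eq_zero.1 (by omega)
    subst hs0
    rw [Finset.coe_empty, Ideal.span_empty] at hs
    exact IsRegularLocalRing.of_ringEquiv
      (RingEquiv.ofBijective q ⟨(RingHom.injective_iff_ker_eq_bot q).2 hs.symm, hq⟩)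
  · refine le_antisymm h2 ?_
    rw [hdim, ← heq]
    exact add_le_add le_rfl (by exact_mod_cast hsr)

/-- Estimates for an algebra with a smooth regular presentation and an obstruction theory. -/
theorem estimates_of_obsTheory {P R : Type u} [CommRing P] [Algebra k P] [IsRegularLocalRing P]
    [CommRing R] [IsLocalRing R] [IsNoetherianRing R] [Algebra k R] (resP : P →ₐ[k] k) (resR : R →ₐ[k] k)
    (q : P →ₐ[k] R) (hlift : IsSmoothFunctor (hR P resP)) (hq : Function.Surjective q)
    (hqres : resR.comp q = resP) (W : Type u) [AddCommGroup W] [Module k W] [Module.Finite k W]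
    (T : ObsTheory (hR R resR) W) :
    ringKrullDim R ≤ (Module.finrank (IsLocalRing.ResidueField R) (IsLocalRing.CotangentSpace R) : WithBot ℕ∞) ∧
      (Module.finrank (IsLocalRing.ResidueField R) (IsLocalRing.CotangentSpace R) : WithBot ℕ∞) ≤
          ringKrullDim R + (Module.finrank k W : WithBot ℕ∞) ∧
      (Module.finrank k W = 0 → IsRegularLocalRing R) ∧
      (ringKrullDim R + (Module.finrank k W : WithBot ℕ∞) =
          (Module.finrank (IsLocalRing.ResidueField R) (IsLocalRing.CotangentSpace R) : WithBot ℕ∞) →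
        ∃ (P : Type u) (_ : CommRing P) (_ : IsRegularLocalRing P) (π : P →+* R) (s : Finset P),
          Function.Surjective π ∧ Ideal.span (s : Set P) = RingHom.ker π ∧
            ringKrullDim P = ringKrullDim R + (s.card : WithBot ℕ∞)) := by
  obtain ⟨P₀, _, _, _, resP₀, q₀, -, hq₀, hq₀res, hker⟩ :=
    exists_reduced_presentation resR _ P resP q rfl hlift hq hqres
  obtain ⟨s, hs, hspan⟩ := exists_equations resP₀ resR q₀ hq₀ hq₀res (RingHom.ker q₀) rfl hker W T
  exact estimates (q₀ : P₀ →+* R) hq₀ hker s hspan hs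

/-- Power series rings over a field are regular. -/
lemma isRegularLocalRing_ps (d : ℕ) : IsRegularLocalRing (MvPowerSeries (Fin d) k) :=
  Groth.Agent.H24.PowerSeries.isRegularLocalRing_fin k d

/-- Pro-representable functors have finite-dimensional obstruction theories. -/
theorem exists_finite_obsTheory {F : Art k k ⥤ Type v} (hF : IsProrepresentable F) :
    ∃ n : ℕ, HasObsTheory F (Fin n → k) := by
  obtain ⟨⟨R, ξ, hξ⟩⟩ := hF
  obtain ⟨d, res, q, hlift, hq, hqres⟩ := exists_powerSeries_presentation R
  haveI := isRegularLocalRing_ps (k := k) d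
  obtain ⟨P₀, _, _, _, resP₀, q₀, hlift₀, hq₀, hq₀res, hker⟩ :=
    exists_reduced_presentation R.res _ _ res q rfl hlift hq hqres
  obtain ⟨T⟩ := hasObsTheory_presented resP₀ R.res q₀ hq₀ hq₀res hlift₀ (RingHom.ker q₀) rfl hker
  haveI := finite_cotangent_ideal (RingHom.ker q₀) resP₀
  exact ⟨_, hasObsTheory_of_linearEquiv (Module.finBasis k _).equivFun
    (hasObsTheory_of_universal ξ hξ T)⟩

end Groth.Agent.Lib.ArtinFun

namespace Groth.Agent.Lib.ArtinFun

variable {k : Type u} [Field k]

/-- A local algebra has at most one augmentation. -/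
lemma res_unique {P : Type u} [CommRing P] [IsLocalRing P] [Algebra k P] (r₁ r₂ : P →ₐ[k] k) :
    r₁ = r₂ := AlgHom.ext fun x => by
  have h := (res_eq_zero_iff r₁ (fun c => ⟨algebraMap k P c, r₁.commutes c⟩) (x - algebraMap k P (r₂ x))).2
    ((res_eq_zero_iff r₂ (fun c => ⟨algebraMap k P c, r₂.commutes c⟩) _).1 (by
      rw [map_sub, AlgHom.commutes]; simp))
  rw [map_sub, AlgHom.commutes, sub_eq_zero] at h
  exact h

/-- Power series rings over a field are smooth. -/
theorem isSmoothFunctor_ps (d : ℕ) (res : MvPowerSeries (Fin d) k →ₐ[k] k) :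
    IsSmoothFunctor (hR (MvPowerSeries (Fin d) k) res) := by
  haveI : IsAdicComplete (IsLocalRing.maximalIdeal k) k := by
    rw [IsLocalRing.maximalIdeal_eq_bot]
    infer_instance
  have hk : Function.Surjective (algebraMap k k) := fun c => ⟨c, rfl⟩
  have h := (isSmoothFunctor_iff_powerSeries (Λ := k) hk (psCRing (baseCRing (Λ := k) hk) d)).2
    ⟨d, ⟨AlgEquiv.refl⟩⟩
  exact (res_unique (P := MvPowerSeries (Fin d) k) (psRes (baseCRing (Λ := k) hk) d) res) ▸ h

end Groth.Agent.Lib.ArtinFun
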