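import Groth.Agent.Lib.Modules.DualAdj
import Groth.Agent.Lib.ExtHH.SheafHom
import Groth.Agent.H95.LefFEt.Bidual
import Groth.Agent.Lib.ClSub.Basis
import Groth.Agent.Lib.TensorMod.QCohInv
import Groth.Agent.Lib.TensorMod.LocFree
import Groth.Prelude.Def_DCoh4

/-!
# `Hom(A, O)` is the dual of `A`, for `A` finite locally free
-/

noncomputable section

universe u

open CategoryTheory CategoryTheory.Limits AlgebraicGeometry Opposite TopologicalSpace

namespace Groth.Agent.Lib.ArtinFun.SheafHomDual

open Groth.Agent.Lib.TensorMod Groth.Agent.Lib.TensorMod.Dual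
open Groth.Agent.Lib.Modules.DualBasis Groth.Agent.Lib.Modules.DualAdj Groth.Agent.Lib.Modules.TensorSec
open Groth.Agent.H95.LefFEt (Bidual.eq_of_forms)

variable {X : Scheme.{u}} {E : X.Modules}

lemma evalSec_app {U V : X.Opens} (e : Γ(E, U)) (h : V ≤ U) (φ : DualSec E V) :
    (evalSec e).app h φ = φ.app le_rfl (rs E h e) := rfl

lemma evalSec_add {U : X.Opens} (a b : Γ(E, U)) : evalSec (a + b) = evalSec a + evalSec b :=
  DualSec.ext fun W hW φ => by
    refine Eq.trans ?_ (Dual.add_app (dual E) (evalSec a) (evalSec b) hW φ).symm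
    exact (congrArg (fun t => (show DualSec E W from φ).app le_rfl t) (rs_add E hW a b)).trans (map_add _ _ _)

lemma evalSec_smul {U : X.Opens} (r : Γ(X, U)) (e : Γ(E, U)) : evalSec (r • e) = r • evalSec e :=
  DualSec.ext fun W hW φ => by
    refine Eq.trans ?_ (Dual.smul_app (dual E) r (evalSec e) hW φ).symm
    exact (congrArg (fun t => (show DualSec E W from φ).app le_rfl t) (rs_smul E hW r e)).trans (map_smul _ _ _)

lemma evalSec_res {U V : X.Opens} (h : V ≤ U) (e : Γ(E, U)) :
    evalSec (rs E h e) = dualRes (dual E) h (evalSec e) :=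
  DualSec.ext fun W hW φ => by
    exact congrArg (fun t => (show DualSec E W from φ).app le_rfl t) (rs_rs E h hW e)

variable (E) in
/-- The map to the bidual. -/
def bidual : E ⟶ dual (dual E) :=
  ⟨PresheafOfModules.homMk
    { app := fun U => AddCommGrpCat.ofHom
        (AddMonoidHom.mk' (fun e : Γ(E, U.unop) => evalSec e) fun a b => evalSec_add a b)
      naturality := fun U V i => by
        ext e
        exact evalSec_res i.unop.le e }
    (fun U r e => evalSec_smul r e)⟩

lemma bidual_app {U : X.Opens} (e : Γ(E, U)) : (bidual E).app U e = evalSec e := rfl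

theorem bidual_injective (hE : HasDBases E) (U : X.Opens) : Function.Injective ((bidual E).app U) :=
  fun a b h => Bidual.eq_of_forms hE fun W hW φ => by
    have e := congrArg (fun ψ : DualSec (dual E) U => ψ.app hW φ) (show evalSec a = evalSec b from h)
    exact e

theorem bidual_surjective (hE : HasDBases E) (U : X.Opens) : Function.Surjective ((bidual E).app U) := by
  intro φ
  change DualSec (dual E) U at φ
  choose W n hxW hWU hb using fun p : U => exists_dBasis_le hE p.2
  let B := fun p => (hb p).some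
  let a : ∀ p : U, Γ(E, W p) := fun p => ∑ i, φ.app (hWU p) ((B p).f i) • (B p).e i
  have hloc : ∀ p, evalSec (a p) = dualRes (dual E) (hWU p) φ := fun p => by
    refine Eq.trans ?_ (sum_dual (B p).dualB (dualRes (dual E) (hWU p) φ))
    show (bidual E).app (W p) (a p) = _
    rw [map_sum]
    refine Finset.sum_congr rfl fun i _ => ?_
    rw [Scheme.Modules.Hom.app_smul]
    rfl
  have hcompat : ∀ p q, rs E (inf_le_left : W p ⊓ W q ≤ W p) (a p) = rs E inf_le_right (a q) :=
    fun p q => bidual_injective hE _ (by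
      rw [← HomGlue.rs_app, ← HomGlue.rs_app, bidual_app, bidual_app, hloc, hloc]
      exact DualSec.ext fun V hV x => rfl)
  obtain ⟨x, hx, -⟩ := TopCat.Sheaf.existsUnique_gluing' (⟨E.presheaf, E.isSheaf⟩ : TopCat.Sheaf Ab X)
    W U (fun p => homOfLE (hWU p)) (fun y hy => Opens.mem_iSup.mpr ⟨⟨y, hy⟩, hxW ⟨y, hy⟩⟩) a hcompat
  refine ⟨x, section_ext _ _ _ fun y hy => ⟨W ⟨y, hy⟩, hWU _, hxW _, ?_⟩⟩
  rw [HomGlue.rs_app]
  refine (congrArg ((bidual E).app _) (hx ⟨y, hy⟩)).trans ?_
  exact hloc _

theorem isIso_bidual (hE : HasDBases E) : IsIso (bidual E) := by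
  haveI := ClSub.Basis.mono_of_injective_affine (bidual E) fun U => bidual_injective hE U.1
  haveI := ClSub.Basis.epi_of_surjective_affine (bidual E) fun U => bidual_surjective hE U.1
  exact isIso_of_mono_of_epi _

/-- `Hom(A, O) ≅ dual A`. -/
theorem nonempty_iso_dual {A : X.Modules} [DCoh.HasSheafHom A] (hA : FlatMod.IsFinLocFree A) :
    Nonempty ((DCoh.sheafHom A).obj (Coh.structureModule X) ≅ dual A) := by
  have hD := hasDBases_of_isFinLocFree hA
  haveI := isIso_bidual hD
  let α : (DCoh.tensorBi (X := X)).obj A ≅ tensorL A :=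
    NatIso.ofComponents (fun M => Iso.refl _) fun {M N} g => by
      refine (Category.comp_id _).trans (Eq.trans ?_ (Category.id_comp _).symm)
      exact DerivedOX.PullTensor.tensorBi_obj_map A g
  let adj := ((adjunction hD.dual).ofNatIsoLeft
    ((Basic.tensorFunctor X).mapIso (asIso (bidual A))).symm).ofNatIsoLeft α.symm
  exact ⟨(((DCoh.sheafHomAdj A).rightAdjointUniq adj).app _) ≪≫ Basic.rightUnit (dual A)⟩

/-- `Hom(A, O)` is coherent. -/
theorem isFinLocFree_sheafHom {A : X.Modules} [DCoh.HasSheafHom A] (hA : FlatMod.IsFinLocFree A) :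
    FlatMod.IsFinLocFree ((DCoh.sheafHom A).obj (Coh.structureModule X)) :=
  TensorMod.LocFree.of_iso (nonempty_iso_dual hA).some.symm (H95.LefFEt.Bidual.isFinLocFree_dual hA)

end Groth.Agent.Lib.ArtinFun.SheafHomDual
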