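import Groth.Agent.Lib.ExtHH.SheafHom
import Groth.Prelude.Def_ClSub2
import Groth.Prelude.Def_Omega2

/-!
# `H⁰` of the normal sheaf is `Hom(I, O/I)`
-/

noncomputable section

universe u

open CategoryTheory AlgebraicGeometry

namespace Groth.Agent.Lib.ArtinFun.NormalH0

open Groth.Agent.Lib.ExtHH

variable {k : Type u} [CommRing k]

/-- `Hom(A, Y) ≅ H⁰(Hom(A, Y))`. -/
theorem nonempty_linearEquiv_hom_h0 {Z : Scheme.{u}} [Z.Over (Spec (CommRingCat.of k))]
    (A : Z.Modules) [DCoh.HasSheafHom A] (Y : Z.Modules) :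
    Nonempty ((A ⟶ Y) ≃ₗ[k] Coh.HH Z ((DCoh.sheafHom A).obj Y) 0) := by
  haveI := SheafHom.additive_sheafHom (A := A)
  haveI := SheafHom.linear_sheafHom (A := A) k
  let L : (A ⟶ Y) →ₗ[k] (Coh.structureModule Z ⟶ (DCoh.sheafHom A).obj Y) :=
    (Linear.leftComp k _ (SheafHom.idSec A)).comp ((DCoh.sheafHom A).mapLinearMap k)
  let e : (A ⟶ Y) ≃ₗ[k] (Coh.structureModule Z ⟶ (DCoh.sheafHom A).obj Y) :=
    LinearEquiv.ofBijective L
      (by
        convert SheafHom.bijective_idSec (A := A) Y using 1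
        first | rfl | (ext f; rfl))
  exact ⟨e.trans ((Abelian.Ext.linearEquiv₀.{u} (R := k)).symm.trans
    (Basic.extUnitEquiv k ((DCoh.sheafHom A).obj Y) 0))⟩

/-- Pullback–pushforward adjunction, linearly. -/
theorem nonempty_linearEquiv_adj {Z X : Scheme.{u}} (i : Z ⟶ X) [Z.Over (Spec (CommRingCat.of k))]
    [X.Over (Spec (CommRingCat.of k))] [i.IsOver (Spec (CommRingCat.of k))] (M : X.Modules) (N : Z.Modules) :
    Nonempty (((Scheme.Modules.pullback i).obj M ⟶ N) ≃ₗ[k]
      (M ⟶ (Scheme.Modules.pushforward i).obj N)) :=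
  ⟨{ (Scheme.Modules.pullbackPushforwardAdjunction i).homEquiv M N with
      map_add' := fun f g => by
        show (Scheme.Modules.pullbackPushforwardAdjunction i).homEquiv M N (f + g) = _
        rw [Adjunction.homEquiv_unit, Functor.map_add, Preadditive.comp_add]
        exact congrArg₂ (· + ·) (Adjunction.homEquiv_unit ..).symm (Adjunction.homEquiv_unit ..).symm
      map_smul' := fun c f => by
        show (Scheme.Modules.pullbackPushforwardAdjunction i).homEquiv M N (c • f) = _
        rw [Adjunction.homEquiv_unit, Functor.map_smul, Linear.comp_smul]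
        exact congrArg (c • ·) (Adjunction.homEquiv_unit ..).symm }⟩

/-- `H⁰` of the normal sheaf. -/
theorem nonempty_linearEquiv_h0_normal {Z X : Scheme.{u}} (i : Z ⟶ X)
    [Z.Over (Spec (CommRingCat.of k))] [X.Over (Spec (CommRingCat.of k))]
    [i.IsOver (Spec (CommRingCat.of k))] [DCoh.HasSheafHom (Omega.conormal i)] :
    Nonempty (Coh.HH Z ((DCoh.sheafHom (Omega.conormal i)).obj (Coh.structureModule Z)) 0 ≃ₗ[k]
      (ClSub.idealMod i.ker ⟶ (Scheme.Modules.pushforward i).obj (Coh.structureModule Z))) := by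
  obtain ⟨e⟩ := nonempty_linearEquiv_hom_h0 (k := k) (Omega.conormal i) (Coh.structureModule Z)
  obtain ⟨a⟩ := nonempty_linearEquiv_adj (k := k) i (ClSub.idealMod i.ker) (Coh.structureModule Z)
  exact ⟨e.symm.trans a⟩

/-- Replacing the ideal by an equal one. -/
theorem nonempty_linearEquiv_congr {X : Scheme.{u}} [X.Over (Spec (CommRingCat.of k))]
    {I J : X.IdealSheafData} (h : I = J) (N : X.Modules) :
    Nonempty ((ClSub.idealMod I ⟶ N) ≃ₗ[k] (ClSub.idealMod J ⟶ N)) := by
  subst h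
  exact ⟨LinearEquiv.refl k _⟩

end Groth.Agent.Lib.ArtinFun.NormalH0
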