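import Groth.Agent.Lib.ArtinFun.AffTorsor

/-!
# Base change of deformations of affine schemes
-/

noncomputable section

universe u

open CategoryTheory CategoryTheory.Limits AlgebraicGeometry ArtFun
open scoped TensorProduct

namespace Groth.Agent.Lib.ArtinFun.AffDef

variable {Λ : Type u} {k : Type u} [CommRing Λ] [Field k] [Algebra Λ k] {B₀ : Type u} [CommRing B₀] [Algebra k B₀]
  {A B : Art Λ k} {D : Data B₀ A} {D₀ : Data B₀ B} {p : A ⟶ B} (hp : Function.Surjective p)

lemma isPullback_homOver (q : D.HomOver D₀ p) (hp : Function.Surjective p) :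
    IsPullback (sp q.q) D₀.toDef.f D.toDef.f (Art.specMap p) :=
  isPullback_sp p.toAlgHom.toRingHom (algebraMap A D.R) q.q (algebraMap B D₀.R) hp (q.surjective hp)
    (RingHom.ext q.comm) (q.ker_eq hp)

/-- The identification of a base change given by a map of algebras. -/
def isoOf (q : D.HomOver D₀ p) : (D.toDef.baseChange p).Iso D₀.toDef where
  iso := (isPullback_homOver q hp).isoPullback.symm
  hom_f := (isPullback_homOver q hp).isoPullback_inv_snd
  i_hom := by
    refine (Iso.comp_inv_eq _).2 ?_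
    apply pullback.hom_ext
    · refine Eq.trans ?_ ((Category.assoc _ _ _).trans
        (congrArg (D₀.toDef.i ≫ ·) (isPullback_homOver q hp).isoPullback_hom_fst)).symm
      exact (DefSch.baseChange_i_fst D.toDef p).trans
        ((congrArg sp (RingHom.ext q.compat)).symm.trans (sp_comp q.q D₀.π).symm)
    · refine Eq.trans ?_ ((Category.assoc _ _ _).trans
        (congrArg (D₀.toDef.i ≫ ·) (isPullback_homOver q hp).isoPullback_hom_snd)).symm
      exact (DefSch.baseChange_i_f D.toDef p).trans D₀.toDef.i_f.symm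

lemma isoOf_inv_fst (q : D.HomOver D₀ p) :
    (isoOf hp q).iso.inv ≫ pullback.fst D.toDef.f (Art.specMap p) = sp q.q :=
  (isPullback_homOver q hp).isoPullback_hom_fst

/-- An identification of a base change comes from a map of algebras. -/
theorem exists_homOver (e : (D.toDef.baseChange p).Iso D₀.toDef) :
    ∃ q : D.HomOver D₀ p, (isoOf hp q).iso = e.iso := by
  obtain ⟨f, hf⟩ := exists_sp (e.iso.inv ≫ pullback.fst D.toDef.f (Art.specMap p))
  have h1 : sp f ≫ sp (algebraMap A D.R) = sp (algebraMap B D₀.R) ≫ Art.specMap p := by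
    rw [hf]
    refine (Category.assoc _ _ _).trans ?_
    refine (congrArg (e.iso.inv ≫ ·) pullback.condition).trans ?_
    exact (Category.assoc _ _ _).symm.trans (congrArg (· ≫ Art.specMap p) e.symm.hom_f)
  have h2 : sp D₀.π ≫ sp f = sp D.π := by
    rw [hf, ← Category.assoc]
    exact (congrArg (· ≫ pullback.fst D.toDef.f (Art.specMap p)) e.symm.i_hom).trans (DefSch.baseChange_i_fst D.toDef p)
  let q : D.HomOver D₀ p :=
    { q := f
      comm := fun a => RingHom.congr_fun (sp_injective (f := f.comp (algebraMap A D.R))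
        (g := (algebraMap B D₀.R).comp p.toAlgHom.toRingHom) (by rw [← sp_comp, ← sp_comp]; exact h1)) a
      compat := fun r => RingHom.congr_fun (sp_injective (f := D₀.π.comp f) ((sp_comp _ _).symm.trans h2)) r }
  refine ⟨q, CategoryTheory.Iso.symm_eq_iff.1 (Iso.ext ?_)⟩
  apply pullback.hom_ext
  · exact (isoOf_inv_fst hp q).trans hf
  · exact (isoOf hp q).symm.hom_f.trans e.symm.hom_f.symm

/-- Extensions of a deformation, compared. -/
theorem rel_iff {D' : Data B₀ A} (q : D.HomOver D₀ p) (q' : D'.HomOver D₀ p) :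
    (∃ ψ : D.toDef.Iso D'.toDef, ((ψ.baseChange p).trans (isoOf hp q')).iso = (isoOf hp q).iso) ↔
      ∃ φ : D'.Hom D, ∀ r, q.q (φ.toAlgHom r) = q'.q r := by
  have key : ∀ (ψ : D.toDef.Iso D'.toDef),
      ((ψ.baseChange p).trans (isoOf hp q')).iso = (isoOf hp q).iso ↔ sp q.q ≫ ψ.iso.hom = sp q'.q := by
    intro ψ
    constructor
    · intro h
      rw [← isoOf_inv_fst hp q, ← isoOf_inv_fst hp q', ← h]
      refine (Category.assoc _ _ _).trans ?_
      refine (congrArg (((ψ.baseChange p).trans (isoOf hp q')).iso.inv ≫ ·)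
        (DefSch.pullMap_fst ψ.iso.hom ψ.hom_f p).symm).trans ?_
      exact (Category.assoc _ _ _).trans
        (congrArg ((isoOf hp q').iso.inv ≫ ·) (Iso.inv_hom_id_assoc (ψ.baseChange p).iso _))
    · intro h
      refine Iso.ext ?_
      show (ψ.baseChange p).iso.hom ≫ (isoOf hp q').iso.hom = (isoOf hp q).iso.hom
      rw [← Iso.eq_comp_inv]
      apply pullback.hom_ext
      · rw [Category.assoc]
        refine (DefSch.pullMap_fst ψ.iso.hom ψ.hom_f p).trans ?_
        refine Eq.trans ?_ (congrArg ((isoOf hp q).iso.hom ≫ ·) (isoOf_inv_fst hp q')).symm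
        rw [← h, ← isoOf_inv_fst hp q]
        exact (((congrArg ((isoOf hp q).iso.hom ≫ ·) (Category.assoc _ _ _)).trans (Iso.hom_inv_id_assoc _ _))).symm
      · rw [Category.assoc]
        refine (DefSch.pullMap_snd ψ.iso.hom ψ.hom_f p).trans ?_
        exact ((isoOf hp q).hom_f.symm.trans (congrArg ((isoOf hp q).iso.hom ≫ ·) (isoOf hp q').symm.hom_f.symm))
  constructor
  · rintro ⟨ψ, hψ⟩
    obtain ⟨φ, hφ⟩ := exists_hom_of_morph ψ.iso.hom ψ.hom_f ψ.i_hom
    refine ⟨φ, fun r => RingHom.congr_fun (sp_injective (f := q.q.comp φ.toAlgHom.toRingHom) ?_) r⟩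
    rw [← sp_comp, hφ]
    exact (key ψ).1 hψ
  · rintro ⟨φ, hφ⟩
    exact ⟨φ.toIso, (key _).2 ((sp_comp φ.toAlgHom.toRingHom q.q).trans (congrArg sp (RingHom.ext hφ)))⟩

section Torsor

variable {k : Type u} [Field k] {B₀ : Type u} [CommRing B₀] [Algebra k B₀] {C' C : Art k k} {p : C' ⟶ C}

/-- Classes of extensions of a deformation are classes of lifts of the algebra. -/
theorem nonempty_equiv_extensions (hp : Function.Surjective p) {D₀ : Data B₀ C}
    (𝒳 : DefSch (Spec (CommRingCat.of B₀)) (xB B₀) C) (e₀ : D₀.toDef.Iso 𝒳) :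
    Nonempty (Quot (fun a b : (Σ 𝒳' : DefSch (Spec (CommRingCat.of B₀)) (xB B₀) C', (𝒳'.baseChange p).Iso 𝒳) =>
        ∃ ψ : a.1.Iso b.1, ((ψ.baseChange p).trans b.2).iso = a.2.iso) ≃
      Quot (LiftRel (p := p) (D₀ := D₀))) := by
  let S := Σ 𝒳' : DefSch (Spec (CommRingCat.of B₀)) (xB B₀) C', (𝒳'.baseChange p).Iso 𝒳
  let r : S → S → Prop := fun a b => ∃ ψ : a.1.Iso b.1, ((ψ.baseChange p).trans b.2).iso = a.2.iso
  have hcomp : ∀ {a b c : DefSch (Spec (CommRingCat.of B₀)) (xB B₀) C'} (ψ : a.Iso b) (χ : b.Iso c),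
      ((ψ.trans χ).baseChange p).iso = ((ψ.baseChange p).trans (χ.baseChange p)).iso := by
    intro a b c ψ χ
    refine Iso.ext ?_
    show DefSch.pullMap (ψ.iso.hom ≫ χ.iso.hom) (ψ.trans χ).hom_f p =
      DefSch.pullMap ψ.iso.hom ψ.hom_f p ≫ DefSch.pullMap χ.iso.hom χ.hom_f p
    apply pullback.hom_ext
    · rw [Category.assoc, DefSch.pullMap_fst, DefSch.pullMap_fst, ← Category.assoc (DefSch.pullMap _ _ _),
        DefSch.pullMap_fst, Category.assoc]
    · rw [Category.assoc, DefSch.pullMap_snd, DefSch.pullMap_snd, DefSch.pullMap_snd]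
  have hrefl : ∀ a : DefSch (Spec (CommRingCat.of B₀)) (xB B₀) C',
      ((DefSch.Iso.refl a).baseChange p).iso = Iso.refl _ := by
    intro a
    refine Iso.ext ?_
    show DefSch.pullMap (𝟙 a.total) (Category.id_comp _) p = 𝟙 _
    apply pullback.hom_ext <;> simp [DefSch.pullMap]
  have heq : Equivalence r := by
    refine ⟨fun a => ⟨DefSch.Iso.refl _, ?_⟩, fun {a b} ⟨ψ, h⟩ => ⟨ψ.symm, ?_⟩, fun {a b c} ⟨ψ, h⟩ ⟨χ, h'⟩ => ⟨ψ.trans χ, ?_⟩⟩
    · show ((DefSch.Iso.refl a.1).baseChange p).iso ≪≫ a.2.iso = _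
      rw [hrefl, Iso.refl_trans]
    · show (ψ.symm.baseChange p).iso ≪≫ a.2.iso = _
      rw [← h]
      show (ψ.baseChange p).iso.symm ≪≫ (ψ.baseChange p).iso ≪≫ b.2.iso = _
      rw [← Iso.trans_assoc, Iso.symm_self_id, Iso.refl_trans]
    · show ((ψ.trans χ).baseChange p).iso ≪≫ c.2.iso = _
      rw [hcomp]
      show ((ψ.baseChange p).iso ≪≫ (χ.baseChange p).iso) ≪≫ c.2.iso = _
      rw [Iso.trans_assoc, show (χ.baseChange p).iso ≪≫ c.2.iso = b.2.iso from h']
      exact h
  let F : Lift p D₀ → S := fun a => ⟨a.D.toDef, (isoOf hp a.q).trans e₀⟩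
  have hF : ∀ a b, r (F a) (F b) ↔ LiftRel b a := by
    intro a b
    refine Iff.trans ?_ (rel_iff hp a.q b.q)
    refine exists_congr fun ψ => ?_
    show (ψ.baseChange p).iso ≪≫ ((isoOf hp b.q).iso ≪≫ e₀.iso) = (isoOf hp a.q).iso ≪≫ e₀.iso ↔
      (ψ.baseChange p).iso ≪≫ (isoOf hp b.q).iso = (isoOf hp a.q).iso
    refine ⟨fun h => ?_, fun h => by rw [← Iso.trans_assoc, h]⟩
    have h1 := congrArg (fun x => x ≪≫ e₀.iso.symm) h
    simpa only [Iso.trans_assoc, Iso.self_symm_id, Iso.trans_refl] using h1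
  let G : Quot (LiftRel (p := p) (D₀ := D₀)) → Quot r :=
    Quot.lift (fun a => Quot.mk r (F a)) fun a b h => (Quot.sound ((hF b a).2 h)).symm
  refine ⟨(Equiv.ofBijective G ⟨fun x y hxy => ?_, fun x => ?_⟩).symm⟩
  · induction x using Quot.ind with
    | _ a =>
      induction y using Quot.ind with
      | _ b =>
        exact (Quot.sound ((hF a b).1 ((Equivalence.quot_mk_eq_iff heq _ _).1 hxy))).symm
  · induction x using Quot.ind with
    | _ a =>
      obtain ⟨ξ, e⟩ := a
      obtain ⟨D, ⟨ψ⟩⟩ := exists_data ξ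
      obtain ⟨q, hq⟩ := exists_homOver hp ((ψ.symm.baseChange p).trans (e.trans e₀.symm))
      refine ⟨Quot.mk _ ⟨D, q⟩, Quot.sound ⟨ψ.symm, ?_⟩⟩
      show (ψ.symm.baseChange p).iso ≪≫ e.iso = (isoOf hp q).iso ≪≫ e₀.iso
      rw [hq]
      show _ = ((ψ.symm.baseChange p).iso ≪≫ e.iso ≪≫ e₀.iso.symm) ≪≫ e₀.iso
      simp only [Iso.trans_assoc, Iso.symm_self_id, Iso.trans_refl]

end Torsor

end Groth.Agent.Lib.ArtinFun.AffDef
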