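import Groth.Prelude.Def_ArtFun3
import Groth.Prelude.Def_ArtFun5
import Mathlib.RingTheory.HopkinsLevitzki
import Mathlib.CategoryTheory.Iso

/-!
# Basic lemmas on artinian local algebras with fixed residue field

Nilpotence of the maximal ideal, isomorphisms, small extensions, dévissage of surjections into
small extensions.
-/

universe u v

open CategoryTheory ArtFun

namespace Groth.Agent.Lib.ArtinFun

variable {Λ : Type u} {k : Type u} [CommRing Λ] [Field k] [Algebra Λ k]

lemma hom_comp_apply {A B C : Art Λ k} (f : A ⟶ B) (g : B ⟶ C) (a : A) :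
    (f ≫ g) a = g (f a) := rfl

lemma hom_ext_apply {A B : Art Λ k} {f g : A ⟶ B} (h : ∀ a, f a = g a) : f = g :=
  Art.hom_ext (AlgHom.ext h)

lemma hom_congr_apply {A B : Art Λ k} {f g : A ⟶ B} (h : f = g) (a : A) : f a = g a := by rw [h]

lemma mem_ker {A B : Art Λ k} (f : A ⟶ B) (a : A) : a ∈ RingHom.ker f.toAlgHom ↔ f a = 0 :=
  RingHom.mem_ker

lemma isUnit_iff_res {A : Art Λ k} (a : A) : IsUnit a ↔ A.res a ≠ 0 := by
  rw [Ne, ← A.mem_maximalIdeal_iff, IsLocalRing.notMem_maximalIdeal]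

lemma isNilpotent_maximalIdeal (A : Art Λ k) : IsNilpotent (IsLocalRing.maximalIdeal A) :=
  (isArtinianRing_iff_isNilpotent_maximalIdeal (A : Type u)).1 inferInstance

lemma exists_maximalIdeal_pow_eq_bot (A : Art Λ k) :
    ∃ N : ℕ, IsLocalRing.maximalIdeal A ^ N = ⊥ := by
  obtain ⟨N, hN⟩ := isNilpotent_maximalIdeal A
  exact ⟨N, by rw [hN, Ideal.zero_eq_bot]⟩

lemma ker_le_maximalIdeal {A B : Art Λ k} (f : A ⟶ B) :
    RingHom.ker f.toAlgHom ≤ IsLocalRing.maximalIdeal A := by
  intro a ha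
  rw [mem_ker] at ha
  rw [Art.mem_maximalIdeal_iff, ← Art.res_app f, ha, map_zero]

/-- A bijective morphism is an isomorphism of `Art Λ k`. -/
noncomputable def isoOfBijective {A B : Art Λ k} (f : A ⟶ B) (hf : Function.Bijective f) :
    A ≅ B where
  hom := f
  inv := ⟨((AlgEquiv.ofBijective f.toAlgHom hf).symm : B →ₐ[Λ] A), by
    apply AlgHom.ext
    intro b
    obtain ⟨a, rfl⟩ := hf.2 b
    rw [Art.res_app f a]
    exact congrArg A.res ((AlgEquiv.ofBijective f.toAlgHom hf).symm_apply_apply a)⟩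
  hom_inv_id := hom_ext_apply fun a => (AlgEquiv.ofBijective f.toAlgHom hf).symm_apply_apply a
  inv_hom_id := hom_ext_apply fun b => (AlgEquiv.ofBijective f.toAlgHom hf).apply_symm_apply b

lemma isIso_of_bijective {A B : Art Λ k} (f : A ⟶ B) (hf : Function.Bijective f) : IsIso f :=
  (isoOfBijective f hf).isIso_hom

lemma bijective_of_isIso {A B : Art Λ k} (f : A ⟶ B) [IsIso f] : Function.Bijective f := by
  refine Function.bijective_iff_has_inverse.2 ⟨fun b => (inv f) b, fun a => ?_, fun b => ?_⟩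
  · exact hom_congr_apply (IsIso.hom_inv_id f) a
  · exact hom_congr_apply (IsIso.inv_hom_id f) b

lemma bijective_map_of_isIso (F : Art Λ k ⥤ Type v) {A B : Art Λ k} (f : A ⟶ B) [IsIso f] :
    Function.Bijective (F.map f) :=
  (isIso_iff_bijective _).1 inferInstance

lemma map_map {F : Art Λ k ⥤ Type v} {A B C : Art Λ k} (f : A ⟶ B) (g : B ⟶ C) (x : F.obj A) :
    F.map g (F.map f x) = F.map (f ≫ g) x :=
  (Functor.map_comp_apply F f g x).symm

lemma map_congr {F : Art Λ k ⥤ Type v} {A B : Art Λ k} {f g : A ⟶ B} (h : f = g) (x : F.obj A) :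
    F.map f x = F.map g x := by rw [h]

lemma quotFactor_quotMk_apply {C D : Art Λ k} {K : Ideal C} (hK : K ≤ IsLocalRing.maximalIdeal C)
    (p : C ⟶ D) (hp : K ≤ RingHom.ker p.toAlgHom) (a : C) :
    Art.quotFactor hK p hp (Art.quotMk C K hK a) = p a := rfl

lemma quotMk_eq_zero_iff {C : Art Λ k} {K : Ideal C} (hK : K ≤ IsLocalRing.maximalIdeal C) (a : C) :
    Art.quotMk C K hK a = 0 ↔ a ∈ K := Ideal.Quotient.eq_zero_iff_mem

lemma ker_quotMk {C : Art Λ k} {K : Ideal C} (hK : K ≤ IsLocalRing.maximalIdeal C) :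
    RingHom.ker (Art.quotMk C K hK).toAlgHom = K := by
  ext a
  rw [mem_ker, quotMk_eq_zero_iff]

lemma quotFactor_surjective {C D : Art Λ k} {K : Ideal C} (hK : K ≤ IsLocalRing.maximalIdeal C)
    (p : C ⟶ D) (hp : K ≤ RingHom.ker p.toAlgHom) (hs : Function.Surjective p) :
    Function.Surjective (Art.quotFactor hK p hp) := by
  intro d
  obtain ⟨a, rfl⟩ := hs d
  exact ⟨Art.quotMk C K hK a, rfl⟩

lemma quotFactor_bijective {C D : Art Λ k} {K : Ideal C} (hK : K ≤ IsLocalRing.maximalIdeal C)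
    (p : C ⟶ D) (hp : RingHom.ker p.toAlgHom = K) (hs : Function.Surjective p) :
    Function.Bijective (Art.quotFactor hK p hp.ge) := by
  refine ⟨?_, quotFactor_surjective hK p hp.ge hs⟩
  intro x y hxy
  obtain ⟨a, rfl⟩ := Art.quotMk_surjective C K hK x
  obtain ⟨b, rfl⟩ := Art.quotMk_surjective C K hK y
  rw [quotFactor_quotMk_apply, quotFactor_quotMk_apply] at hxy
  rw [← sub_eq_zero, ← map_sub, quotMk_eq_zero_iff, ← hp, mem_ker, map_sub, hxy, sub_self]

/-- The transition map between the quotient objects by two ideals `K ≤ K'`. -/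
noncomputable def quotQuot (C : Art Λ k) {K K' : Ideal C} (h : K ≤ K')
    (hK' : K' ≤ IsLocalRing.maximalIdeal C) : Art.quot C K (h.trans hK') ⟶ Art.quot C K' hK' :=
  Art.quotFactor (h.trans hK') (Art.quotMk C K' hK') (h.trans (ker_quotMk hK').ge)

lemma quotQuot_quotMk_apply (C : Art Λ k) {K K' : Ideal C} (h : K ≤ K')
    (hK' : K' ≤ IsLocalRing.maximalIdeal C) (a : C) :
    quotQuot C h hK' (Art.quotMk C K (h.trans hK') a) = Art.quotMk C K' hK' a := rfl

lemma quotMk_quotQuot (C : Art Λ k) {K K' : Ideal C} (h : K ≤ K')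
    (hK' : K' ≤ IsLocalRing.maximalIdeal C) :
    Art.quotMk C K (h.trans hK') ≫ quotQuot C h hK' = Art.quotMk C K' hK' :=
  Art.quotMk_quotFactor _ _ _

lemma quotQuot_surjective (C : Art Λ k) {K K' : Ideal C} (h : K ≤ K')
    (hK' : K' ≤ IsLocalRing.maximalIdeal C) : Function.Surjective (quotQuot C h hK') :=
  quotFactor_surjective _ _ _ (Art.quotMk_surjective C K' hK')

lemma ker_quotQuot (C : Art Λ k) {K K' : Ideal C} (h : K ≤ K')
    (hK' : K' ≤ IsLocalRing.maximalIdeal C) :
    RingHom.ker (quotQuot C h hK').toAlgHom = K'.map (Ideal.Quotient.mk K) := by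
  ext x
  obtain ⟨a, rfl⟩ := Art.quotMk_surjective C K (h.trans hK') x
  rw [mem_ker, quotQuot_quotMk_apply, quotMk_eq_zero_iff]
  constructor
  · exact fun ha => Ideal.mem_map_of_mem _ ha
  · intro ha
    obtain ⟨b, hb, hab⟩ := (Ideal.mem_map_iff_of_surjective _ Ideal.Quotient.mk_surjective).1 ha
    have h' : b - a ∈ K := Ideal.Quotient.eq.1 hab
    have := Ideal.sub_mem _ hb (h h')
    rwa [sub_sub_cancel] at this

/-- Build a small extension from a generator of the kernel. -/
lemma isSmallExt_of_generator {A B : Art Λ k} (p : B ⟶ A) (hs : Function.Surjective p) (t : B)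
    (ht : RingHom.ker p.toAlgHom = Ideal.span {t}) (ht0 : t ≠ 0)
    (hm : ∀ b ∈ IsLocalRing.maximalIdeal B, b * t = 0) : Art.IsSmallExt p := by
  refine ⟨hs, ?_, ⟨⟨t, ht⟩⟩, ?_⟩
  · rw [ht, Ne, Ideal.span_singleton_eq_bot]
    exact ht0
  · rw [← le_bot_iff, ht, Ideal.mul_le]
    intro b hb x hx
    obtain ⟨c, rfl⟩ := Ideal.mem_span_singleton'.1 hx
    rw [Ideal.mem_bot, mul_left_comm, hm b hb, mul_zero]

lemma IsSemismallExt.mul_eq_zero {A B : Art Λ k} {p : B ⟶ A} (hp : Art.IsSemismallExt p)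
    {b x : B} (hb : b ∈ IsLocalRing.maximalIdeal B) (hx : p x = 0) : b * x = 0 := by
  have := Ideal.mul_mem_mul hb ((mem_ker p x).2 hx)
  rw [hp.2] at this
  exact Ideal.mem_bot.1 this

lemma IsSmallExt.exists_generator {A B : Art Λ k} {p : B ⟶ A} (hp : Art.IsSmallExt p) :
    ∃ t : B, RingHom.ker p.toAlgHom = Ideal.span {t} ∧ t ≠ 0 ∧ p t = 0 ∧
      ∀ b ∈ IsLocalRing.maximalIdeal B, b * t = 0 := by
  obtain ⟨t, ht⟩ := hp.2.2.1
  have hpt : p t = 0 := by
    rw [← mem_ker p t, ht]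
    exact Submodule.mem_span_singleton_self t
  refine ⟨t, ht, ?_, hpt, fun b hb => IsSemismallExt.mul_eq_zero hp.isSemismallExt hb hpt⟩
  rintro rfl
  apply hp.2.1
  rw [ht]
  exact Ideal.span_singleton_eq_bot.2 rfl

/-- An ideal strictly inside another one can be enlarged by an element killed into it by the
maximal ideal. -/
lemma exists_socle_mem (B : Art Λ k) {K I : Ideal B} (hKI : K < I) :
    ∃ t ∈ I, t ∉ K ∧ ∀ b ∈ IsLocalRing.maximalIdeal B, b * t ∈ K := by
  obtain ⟨N, hN⟩ := exists_maximalIdeal_pow_eq_bot B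
  suffices ∀ j : ℕ, ∀ x ∈ I, x ∉ K → (∀ y ∈ IsLocalRing.maximalIdeal B ^ j, y * x ∈ K) →
      ∃ t ∈ I, t ∉ K ∧ ∀ b ∈ IsLocalRing.maximalIdeal B, b * t ∈ K by
    obtain ⟨x, hxI, hxK⟩ := SetLike.exists_of_lt hKI
    refine this N x hxI hxK fun y hy => ?_
    rw [hN, Ideal.mem_bot] at hy
    rw [hy, zero_mul]
    exact K.zero_mem
  intro j
  induction j with
  | zero =>
    intro x _ hxK h
    exact absurd (by simpa using h 1 (by simp)) hxK
  | succ j ih =>
    intro x hxI hxK h
    by_cases h' : ∀ b ∈ IsLocalRing.maximalIdeal B, b * x ∈ K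
    · exact ⟨x, hxI, hxK, h'⟩
    · push Not at h'
      obtain ⟨b, hb, hbK⟩ := h'
      refine ih (b * x) (I.mul_mem_left b hxI) hbK fun y hy => ?_
      rw [← mul_assoc]
      exact h _ (by rw [pow_succ]; exact Ideal.mul_mem_mul hy hb)

lemma isSmallExt_quotQuot_sup_span (C : Art Λ k) {K : Ideal C} {t : C} (htK : t ∉ K)
    (hm : ∀ b ∈ IsLocalRing.maximalIdeal C, b * t ∈ K)
    (hK' : K ⊔ Ideal.span {t} ≤ IsLocalRing.maximalIdeal C) :
    Art.IsSmallExt (quotQuot C (le_sup_left : K ≤ K ⊔ Ideal.span {t}) hK') := by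
  refine isSmallExt_of_generator _ (quotQuot_surjective _ _ _)
    (Art.quotMk C K (le_sup_left.trans hK') t) ?_ ?_ ?_
  · rw [ker_quotQuot, Ideal.map_sup, Ideal.map_quotient_self, bot_sup_eq, Ideal.map_span,
      Set.image_singleton]
    rfl
  · rw [Ne, quotMk_eq_zero_iff]
    exact htK
  · intro x hx
    obtain ⟨b, rfl⟩ := Art.quotMk_surjective C K (le_sup_left.trans hK') x
    rw [Art.mem_maximalIdeal_iff, Art.res_app, ← Art.mem_maximalIdeal_iff] at hx
    rw [← map_mul, quotMk_eq_zero_iff]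
    exact hm b hx

/-- Descending induction on the ideals inside the kernel of a surjection: it suffices to treat an
ideal equal to the kernel and to pass from `K ⊔ (t)` to `K` when the maximal ideal multiplies `t`
into `K`. -/
lemma ker_induction {A B : Art Λ k} (f : B ⟶ A) (Q : Ideal B → Prop)
    (htop : Q (RingHom.ker f.toAlgHom))
    (hstep : ∀ (K : Ideal B) (t : B), t ∉ K →
      (∀ b ∈ IsLocalRing.maximalIdeal B, b * t ∈ K) →
      K ⊔ Ideal.span {t} ≤ RingHom.ker f.toAlgHom → Q (K ⊔ Ideal.span {t}) → Q K)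
    (K : Ideal B) (hK : K ≤ RingHom.ker f.toAlgHom) : Q K := by
  induction K using (wellFounded_gt (α := Ideal B)).induction with
  | h K ih =>
    rcases hK.eq_or_lt with rfl | hlt
    · exact htop
    · obtain ⟨t, htI, htK, hm⟩ := exists_socle_mem B hlt
      have hle : K ⊔ Ideal.span {t} ≤ RingHom.ker f.toAlgHom :=
        sup_le hK ((Ideal.span_singleton_le_iff_mem _).2 htI)
      refine hstep K t htK hm hle (ih _ (lt_of_le_of_ne le_sup_left fun h => htK ?_) hle)
      rw [h]
      exact Ideal.mem_sup_right (Ideal.mem_span_singleton_self t)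

/-- Every surjection is a composite of small extensions, as an induction principle. -/
theorem surjective_induction (P : ∀ ⦃A B : Art Λ k⦄, (B ⟶ A) → Prop)
    (hiso : ∀ ⦃A B : Art Λ k⦄ (e : B ⟶ A), IsIso e → P e)
    (hsmall : ∀ ⦃A B : Art Λ k⦄ (p : B ⟶ A), Art.IsSmallExt p → P p)
    (hcomp : ∀ ⦃A B C : Art Λ k⦄ (p : C ⟶ B) (q : B ⟶ A), P p → P q → P (p ≫ q))
    ⦃A B : Art Λ k⦄ (f : B ⟶ A) (hf : Function.Surjective f) : P f := by
  have key : ∀ (K : Ideal B) (hK : K ≤ RingHom.ker f.toAlgHom),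
      P (Art.quotFactor (hK.trans (ker_le_maximalIdeal f)) f hK) := by
    intro K hK
    exact ker_induction f
      (fun K => ∀ hK : K ≤ RingHom.ker f.toAlgHom,
        P (Art.quotFactor (hK.trans (ker_le_maximalIdeal f)) f hK))
      (fun _ => hiso _ (isIso_of_bijective _ (quotFactor_bijective _ f rfl hf)))
      (fun K t htK hm hle ih hK' => by
        have heq : Art.quotFactor (hK'.trans (ker_le_maximalIdeal f)) f hK' =
            quotQuot B (le_sup_left : K ≤ K ⊔ Ideal.span {t}) (hle.trans (ker_le_maximalIdeal f)) ≫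
              Art.quotFactor (hle.trans (ker_le_maximalIdeal f)) f hle := by
          apply hom_ext_apply
          intro x
          obtain ⟨a, rfl⟩ := Ideal.Quotient.mk_surjective x
          rfl
        rw [heq]
        exact hcomp _ _ (hsmall _ (isSmallExt_quotQuot_sup_span B htK hm _)) (ih hle))
      K hK hK
  have h0 : f = Art.quotMk B ⊥ bot_le ≫ Art.quotFactor bot_le f bot_le :=
    (Art.quotMk_quotFactor _ _ _).symm
  rw [h0]
  refine hcomp _ _ (hiso _ (isIso_of_bijective _ ⟨?_, Art.quotMk_surjective _ _ _⟩)) (key ⊥ bot_le)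
  intro a b hab
  rw [← sub_eq_zero, ← Ideal.mem_bot, ← quotMk_eq_zero_iff (K := (⊥ : Ideal B)) bot_le, map_sub,
    hab, sub_self]

lemma toBase_surjective (A : Art Λ k) : Function.Surjective (Art.toBase A) := A.res_surjective

/-- Induction on objects along small extensions, starting from the residue field. -/
theorem obj_induction (P : Art Λ k → Prop) (hiso : ∀ ⦃A B : Art Λ k⦄ (e : B ⟶ A), IsIso e → P A → P B)
    (hbase : P (Art.base Λ k))
    (hsmall : ∀ ⦃A B : Art Λ k⦄ (p : B ⟶ A), Art.IsSmallExt p → P A → P B) (A : Art Λ k) : P A :=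
  surjective_induction (fun A B _ => P A → P B) hiso hsmall
    (fun _ _ _ _ _ hp hq h => hp (hq h)) (Art.toBase A) (toBase_surjective A) hbase

end Groth.Agent.Lib.ArtinFun
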