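import Groth.Prelude.Def_ArtFun4
import Groth.Agent.Lib.ArtinFun.Basic
import Groth.Agent.Lib.Lim.Thickening
import Mathlib.AlgebraicGeometry.Morphisms.Flat
import Mathlib.AlgebraicGeometry.Morphisms.ClosedImmersion
import Mathlib.RingTheory.Flat.Basic
import Mathlib.LinearAlgebra.TensorProduct.RightExactness

/-!
# Deformations of affine schemes are deformations of algebras
-/

noncomputable section

universe u

open CategoryTheory CategoryTheory.Limits AlgebraicGeometry ArtFun
open scoped TensorProduct

namespace Groth.Agent.Lib.ArtinFun.AffDef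

/-- `Spec` of a ring map. -/
abbrev sp {R S : Type u} [CommRing R] [CommRing S] (f : R →+* S) :
    Spec (CommRingCat.of S) ⟶ Spec (CommRingCat.of R) :=
  Spec.map (CommRingCat.ofHom f)

lemma sp_comp {R S T : Type u} [CommRing R] [CommRing S] [CommRing T] (f : R →+* S) (g : S →+* T) :
    sp g ≫ sp f = sp (g.comp f) :=
  (Spec.map_comp (CommRingCat.ofHom f) (CommRingCat.ofHom g)).symm

lemma sp_injective {R S : Type u} [CommRing R] [CommRing S] {f g : R →+* S} (h : sp f = sp g) : f = g :=
  congrArg CommRingCat.Hom.hom (Spec.map_injective h)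

lemma exists_sp {R S : Type u} [CommRing R] [CommRing S] (φ : Spec (CommRingCat.of S) ⟶ Spec (CommRingCat.of R)) :
    ∃ f : R →+* S, sp f = φ :=
  ⟨(Spec.preimage φ).hom, Spec.map_preimage φ⟩

lemma lift_surj_apply {R S T : Type u} [CommRing R] [CommRing S] [CommRing T] (f : R →+* S)
    (hf : Function.Surjective f) (g : {g : R →+* T // RingHom.ker f ≤ RingHom.ker g}) (x : R) :
    f.liftOfSurjective hf g (f x) = g.1 x :=
  f.liftOfRightInverse_comp_apply _ _ g x

/-- The square of a quotient by an extended ideal is cocartesian. -/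
theorem isPushout_ofHom {A B R R' : Type u} [CommRing A] [CommRing B] [CommRing R] [CommRing R'] (g : A →+* B)
    (a : A →+* R) (ρ : R →+* R') (b : B →+* R') (hg : Function.Surjective g) (hρ : Function.Surjective ρ)
    (hcomm : ρ.comp a = b.comp g) (hker : RingHom.ker ρ = (RingHom.ker g).map a) :
    IsPushout (CommRingCat.ofHom a) (CommRingCat.ofHom g) (CommRingCat.ofHom ρ) (CommRingCat.ofHom b) := by
  refine ⟨⟨?_⟩, ⟨?_⟩⟩
  · exact CommRingCat.hom_ext hcomm
  have hle : ∀ s : PushoutCocone (CommRingCat.ofHom a) (CommRingCat.ofHom g),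
      RingHom.ker ρ ≤ RingHom.ker s.inl.hom := fun s => by
    rw [hker, Ideal.map_le_iff_le_comap]
    intro y hy
    have h1 : s.inl.hom (a y) = s.inr.hom (g y) := RingHom.congr_fun (congrArg CommRingCat.Hom.hom s.condition) y
    rw [Ideal.mem_comap, RingHom.mem_ker, h1, RingHom.mem_ker.1 hy, map_zero]
  refine PushoutCocone.IsColimit.mk _ (fun s => CommRingCat.ofHom (ρ.liftOfSurjective hρ ⟨s.inl.hom, hle s⟩))
    (fun s => CommRingCat.hom_ext (RingHom.ext fun r => lift_surj_apply ρ hρ ⟨s.inl.hom, hle s⟩ r))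
    (fun s => CommRingCat.hom_ext (RingHom.ext fun y => ?_)) fun s m h1 h2 => CommRingCat.hom_ext (RingHom.ext fun y => ?_)
  · obtain ⟨z, rfl⟩ := hg y
    have h1 : s.inl.hom (a z) = s.inr.hom (g z) := RingHom.congr_fun (congrArg CommRingCat.Hom.hom s.condition) z
    show ρ.liftOfSurjective hρ ⟨s.inl.hom, hle s⟩ (b (g z)) = s.inr.hom (g z)
    rw [← RingHom.comp_apply b g, ← hcomm, RingHom.comp_apply, ← h1]
    exact lift_surj_apply ρ hρ ⟨s.inl.hom, hle s⟩ (a z)
  · obtain ⟨r, rfl⟩ := hρ y
    exact (RingHom.congr_fun (congrArg CommRingCat.Hom.hom h1) r).trans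
      (lift_surj_apply ρ hρ ⟨s.inl.hom, hle s⟩ r).symm

/-- The square of a quotient by an extended ideal is cartesian. -/
theorem isPullback_sp {A B R R' : Type u} [CommRing A] [CommRing B] [CommRing R] [CommRing R'] (g : A →+* B)
    (a : A →+* R) (ρ : R →+* R') (b : B →+* R') (hg : Function.Surjective g) (hρ : Function.Surjective ρ)
    (hcomm : ρ.comp a = b.comp g) (hker : RingHom.ker ρ = (RingHom.ker g).map a) :
    IsPullback (sp ρ) (sp b) (sp a) (sp g) :=
  isPullback_SpecMap_of_isPushout _ _ _ _ (isPushout_ofHom g a ρ b hg hρ hcomm hker)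

variable {Λ : Type u} {k : Type u} [CommRing Λ] [Field k] [Algebra Λ k] (B₀ : Type u) [CommRing B₀] [Algebra k B₀]

/-- The structure map of `Spec B₀`. -/
abbrev xB : Spec (CommRingCat.of B₀) ⟶ Art.specPt k := sp (algebraMap k B₀)

/-- A deformation of the algebra `B₀`. -/
structure Data (A : Art Λ k) where
  /-- the algebra -/
  R : Type u
  [commRing : CommRing R]
  [algebra : Algebra A R]
  flat : Module.Flat A R
  /-- the reduction -/
  π : R →+* B₀
  surj : Function.Surjective π
  comm : ∀ a : A, π (algebraMap A R a) = algebraMap k B₀ (A.res a)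
  ker_π : RingHom.ker π = (RingHom.ker A.res.toRingHom).map (algebraMap A R)

attribute [instance] Data.commRing Data.algebra

variable {B₀} {A B C : Art Λ k}

instance (D : Data B₀ A) : Module.Flat A D.R := D.flat

lemma ker_res (A : Art Λ k) : RingHom.ker A.res.toRingHom = IsLocalRing.maximalIdeal A :=
  Ideal.ext fun a => (A.mem_maximalIdeal_iff a).symm

lemma isNilpotent_ker_π (D : Data B₀ A) : IsNilpotent (RingHom.ker D.π) := by
  obtain ⟨N, hN⟩ := exists_maximalIdeal_pow_eq_bot A
  exact ⟨N, by rw [D.ker_π, ← Ideal.map_pow, ker_res, hN, Ideal.map_bot]; rfl⟩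

/-- The deformation of the spectrum. -/
def Data.toDef (D : Data B₀ A) : DefSch (Spec (CommRingCat.of B₀)) (xB B₀) A where
  total := Spec (CommRingCat.of D.R)
  f := sp (algebraMap A D.R)
  flat := Flat.SpecMap_iff.2 (RingHom.flat_algebraMap_iff.2 D.flat)
  i := sp D.π
  isPullback := isPullback_sp A.res.toRingHom (algebraMap A D.R) D.π (algebraMap k B₀) A.res_surjective D.surj
    (RingHom.ext D.comm) D.ker_π

instance : IsClosedImmersion (Art.specRes A) := IsClosedImmersion.spec_of_surjective _ A.res_surjective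

instance : Surjective (Art.specRes A) := ⟨fun p => ⟨IsLocalRing.closedPoint k, PrimeSpectrum.ext (by
  show (IsLocalRing.maximalIdeal k).comap A.res.toRingHom = p.asIdeal
  haveI : ((IsLocalRing.maximalIdeal k).comap A.res.toRingHom).IsPrime := Ideal.IsPrime.comap _
  exact (IsLocalRing.eq_maximalIdeal (Ideal.isMaximal_iff_isPrime.2 ‹_›)).trans
    (IsLocalRing.eq_maximalIdeal (Ideal.isMaximal_iff_isPrime.2 p.2)).symm)⟩⟩

/-- A deformation of an affine scheme is a deformation of its algebra. -/
theorem exists_data (ξ : DefSch (Spec (CommRingCat.of B₀)) (xB B₀) A) :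
    ∃ D : Data B₀ A, Nonempty (ξ.Iso D.toDef) := by
  haveI : IsClosedImmersion ξ.i := MorphismProperty.of_isPullback ξ.isPullback.flip inferInstance
  haveI : Surjective ξ.i := MorphismProperty.of_isPullback ξ.isPullback.flip inferInstance
  haveI : IsAffine ξ.total := Lim.Thickening.isAffine_of_surjective ξ.i
  let R : Type u := Γ(ξ.total, ⊤)
  let e : ξ.total ≅ Spec (CommRingCat.of R) := ξ.total.isoSpec
  obtain ⟨a, ha⟩ := exists_sp (e.inv ≫ ξ.f)
  obtain ⟨π, hπ⟩ := exists_sp (ξ.i ≫ e.hom)
  letI : Algebra A R := a.toAlgebra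
  have hflat : Module.Flat A R := by
    haveI : Flat ξ.f := ξ.flat
    have h1 : Flat (sp a) := by rw [ha]; infer_instance
    exact RingHom.flat_algebraMap_iff.1 (Flat.SpecMap_iff.1 h1)
  have hsq : IsPullback (sp π) (xB B₀) (sp a) (Art.specRes A) := by
    refine IsPullback.of_iso ξ.isPullback (Iso.refl _) e (Iso.refl _) (Iso.refl _) ?_ ?_ ?_ ?_
    · rw [Iso.refl_hom, Category.id_comp, hπ]
    · simp
    · rw [Iso.refl_hom, Category.comp_id, ha, Iso.hom_inv_id_assoc]
    · simp
  let J : Ideal R := (RingHom.ker A.res.toRingHom).map a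
  have hJ : RingHom.ker A.res.toRingHom ≤ RingHom.ker ((Ideal.Quotient.mk J).comp a) := fun y hy => by
    rw [RingHom.mem_ker, RingHom.comp_apply, Ideal.Quotient.eq_zero_iff_mem]
    exact Ideal.mem_map_of_mem _ hy
  let b : k →+* R ⧸ J := A.res.toRingHom.liftOfSurjective A.res_surjective ⟨(Ideal.Quotient.mk J).comp a, hJ⟩
  have hq : IsPullback (sp (Ideal.Quotient.mk J)) (sp b) (sp a) (Art.specRes A) :=
    isPullback_sp _ _ _ b A.res_surjective Ideal.Quotient.mk_surjective
      (RingHom.ext fun y => (lift_surj_apply A.res.toRingHom A.res_surjective ⟨_, hJ⟩ y).symm) Ideal.mk_ker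
  obtain ⟨θ, hθ⟩ := exists_sp (hsq.isoIsPullback _ _ hq).hom
  obtain ⟨θ', hθ'⟩ := exists_sp (hsq.isoIsPullback _ _ hq).inv
  have h1 : θ.comp (Ideal.Quotient.mk J) = π := sp_injective (by
    rw [← sp_comp, hθ, IsPullback.isoIsPullback_hom_fst])
  have h2 : θ.comp θ' = RingHom.id _ := sp_injective (by
    rw [← sp_comp, hθ, hθ', Iso.hom_inv_id]
    exact (Spec.map_id _).symm)
  have h3 : θ'.comp θ = RingHom.id _ := sp_injective (by
    rw [← sp_comp, hθ, hθ', Iso.inv_hom_id]
    exact (Spec.map_id _).symm)
  let D : Data B₀ A :=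
    { R := R
      flat := hflat
      π := π
      surj := fun y => by
        obtain ⟨r, hr⟩ := Ideal.Quotient.mk_surjective (θ' y)
        exact ⟨r, by rw [← h1, RingHom.comp_apply, hr]; exact RingHom.congr_fun h2 y⟩
      comm := fun y => RingHom.congr_fun (sp_injective (f := π.comp a) (g := (algebraMap k B₀).comp A.res.toRingHom) (by
        rw [← sp_comp, ← sp_comp]; exact hsq.w)) y
      ker_π := Ideal.ext fun r => by
        rw [← h1, RingHom.mem_ker, RingHom.comp_apply]
        constructor
        · intro hr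
          have := congrArg θ' hr
          rw [map_zero, ← RingHom.comp_apply θ', h3, RingHom.id_apply] at this
          exact Ideal.Quotient.eq_zero_iff_mem.1 this
        · intro hr
          exact (congrArg θ (Ideal.Quotient.eq_zero_iff_mem.2 (show r ∈ J from hr))).trans (map_zero θ) }
  exact ⟨D, ⟨⟨e, (by show e.hom ≫ sp a = ξ.f; rw [ha, Iso.hom_inv_id_assoc]), hπ.symm⟩⟩⟩

/-- Maps of deformations are bijective. -/
theorem bijective_of_compat (D D' : Data B₀ A) (φ : D'.R →ₐ[A] D.R) (hφ : ∀ r, D.π (φ r) = D'.π r) :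
    Function.Bijective φ := by
  obtain ⟨N, hN⟩ := exists_maximalIdeal_pow_eq_bot A
  let m := IsLocalRing.maximalIdeal A
  have hsurj : Function.Surjective φ := by
    have h : ∀ (n : ℕ) (r : D.R), ∃ s, r - φ s ∈ (m ^ n).map (algebraMap A D.R) := by
      intro n
      induction n with
      | zero => exact fun r => ⟨0, by rw [pow_zero, Ideal.one_eq_top, Ideal.map_top]; trivial⟩
      | succ n ih =>
        intro r
        obtain ⟨s, hs⟩ := ih r
        have key : ∀ y ∈ (m ^ n).map (algebraMap A D.R), ∃ t, y - φ t ∈ (m ^ (n + 1)).map (algebraMap A D.R) := by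
          intro y hy
          rw [Ideal.map, Ideal.span] at hy
          induction hy using Submodule.span_induction with
          | mem y hy =>
            obtain ⟨c, hc, rfl⟩ := hy
            exact ⟨algebraMap A D'.R c, by rw [φ.commutes, sub_self]; exact zero_mem _⟩
          | zero => exact ⟨0, by rw [map_zero, sub_zero]; exact zero_mem _⟩
          | add y z _ _ hy hz =>
            obtain ⟨s, hs⟩ := hy
            obtain ⟨t, ht⟩ := hz
            exact ⟨s + t, by rw [map_add, add_sub_add_comm]; exact add_mem hs ht⟩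
          | smul c y hy' hy =>
            obtain ⟨t, ht⟩ := hy
            obtain ⟨u, hu⟩ := D'.surj (D.π c)
            refine ⟨u * t, ?_⟩
            have h1 : c - φ u ∈ RingHom.ker D.π := by rw [RingHom.mem_ker, map_sub, hφ, hu, sub_self]
            rw [D.ker_π, ker_res] at h1
            have h2 : (c - φ u) * y ∈ (m ^ (n + 1)).map (algebraMap A D.R) := by
              rw [pow_succ', Ideal.map_mul]
              exact Ideal.mul_mem_mul h1 hy'
            rw [map_mul, smul_eq_mul, show c * y - φ u * φ t = (c - φ u) * y + φ u * (y - φ t) by ring]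
            exact add_mem h2 (Ideal.mul_mem_left _ _ ht)
        obtain ⟨t, ht⟩ := key _ hs
        exact ⟨s + t, by rwa [map_add, ← sub_sub]⟩
    intro r
    obtain ⟨s, hs⟩ := h N r
    rw [hN, Ideal.map_bot, Ideal.mem_bot, sub_eq_zero] at hs
    exact ⟨s, hs.symm⟩
  refine ⟨?_, hsurj⟩
  let K : Submodule A D'.R := LinearMap.ker φ.toLinearMap
  have hK : K ≤ m • K := by
    intro x hx
    have h1 : x ∈ RingHom.ker D'.π := by rw [RingHom.mem_ker, ← hφ, show φ x = 0 from hx, map_zero]
    rw [D'.ker_π, ker_res] at h1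
    have h2 : x ∈ m • (⊤ : Submodule A D'.R) := by rw [Ideal.smul_top_eq_map]; exact h1
    let μ : m ⊗[A] D'.R →ₗ[A] D'.R := TensorProduct.lift ((LinearMap.lsmul A D'.R).comp m.subtype)
    obtain ⟨ξ, hξ⟩ : x ∈ LinearMap.range μ :=
      Submodule.smul_induction_on h2 (fun a ha e _ => ⟨⟨a, ha⟩ ⊗ₜ e, rfl⟩) fun y z hy hz => add_mem hy hz
    let ν : m ⊗[A] D.R →ₗ[A] D.R := TensorProduct.lift ((LinearMap.lsmul A D.R).comp m.subtype)
    have hν : ν ∘ₗ φ.toLinearMap.lTensor m = φ.toLinearMap ∘ₗ μ :=
      TensorProduct.ext' fun a e => (map_smul φ.toLinearMap (a : A) e).symm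
    have hinj : Function.Injective ν := by
      have : ν = (TensorProduct.lid A D.R).toLinearMap ∘ₗ m.subtype.rTensor D.R :=
        TensorProduct.ext' fun a b => rfl
      rw [this]
      exact (TensorProduct.lid A D.R).injective.comp
        (Module.Flat.rTensor_preserves_injective_linearMap _ m.injective_subtype)
    have h3 : φ.toLinearMap.lTensor m ξ = 0 := hinj (by
      refine (LinearMap.congr_fun hν ξ).trans ?_
      rw [LinearMap.comp_apply, hξ, map_zero]
      exact hx)
    obtain ⟨η, rfl⟩ := ((lTensor_exact m (LinearMap.exact_subtype_ker_map φ.toLinearMap) hsurj) ξ).1 h3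
    rw [← hξ]
    clear hξ h3
    induction η using TensorProduct.induction_on with
    | zero => rw [map_zero, map_zero]; exact zero_mem _
    | add y z hy hz => rw [map_add, map_add]; exact add_mem hy hz
    | tmul a e => exact Submodule.smul_mem_smul a.2 e.2
  have hn : ∀ n : ℕ, K ≤ m ^ n • K := by
    intro n
    induction n with
    | zero => rw [pow_zero, Ideal.one_eq_top, Submodule.top_smul]
    | succ n ih => rw [pow_succ, mul_smul]; exact ih.trans (smul_mono_right _ hK)
  rw [injective_iff_map_eq_zero]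
  intro x hx
  have := hn N (show x ∈ K from hx)
  rwa [hN, Submodule.bot_smul, Submodule.mem_bot] at this

/-- A map of deformations of algebras. -/
structure Data.Hom (D' D : Data B₀ A) where
  /-- the map -/
  toAlgHom : D'.R →ₐ[A] D.R
  compat : ∀ r, D.π (toAlgHom r) = D'.π r

/-- A morphism of algebras gives an isomorphism of deformations. -/
def Data.Hom.toIso {D D' : Data B₀ A} (φ : D'.Hom D) : D.toDef.Iso D'.toDef :=
  let e : D'.R ≃+* D.R := RingEquiv.ofBijective φ.toAlgHom.toRingHom (bijective_of_compat D D' _ φ.compat)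
  { iso :=
      { hom := sp φ.toAlgHom.toRingHom
        inv := sp e.symm.toRingHom
        hom_inv_id := by
          refine (sp_comp _ _).trans ?_
          rw [show φ.toAlgHom.toRingHom.comp e.symm.toRingHom = RingHom.id _ from RingHom.ext e.apply_symm_apply]
          exact Spec.map_id _
        inv_hom_id := by
          refine (sp_comp _ _).trans ?_
          rw [show e.symm.toRingHom.comp φ.toAlgHom.toRingHom = RingHom.id _ from RingHom.ext e.symm_apply_apply]
          exact Spec.map_id _ }
    hom_f := (sp_comp _ _).trans (congrArg sp φ.toAlgHom.comp_algebraMap)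
    i_hom := (sp_comp _ _).trans (congrArg sp (RingHom.ext φ.compat)) }

lemma exists_hom_of_morph {D D' : Data B₀ A} (h : D.toDef.total ⟶ D'.toDef.total)
    (h1 : h ≫ D'.toDef.f = D.toDef.f) (h2 : D.toDef.i ≫ h = D'.toDef.i) :
    ∃ φ : D'.Hom D, sp φ.toAlgHom.toRingHom = h := by
  obtain ⟨f, rfl⟩ := exists_sp h
  refine ⟨⟨⟨f, fun a => RingHom.congr_fun (sp_injective (f := f.comp (algebraMap A D'.R)) ((sp_comp _ _).symm.trans h1)) a⟩,
    fun r => RingHom.congr_fun (sp_injective (f := D.π.comp f) ((sp_comp _ _).symm.trans h2)) r⟩, rfl⟩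

/-- Isomorphisms of deformations of affine schemes are isomorphisms of algebras. -/
theorem nonempty_iso_iff (D D' : Data B₀ A) : Nonempty (D.toDef.Iso D'.toDef) ↔ Nonempty (D'.Hom D) :=
  ⟨fun ⟨e⟩ => ⟨(exists_hom_of_morph e.iso.hom e.hom_f e.i_hom).choose⟩, fun ⟨φ⟩ => ⟨φ.toIso⟩⟩

/-- A map of deformations over a morphism of the bases. -/
structure Data.HomOver (D : Data B₀ A) (D' : Data B₀ B) (g : A ⟶ B) where
  /-- the map -/
  q : D.R →+* D'.R
  comm : ∀ a : A, q (algebraMap A D.R a) = algebraMap B D'.R (g a)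
  compat : ∀ r, D'.π (q r) = D.π r

variable {D : Data B₀ A} {D' : Data B₀ B} {g : A ⟶ B} (hg : Function.Surjective g) (q : D.HomOver D' g)

namespace Data.HomOver

include hg q in
lemma surjective : Function.Surjective q.q := by
  obtain ⟨N, hN⟩ := exists_maximalIdeal_pow_eq_bot B
  let m := IsLocalRing.maximalIdeal B
  have h : ∀ (n : ℕ) (r : D'.R), ∃ s, r - q.q s ∈ (m ^ n).map (algebraMap B D'.R) := by
    intro n
    induction n with
    | zero => exact fun r => ⟨0, by rw [pow_zero, Ideal.one_eq_top, Ideal.map_top]; trivial⟩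
    | succ n ih =>
      intro r
      obtain ⟨s, hs⟩ := ih r
      have key : ∀ y ∈ (m ^ n).map (algebraMap B D'.R), ∃ t, y - q.q t ∈ (m ^ (n + 1)).map (algebraMap B D'.R) := by
        intro y hy
        rw [Ideal.map, Ideal.span] at hy
        induction hy using Submodule.span_induction with
        | mem y hy =>
          obtain ⟨c, hc, rfl⟩ := hy
          obtain ⟨c', rfl⟩ := hg c
          exact ⟨algebraMap A D.R c', by rw [q.comm, sub_self]; exact zero_mem _⟩
        | zero => exact ⟨0, by rw [map_zero, sub_zero]; exact zero_mem _⟩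
        | add y z _ _ hy hz =>
          obtain ⟨s, hs⟩ := hy
          obtain ⟨t, ht⟩ := hz
          exact ⟨s + t, by rw [map_add, add_sub_add_comm]; exact add_mem hs ht⟩
        | smul c y hy' hy =>
          obtain ⟨t, ht⟩ := hy
          obtain ⟨u, hu⟩ := D.surj (D'.π c)
          refine ⟨u * t, ?_⟩
          have h1 : c - q.q u ∈ RingHom.ker D'.π := by rw [RingHom.mem_ker, map_sub, q.compat, hu, sub_self]
          rw [D'.ker_π, ker_res] at h1
          have h2 : (c - q.q u) * y ∈ (m ^ (n + 1)).map (algebraMap B D'.R) := by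
            rw [pow_succ', Ideal.map_mul]
            exact Ideal.mul_mem_mul h1 hy'
          rw [map_mul, smul_eq_mul, show c * y - q.q u * q.q t = (c - q.q u) * y + q.q u * (y - q.q t) by ring]
          exact add_mem h2 (Ideal.mul_mem_left _ _ ht)
      obtain ⟨t, ht⟩ := key _ hs
      exact ⟨s + t, by rwa [map_add, ← sub_sub]⟩
  intro r
  obtain ⟨s, hs⟩ := h N r
  rw [hN, Ideal.map_bot, Ideal.mem_bot, sub_eq_zero] at hs
  exact ⟨s, hs.symm⟩

include hg q in
lemma ker_eq : RingHom.ker q.q = (RingHom.ker g.toAlgHom.toRingHom).map (algebraMap A D.R) := by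
  let J := RingHom.ker g.toAlgHom.toRingHom
  let I : Ideal D.R := J.map (algebraMap A D.R)
  have hIq : I ≤ RingHom.ker q.q := Ideal.map_le_iff_le_comap.2 fun a ha => by
    rw [Ideal.mem_comap, RingHom.mem_ker, q.comm, show g a = 0 from ha, map_zero]
  refine le_antisymm ?_ hIq
  let b : (B : Type u) →+* D.R ⧸ I := g.toAlgHom.toRingHom.liftOfSurjective hg
    ⟨(Ideal.Quotient.mk I).comp (algebraMap A D.R), fun y hy => by
      rw [RingHom.mem_ker, RingHom.comp_apply, Ideal.Quotient.eq_zero_iff_mem]
      exact Ideal.mem_map_of_mem _ hy⟩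
  have hb : ∀ a, b (g a) = Ideal.Quotient.mk I (algebraMap A D.R a) := fun a =>
    lift_surj_apply g.toAlgHom.toRingHom hg _ a
  let f : D.R ⧸ I →+* D'.R := Ideal.Quotient.lift I q.q hIq
  have hflat : b.Flat := by
    letI : Algebra B (D.R ⧸ I) := b.toAlgebra
    letI : Algebra A B := g.toAlgHom.toRingHom.toAlgebra
    haveI : IsScalarTower A B (D.R ⧸ I) := IsScalarTower.of_algebraMap_eq fun a => (hb a).symm
    have : Algebra.IsPushout A B D.R (D.R ⧸ I) := (CommRingCat.isPushout_iff_isPushout).1
      (isPushout_ofHom g.toAlgHom.toRingHom (algebraMap A D.R) (Ideal.Quotient.mk I) b hg Ideal.Quotient.mk_surjective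
        (RingHom.ext fun a => (hb a).symm) Ideal.mk_ker).flip
    exact RingHom.flat_algebraMap_iff.2 (Module.Flat.isBaseChange A B D.R (D.R ⧸ I) this.out)
  letI : Algebra B (D.R ⧸ I) := b.toAlgebra
  let E : Data B₀ B :=
    { R := D.R ⧸ I
      flat := RingHom.flat_algebraMap_iff.1 hflat
      π := Ideal.Quotient.lift I D.π fun r hr => by
        rw [← q.compat, RingHom.mem_ker.1 (hIq hr), map_zero]
      surj := fun y => by
        obtain ⟨r, rfl⟩ := D.surj y
        exact ⟨Ideal.Quotient.mk I r, rfl⟩
      comm := fun y => by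
        obtain ⟨a, rfl⟩ := hg y
        show Ideal.Quotient.lift I D.π _ (b (g a)) = _
        rw [hb, Ideal.Quotient.lift_mk, D.comm, show A.res a = B.res (g a) from (Art.res_app g a).symm]
      ker_π := by
        refine Ideal.ext fun y => ?_
        obtain ⟨r, rfl⟩ := Ideal.Quotient.mk_surjective y
        have hm : (RingHom.ker A.res.toRingHom).map (g.toAlgHom.toRingHom) = RingHom.ker B.res.toRingHom := by
          refine Ideal.ext fun c => ?_
          rw [Ideal.mem_map_iff_of_surjective g.toAlgHom.toRingHom hg]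
          constructor
          · rintro ⟨a, ha, rfl⟩
            exact (Art.res_app g a).trans ha
          · intro hc
            obtain ⟨a, rfl⟩ := hg c
            exact ⟨a, (Art.res_app g a).symm.trans hc, rfl⟩
        have hmap : (RingHom.ker A.res.toRingHom).map ((Ideal.Quotient.mk I).comp (algebraMap A D.R)) =
            (RingHom.ker B.res.toRingHom).map b := by
          rw [← hm, Ideal.map_map]
          exact congrArg (fun h => Ideal.map h _) (RingHom.ext fun a => (hb a).symm)
        rw [RingHom.mem_ker, Ideal.Quotient.lift_mk, ← RingHom.mem_ker, D.ker_π]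
        show _ ↔ Ideal.Quotient.mk I r ∈ (RingHom.ker B.res.toRingHom).map b
        rw [← hmap, ← Ideal.map_map, Ideal.mem_map_iff_of_surjective _ Ideal.Quotient.mk_surjective]
        constructor
        · exact fun h => ⟨r, h, rfl⟩
        · rintro ⟨r', hr', he⟩
          have h5 : r' - r ∈ (RingHom.ker A.res.toRingHom).map (algebraMap A D.R) :=
            (Ideal.map_mono (fun a ha => by
              show A.res a = 0
              rw [← Art.res_app g a, show g a = 0 from ha, map_zero]) : I ≤ _) (Ideal.Quotient.eq.1 he)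
          have := sub_mem hr' h5
          rwa [sub_sub_cancel] at this }
  let φ : E.Hom D' :=
    { toAlgHom := AlgHom.mk f (fun y => by
        obtain ⟨a, rfl⟩ := hg y
        show f (b (g a)) = _
        rw [hb]
        exact q.comm a)
      compat := fun r => by
        obtain ⟨r, rfl⟩ := Ideal.Quotient.mk_surjective r
        exact q.compat r }
  intro r hr
  exact Ideal.Quotient.eq_zero_iff_mem.1 ((bijective_of_compat D' E φ.toAlgHom φ.compat).1
    ((hr : q.q r = 0).trans (map_zero φ.toAlgHom).symm))

end Data.HomOver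

end Groth.Agent.Lib.ArtinFun.AffDef
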