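import Groth.Agent.Lib.ArtinFun.AffBaseChange
import Groth.Agent.Lib.CotTwo.Exalcom

/-!
# Deformations over the residue field and changes of coefficients
-/

noncomputable section

universe u

open CategoryTheory CategoryTheory.Limits AlgebraicGeometry ArtFun Exal
open scoped TensorProduct

attribute [local instance] Exal.opModule Exal.isCentralScalar_opModule

namespace Groth.Agent.Lib.ArtinFun.AffDef

section Base

variable {Λ : Type u} {k : Type u} [CommRing Λ] [Field k] [Algebra Λ k] {X : Scheme.{u}} {x : X ⟶ Art.specPt k}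

lemma isIso_i (ξ : DefSch X x (Art.base Λ k)) : CategoryTheory.IsIso ξ.i :=
  ξ.isPullback.isIso_fst_of_isIso

/-- Two deformations over the residue field are isomorphic. -/
def isoBase (ξ ξ' : DefSch X x (Art.base Λ k)) : ξ.Iso ξ' :=
  haveI := isIso_i ξ
  haveI := isIso_i ξ'
  { iso := (asIso ξ.i).symm ≪≫ asIso ξ'.i
    hom_f := by
      show (inv ξ.i ≫ ξ'.i) ≫ ξ'.f = ξ.f
      rw [Category.assoc, ξ'.i_f, ← ξ.i_f, CategoryTheory.IsIso.inv_hom_id_assoc]
    i_hom := by
      show ξ.i ≫ inv ξ.i ≫ ξ'.i = ξ'.i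
      rw [CategoryTheory.IsIso.hom_inv_id_assoc] }

lemma iso_base_ext {ξ ξ' : DefSch X x (Art.base Λ k)} (e e' : ξ.Iso ξ') : e.iso = e'.iso := by
  haveI := isIso_i ξ
  refine Iso.ext ?_
  rw [← cancel_epi ξ.i, e.i_hom, e'.i_hom]

/-- Extensions of the deformation over the residue field are deformations. -/
theorem nonempty_equiv_quot_base {A : Art Λ k} (p : A ⟶ Art.base Λ k) (𝒳 : DefSch X x (Art.base Λ k)) :
    Nonempty ((defFunctor X x).obj A ≃ Quot (fun a b : (Σ 𝒳' : DefSch X x A, (𝒳'.baseChange p).Iso 𝒳) =>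
        ∃ ψ : a.1.Iso b.1, ((ψ.baseChange p).trans b.2).iso = a.2.iso)) :=
  ⟨{ toFun := Quotient.lift (fun ξ => Quot.mk _ ⟨ξ, isoBase _ _⟩)
        fun _ _ ⟨ψ⟩ => Quot.sound ⟨ψ, iso_base_ext _ _⟩
     invFun := Quot.lift (fun a => a.1.cl) fun _ _ ⟨ψ, _⟩ => Quotient.sound ⟨ψ⟩
     left_inv := fun x => by induction x using Quotient.ind with | _ ξ => rfl
     right_inv := fun x => by
       induction x using Quot.ind with
       | _ a => exact Quot.sound ⟨DefSch.Iso.refl _, iso_base_ext _ _⟩ }⟩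

end Base

lemma trivial_cl_map {k : Type u} [Field k] {X : Scheme.{u}} {x : X ⟶ Art.specPt k} (hx : Flat x)
    {A B : Art k k} (g : A ⟶ B) :
    (defFunctor X x).map g (DefSch.trivial X x hx A).cl = (DefSch.trivial X x hx B).cl := by
  show (defFunctor X x).map g ((defFunctor X x).map (Art.ofBase A) (DefSch.self X x hx).cl) =
    (defFunctor X x).map (Art.ofBase B) (DefSch.self X x hx).cl
  rw [map_map]
  exact map_congr (hom_ext_apply fun c => g.toAlgHom.commutes c) _

section Congr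

variable {A B : Type u} [CommRing A] [CommRing B] [Algebra A B] {L L' : Type u}
  [AddCommGroup L] [Module B L] [AddCommGroup L'] [Module B L']

/-- An extension pushed along an isomorphism of kernels. -/
@[reducible] def extCongr (e : L ≃ₗ[B] L') (X : Ext A B L) : Ext A B L' where
  E := X.E
  proj := X.proj
  incl := X.incl.comp (e.symm : L' →ₗ[B] L).toAddMonoidHom
  isExtension :=
    { proj_surjective := X.isExtension.proj_surjective
      incl_injective := X.isExtension.incl_injective.comp e.symm.injective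
      exact := fun x => (X.isExtension.exact x).trans
        ⟨fun ⟨z, hz⟩ => ⟨e z, by rw [← hz]; exact congrArg X.incl (e.symm_apply_apply z)⟩, fun ⟨z, hz⟩ => ⟨_, hz⟩⟩
      mul_incl := fun x z => (X.isExtension.mul_incl x _).trans (congrArg X.incl (map_smul e.symm _ _).symm) }

/-- Classes of extensions by isomorphic modules. -/
def exalcomCongr (e : L ≃ₗ[B] L') : Exalcom A B L ≃ Exalcom A B L' where
  toFun := Quotient.map' (extCongr e) fun _ _ ⟨φ⟩ => ⟨⟨φ.toAlgEquiv, φ.proj_apply, fun z => φ.apply_incl _⟩⟩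
  invFun := Quotient.map' (extCongr e.symm) fun _ _ ⟨φ⟩ => ⟨⟨φ.toAlgEquiv, φ.proj_apply, fun z => φ.apply_incl _⟩⟩
  left_inv x := by
    induction x using Quotient.inductionOn' with
    | h X => exact Quotient.sound ⟨⟨AlgEquiv.refl, fun _ => rfl, fun z => congrArg X.incl (e.symm_apply_apply z)⟩⟩
  right_inv x := by
    induction x using Quotient.inductionOn' with
    | h X => exact Quotient.sound ⟨⟨AlgEquiv.refl, fun _ => rfl, fun z => congrArg X.incl (e.apply_symm_apply z)⟩⟩

lemma subsingleton_exalcom (h : ∀ E : Ext A B L, E.IsTrivial) : Subsingleton (Exalcom A B L) := by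
  refine ⟨fun x y => ?_⟩
  induction x using Quotient.ind with
  | _ X =>
    induction y using Quotient.ind with
    | _ Y =>
      obtain ⟨e⟩ := Ext.nonempty_equiv_trivial X (h X)
      obtain ⟨f⟩ := Ext.nonempty_equiv_trivial Y (h Y)
      exact Quotient.sound ⟨e.symm.trans f⟩

end Congr

variable {k : Type u} [Field k] {C' C : Art k k} {p : C' ⟶ C}

/-- The kernel of a small extension is `k`. -/
theorem nonempty_ker_equiv (hp : Art.IsSmallExt p) : Nonempty (k ≃ₗ[k] Ker p) := by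
  obtain ⟨t, ht⟩ := hp.2.2.1.principal
  have htm : t ∈ Ker p := ht.ge (Ideal.mem_span_singleton_self t)
  refine ⟨LinearEquiv.ofBijective (LinearMap.toSpanSingleton k (Ker p) ⟨t, htm⟩) ⟨?_, fun j => ?_⟩⟩
  · refine smul_left_injective k fun h => hp.2.1 ?_
    rw [ht, show t = 0 from congrArg Subtype.val h]
    exact Ideal.span_singleton_eq_bot.2 rfl
  · obtain ⟨c, hc⟩ := Ideal.mem_span_singleton'.1 (ht.le j.2)
    refine ⟨C'.res c, ?_⟩
    show C'.res c • (⟨t, htm⟩ : Ker p) = j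
    rw [← smul_eq_res_smul hp.isSemismallExt]
    exact Subtype.ext hc

variable {B₀ : Type u} [CommRing B₀] [Algebra k B₀]

/-- `B₀ ⊗ J` for a one-dimensional `J`. -/
theorem nonempty_tensor_equiv (e : k ≃ₗ[k] Ker p) : Nonempty (B₀ ⊗[k] Ker p ≃ₗ[B₀] B₀) :=
  ⟨(TensorProduct.AlgebraTensorModule.congr (LinearEquiv.refl B₀ B₀) e.symm).trans
    (TensorProduct.AlgebraTensorModule.rid k B₀ B₀)⟩

/-- The torsor statement for deformations of affine schemes. -/
theorem nonempty_equiv_extensions_exalcom (hp : Art.IsSemismallExt p)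
    (𝒳 : DefSch (Spec (CommRingCat.of B₀)) (xB B₀) C)
    (hne : ∃ 𝒳' : DefSch (Spec (CommRingCat.of B₀)) (xB B₀) C', Nonempty ((𝒳'.baseChange p).Iso 𝒳)) :
    Nonempty (Quot (fun a b : (Σ 𝒳' : DefSch (Spec (CommRingCat.of B₀)) (xB B₀) C', (𝒳'.baseChange p).Iso 𝒳) =>
        ∃ ψ : a.1.Iso b.1, ((ψ.baseChange p).trans b.2).iso = a.2.iso) ≃ Exalcom k B₀ (B₀ ⊗[k] Ker p)) := by
  obtain ⟨D₀, ⟨e₀⟩⟩ := exists_data 𝒳
  obtain ⟨ξ, ⟨e⟩⟩ := hne
  obtain ⟨D, ⟨ψ⟩⟩ := exists_data ξ
  obtain ⟨q, -⟩ := exists_homOver hp.1 ((ψ.symm.baseChange p).trans (e.trans e₀))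
  obtain ⟨E₁⟩ := nonempty_equiv_extensions hp.1 𝒳 e₀.symm
  obtain ⟨E₂⟩ := nonempty_equiv_exalcom hp (⟨D, q⟩ : Lift p D₀)
  exact ⟨E₁.trans E₂⟩

end Groth.Agent.Lib.ArtinFun.AffDef
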