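import Groth.Agent.Lib.ArtinFun.Approx
import Groth.Agent.Lib.ArtinFun.HR
import Mathlib.RingTheory.AdicCompletion.Noetherian
import Mathlib.Tactic.TFAE

/-!
# Coefficient rings: surjectivity criteria, generators, truncations and formal elements
-/

universe u v

open CategoryTheory ArtFun

set_option linter.style.haveILetI false

namespace Groth.Agent.Lib.ArtinFun

variable {Λ : Type u} {k : Type u} [CommRing Λ] [Field k] [Algebra Λ k]

lemma isPrecomplete_cRing (R : CRing Λ k) :
    IsPrecomplete (IsLocalRing.maximalIdeal R.carrier) R.carrier :=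
  R.isAdicComplete.toIsPrecomplete

lemma isHausdorff_cRing (R : CRing Λ k) :
    IsHausdorff (IsLocalRing.maximalIdeal R.carrier) R.carrier :=
  R.isAdicComplete.toIsHausdorff

lemma ker_res_cRing (R : CRing Λ k) :
    RingHom.ker R.res = IsLocalRing.maximalIdeal R.carrier := by
  ext a
  rw [RingHom.mem_ker, CRing.mem_maximalIdeal_iff]

lemma ker_res_art (A : Art Λ k) : RingHom.ker A.res = IsLocalRing.maximalIdeal A := by
  ext a
  rw [RingHom.mem_ker, Art.mem_maximalIdeal_iff]

lemma fg_maximalIdeal (R : CRing Λ k) : (IsLocalRing.maximalIdeal R.carrier).FG :=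
  IsNoetherian.noetherian _

/-- Surjectivity of a map onto an augmented local ring is read on cotangent spaces. -/
theorem surjective_of_map_sup_sq {R S : Type u} [CommRing R] [Algebra Λ R] [CommRing S]
    [IsLocalRing S] [IsNoetherianRing S] [Algebra Λ S] (resS : S →ₐ[Λ] k)
    (hS : Function.Surjective resS) (resR : R →ₐ[Λ] k) (hR : Function.Surjective resR)
    [IsPrecomplete (RingHom.ker resR) R] (f : R →ₐ[Λ] S) (hf : resS.comp f = resR)
    (h : (RingHom.ker resR).map f ⊔ IsLocalRing.maximalIdeal S ^ 2 = IsLocalRing.maximalIdeal S) :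
    Function.Surjective f :=
  surjective_of_isPrecomplete (f : R →+* S) (RingHom.ker resR)
    (exists_mem_maximalIdeal_sub resS hS f resR hR hf)
    (map_eq_maximalIdeal_of_sup_sq (f : R →+* S) (RingHom.ker resR) (IsNoetherian.noetherian _) h)

lemma isPrecomplete_ker_res_art (A : Art Λ k) : IsPrecomplete (RingHom.ker A.res) A := by
  rw [ker_res_art]
  obtain ⟨N, hN⟩ := exists_maximalIdeal_pow_eq_bot A
  refine ⟨fun f hf => ⟨f N, fun n => ?_⟩⟩
  rcases le_total n N with h | h
  · exact hf h
  · have h1 := (smodEq_iff_sub_mem (IsLocalRing.maximalIdeal A) N (f N) (f n)).1 (hf h)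
    rw [hN, Ideal.mem_bot, sub_eq_zero] at h1
    rw [h1]

theorem tfae_surjective {R S : Type u} [CommRing R] [IsLocalRing R] [Algebra Λ R] [CommRing S]
    [IsLocalRing S] [IsNoetherianRing S] [Algebra Λ S] (resS : S →ₐ[Λ] k)
    (hS : Function.Surjective resS) (resR : R →ₐ[Λ] k) (hR : Function.Surjective resR)
    [IsPrecomplete (RingHom.ker resR) R] (f : R →ₐ[Λ] S) (hf : resS.comp f = resR) :
    List.TFAE [Function.Surjective f,
      Ideal.map f (IsLocalRing.maximalIdeal R) ⊔ IsLocalRing.maximalIdeal S ^ 2 =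
        IsLocalRing.maximalIdeal S,
      Ideal.map (algebraMap Λ S) (RingHom.ker (algebraMap Λ k)) ⊔
        Ideal.map f (IsLocalRing.maximalIdeal R) ⊔ IsLocalRing.maximalIdeal S ^ 2 =
        IsLocalRing.maximalIdeal S] := by
  have hker : RingHom.ker resR = IsLocalRing.maximalIdeal R :=
    Ideal.ext fun r => RingHom.mem_ker.trans (res_eq_zero_iff resR hR r)
  have hle : Ideal.map (algebraMap Λ S) (RingHom.ker (algebraMap Λ k)) ≤
      Ideal.map f (IsLocalRing.maximalIdeal R) := by
    rw [Ideal.map_le_iff_le_comap]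
    intro l hl
    rw [Ideal.mem_comap, ← f.commutes]
    refine Ideal.mem_map_of_mem f ((res_eq_zero_iff resR hR _).1 ?_)
    rw [resR.commutes]
    exact hl
  tfae_have 1 → 2 := by
    intro h
    rw [show Ideal.map f (IsLocalRing.maximalIdeal R) = IsLocalRing.maximalIdeal S from
      IsLocalRing.map_maximalIdeal_of_surjective (f : R →+* S) h,
      sup_eq_left.2 (Ideal.pow_le_self two_ne_zero)]
  tfae_have 2 → 3 := by
    intro h
    rw [sup_eq_right.2 hle, h]
  tfae_have 3 → 1 := by
    intro h
    rw [sup_eq_right.2 hle, ← hker] at h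
    exact surjective_of_map_sup_sq resS hS resR hR f hf h
  tfae_finish

section Trunc

lemma truncHom_apply (R : CRing Λ k) (n : ℕ) (r : R.carrier) :
    (R.truncHom n).1 r = Ideal.Quotient.mk (CRing.mpow R n) r := rfl

lemma truncHom_surjective (R : CRing Λ k) (n : ℕ) : Function.Surjective (R.truncHom n).1 :=
  Ideal.Quotient.mk_surjective

lemma truncMap_surjective (R : CRing Λ k) (n : ℕ) : Function.Surjective (R.truncMap n) := by
  intro x
  obtain ⟨r, rfl⟩ := truncHom_surjective R n x
  exact ⟨(R.truncHom (n + 1)).1 r, rfl⟩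

lemma homSet_pow_le_ker {R : Type u} [CommRing R] [Algebra Λ R] {resR : R →ₐ[Λ] k} {A : Art Λ k}
    (φ : HomSet R resR A) {N : ℕ} (hN : IsLocalRing.maximalIdeal A ^ N = ⊥) {r : R}
    (hr : r ∈ RingHom.ker resR ^ N) : φ.1 r = 0 := by
  have h : (RingHom.ker resR).map φ.1 ≤ IsLocalRing.maximalIdeal A := by
    rw [Ideal.map_le_iff_le_comap]
    intro a ha
    rw [Ideal.mem_comap, Art.mem_maximalIdeal_iff, homSet_res]
    exact ha
  have := Ideal.pow_right_mono h N (Ideal.map_pow φ.1 _ N ▸ Ideal.mem_map_of_mem φ.1 hr)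
  rw [hN] at this
  exact Ideal.mem_bot.1 this

/-- A map to an artinian object factors through a truncation. -/
theorem exists_factor_trunc (R : CRing Λ k) {A : Art Λ k} (φ : HomSet R.carrier R.res A) :
    ∃ (n : ℕ) (ψ : R.trunc n ⟶ A), HomSet.map ψ (R.truncHom n) = φ := by
  obtain ⟨N, hN⟩ := exists_maximalIdeal_pow_eq_bot A
  refine ⟨N, ⟨Ideal.Quotient.liftₐ (CRing.mpow R N) φ.1 (fun r hr => homSet_pow_le_ker φ hN ?_), ?_⟩,
    homSet_ext' fun r => rfl⟩
  · rw [ker_res_cRing]
    exact Ideal.pow_le_pow_right (Nat.le_succ N) hr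
  · apply AlgHom.ext
    intro x
    obtain ⟨r, rfl⟩ := Ideal.Quotient.mk_surjective x
    exact homSet_res φ r

lemma hom_ext_truncHom {R : CRing Λ k} {n : ℕ} {A : Art Λ k} {f g : R.trunc n ⟶ A}
    (h : HomSet.map f (R.truncHom n) = HomSet.map g (R.truncHom n)) : f = g := by
  apply hom_ext_apply
  intro x
  obtain ⟨r, rfl⟩ := truncHom_surjective R n x
  exact AlgHom.congr_fun (congrArg Subtype.val h) r

/-- The transition maps between arbitrary truncations. -/
noncomputable def truncLE (R : CRing Λ k) (n : ℕ) : (d : ℕ) → (R.trunc (n + d) ⟶ R.trunc n)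
  | 0 => 𝟙 _
  | d + 1 => R.truncMap (n + d) ≫ truncLE R n d

lemma truncLE_truncHom (R : CRing Λ k) (n : ℕ) : ∀ d,
    HomSet.map (truncLE R n d) (R.truncHom (n + d)) = R.truncHom n
  | 0 => rfl
  | d + 1 => by
    rw [truncLE, ← homSet_map_map]
    exact (congrArg (HomSet.map _) (R.truncMap_truncHom (n + d))).trans (truncLE_truncHom R n d)

lemma formalElt_truncLE {F : Art Λ k ⥤ Type v} {R : CRing Λ k} (u : FormalElt F R) (n : ℕ) :
    ∀ d, F.map (truncLE R n d) (u.elt (n + d)) = u.elt n
  | 0 => by rw [truncLE, CategoryTheory.Functor.map_id]; rfl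
  | d + 1 => by
    rw [truncLE, ← map_map]
    exact (congrArg (F.map _) (u.compat (n + d))).trans (formalElt_truncLE u n d)

lemma formalElt_factor_eq {F : Art Λ k ⥤ Type v} {R : CRing Λ k} (u : FormalElt F R) {A : Art Λ k}
    {n m : ℕ} (f : R.trunc n ⟶ A) (g : R.trunc m ⟶ A)
    (h : HomSet.map f (R.truncHom n) = HomSet.map g (R.truncHom m)) :
    F.map f (u.elt n) = F.map g (u.elt m) := by
  have key : ∀ {n m d : ℕ} (f : R.trunc n ⟶ A) (g : R.trunc m ⟶ A), m = n + d →
      HomSet.map f (R.truncHom n) = HomSet.map g (R.truncHom m) →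
      F.map f (u.elt n) = F.map g (u.elt m) := by
    intro n m d f g hm h
    subst hm
    rw [← formalElt_truncLE u n d, map_map]
    refine map_congr (hom_ext_truncHom ?_) _
    rw [← homSet_map_map, truncLE_truncHom, h]
  rcases le_total n m with hnm | hnm
  · exact key (d := m - n) f g (by omega) h
  · exact (key (d := n - m) g f (by omega) h.symm).symm

/-- The family attached to a formal element. -/
noncomputable def familyOfFormalElt {F : Art Λ k ⥤ Type v} {R : CRing Λ k} (u : FormalElt F R) :
    Family R.carrier R.res F where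
  app A φ := F.map (exists_factor_trunc R φ).choose_spec.choose (u.elt (exists_factor_trunc R φ).choose)
  natural {A B} f φ := by
    rw [map_map]
    refine formalElt_factor_eq u _ _ ?_
    rw [(exists_factor_trunc R (HomSet.map f φ)).choose_spec.choose_spec, ← homSet_map_map,
      (exists_factor_trunc R φ).choose_spec.choose_spec]

lemma toFormalElt_familyOfFormalElt {F : Art Λ k ⥤ Type v} {R : CRing Λ k} (u : FormalElt F R) :
    (familyOfFormalElt u).toFormalElt = u := by
  apply FormalElt.ext'
  intro n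
  refine (formalElt_factor_eq u _ (𝟙 _)
    (exists_factor_trunc R (R.truncHom n)).choose_spec.choose_spec).trans ?_
  rw [CategoryTheory.Functor.map_id]; rfl

lemma family_ext {F : Art Λ k ⥤ Type v} {R : CRing Λ k} {ξ η : Family R.carrier R.res F}
    (h : ξ.toFormalElt = η.toFormalElt) : ξ = η := by
  have h' : ∀ n, ξ.app _ (R.truncHom n) = η.app _ (R.truncHom n) := fun n =>
    congrArg (fun u : FormalElt F R => u.elt n) h
  cases ξ with
  | mk a ha => cases η with
    | mk b hb =>
      congr
      funext A φ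
      obtain ⟨n, ψ, rfl⟩ := exists_factor_trunc R φ
      rw [ha, hb]
      exact congrArg (F.map ψ) (h' n)

theorem bijective_toFormalElt (R : CRing Λ k) (F : Art Λ k ⥤ Type v) :
    Function.Bijective fun ξ : Family R.carrier R.res F => ξ.toFormalElt :=
  ⟨fun _ _ h => family_ext h, fun u => ⟨familyOfFormalElt u, toFormalElt_familyOfFormalElt u⟩⟩

/-- Compatible maps into the truncations of a coefficient ring come from a unique map. -/
theorem exists_algHom_of_trunc {R : Type u} [CommRing R] [Algebra Λ R] {resR : R →ₐ[Λ] k}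
    (S : CRing Λ k) (θ : ∀ n, HomSet R resR (S.trunc n))
    (hθ : ∀ n, HomSet.map (S.truncMap n) (θ (n + 1)) = θ n) :
    ∃ g : R →ₐ[Λ] S.carrier, S.res.comp g = resR ∧
      ∀ n r, (S.truncHom n).1 (g r) = (θ n).1 r := by
  haveI := isPrecomplete_cRing S
  haveI := isHausdorff_cRing S
  have hlift : ∀ r : R, ∃ L : S.carrier, ∀ n, (S.truncHom n).1 L = (θ n).1 r := by
    intro r
    choose a ha using fun n => truncHom_surjective S n ((θ n).1 r)
    obtain ⟨L, hL⟩ := exists_limit (IsLocalRing.maximalIdeal S.carrier) a fun n => by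
      have h1 : (S.truncHom n).1 (a (n + 1)) = (S.truncHom n).1 (a n) := by
        rw [ha n, ← hθ n, ← AlgHom.congr_fun (congrArg Subtype.val (S.truncMap_truncHom n))]
        exact congrArg (S.truncMap n) (ha (n + 1))
      exact Ideal.pow_le_pow_right (Nat.le_succ n) (Ideal.Quotient.eq.1 h1)
    refine ⟨L, fun n => ?_⟩
    have h1 : (S.truncHom (n + 1)).1 (a (n + 1)) = (θ (n + 1)).1 r := ha (n + 1)
    rw [← hθ n]
    have h2 : (S.truncHom n).1 (a (n + 1)) = (S.truncHom n).1 L := Ideal.Quotient.eq.2 (hL (n + 1))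
    rw [← h2]
    exact congrArg (S.truncMap n) h1
  choose g hg using hlift
  have huniq : ∀ {x y : S.carrier}, (∀ n, (S.truncHom n).1 x = (S.truncHom n).1 y) → x = y :=
    fun {x y} h => eq_of_forall_sub_mem_pow (IsLocalRing.maximalIdeal S.carrier) fun n => by
      cases n with
      | zero => simp
      | succ n => exact Ideal.Quotient.eq.1 (h n)
  refine ⟨{ toFun := g
            map_one' := huniq fun n => by rw [hg, map_one, map_one]
            map_mul' := fun x y => huniq fun n => by rw [hg, map_mul, map_mul, hg, hg]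
            map_zero' := huniq fun n => by rw [hg, map_zero, map_zero]
            map_add' := fun x y => huniq fun n => by rw [hg, map_add, map_add, hg, hg]
            commutes' := fun c => huniq fun n => by rw [hg, AlgHom.commutes, AlgHom.commutes] },
    ?_, fun n r => hg r n⟩
  apply AlgHom.ext
  intro r
  exact ((AlgHom.congr_fun (S.truncHom 0).2 (g r)).symm.trans
    (congrArg (S.trunc 0).res (hg r 0))).trans (homSet_res (θ 0) r)

lemma algHom_ext_trunc {R : Type u} [CommRing R] [Algebra Λ R] (S : CRing Λ k)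
    {g₁ g₂ : R →ₐ[Λ] S.carrier} (h : ∀ n r, (S.truncHom n).1 (g₁ r) = (S.truncHom n).1 (g₂ r)) :
    g₁ = g₂ := by
  haveI := isHausdorff_cRing S
  exact AlgHom.ext fun r => eq_of_forall_sub_mem_pow (IsLocalRing.maximalIdeal S.carrier) fun n => by
    cases n with
    | zero => simp
    | succ n => exact Ideal.Quotient.eq.1 (h n r)

end Trunc

end Groth.Agent.Lib.ArtinFun
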