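import Groth.Agent.Lib.ArtinFun.Completion
import Mathlib.Algebra.MvPolynomial.PDeriv
import Mathlib.LinearAlgebra.LinearIndependent.Lemmas

/-!
# Minimal smooth pointed algebras

For a field `k`, finite over `Λ`, and `n : ℕ`: a coefficient ring `P`, smooth on artinian objects,
surjecting onto `k ⊕ k^n` such that every map `P → k[ε]` factors through `k ⊕ k^n`.
-/

universe u v

open CategoryTheory ArtFun MvPolynomial

set_option linter.style.haveILetI false

namespace Groth.Agent.Lib.ArtinFun

variable (Λ : Type u) (k : Type u) [CommRing Λ] [Field k] [Algebra Λ k]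

/-- `k ⊕ k^n` as an object. -/
noncomputable def freeSqZero (n : ℕ) : Art Λ k :=
  { carrier := TrivSqZeroExt k (ULift.{u} (Fin n) → k)
    isLocalRing := Art.isLocalRing_tsze k _
    isArtinianRing := Art.isArtinianRing_tsze k _
    res := TrivSqZeroExt.fstHom Λ k _
    res_surjective := fun a => ⟨TrivSqZeroExt.inl a, rfl⟩ }

variable {Λ k}

lemma aeval_add_smul {σ : Type*} [Fintype σ] [DecidableEq σ] {A : Type u} [CommRing A] [Algebra Λ A]
    (t : A) (ht : t * t = 0) (x c : σ → A) (f : MvPolynomial σ Λ) :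
    aeval (fun i => x i + c i * t) f = aeval x f + (∑ i, c i * aeval x (pderiv i f)) * t := by
  induction f using MvPolynomial.induction_on with
  | C a => simp
  | add p q hp hq =>
    simp only [map_add, mul_add, Finset.sum_add_distrib, hp, hq]
    ring
  | mul_X p i hp =>
    have hsum : ∑ j, c j * aeval x (pderiv j (p * X i)) =
        (∑ j, c j * aeval x (pderiv j p)) * x i + aeval x p * c i := by
      simp only [pderiv_mul, pderiv_X, map_add, map_mul, aeval_X, mul_add, Finset.sum_add_distrib,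
        Finset.sum_mul]
      congr 1
      · exact Finset.sum_congr rfl fun j _ => by ring
      · rw [Finset.sum_eq_single i]
        · rw [Pi.single_eq_same, map_one, mul_one, mul_comm]
        · intro j _ hj
          rw [Pi.single_eq_of_ne (M := fun _ => MvPolynomial σ Λ) hj.symm, map_zero, mul_zero, mul_zero]
        · exact fun h => absurd (Finset.mem_univ i) h
    rw [map_mul, aeval_X, hp, hsum, map_mul, aeval_X]
    linear_combination ((∑ j, c j * aeval x (pderiv j p)) * c i) * ht

/-- The first order expansion of a polynomial evaluated in a square-zero extension of a field. -/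
lemma aeval_tsze {σ : Type*} [Fintype σ] [DecidableEq σ] {M : Type u} [AddCommGroup M] [Module k M]
    [Module kᵐᵒᵖ M] [IsCentralScalar k M] [Module Λ M] [IsScalarTower Λ k M]
    [IsScalarTower Λ kᵐᵒᵖ M] [SMulCommClass k kᵐᵒᵖ M] (ρ : σ → k) (a : σ → M) (f : MvPolynomial σ Λ) :
    aeval (fun i => TrivSqZeroExt.inl (ρ i) + TrivSqZeroExt.inr (a i)) f =
      TrivSqZeroExt.inl (aeval ρ f) + TrivSqZeroExt.inr (∑ i, aeval ρ (pderiv i f) • a i) := by
  induction f using MvPolynomial.induction_on with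
  | C r => simp [TrivSqZeroExt.algebraMap_eq_inl']
  | add p q hp hq =>
    simp only [map_add, add_smul, Finset.sum_add_distrib, hp, hq, TrivSqZeroExt.inl_add,
      TrivSqZeroExt.inr_add]
    abel
  | mul_X p i hp =>
    have hsum : ∑ j, aeval ρ (pderiv j (p * X i)) • a j =
        ρ i • (∑ j, aeval ρ (pderiv j p) • a j) + aeval ρ p • a i := by
      simp only [pderiv_mul, pderiv_X, map_add, map_mul, aeval_X, add_smul, Finset.sum_add_distrib,
        Finset.smul_sum, smul_smul]
      congr 1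
      · exact Finset.sum_congr rfl fun j _ => by rw [mul_comm]
      · rw [Finset.sum_eq_single i]
        · rw [Pi.single_eq_same, map_one, mul_one]
        · intro j _ hj
          rw [Pi.single_eq_of_ne (M := fun _ => MvPolynomial σ Λ) hj.symm, map_zero, mul_zero, zero_smul]
        · exact fun h => absurd (Finset.mem_univ i) h
    rw [map_mul, hp, aeval_X, hsum, map_mul, aeval_X]
    ext
    · simp
    · simp [add_comm]

variable (Λ k) in
/-- Jacobian data: relations whose differentials are a basis of all differentials of relations. -/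
lemma exists_relations {m : ℕ} (ρ : Fin m → k) :
    ∃ (c : ℕ) (f : Fin c → MvPolynomial (Fin m) Λ),
      (∀ i, aeval ρ (f i) = 0) ∧
      LinearIndependent k (fun i j => aeval ρ (pderiv j (f i))) ∧
      ∀ a : Fin m → k, (∀ i, ∑ j, aeval ρ (pderiv j (f i)) * a j = 0) →
        ∀ g : MvPolynomial (Fin m) Λ, aeval ρ g = 0 → ∑ j, aeval ρ (pderiv j g) * a j = 0 := by
  classical
  let d : MvPolynomial (Fin m) Λ → (Fin m → k) := fun g j => aeval ρ (pderiv j g)
  obtain ⟨b, hb, hspan, hli⟩ := exists_linearIndependent k (d '' {g | aeval ρ g = 0})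
  haveI : Fintype b := hli.setFinite.fintype
  choose F hF hFd using fun x : b => hb x.2
  let e := (Fintype.equivFin b).symm
  refine ⟨Fintype.card b, fun i => F (e i), fun i => hF (e i), ?_, ?_⟩
  · have : (fun i => d (F (e i))) = ((↑) : b → (Fin m → k)) ∘ e := funext fun i => hFd (e i)
    change LinearIndependent k fun i => d (F (e i))
    rw [this]
    exact hli.comp e e.injective
  · intro a ha g hg
    let L : (Fin m → k) →ₗ[k] k :=
      { toFun := fun w => ∑ j, w j * a j
        map_add' := fun x y => by simp [add_mul, Finset.sum_add_distrib]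
        map_smul' := fun r x => by simp [Finset.mul_sum, mul_assoc] }
    have h1 : Submodule.span k b ≤ LinearMap.ker L := by
      rw [Submodule.span_le]
      intro x hx
      have := ha (e.symm ⟨x, hx⟩)
      simp only [e.apply_symm_apply] at this
      change L x = 0
      rw [show x = d (F ⟨x, hx⟩) from (hFd ⟨x, hx⟩).symm]
      exact this
    exact h1 (hspan ▸ Submodule.subset_span ⟨g, hg, rfl⟩)

lemma surjective_of_linearIndependent {m c : ℕ} (d : Fin c → (Fin m → k))
    (h : LinearIndependent k d) (w : Fin c → k) : ∃ a : Fin m → k, ∀ i, ∑ j, d i j * a j = w i := by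
  classical
  let Φ : (Fin m → k) →ₗ[k] (Fin c → k) :=
    { toFun := fun a i => ∑ j, d i j * a j
      map_add' := fun x y => by ext i; simp [mul_add, Finset.sum_add_distrib]
      map_smul' := fun r x => by ext i; simp [Finset.mul_sum, mul_left_comm] }
  by_contra hw
  have hlt : LinearMap.range Φ < ⊤ := lt_top_iff_ne_top.2 fun e => hw <| by
    obtain ⟨a, ha⟩ := LinearMap.range_eq_top.1 e w
    exact ⟨a, congrFun ha⟩
  obtain ⟨g, hg, hgr⟩ := Submodule.exists_le_ker_of_lt_top _ hlt
  refine hg (LinearMap.pi_ext' fun i => LinearMap.ext_ring ?_)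
  have hsum : ∑ i, g (Pi.single i 1) • d i = 0 := by
    funext j
    have h0 : g (Φ (Pi.single j 1)) = 0 := hgr ⟨_, rfl⟩
    rw [pi_eq_sum_univ' (Φ (Pi.single j 1)), map_sum] at h0
    rw [Finset.sum_apply, Pi.zero_apply]
    simp only [map_smul, smul_eq_mul, Pi.smul_apply] at h0 ⊢
    refine (Finset.sum_congr rfl fun i _ => ?_).trans h0
    rw [show Φ (Pi.single j 1) i = d i j by simp [Φ, Pi.single_apply], mul_comm]
  simpa using Fintype.linearIndependent_iff.1 h _ hsum i

variable (Λ k) in
/-- The minimal smooth coefficient ring with `n` free variables. -/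
theorem exists_smooth_cRing [IsNoetherianRing Λ] [Module.Finite Λ k] (n : ℕ) :
    ∃ (P : CRing Λ k) (π : HomSet P.carrier P.res (freeSqZero Λ k n)),
      Function.Surjective π.1 ∧
      (∀ v : HomSet P.carrier P.res (Art.dual Λ k),
        ∃ ψ : freeSqZero Λ k n ⟶ Art.dual Λ k, HomSet.map ψ π = v) ∧
      IsSmoothFunctor (hR P.carrier P.res) := by
  classical
  obtain ⟨m, ρ₀, hρ₀⟩ := Submodule.fg_iff_exists_fin_generating_family.1
    (Module.Finite.fg_top (R := Λ) (M := k))
  let ρ : Fin m ⊕ ULift.{u} (Fin n) → k := Sum.elim ρ₀ 0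
  let aE : Fin m ⊕ ULift.{u} (Fin n) → (ULift.{u} (Fin n) → k) :=
    Sum.elim 0 fun j => Pi.single j 1
  obtain ⟨c, f₀, hf0, hli, hperp⟩ := exists_relations Λ k ρ₀
  let ren : MvPolynomial (Fin m) Λ →ₐ[Λ] MvPolynomial (Fin m ⊕ ULift.{u} (Fin n)) Λ :=
    rename Sum.inl
  let f : Fin c → MvPolynomial (Fin m ⊕ ULift.{u} (Fin n)) Λ := fun i => ren (f₀ i)
  let I : Ideal (MvPolynomial (Fin m ⊕ ULift.{u} (Fin n)) Λ) := Ideal.span (Set.range f)
  let B := MvPolynomial (Fin m ⊕ ULift.{u} (Fin n)) Λ ⧸ I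
  haveI : IsNoetherianRing B := inferInstanceAs (IsNoetherianRing (_ ⧸ I))
  have hkill : ∀ {S : Type u} [CommRing S] [Algebra Λ S]
      (φ : MvPolynomial (Fin m ⊕ ULift.{u} (Fin n)) Λ →ₐ[Λ] S),
      (∀ i, φ (f i) = 0) → ∀ a ∈ I, φ a = 0 := by
    intro S _ _ φ h a ha
    have : I ≤ RingHom.ker φ := by
      rw [Ideal.span_le]
      rintro _ ⟨i, rfl⟩
      exact h i
    exact this ha
  have hevI : ∀ i, aeval ρ (f i) = 0 := fun i => by
    rw [show aeval ρ (f i) = aeval (ρ ∘ Sum.inl) (f₀ i) from aeval_rename _ _ _]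
    exact hf0 i
  let resB : B →ₐ[Λ] k := Ideal.Quotient.liftₐ I (aeval ρ) (hkill _ hevI)
  have hresB : Function.Surjective resB := by
    intro x
    have hx : x ∈ Submodule.span Λ (Set.range ρ₀) := by rw [hρ₀]; trivial
    induction hx using Submodule.span_induction with
    | mem y hy =>
      obtain ⟨i, rfl⟩ := hy
      refine ⟨Ideal.Quotient.mk I (X (Sum.inl i)), ?_⟩
      change aeval ρ (X (Sum.inl i)) = ρ₀ i
      rw [aeval_X]
      rfl
    | zero => exact ⟨0, map_zero _⟩
    | add a b _ _ ha hb =>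
      obtain ⟨x, rfl⟩ := ha
      obtain ⟨y, rfl⟩ := hb
      exact ⟨x + y, map_add _ _ _⟩
    | smul r a _ ha =>
      obtain ⟨x, rfl⟩ := ha
      exact ⟨r • x, map_smul _ _ _⟩
  obtain ⟨P, ι, hι, huniv⟩ := exists_completion B resB hresB
  let mkHom : ∀ {A : Art Λ k} (x : Fin m ⊕ ULift.{u} (Fin n) → A),
      (∀ i, A.res (x i) = ρ i) → (∀ i, aeval (fun j => x (Sum.inl j)) (f₀ i) = 0) →
      HomSet B resB A := fun {A} x hx hf =>
    ⟨Ideal.Quotient.liftₐ I (aeval x) (hkill _ fun i => (aeval_rename _ _ _).trans (hf i)), by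
      refine Ideal.Quotient.algHom_ext Λ (MvPolynomial.algHom_ext fun i => ?_)
      change A.res (aeval x (X i)) = aeval ρ (X i)
      rw [aeval_X, aeval_X, hx]⟩
  -- the map to `k ⊕ k^n`
  let xE : Fin m ⊕ ULift.{u} (Fin n) → TrivSqZeroExt k (ULift.{u} (Fin n) → k) :=
    fun i => TrivSqZeroExt.inl (ρ i) + TrivSqZeroExt.inr (aE i)
  have hE : ∀ g : MvPolynomial (Fin m ⊕ ULift.{u} (Fin n)) Λ, aeval xE g = TrivSqZeroExt.inl (aeval ρ g) +
      TrivSqZeroExt.inr (∑ i, aeval ρ (pderiv i g) • aE i) := fun g => aeval_tsze ρ aE g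
  have hEf : ∀ i, aeval (fun j => xE (Sum.inl j)) (f₀ i) = 0 := by
    intro i
    have h := aeval_tsze (M := ULift.{u} (Fin n) → k) ρ₀ (fun _ => 0) (f₀ i)
    refine h.trans ?_
    simp [hf0]
  have hEres : ∀ i, (freeSqZero Λ k n).res (xE i) = ρ i := fun i => by
    change TrivSqZeroExt.fst (TrivSqZeroExt.inl (ρ i) + TrivSqZeroExt.inr (aE i)) = ρ i
    simp
  obtain ⟨π, hπ, -⟩ := huniv _ (mkHom (A := freeSqZero Λ k n) xE hEres hEf)
  have hπ' : ∀ g : MvPolynomial (Fin m ⊕ ULift.{u} (Fin n)) Λ, π.1 (ι (Ideal.Quotient.mk I g)) = aeval xE g := fun g => hπ _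
  have hEsurj : Function.Surjective (aeval (R := Λ) xE) := by
    intro e
    have hinl : ∀ c : k, ∃ g : MvPolynomial (Fin m ⊕ ULift.{u} (Fin n)) Λ, aeval xE g = TrivSqZeroExt.inl c := by
      intro c
      obtain ⟨b, hb⟩ := hresB c
      obtain ⟨g, rfl⟩ := Ideal.Quotient.mk_surjective b
      have hb : aeval ρ g = c := hb
      refine ⟨rename Sum.inl (aeval (Sum.elim X 0 : Fin m ⊕ ULift.{u} (Fin n) →
        MvPolynomial (Fin m) Λ) g), ?_⟩
      rw [aeval_rename]
      refine (aeval_tsze (M := ULift.{u} (Fin n) → k) ρ₀ (fun _ => 0) _).trans ?_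
      rw [← AlgHom.comp_apply, comp_aeval]
      simp only [smul_zero, Finset.sum_const_zero, TrivSqZeroExt.inr_zero, add_zero]
      rw [show (fun i => aeval ρ₀ ((Sum.elim X 0 : Fin m ⊕ ULift.{u} (Fin n) →
        MvPolynomial (Fin m) Λ) i)) = ρ from funext fun i => by cases i <;> simp [ρ], hb]
    obtain ⟨g₀, hg₀⟩ := hinl e.fst
    choose g hg using fun j => hinl (e.snd j)
    refine ⟨g₀ + ∑ j, g j * X (Sum.inr j), ?_⟩
    rw [map_add, map_sum, hg₀]
    simp only [map_mul, hg, aeval_X]
    refine TrivSqZeroExt.ext ?_ ?_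
    · simp [xE, ρ, TrivSqZeroExt.fst_sum]
    · funext j
      simp [xE, ρ, aE, TrivSqZeroExt.snd_sum, Finset.sum_apply, Pi.single_apply]
  have hπsurj : Function.Surjective π.1 := fun e => by
    obtain ⟨g, rfl⟩ := hEsurj e
    exact ⟨_, hπ' g⟩
  refine ⟨P, π, hπsurj, ?_, ?_⟩
  · intro v
    let vp : MvPolynomial (Fin m ⊕ ULift.{u} (Fin n)) Λ →ₐ[Λ] TrivSqZeroExt k k :=
      v.1.comp (ι.comp (Ideal.Quotient.mkₐ Λ I))
    have hvres : ∀ g : MvPolynomial (Fin m ⊕ ULift.{u} (Fin n)) Λ, TrivSqZeroExt.fst (vp g) = aeval ρ g := fun g =>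
      (homSet_res v _).trans (AlgHom.congr_fun hι _)
    let a : Fin m ⊕ ULift.{u} (Fin n) → k := fun i => TrivSqZeroExt.snd (vp (X i))
    have hv : ∀ g : MvPolynomial (Fin m ⊕ ULift.{u} (Fin n)) Λ, vp g = TrivSqZeroExt.inl (aeval ρ g) +
        TrivSqZeroExt.inr (∑ i, aeval ρ (pderiv i g) • a i) := by
      intro g
      conv_lhs => rw [aeval_unique vp]
      refine Eq.trans (congrArg (fun z => aeval z g) ?_) (aeval_tsze (M := k) ρ a g)
      funext i
      refine TrivSqZeroExt.ext ?_ ?_
      · simpa using hvres (X i)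
      · simp [a]
    have hperp' : ∀ i, ∑ j, aeval ρ₀ (pderiv j (f₀ i)) * a (Sum.inl j) = 0 := by
      intro i
      have h : vp (f i) = 0 := by
        change v.1 (ι (Ideal.Quotient.mk I (f i))) = 0
        rw [Ideal.Quotient.eq_zero_iff_mem.2 (Ideal.subset_span ⟨i, rfl⟩ : f i ∈ I), map_zero, map_zero]
      have h' := aeval_tsze (M := k) ρ₀ (fun j => a (Sum.inl j)) (f₀ i)
      have h'' : vp (f i) = aeval (fun j => TrivSqZeroExt.inl (ρ₀ j) + TrivSqZeroExt.inr (a (Sum.inl j)))
          (f₀ i) := by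
        conv_lhs => rw [aeval_unique vp]
        refine (aeval_rename _ _ _).trans (congrArg (fun z => aeval z (f₀ i)) ?_)
        funext j
        refine TrivSqZeroExt.ext ?_ ?_
        · simpa [ρ] using hvres (X (Sum.inl j))
        · simp [a]
      rw [h''] at h
      rw [h, hf0] at h'
      simpa using (congrArg TrivSqZeroExt.snd h').symm
    have hker : ∀ g : MvPolynomial (Fin m ⊕ ULift.{u} (Fin n)) Λ, aeval xE g = 0 → vp g = 0 := by
      intro g hg
      rw [hE] at hg
      have h1 : aeval ρ g = 0 := by simpa using congrArg TrivSqZeroExt.fst hg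
      have h2 : ∀ j, aeval ρ (pderiv (Sum.inr j) g) = 0 := fun j => by
        have := congrFun (congrArg TrivSqZeroExt.snd hg) j
        simpa [aE, Fintype.sum_sum_type, Finset.sum_apply, Pi.single_apply] using this
      let g₀ : MvPolynomial (Fin m) Λ :=
        aeval (Sum.elim X 0 : Fin m ⊕ ULift.{u} (Fin n) → MvPolynomial (Fin m) Λ) g
      let a' : Fin m ⊕ ULift.{u} (Fin n) → k := Sum.elim (fun j => a (Sum.inl j)) 0
      have e := aeval_tsze (M := k) ρ a' g
      have e₀ := aeval_tsze (M := k) ρ₀ (fun j => a (Sum.inl j)) g₀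
      rw [← AlgHom.comp_apply, comp_aeval] at e₀
      have hpts : (fun i => TrivSqZeroExt.inl (ρ i) + TrivSqZeroExt.inr (a' i)) =
          fun i => aeval (fun j => TrivSqZeroExt.inl (ρ₀ j) + TrivSqZeroExt.inr (a (Sum.inl j)))
            ((Sum.elim X 0 : Fin m ⊕ ULift.{u} (Fin n) → MvPolynomial (Fin m) Λ) i) := by
        funext i
        cases i <;> simp [ρ, a']
      rw [hpts, e₀] at e
      have hg₀ : aeval ρ₀ g₀ = 0 := by
        have := congrArg TrivSqZeroExt.fst e
        simpa [h1] using this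
      have hx : ∑ j, aeval ρ (pderiv (Sum.inl j) g) * a (Sum.inl j) = 0 := by
        have := congrArg TrivSqZeroExt.snd e
        simpa [a', Fintype.sum_sum_type, hperp _ hperp' g₀ hg₀] using this.symm
      rw [hv, h1]
      simp [Fintype.sum_sum_type, h2, hx]
    let ψ₀ : freeSqZero Λ k n →ₐ[Λ] Art.dual Λ k :=
      (Ideal.Quotient.liftₐ (RingHom.ker (aeval (R := Λ) xE)) vp fun g hg => hker g hg).comp
        (Ideal.quotientKerAlgEquivOfSurjective hEsurj).symm.toAlgHom
    have hψ : ∀ g : MvPolynomial (Fin m ⊕ ULift.{u} (Fin n)) Λ, ψ₀ (aeval xE g) = vp g := by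
      intro g
      have : (Ideal.quotientKerAlgEquivOfSurjective hEsurj).symm (aeval xE g) =
          Ideal.Quotient.mk _ g := by
        rw [AlgEquiv.symm_apply_eq]
        rfl
      change Ideal.Quotient.liftₐ (RingHom.ker (aeval (R := Λ) xE)) vp (fun g hg => hker g hg)
        ((Ideal.quotientKerAlgEquivOfSurjective hEsurj).symm (aeval xE g)) = vp g
      rw [this]
      rfl
    refine ⟨Art.homMk ψ₀ ?_, ?_⟩
    · apply AlgHom.ext
      intro e
      obtain ⟨g, rfl⟩ := hEsurj e
      change TrivSqZeroExt.fst (ψ₀ (aeval xE g)) = TrivSqZeroExt.fst (aeval xE g)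
      rw [hψ, hvres, hE]
      simp
    · obtain ⟨w, hw, huw⟩ := huniv _ (⟨(v.1 : P.carrier →ₐ[Λ] Art.dual Λ k).comp ι, by rw [← AlgHom.comp_assoc, v.2, hι]⟩ :
        HomSet B resB (Art.dual Λ k))
      refine (huw _ ?_).trans (huw v fun b => rfl).symm
      intro b
      obtain ⟨g, rfl⟩ := Ideal.Quotient.mk_surjective b
      exact (congrArg ψ₀ (hπ' g)).trans (hψ g)
  · intro A' A p hp φ
    change HomSet P.carrier P.res A at φ
    refine surjective_induction (fun A A' (p : A' ⟶ A) =>
      Function.Surjective ((hR P.carrier P.res).map p)) ?_ ?_ ?_ p hp φ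
    · exact fun A A' e he => (bijective_map_of_isIso _ e).2
    · intro A A' p hp φ
      change HomSet P.carrier P.res A at φ
      obtain ⟨t, ht, ht0, hpt, hm⟩ := IsSmallExt.exists_generator hp
      choose x hx using fun i => hp.1 (φ.1 (ι (Ideal.Quotient.mk I (X i))))
      have hxres : ∀ i, A'.res (x i) = ρ i := fun i => by
        have h1 := Art.res_app p (x i)
        rw [hx i, homSet_res] at h1
        rw [← h1, ← AlgHom.comp_apply P.res ι, hι]
        exact aeval_X ρ i
      let x₀ : Fin m → A' := fun j => x (Sum.inl j)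
      have hw : ∀ i, ∃ w, w * t = aeval x₀ (f₀ i) := fun i => by
        refine Ideal.mem_span_singleton'.1 ?_
        rw [← ht, mem_ker, comp_aeval_apply]
        have : (fun j => p (x₀ j)) =
            fun j => φ.1 (ι (Ideal.Quotient.mk I (X (Sum.inl j)))) := funext fun j => hx _
        rw [this]
        have h := congrArg φ.1 (congrArg ι (Ideal.Quotient.eq_zero_iff_mem.2
          (Ideal.subset_span ⟨i, rfl⟩ : f i ∈ I)))
        rw [map_zero, map_zero] at h
        rw [← h]
        change _ = φ.1.comp (ι.comp (Ideal.Quotient.mkₐ Λ I)) (rename Sum.inl (f₀ i))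
        rw [aeval_unique (φ.1.comp (ι.comp (Ideal.Quotient.mkₐ Λ I))), aeval_rename]
        rfl
      choose w hw using hw
      obtain ⟨a, ha⟩ := surjective_of_linearIndependent _ hli fun i => -A'.res (w i)
      choose cl hcl using fun j => A'.res_surjective (a j)
      let x' : Fin m ⊕ ULift.{u} (Fin n) → A' :=
        fun i => x i + (Sum.elim cl (fun _ => 0) i : A') * t
      have hx' : ∀ i, p (x' i) = p (x i) := fun i => by
        rw [map_add, map_mul, hpt, mul_zero, add_zero]
      have hf' : ∀ i, aeval (fun j => x' (Sum.inl j)) (f₀ i) = 0 := fun i => by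
        have e := aeval_add_smul t (hm t ((Art.mem_maximalIdeal_iff _ _).2 (by
          rw [← Art.res_app p, hpt, map_zero]))) x₀ cl (f₀ i)
        refine e.trans ?_
        rw [← hw, ← add_mul]
        refine hm _ ?_
        rw [Art.mem_maximalIdeal_iff, map_add, map_sum]
        simp only [map_mul, hcl, comp_aeval_apply]
        rw [show (fun j => A'.res (x₀ j)) = ρ₀ from funext fun j => hxres (Sum.inl j)]
        rw [show (∑ j, a j * aeval ρ₀ (pderiv j (f₀ i))) = -A'.res (w i) from
          (Finset.sum_congr rfl fun j _ => mul_comm _ _).trans (ha i), add_neg_cancel]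
      have hx'res : ∀ i, A'.res (x' i) = ρ i := fun i => by
        rw [← Art.res_app p, hx', Art.res_app, hxres]
      obtain ⟨ψ, hψ, -⟩ := huniv A' (mkHom x' hx'res hf')
      refine ⟨ψ, ?_⟩
      obtain ⟨w', hw', huw⟩ := huniv A (⟨φ.1.comp ι, by rw [← AlgHom.comp_assoc, φ.2, hι]⟩ :
        HomSet B resB A)
      refine (huw (HomSet.map p ψ) ?_).trans (huw φ fun b => rfl).symm
      intro b
      obtain ⟨g, rfl⟩ := Ideal.Quotient.mk_surjective b
      change p (ψ.1 (ι (Ideal.Quotient.mk I g))) = φ.1.comp (ι.comp (Ideal.Quotient.mkₐ Λ I)) g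
      rw [hψ]
      change p (aeval x' g) = _
      rw [comp_aeval_apply, aeval_unique (φ.1.comp (ι.comp (Ideal.Quotient.mkₐ Λ I)))]
      congr 2
      funext i
      rw [hx', hx]
      rfl
    · intro A A₁ A₂ p q h₁ h₂ φ
      obtain ⟨ψ, rfl⟩ := h₂ φ
      obtain ⟨χ, rfl⟩ := h₁ ψ
      exact ⟨χ, rfl⟩

end Groth.Agent.Lib.ArtinFun
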