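import Groth.Agent.Lib.ArtinFun.HR
import Groth.Agent.Lib.ArtinFun.SmoothPoint

/-!
# The vector space structure on the tangent space of a functor of Artin rings
-/

universe u v

open CategoryTheory ArtFun

namespace Groth.Agent.Lib.ArtinFun

variable {Λ : Type u} {k : Type u} [CommRing Λ] [Field k] [Algebra Λ k]

lemma dual_hom_ext {T : Art Λ k} {ψ ψ' : T ⟶ Art.dual Λ k}
    (h : ∀ x, TrivSqZeroExt.snd (ψ x) = TrivSqZeroExt.snd (ψ' x)) : ψ = ψ' :=
  hom_ext_apply fun x => TrivSqZeroExt.ext ((Art.res_app ψ x).trans (Art.res_app ψ' x).symm) (h x)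

/-- The sum of two morphisms to the dual numbers, before folding. -/
noncomputable def pairHom {T : Art Λ k} (ψ₁ ψ₂ : T ⟶ Art.dual Λ k) : T ⟶ Art.dual2 Λ k :=
  IsFibreProd.lift Art.isFibreProd_dual2 ψ₁ ψ₂ (by
    rw [Art.eq_toBase (ψ₁ ≫ _), Art.eq_toBase (ψ₂ ≫ _)])

lemma pairHom_pr₁ {T : Art Λ k} (ψ₁ ψ₂ : T ⟶ Art.dual Λ k) : pairHom ψ₁ ψ₂ ≫ Art.pr₁ = ψ₁ :=
  IsFibreProd.lift_fst _ _ _ _

lemma pairHom_pr₂ {T : Art Λ k} (ψ₁ ψ₂ : T ⟶ Art.dual Λ k) : pairHom ψ₁ ψ₂ ≫ Art.pr₂ = ψ₂ :=
  IsFibreProd.lift_snd _ _ _ _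

/-- The sum of two morphisms to the dual numbers. -/
noncomputable def addHom {T : Art Λ k} (ψ₁ ψ₂ : T ⟶ Art.dual Λ k) : T ⟶ Art.dual Λ k :=
  pairHom ψ₁ ψ₂ ≫ Art.plus

lemma snd_addHom {T : Art Λ k} (ψ₁ ψ₂ : T ⟶ Art.dual Λ k) (x : T) :
    TrivSqZeroExt.snd (addHom ψ₁ ψ₂ x) = TrivSqZeroExt.snd (ψ₁ x) + TrivSqZeroExt.snd (ψ₂ x) := by
  have h₁ := hom_congr_apply (pairHom_pr₁ ψ₁ ψ₂) x
  have h₂ := hom_congr_apply (pairHom_pr₂ ψ₁ ψ₂) x
  rw [← h₁, ← h₂]
  rfl

/-- The zero morphism to the dual numbers. -/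
noncomputable def zeroHom (T : Art Λ k) : T ⟶ Art.dual Λ k := Art.toBase T ≫ Art.baseToDual

lemma snd_zeroHom {T : Art Λ k} (x : T) : TrivSqZeroExt.snd (zeroHom T x) = 0 := rfl

lemma snd_scale {T : Art Λ k} (c : k) (ψ : T ⟶ Art.dual Λ k) (x : T) :
    TrivSqZeroExt.snd ((ψ ≫ Art.scale c) x) = c * TrivSqZeroExt.snd (ψ x) := rfl

lemma scale_zero (T : Art Λ k) (ψ : T ⟶ Art.dual Λ k) : ψ ≫ Art.scale 0 = zeroHom T :=
  dual_hom_ext fun x => by rw [snd_scale, zero_mul, snd_zeroHom]

/-- The morphism `k ⊕ k^n → k[ε]` given by the `j`-th coordinate. -/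
noncomputable def projHom {n : ℕ} (j : ULift.{u} (Fin n)) : freeSqZero Λ k n ⟶ Art.dual Λ k :=
  ⟨Art.tszeMap (LinearMap.proj j), AlgHom.ext fun _ => rfl⟩

lemma snd_projHom {n : ℕ} (j : ULift.{u} (Fin n)) (x : freeSqZero Λ k n) :
    TrivSqZeroExt.snd (projHom j x) = TrivSqZeroExt.snd x j := rfl

section Elements

variable (F : Art Λ k ⥤ Type v)

/-- Forgetting the last coordinate. -/
noncomputable def initHom (n : ℕ) : freeSqZero Λ k (n + 1) ⟶ freeSqZero Λ k n :=
  ⟨Art.tszeMap (LinearMap.funLeft k k fun j => ⟨Fin.castSucc j.down⟩), AlgHom.ext fun _ => rfl⟩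

lemma isFibreProd_freeSqZero (n : ℕ) :
    Art.IsFibreProd (initHom n : freeSqZero Λ k (n + 1) ⟶ _) (projHom ⟨Fin.last n⟩)
      (Art.toBase (freeSqZero Λ k n)) (Art.toBase (Art.dual Λ k)) := by
  refine ⟨by rw [Art.eq_toBase (initHom n ≫ _), Art.eq_toBase (projHom _ ≫ _)], ?_, ?_⟩
  · intro a b h₁ h₂
    refine TrivSqZeroExt.ext ?_ ?_
    · exact (congrArg TrivSqZeroExt.fst h₂ :)
    · funext j
      obtain ⟨j⟩ := j
      induction j using Fin.lastCases with
      | last => exact (congrArg TrivSqZeroExt.snd h₂ :)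
      | cast j => exact (congrFun (congrArg TrivSqZeroExt.snd h₁) ⟨j⟩ :)
  · intro a b h
    refine ⟨(a.fst, fun j => Fin.snoc (α := fun _ => k) (fun i => a.snd ⟨i⟩) b.snd j.down), ?_, ?_⟩
    · refine TrivSqZeroExt.ext rfl (funext fun j => ?_)
      change Fin.snoc (α := fun _ => k) (fun i => a.snd ⟨i⟩) b.snd j.down.castSucc = a.snd j
      rw [Fin.snoc_castSucc]
    · refine TrivSqZeroExt.ext h ?_
      change Fin.snoc (α := fun _ => k) (fun i => a.snd ⟨i⟩) b.snd (Fin.last n) = b.snd
      rw [Fin.snoc_last]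

lemma initHom_projHom {n : ℕ} (j : Fin n) :
    initHom (Λ := Λ) (k := k) n ≫ projHom ⟨j⟩ = projHom ⟨j.castSucc⟩ :=
  dual_hom_ext fun _ => rfl

variable {F}

/-- `H_ε` lifts every finite family of tangent vectors to one element over `k ⊕ k^n`. -/
theorem exists_free_element (h0 : H0 F) (h2 : Heps F) : ∀ (n : ℕ) (θ : Fin n → F.obj (Art.dual Λ k)),
    ∃ z : F.obj (freeSqZero Λ k n), ∀ j, F.map (projHom ⟨j⟩) z = θ j
  | 0, _ => by
    let i : Art.base Λ k ⟶ freeSqZero Λ k 0 :=
      ⟨TrivSqZeroExt.inlAlgHom Λ k (ULift.{u} (Fin 0) → k), AlgHom.ext fun _ => rfl⟩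
    exact ⟨F.map i h0.1.some, fun j => j.elim0⟩
  | n + 1, θ => by
    obtain ⟨z, hz⟩ := exists_free_element h0 h2 n fun j => θ j.castSucc
    obtain ⟨w, hw₁, hw₂⟩ := (cmp_surjective_iff (isFibreProd_freeSqZero n)).1
      (h2 _ _ (isFibreProd_freeSqZero n)).2 z (θ (Fin.last n)) (@Subsingleton.elim _ h0.2 _ _)
    refine ⟨w, fun j => ?_⟩
    induction j using Fin.lastCases with
    | last => exact hw₂
    | cast j => rw [← hz j, ← hw₁, map_map, initHom_projHom]

end Elements

section Structure

variable (F : Art Λ k ⥤ Type v)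

/-- A functor with `F(k)` a point and `H_ε` has a tangent structure. -/
theorem nonempty_tangentStr (h0 : H0 F) (h2 : Heps F) : Nonempty (TangentStr F) := by
  classical
  have hsurj := (cmp_surjective_iff Art.isFibreProd_dual2).1 (h2 _ _ Art.isFibreProd_dual2).2
  have hinj := (cmp_injective_iff Art.isFibreProd_dual2).1 (h2 _ _ Art.isFibreProd_dual2).1
  choose w hw₁ hw₂ using fun x y => hsurj x y (@Subsingleton.elim _ h0.2 _ _)
  have key : ∀ {T : Art Λ k} (ψ₁ ψ₂ : T ⟶ Art.dual Λ k) (z : F.obj T),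
      F.map Art.plus (w (F.map ψ₁ z) (F.map ψ₂ z)) = F.map (addHom ψ₁ ψ₂) z := by
    intro T ψ₁ ψ₂ z
    rw [addHom, ← map_map]
    congr 1
    refine hinj _ _ ?_ ?_
    · rw [hw₁, map_map, pairHom_pr₁]
    · rw [hw₂, map_map, pairHom_pr₂]
  have gen : ∀ x y t : F.obj (Art.dual Λ k), ∃ (T : Art Λ k) (z : F.obj T)
      (a b c : T ⟶ Art.dual Λ k), F.map a z = x ∧ F.map b z = y ∧ F.map c z = t := by
    intro x y t
    obtain ⟨z, hz⟩ := exists_free_element h0 h2 3 ![x, y, t]
    exact ⟨_, z, projHom ⟨0⟩, projHom ⟨1⟩, projHom ⟨2⟩, hz 0, hz 1, hz 2⟩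
  let zero : F.obj (Art.dual Λ k) := F.map Art.baseToDual h0.1.some
  have hzero : ∀ {T : Art Λ k} (z : F.obj T), zero = F.map (zeroHom T) z := by
    intro T z
    rw [zeroHom, ← map_map]
    exact congrArg _ (@Subsingleton.elim _ h0.2 _ _)
  let add : F.obj (Art.dual Λ k) → F.obj (Art.dual Λ k) → F.obj (Art.dual Λ k) :=
    fun x y => F.map Art.plus (w x y)
  let grp : AddCommGroup (F.obj (Art.dual Λ k)) :=
    { add := add
      zero := zero
      neg := fun x => F.map (Art.scale (-1)) x
      nsmul := fun n x => F.map (Art.scale (n : k)) x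
      zsmul := fun n x => F.map (Art.scale (n : k)) x
      add_assoc := fun x y t => by
        obtain ⟨T, z, a, b, c, rfl, rfl, rfl⟩ := gen x y t
        change add (add _ _) _ = add _ (add _ _)
        simp only [add, key]
        exact map_congr (dual_hom_ext fun s => by simp only [snd_addHom, add_assoc]) z
      zero_add := fun x => by
        obtain ⟨T, z, a, b, c, rfl, -, -⟩ := gen x x x
        change add zero _ = _
        simp only [add, hzero z, key]
        exact map_congr (dual_hom_ext fun s => by simp [snd_addHom, snd_zeroHom]) z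
      add_zero := fun x => by
        obtain ⟨T, z, a, b, c, rfl, -, -⟩ := gen x x x
        change add _ zero = _
        simp only [add, hzero z, key]
        exact map_congr (dual_hom_ext fun s => by simp [snd_addHom, snd_zeroHom]) z
      neg_add_cancel := fun x => by
        obtain ⟨T, z, a, b, c, rfl, -, -⟩ := gen x x x
        change add (F.map (Art.scale (-1)) _) _ = zero
        simp only [add, hzero z, map_map, key]
        exact map_congr (dual_hom_ext fun s => by rw [snd_addHom, snd_scale, snd_zeroHom]; ring) z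
      add_comm := fun x y => by
        obtain ⟨T, z, a, b, c, rfl, rfl, -⟩ := gen x y y
        change add _ _ = add _ _
        simp only [add, key]
        exact map_congr (dual_hom_ext fun s => by simp only [snd_addHom, add_comm]) z
      nsmul_zero := fun x => by
        obtain ⟨T, z, a, b, c, rfl, -, -⟩ := gen x x x
        change F.map (Art.scale ((0 : ℕ) : k)) _ = zero
        rw [hzero z, map_map, Nat.cast_zero, scale_zero]
      nsmul_succ := fun n x => by
        obtain ⟨T, z, a, b, c, rfl, -, -⟩ := gen x x x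
        change F.map (Art.scale ((n + 1 : ℕ) : k)) _ = add (F.map (Art.scale (n : k)) _) _
        simp only [add, map_map, key]
        exact map_congr (dual_hom_ext fun s => by
          rw [snd_addHom, snd_scale, snd_scale, Nat.cast_succ, add_mul, one_mul]) z
      zsmul_zero' := fun x => by
        obtain ⟨T, z, a, b, c, rfl, -, -⟩ := gen x x x
        change F.map (Art.scale ((0 : ℤ) : k)) _ = zero
        rw [hzero z, map_map, Int.cast_zero, scale_zero]
      zsmul_succ' := fun n x => by
        obtain ⟨T, z, a, b, c, rfl, -, -⟩ := gen x x x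
        change F.map (Art.scale ((Int.ofNat (n + 1) : ℤ) : k)) _ =
          add (F.map (Art.scale ((Int.ofNat n : ℤ) : k)) _) _
        simp only [add, map_map, key]
        exact map_congr (dual_hom_ext fun s => by
          rw [snd_addHom, snd_scale, snd_scale]; simp [add_mul]) z
      zsmul_neg' := fun n x => by
        change F.map (Art.scale ((Int.negSucc n : ℤ) : k)) x =
          F.map (Art.scale (-1)) (F.map (Art.scale ((Int.ofNat (n + 1) : ℤ) : k)) x)
        rw [map_map]
        exact map_congr (dual_hom_ext fun s => by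
          change ((Int.negSucc n : ℤ) : k) * TrivSqZeroExt.snd s =
            (-1) * (((Int.ofNat (n + 1) : ℤ) : k) * TrivSqZeroExt.snd s)
          simp; ring) x }
  refine ⟨{ addCommGroup := grp, module := ?_, smul_eq := ?_, add_eq := ?_ }⟩
  · exact
    { smul := fun c x => F.map (Art.scale c) x
      one_smul := fun x => by
        obtain ⟨T, z, a, b, c, rfl, -, -⟩ := gen x x x
        change F.map (Art.scale 1) _ = _
        rw [map_map]
        exact map_congr (dual_hom_ext fun s => by rw [snd_scale, one_mul]) z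
      mul_smul := fun p q x => by
        obtain ⟨T, z, a, b, c, rfl, -, -⟩ := gen x x x
        change F.map (Art.scale (p * q)) _ = F.map (Art.scale p) (F.map (Art.scale q) _)
        rw [map_map, map_map, map_map, ← Category.assoc]
        exact map_congr (dual_hom_ext fun s => by rw [snd_scale, snd_scale, snd_scale, mul_assoc]) z
      smul_zero := fun p => by
        change F.map (Art.scale p) zero = zero
        rw [map_map]
        exact map_congr (dual_hom_ext fun s => by
          change p * (0 : k) = 0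
          exact mul_zero p) _
      smul_add := fun p x y => by
        obtain ⟨T, z, a, b, c, rfl, rfl, -⟩ := gen x y y
        change F.map (Art.scale p) (add _ _) = add (F.map (Art.scale p) _) (F.map (Art.scale p) _)
        simp only [add, map_map, key]
        exact map_congr (dual_hom_ext fun s => by
          rw [snd_scale, snd_addHom, snd_addHom, snd_scale, snd_scale, mul_add]) z
      add_smul := fun p q x => by
        obtain ⟨T, z, a, b, c, rfl, -, -⟩ := gen x x x
        change F.map (Art.scale (p + q)) _ = add (F.map (Art.scale p) _) (F.map (Art.scale q) _)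
        simp only [add, map_map, key]
        exact map_congr (dual_hom_ext fun s => by
          rw [snd_scale, snd_addHom, snd_scale, snd_scale, add_mul]) z
      zero_smul := fun x => by
        obtain ⟨T, z, a, b, c, rfl, -, -⟩ := gen x x x
        change F.map (Art.scale 0) _ = zero
        rw [hzero z, map_map, scale_zero] }
  · exact fun c x => rfl
  · intro z
    change add (F.map Art.pr₁ z) (F.map Art.pr₂ z) = F.map Art.plus z
    change F.map Art.plus (w _ _) = _
    congr 1
    exact hinj _ _ (hw₁ _ _) (hw₂ _ _)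

end Structure

section Linear

variable {F : Art Λ k ⥤ Type v} [TangentStr F]

lemma map_addHom {T : Art Λ k} (ψ₁ ψ₂ : T ⟶ Art.dual Λ k) (z : F.obj T) :
    (F.map (addHom ψ₁ ψ₂) z : TangentSpace F) =
      TangentSpace.mk (F.map ψ₁ z) + TangentSpace.mk (F.map ψ₂ z) := by
  have h := TangentStr.add_eq (F := F) (F.map (pairHom ψ₁ ψ₂) z)
  rw [map_map, map_map, pairHom_pr₁, pairHom_pr₂] at h
  rw [addHom, ← map_map]
  exact h.symm

lemma map_comp_scale {T : Art Λ k} (c : k) (ψ : T ⟶ Art.dual Λ k) (z : F.obj T) :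
    (F.map (ψ ≫ Art.scale c) z : TangentSpace F) = c • TangentSpace.mk (F.map ψ z) := by
  rw [← map_map]
  exact (TangentStr.smul_eq (F := F) c (F.map ψ z)).symm

lemma map_zeroHom {T : Art Λ k} (ψ : T ⟶ Art.dual Λ k) (z : F.obj T) :
    TangentSpace.mk (F := F) (F.map (zeroHom T) z) = 0 := by
  rw [← scale_zero T ψ]
  exact (map_comp_scale 0 ψ z).trans (zero_smul k (TangentSpace.mk (F := F) (F.map ψ z)))

lemma map_baseToDual (h0 : Subsingleton (F.obj (Art.base Λ k))) (x : F.obj (Art.base Λ k)) :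
    TangentSpace.mk (F := F) (F.map Art.baseToDual x) = 0 := by
  have h := map_zeroHom (F := F) (T := Art.dual Λ k) (𝟙 _) (F.map Art.baseToDual x)
  rw [zeroHom, ← map_map, @Subsingleton.elim _ h0 (F.map _ (F.map _ x)) x] at h
  exact h

/-- A natural map preserves the tangent structures. -/
theorem exists_linearMap_tangent {G : Art Λ k ⥤ Type*} [TangentStr G]
    (η : ∀ A, F.obj A → G.obj A) (hη : IsNatMap F G η) (h0 : Subsingleton (F.obj (Art.base Λ k)))
    (h2 : Heps F) :
    ∃ f : TangentSpace F →ₗ[k] TangentSpace G, ∀ x, f x = η (Art.dual Λ k) x := by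
  refine ⟨{ toFun := fun x => η (Art.dual Λ k) x, map_add' := fun x y => ?_, map_smul' := fun c x => ?_ },
    fun x => rfl⟩
  · obtain ⟨z, hz₁, hz₂⟩ := (cmp_surjective_iff Art.isFibreProd_dual2).1
      (h2 _ _ Art.isFibreProd_dual2).2 x y (@Subsingleton.elim _ h0 _ _)
    have h := TangentStr.add_eq (F := F) z
    rw [hz₁, hz₂] at h
    have h' := TangentStr.add_eq (F := G) (η _ z)
    rw [← hη, ← hη, ← hη, hz₁, hz₂] at h'
    exact (congrArg (η _) h).trans h'.symm
  · exact (congrArg (η _) (TangentStr.smul_eq (F := F) c x)).trans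
      ((hη _ _).trans (TangentStr.smul_eq (F := G) c (η _ x)).symm)

end Linear

end Groth.Agent.Lib.ArtinFun
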