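import Groth.Agent.Lib.ArtinFun.MinLift
import Groth.Agent.Lib.ArtinFun.Tangent
import Groth.Agent.Lib.ArtinFun.CRingBasic

/-!
# Schlessinger's construction of versal families
-/

universe u v

open CategoryTheory ArtFun

set_option linter.style.haveILetI false

namespace Groth.Agent.Lib.ArtinFun

variable {Λ : Type u} {k : Type u} [CommRing Λ] [Field k] [Algebra Λ k]

/-- An object under `P` with an element of `F`. -/
structure Stage (P : CRing Λ k) (F : Art Λ k ⥤ Type v) : Type (max (u + 1) v) where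
  /-- The object. -/
  C : Art Λ k
  /-- The map from `P`. -/
  φ : HomSet P.carrier P.res C
  surj : Function.Surjective φ.1
  /-- The element. -/
  u : F.obj C

lemma exists_hom_of_ker_le {P : Type u} [CommRing P] [Algebra Λ P] {resP : P →ₐ[Λ] k} {C D : Art Λ k}
    (φ : HomSet P resP C) (hφ : Function.Surjective φ.1) (w : HomSet P resP D)
    (h : ∀ x, φ.1 x = 0 → w.1 x = 0) : ∃ r : C ⟶ D, HomSet.map r φ = w := by
  let r₀ : C →ₐ[Λ] D := (Ideal.Quotient.liftₐ (RingHom.ker φ.1) w.1 fun x hx => h x hx).comp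
    (Ideal.quotientKerAlgEquivOfSurjective hφ).symm.toAlgHom
  have hr : ∀ x, r₀ (φ.1 x) = w.1 x := fun x => by
    have e : (Ideal.quotientKerAlgEquivOfSurjective hφ).symm (φ.1 x) = Ideal.Quotient.mk _ x := by
      rw [AlgEquiv.symm_apply_eq]; rfl
    change Ideal.Quotient.liftₐ (RingHom.ker φ.1) w.1 (fun x hx => h x hx)
      ((Ideal.quotientKerAlgEquivOfSurjective hφ).symm (φ.1 x)) = _
    rw [e]
    rfl
  refine ⟨Art.homMk r₀ (AlgHom.ext fun c => ?_), homSet_ext' hr⟩
  obtain ⟨x, rfl⟩ := hφ c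
  exact (congrArg D.res (hr x)).trans ((homSet_res w x).trans (homSet_res φ x).symm)

/-- The largest semismall extension of a quotient of `P` by a quotient of `P`. -/
lemma exists_universal_semismall {P : CRing Λ k} {C : Art Λ k} (φ : HomSet P.carrier P.res C)
    (hφ : Function.Surjective φ.1) :
    ∃ (B : Art Λ k) (p : B ⟶ C) (φB : HomSet P.carrier P.res B), Art.IsSemismallExt p ∧
      Function.Surjective φB.1 ∧ HomSet.map p φB = φ ∧
      ∀ (D : Art Λ k) (q : D ⟶ C), Art.IsSemismallExt q → ∀ w : HomSet P.carrier P.res D,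
        HomSet.map q w = φ → ∃ r : B ⟶ D, HomSet.map r φB = w := by
  obtain ⟨N, hN⟩ := exists_maximalIdeal_pow_eq_bot C
  set M := IsLocalRing.maximalIdeal P.carrier with hM
  have hkill : M ^ N ≤ RingHom.ker φ.1 := fun x hx =>
    homSet_pow_le_ker φ hN (by rwa [ker_res_cRing])
  set I := M * RingHom.ker φ.1 with hI
  have hIle : M ^ (N + 1) ≤ I := by
    rw [pow_succ']
    exact Ideal.mul_mono_right hkill
  have hIm : I ≤ M := Ideal.mul_le_left
  let T := P.trunc N
  have hIT : I.map (Ideal.Quotient.mk (CRing.mpow P N)) ≤ IsLocalRing.maximalIdeal T := by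
    refine Ideal.map_le_iff_le_comap.2 fun x hx => ?_
    exact (Art.mem_maximalIdeal_iff T (Ideal.Quotient.mk (CRing.mpow P N) x)).2
      ((CRing.mem_maximalIdeal_iff P x).1 (hIm hx))
  let φB : HomSet P.carrier P.res (Art.quot T _ hIT) := HomSet.map (Art.quotMk T _ hIT) (P.truncHom N)
  have hφB : Function.Surjective φB.1 :=
    (Art.quotMk_surjective T _ hIT).comp (truncHom_surjective P N)
  have hker : ∀ x, φB.1 x = 0 ↔ x ∈ I := by
    intro x
    refine (quotMk_eq_zero_iff hIT _).trans ⟨fun h => ?_, fun h => Ideal.mem_map_of_mem _ h⟩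
    obtain ⟨y, hy, hxy⟩ := (Ideal.mem_map_iff_of_surjective _ Ideal.Quotient.mk_surjective).1 h
    have := sub_mem hy (hIle (Ideal.Quotient.eq.1 hxy))
    rwa [sub_sub_cancel] at this
  obtain ⟨p, hp⟩ := exists_hom_of_ker_le φB hφB φ fun x hx => Ideal.mul_le_right ((hker x).1 hx)
  refine ⟨_, p, φB, ⟨fun c => ?_, ?_⟩, hφB, hp, ?_⟩
  · obtain ⟨x, rfl⟩ := hφ c
    exact ⟨_, AlgHom.congr_fun (congrArg Subtype.val hp) x⟩
  · rw [← le_bot_iff, Ideal.mul_le]
    intro a ha b hb
    obtain ⟨a, rfl⟩ := hφB a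
    obtain ⟨b, rfl⟩ := hφB b
    rw [Art.mem_maximalIdeal_iff, homSet_res, ← CRing.mem_maximalIdeal_iff] at ha
    have hb' : φ.1 b = 0 := by
      rw [← hp]
      exact (mem_ker p _).1 hb
    rw [Ideal.mem_bot, ← map_mul, hker]
    exact Ideal.mul_mem_mul ha hb'
  · intro D q hq w hwq
    refine exists_hom_of_ker_le φB hφB w fun x hx => ?_
    have hle : I ≤ RingHom.ker w.1 := by
      rw [hI, Ideal.mul_le]
      intro a ha b hb
      rw [RingHom.mem_ker, map_mul]
      refine IsSemismallExt.mul_eq_zero hq ?_ ?_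
      · rw [Art.mem_maximalIdeal_iff, homSet_res, ← CRing.mem_maximalIdeal_iff]
        exact ha
      · exact (AlgHom.congr_fun (congrArg Subtype.val hwq) b).trans hb
    exact hle ((hker x).1 hx)

/-- The step of Schlessinger's construction. -/
theorem exists_next_stage {P : CRing Λ k} {F : Art Λ k ⥤ Type v} (h1 : S1 F) (s : Stage P F) :
    ∃ (s' : Stage P F) (π : s'.C ⟶ s.C), HomSet.map π s'.φ = s.φ ∧ F.map π s'.u = s.u ∧
      ∀ (D : Art Λ k) (q : D ⟶ s.C), Art.IsSemismallExt q → ∀ w : HomSet P.carrier P.res D,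
        Function.Surjective w.1 → HomSet.map q w = s.φ → (∃ y, F.map q y = s.u) →
          ∃ r : s'.C ⟶ D, HomSet.map r s'.φ = w := by
  obtain ⟨B, p, φB, hp, hφB, hpφ, huni⟩ := exists_universal_semismall s.φ s.surj
  obtain ⟨J₀, ⟨hJ₀, y, hy⟩, hmin⟩ := exists_least_liftsMod h1 p hp s.u
  refine ⟨⟨Art.quot B J₀ (hJ₀.trans (ker_le_maximalIdeal p)),
    HomSet.map (Art.quotMk B J₀ (hJ₀.trans (ker_le_maximalIdeal p))) φB,
    (Art.quotMk_surjective B J₀ (hJ₀.trans (ker_le_maximalIdeal p))).comp hφB, y⟩,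
    Art.quotFactor (hJ₀.trans (ker_le_maximalIdeal p)) p hJ₀, ?_, hy, ?_⟩
  · rw [homSet_map_map, Art.quotMk_quotFactor, hpφ]
  rintro D q hq w hw hwq ⟨z, hz⟩
  obtain ⟨g, hg⟩ := huni D q hq w hwq
  have hgs : Function.Surjective g := fun d => by
    obtain ⟨x, rfl⟩ := hw d
    exact ⟨φB.1 x, AlgHom.congr_fun (congrArg Subtype.val hg) x⟩
  have hgq : g ≫ q = p := hom_ext_apply fun b => by
    obtain ⟨x, rfl⟩ := hφB b
    refine ((congrArg q (AlgHom.congr_fun (congrArg Subtype.val hg) x)).trans ?_)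
    exact (AlgHom.congr_fun (congrArg Subtype.val hwq) x).trans
      (AlgHom.congr_fun (congrArg Subtype.val hpφ) x).symm
  have hgker : RingHom.ker g.toAlgHom ≤ RingHom.ker p.toAlgHom := by
    intro b hb
    rw [mem_ker] at hb ⊢
    rw [← hgq, hom_comp_apply, hb, map_zero]
  haveI : IsIso (Art.quotFactor (hgker.trans (ker_le_maximalIdeal p)) g le_rfl) :=
    isIso_of_bijective _ (quotFactor_bijective _ g rfl hgs)
  obtain ⟨z', hz'⟩ := (bijective_map_of_isIso F
    (Art.quotFactor (hgker.trans (ker_le_maximalIdeal p)) g le_rfl)).2 z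
  have hcomp : Art.quotFactor (hgker.trans (ker_le_maximalIdeal p)) g le_rfl ≫ q =
      Art.quotFactor (hgker.trans (ker_le_maximalIdeal p)) p hgker := by
    apply hom_ext_apply
    intro b
    obtain ⟨b, rfl⟩ := Art.quotMk_surjective B _ (hgker.trans (ker_le_maximalIdeal p)) b
    exact hom_congr_apply hgq b
  have hle : J₀ ≤ RingHom.ker g.toAlgHom :=
    hmin _ ⟨hgker, z', by rw [← hcomp, ← map_map, hz', hz]⟩
  exact ⟨Art.quotFactor (hJ₀.trans (ker_le_maximalIdeal p)) g hle,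
    by rw [homSet_map_map, Art.quotMk_quotFactor, hg]⟩

/-- A quotient of a coefficient ring. -/
theorem exists_cRing_quotient (P : CRing Λ k) (J : Ideal P.carrier)
    (hJ : J ≤ IsLocalRing.maximalIdeal P.carrier) :
    ∃ (R : CRing Λ k) (g : P.carrier →ₐ[Λ] R.carrier), R.res.comp g = P.res ∧
      Function.Surjective g ∧ ∀ x, g x = 0 ↔ x ∈ J := by
  haveI : Nontrivial (P.carrier ⧸ J) := Ideal.Quotient.nontrivial_iff.2 fun h =>
    (IsLocalRing.maximalIdeal.isMaximal P.carrier).ne_top (top_le_iff.1 (h ▸ hJ))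
  haveI : IsLocalRing (P.carrier ⧸ J) :=
    IsLocalRing.of_surjective' (Ideal.Quotient.mk J) Ideal.Quotient.mk_surjective
  haveI : IsNoetherianRing (P.carrier ⧸ J) := inferInstance
  have hmap := IsLocalRing.map_maximalIdeal_of_surjective (Ideal.Quotient.mk J) Ideal.Quotient.mk_surjective
  haveI : IsPrecomplete (IsLocalRing.maximalIdeal (P.carrier ⧸ J)) (P.carrier ⧸ J) := by
    refine ⟨fun f hf => ?_⟩
    have hd : ∀ n, ∃ d ∈ IsLocalRing.maximalIdeal P.carrier ^ n,
        Ideal.Quotient.mk J d = f (n + 1) - f n := by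
      intro n
      have h := (smodEq_iff_sub_mem (IsLocalRing.maximalIdeal (P.carrier ⧸ J)) n _ _).1 (hf n.le_succ)
      rw [← neg_mem_iff, neg_sub, ← hmap, ← Ideal.map_pow] at h
      exact (Ideal.mem_map_iff_of_surjective _ Ideal.Quotient.mk_surjective).1 h
    choose d hd hd' using hd
    obtain ⟨a₀, ha₀⟩ := Ideal.Quotient.mk_surjective (f 0)
    haveI := isPrecomplete_cRing P
    let a : ℕ → P.carrier := fun n => n.rec a₀ fun n r => r + d n
    have ha : ∀ n, Ideal.Quotient.mk J (a n) = f n := by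
      intro n
      induction n with
      | zero => exact ha₀
      | succ n ih =>
        change Ideal.Quotient.mk J (a n + d n) = _
        rw [map_add, ih, hd', add_sub_cancel]
    obtain ⟨L, hL⟩ := exists_limit (IsLocalRing.maximalIdeal P.carrier) a fun n => by
      change a n + d n - a n ∈ _
      rw [add_sub_cancel_left]
      exact hd n
    refine ⟨Ideal.Quotient.mk J L, fun n => (smodEq_iff_sub_mem _ n _ _).2 ?_⟩
    rw [← ha n, ← map_sub, ← hmap, ← Ideal.map_pow]
    exact Ideal.mem_map_of_mem _ (hL n)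
  let R : CRing Λ k :=
    { carrier := P.carrier ⧸ J
      res := Ideal.Quotient.liftₐ J P.res fun a ha => (CRing.mem_maximalIdeal_iff P a).1 (hJ ha)
      res_surjective := fun c => by
        obtain ⟨x, rfl⟩ := P.res_surjective c
        exact ⟨Ideal.Quotient.mk J x, rfl⟩
      isAdicComplete := { } }
  exact ⟨R, Ideal.Quotient.mkₐ Λ J, Ideal.Quotient.liftₐ_comp _ _ _, Ideal.Quotient.mk_surjective,
    fun _ => Ideal.Quotient.eq_zero_iff_mem⟩

/-- A decreasing sequence of ideals, each containing a power of the maximal ideal, is cofinal with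
the powers of the maximal ideal modulo its intersection. -/
theorem exists_le_iInf_sup_pow (P : CRing Λ k) (J : ℕ → Ideal P.carrier) (hJ : Antitone J)
    (hpow : ∀ q, ∃ N, IsLocalRing.maximalIdeal P.carrier ^ N ≤ J q) (N : ℕ) :
    ∃ q, J q ≤ (⨅ q, J q) ⊔ IsLocalRing.maximalIdeal P.carrier ^ N := by
  set M := IsLocalRing.maximalIdeal P.carrier
  haveI := isPrecomplete_cRing P
  haveI hart : ∀ N, IsArtinianRing (P.carrier ⧸ M ^ (N + 1)) := CRing.isArtinianRing_quot_mpow P
  have hstab : ∀ N, ∃ q, ∀ q', J q ⊔ M ^ N ≤ J q' ⊔ M ^ N := by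
    intro N
    cases N with
    | zero => exact ⟨0, fun q' => by rw [pow_zero, Ideal.one_eq_top]; simp⟩
    | succ N =>
      obtain ⟨_, ⟨q, rfl⟩, hmin⟩ := IsArtinian.set_has_minimal
        (Set.range fun q => (J q).map (Ideal.Quotient.mk (M ^ (N + 1)))) ⟨_, 0, rfl⟩
      refine ⟨q, fun q' => ?_⟩
      have hcomap : ∀ i, ((J i).map (Ideal.Quotient.mk (M ^ (N + 1)))).comap
          (Ideal.Quotient.mk (M ^ (N + 1))) = J i ⊔ M ^ (N + 1) := fun i => by
        rw [Ideal.comap_map_of_surjective' _ Ideal.Quotient.mk_surjective, Ideal.mk_ker]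
      have heq : (J (max q q')).map (Ideal.Quotient.mk (M ^ (N + 1))) =
          (J q).map (Ideal.Quotient.mk (M ^ (N + 1))) := by
        by_contra hne
        exact hmin _ ⟨_, rfl⟩ (lt_of_le_of_ne (Ideal.map_mono (hJ (le_max_left _ _))) hne)
      rw [← hcomap q, ← heq, hcomap]
      exact sup_le_sup_right (hJ (le_max_right _ _)) _
  choose qs hqs using hstab
  refine ⟨qs N, fun x hx => ?_⟩
  let L : ℕ → Ideal P.carrier := fun i => J (qs i) ⊔ M ^ i
  have step : ∀ i, ∀ a ∈ L (N + i), ∃ b ∈ L (N + (i + 1)), b - a ∈ M ^ (N + i) := by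
    intro i a ha
    have ha' : a ∈ J (qs (N + (i + 1))) ⊔ M ^ (N + i) := hqs (N + i) _ ha
    obtain ⟨b, hb, c, hc, rfl⟩ := Submodule.mem_sup.1 ha'
    exact ⟨b, Ideal.mem_sup_left hb, by rw [sub_add_cancel_left]; exact neg_mem hc⟩
  choose! next hn₁ hn₂ using step
  let a : ℕ → P.carrier := fun i => i.rec x next
  have ha : ∀ i, a i ∈ L (N + i) := by
    intro i
    induction i with
    | zero => exact Ideal.mem_sup_left hx
    | succ i ih => exact hn₁ i _ ih
  have hdiff : ∀ i, a (i + 1) - a i ∈ M ^ (N + i) := fun i => hn₂ i _ (ha i)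
  obtain ⟨y, hy⟩ := exists_limit M a fun i => Ideal.pow_le_pow_right (Nat.le_add_left i N) (hdiff i)
  have hax : ∀ i, a i - x ∈ M ^ N := by
    intro i
    induction i with
    | zero => simp [a]
    | succ i ih =>
      rw [← sub_add_sub_cancel (a (i + 1)) (a i) x]
      exact add_mem (Ideal.pow_le_pow_right (Nat.le_add_right N i) (hdiff i)) ih
  have hxy : x - y ∈ M ^ N := by
    have h1 := sub_mem (hy N) (hax N)
    rwa [sub_sub_sub_cancel_left] at h1
  have hyJ : y ∈ ⨅ q, J q := by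
    rw [Submodule.mem_iInf]
    intro q
    obtain ⟨M₁, hM₁⟩ := hpow q
    have h1 : a M₁ ∈ J q := by
      refine sup_le le_rfl ((Ideal.pow_le_pow_right (Nat.le_add_left M₁ N)).trans hM₁) ?_
      exact hqs (N + M₁) q (ha M₁)
    have h2 := sub_mem h1 (hM₁ (hy M₁))
    rwa [sub_sub_cancel] at h2
  rw [← add_sub_cancel y x]
  exact add_mem (Ideal.mem_sup_left hyJ) (Ideal.mem_sup_right hxy)

/-- Schlessinger's construction: from an element over `k ⊕ k^n` inducing all tangent vectors to a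
versal family, miniversal if the tangent vectors are induced uniquely. -/
theorem exists_versal [IsNoetherianRing Λ] [Module.Finite Λ k] {F : Art Λ k ⥤ Type v}
    (h1 : S1 F) (h2 : Heps F) (P : CRing Λ k) (hP : IsSmoothFunctor (hR P.carrier P.res))
    (E : Art Λ k) (π : HomSet P.carrier P.res E) (hπ : Function.Surjective π.1)
    (hfac : ∀ v : HomSet P.carrier P.res (Art.dual Λ k), ∃ ψ : E ⟶ Art.dual Λ k, HomSet.map ψ π = v)
    (ξ₁ : F.obj E) (hsurj : Function.Surjective fun ψ : E ⟶ Art.dual Λ k => F.map ψ ξ₁) :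
    ∃ V : VersalPair F,
      (Function.Injective (fun ψ : E ⟶ Art.dual Λ k => F.map ψ ξ₁) → IsMiniversal V.family) := by
  choose nx π' hπφ hπu huniv using exists_next_stage (P := P) h1
  let St : ℕ → Stage P F := fun q => q.rec ⟨E, π, hπ, ξ₁⟩ fun _ s => nx s
  let J : ℕ → Ideal P.carrier := fun q => RingHom.ker (St q).φ.1
  have hJanti : Antitone J := antitone_nat_of_succ_le fun q x hx => by
    have hx' : (St (q + 1)).φ.1 x = 0 := hx
    change (St q).φ.1 x = 0
    rw [← hπφ (St q)]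
    change π' (St q) ((St (q + 1)).φ.1 x) = 0
    rw [hx', map_zero]
  have hJpow : ∀ q, ∃ N, IsLocalRing.maximalIdeal P.carrier ^ N ≤ J q := by
    intro q
    obtain ⟨N, hN⟩ := exists_maximalIdeal_pow_eq_bot (St q).C
    refine ⟨N, fun x hx => homSet_pow_le_ker _ hN ?_⟩
    rwa [ker_res_cRing]
  have hJm : (⨅ q, J q) ≤ IsLocalRing.maximalIdeal P.carrier := fun x hx => by
    have hx0 : π.1 x = 0 := (Submodule.mem_iInf _).1 hx 0
    rw [CRing.mem_maximalIdeal_iff, ← homSet_res π, hx0, map_zero]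
  obtain ⟨R, g, hg, hgs, hgker⟩ := exists_cRing_quotient P _ hJm
  -- the maps `R → C_q`
  have hbar : ∀ q, ∃ ψ : HomSet R.carrier R.res (St q).C, ∀ x, ψ.1 (g x) = (St q).φ.1 x := by
    intro q
    let e : (P.carrier ⧸ RingHom.ker g) ≃ₐ[Λ] R.carrier := Ideal.quotientKerAlgEquivOfSurjective hgs
    let f : R.carrier →ₐ[Λ] (St q).C :=
      (Ideal.Quotient.liftₐ (RingHom.ker g) (St q).φ.1 fun x hx =>
        (Submodule.mem_iInf _).1 ((hgker x).1 hx) q).comp e.symm.toAlgHom
    have hf : ∀ x, f (g x) = (St q).φ.1 x := fun x => by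
      have : e.symm (g x) = Ideal.Quotient.mk _ x := by rw [AlgEquiv.symm_apply_eq]; rfl
      change Ideal.Quotient.liftₐ (RingHom.ker g) (St q).φ.1 (fun x hx =>
        (Submodule.mem_iInf _).1 ((hgker x).1 hx) q) (e.symm (g x)) = _
      rw [this]
      rfl
    refine ⟨⟨f, AlgHom.ext fun y => ?_⟩, hf⟩
    obtain ⟨x, rfl⟩ := hgs y
    rw [AlgHom.comp_apply, hf, homSet_res]
    exact (AlgHom.congr_fun hg x).symm
  choose ρ hρ using hbar
  have hρs : ∀ q, Function.Surjective (ρ q).1 := fun q c => by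
    obtain ⟨x, rfl⟩ := (St q).surj c
    exact ⟨g x, hρ q x⟩
  have hρπ : ∀ q, HomSet.map (π' (St q)) (ρ (q + 1)) = ρ q := fun q => homSet_ext' fun y => by
    obtain ⟨x, rfl⟩ := hgs y
    rw [hρ q x]
    exact (congrArg (π' (St q)) (hρ (q + 1) x)).trans
      (AlgHom.congr_fun (congrArg Subtype.val (hπφ (St q))) x)
  let tr : ∀ q d, (St (q + d)).C ⟶ (St q).C := fun q d =>
    d.rec (𝟙 _) fun d t => π' (St (q + d)) ≫ t
  have htr : ∀ q d, HomSet.map (tr q d) (ρ (q + d)) = ρ q ∧ F.map (tr q d) (St (q + d)).u = (St q).u := by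
    intro q d
    induction d with
    | zero => exact ⟨homSet_map_id _, by simp [tr]⟩
    | succ d ih =>
      refine ⟨(homSet_map_map (π' (St (q + d))) (tr q d) (ρ (q + d + 1))).symm.trans ?_, ?_⟩
      · rw [hρπ]; exact ih.1
      · refine (map_map (π' (St (q + d))) (tr q d) (St (q + d + 1)).u).symm.trans ?_
        rw [show F.map (π' (St (q + d))) (St (q + d + 1)).u = (St (q + d)).u from hπu _]
        exact ih.2
  have hfactor : ∀ (A : Art Λ k) (φ : HomSet R.carrier R.res A),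
      ∃ (q : ℕ) (f : (St q).C ⟶ A), HomSet.map f (ρ q) = φ := by
    intro A φ
    obtain ⟨N, hN⟩ := exists_maximalIdeal_pow_eq_bot A
    obtain ⟨q, hq⟩ := exists_le_iInf_sup_pow P J hJanti hJpow N
    let φP : HomSet P.carrier P.res A := ⟨φ.1.comp g, by rw [← AlgHom.comp_assoc, φ.2, hg]⟩
    obtain ⟨f, hf⟩ := exists_hom_of_ker_le (St q).φ (St q).surj φP fun x hx => by
      obtain ⟨a, ha, b, hb, rfl⟩ := Submodule.mem_sup.1 (hq hx)
      change φ.1 (g (a + b)) = 0
      have h0' : φP.1 b = 0 := homSet_pow_le_ker φP hN (by rwa [ker_res_cRing])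
      rw [map_add, (hgker a).2 ha, zero_add]
      exact h0'
    refine ⟨q, f, homSet_ext' fun y => ?_⟩
    obtain ⟨x, rfl⟩ := hgs y
    exact (congrArg f (hρ q x)).trans (AlgHom.congr_fun (congrArg Subtype.val hf) x)
  have hwd : ∀ {A : Art Λ k} {q r : ℕ} (f : (St q).C ⟶ A) (h : (St r).C ⟶ A),
      HomSet.map f (ρ q) = HomSet.map h (ρ r) → F.map f (St q).u = F.map h (St r).u := by
    have key : ∀ {A : Art Λ k} {q r d : ℕ} (f : (St q).C ⟶ A) (h : (St r).C ⟶ A), r = q + d →
        HomSet.map f (ρ q) = HomSet.map h (ρ r) → F.map f (St q).u = F.map h (St r).u := by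
      intro A q r d f h hr e
      subst hr
      rw [← (htr q d).2, map_map]
      refine map_congr (hom_ext_apply fun c => ?_) _
      obtain ⟨y, rfl⟩ := hρs (q + d) c
      have e' := AlgHom.congr_fun (congrArg Subtype.val e) y
      rw [← (htr q d).1] at e'
      exact e'
    intro A q r f h e
    rcases le_total q r with hle | hle
    · exact key (d := r - q) f h (by omega) e
    · exact (key (d := q - r) h f (by omega) e.symm).symm
  choose qA fA hfA using hfactor
  let ξ : Family R.carrier R.res F :=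
    { app := fun A φ => F.map (fA A φ) (St (qA A φ)).u
      natural := fun {A B} h φ => by
        rw [map_map]
        exact hwd _ _ (by rw [hfA, ← homSet_map_map, hfA]) }
  have hξ : ∀ q, ξ.app _ (ρ q) = (St q).u := fun q => by
    change F.map (fA _ (ρ q)) _ = _
    rw [hwd (fA _ (ρ q)) (𝟙 _) (by rw [hfA, homSet_map_id])]
    simp
  have hdual : ∀ v : HomSet R.carrier R.res (Art.dual Λ k), ∃ ψ : E ⟶ Art.dual Λ k,
      HomSet.map ψ (ρ 0) = v := by
    intro v
    obtain ⟨ψ, hψ⟩ := hfac ⟨v.1.comp g, by rw [← AlgHom.comp_assoc, v.2, hg]⟩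
    refine ⟨ψ, homSet_ext' fun y => ?_⟩
    obtain ⟨x, rfl⟩ := hgs y
    exact (congrArg ψ (hρ 0 x)).trans (AlgHom.congr_fun (congrArg Subtype.val hψ) x)
  have hξψ : ∀ ψ : E ⟶ Art.dual Λ k, ξ.app _ (HomSet.map ψ (ρ 0)) = F.map ψ ξ₁ := fun ψ => by
    rw [ξ.natural]
    exact congrArg (F.map ψ) (hξ 0)
  have htsurj : Function.Surjective (ξ.app (Art.dual Λ k)) := fun θ => by
    obtain ⟨ψ, rfl⟩ := hsurj θ
    exact ⟨_, hξψ ψ⟩
  have hver : IsVersal ξ := by
    refine isVersal_of_smallExt ξ fun B A μ hμ φ y hy => ?_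
    suffices ∃ ψ : HomSet R.carrier R.res B, HomSet.map μ ψ = φ by
      obtain ⟨ψ, rfl⟩ := this
      exact exists_adjust_lift (F := hR R.carrier R.res) (fun A => ξ.app A) (isNatMap_family ξ)
        subsingleton_homSet_base (RS.heps (rs_hR _ _)) (((s1_iff_hbar F).1) h1) h2 htsurj μ hμ ψ y hy
    obtain ⟨q, f, rfl⟩ : ∃ q f, HomSet.map f (ρ q) = φ := ⟨_, _, hfA A φ⟩
    obtain ⟨D, a, b, hD⟩ := exists_isFibreProd f μ hμ.1
    have hDsm : Art.IsSmallExt a := IsFibreProd.isSmallExt_fst hD hμ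
    obtain ⟨w, hw⟩ : ∃ w : HomSet P.carrier P.res D, HomSet.map a w = (St q).φ := hP a hDsm.1 (St q).φ
    obtain ⟨yD, hyD, -⟩ := (cmp_surjective_iff hD).1 (h1 _ _ _ _ hD hμ.1) (St q).u y
      (by rw [hy, ξ.natural, hξ])
    suffices ∃ (q' : ℕ) (t : (St q').C ⟶ D) (tq : (St q').C ⟶ (St q).C), t ≫ a = tq ∧
        HomSet.map tq (ρ q') = ρ q by
      obtain ⟨q', t, tq, ht, htq⟩ := this
      refine ⟨HomSet.map (t ≫ b) (ρ q'), ?_⟩
      rw [homSet_map_map, Category.assoc, ← hD.w, ← Category.assoc, ht, ← homSet_map_map, htq]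
    by_cases hws : Function.Surjective w.1
    · obtain ⟨r, hr⟩ := huniv (St q) D a hDsm.isSemismallExt w hws hw ⟨yD, hyD⟩
      refine ⟨q + 1, r, π' (St q), hom_ext_apply fun c => ?_, hρπ q⟩
      obtain ⟨x, rfl⟩ := (St (q + 1)).surj c
      refine Eq.trans ?_ (AlgHom.congr_fun (congrArg Subtype.val (hπφ (St q))) x).symm
      refine Eq.trans ?_ (AlgHom.congr_fun (congrArg Subtype.val hw) x)
      exact congrArg a (AlgHom.congr_fun (congrArg Subtype.val hr) x)
    · obtain ⟨d, hd, hd0, had, hmd⟩ := IsSmallExt.exists_generator hDsm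
      obtain ⟨r, hr⟩ := exists_hom_of_ker_le (St q).φ (St q).surj w fun x hx => by
        by_contra hwx
        refine hws fun z => ?_
        have hax : a (w.1 x) = 0 := (AlgHom.congr_fun (congrArg Subtype.val hw) x).trans hx
        obtain ⟨c, hc⟩ := Ideal.mem_span_singleton'.1 (hd ▸ (mem_ker a _).2 hax)
        have hc' : D.res c ≠ 0 := fun h => hwx (by
          rw [← hc, hmd c ((Art.mem_maximalIdeal_iff _ _).2 h)])
        obtain ⟨x', hx'⟩ := (St q).surj (a z)
        have haz : a (z - w.1 x') = 0 := by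
          rw [map_sub, ← hx', ← hw]
          exact sub_self _
        obtain ⟨e, he⟩ := Ideal.mem_span_singleton'.1 (hd ▸ (mem_ker a _).2 haz)
        obtain ⟨c', hc''⟩ := P.res_surjective (D.res e / D.res c)
        refine ⟨x' + c' * x, ?_⟩
        rw [map_add, map_mul, ← hc, ← mul_assoc, add_comm, ← eq_sub_iff_add_eq, ← he,
          ← sub_eq_zero, ← sub_mul]
        refine hmd _ ?_
        rw [Art.mem_maximalIdeal_iff, map_sub, map_mul, homSet_res, hc'', div_mul_cancel₀ _ hc', sub_self]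
      refine ⟨q, r, 𝟙 _, hom_ext_apply fun c => ?_, homSet_map_id _⟩
      obtain ⟨x, rfl⟩ := (St q).surj c
      exact (congrArg a (AlgHom.congr_fun (congrArg Subtype.val hr) x)).trans
        (AlgHom.congr_fun (congrArg Subtype.val hw) x)
  refine ⟨⟨R, ξ, hver⟩, fun hinj => ⟨hver, fun v₁ v₂ hv => ?_, htsurj⟩⟩
  obtain ⟨ψ₁, rfl⟩ := hdual v₁
  obtain ⟨ψ₂, rfl⟩ := hdual v₂
  have hv' : ξ.app _ (HomSet.map ψ₁ (ρ 0)) = ξ.app _ (HomSet.map ψ₂ (ρ 0)) := hv
  rw [hξψ, hξψ] at hv'
  rw [hinj hv']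

end Groth.Agent.Lib.ArtinFun
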