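import Groth.Agent.Lib.ArtinFun.Completion
import Groth.Agent.Lib.ArtinFun.Versal

/-!
# Pushouts of coefficient rings
-/

universe u v

open CategoryTheory ArtFun

set_option linter.style.haveILetI false

namespace Groth.Agent.Lib.ArtinFun

variable {Λ : Type u} {k : Type u} [CommRing Λ] [Field k] [Algebra Λ k] [IsNoetherianRing Λ]

/-- The free coefficient ring on finitely many generators with prescribed residues. -/
theorem exists_free_cRing {σ : Type} [Finite σ] (ρ : σ → k)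
    (hρ : Function.Surjective (MvPolynomial.aeval (R := Λ) ρ)) :
    ∃ (Q : CRing Λ k) (X : σ → Q.carrier), (∀ i, Q.res (X i) = ρ i) ∧
      ∀ (T : CRing Λ k) (t : σ → T.carrier), (∀ i, T.res (t i) = ρ i) →
        ∃! g : Q.carrier →ₐ[Λ] T.carrier, T.res.comp g = Q.res ∧ ∀ i, g (X i) = t i := by
  obtain ⟨Q, ι, hι, huniv⟩ := exists_completion (MvPolynomial σ Λ) (MvPolynomial.aeval ρ) hρ
  refine ⟨Q, fun i => ι (MvPolynomial.X i), fun i => by
    rw [← AlgHom.comp_apply, hι, MvPolynomial.aeval_X], fun T t ht => ?_⟩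
  have hres : T.res.comp (MvPolynomial.aeval t) = MvPolynomial.aeval ρ :=
    MvPolynomial.algHom_ext fun i => by simp [ht]
  choose θ hθ hθu using fun n => huniv (T.trunc n)
    (⟨(T.truncHom n).1.comp (MvPolynomial.aeval t), by rw [← AlgHom.comp_assoc, (T.truncHom n).2, hres]⟩ :
      HomSet (MvPolynomial σ Λ) (MvPolynomial.aeval ρ) (T.trunc n))
  obtain ⟨g, hg, hgθ⟩ := exists_algHom_of_trunc T θ fun n => hθu n _ fun b => by
    change T.truncMap n ((θ (n + 1)).1 (ι b)) = _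
    rw [hθ]
    rfl
  refine ⟨g, ⟨hg, fun i => ?_⟩, fun g' ⟨hg', hg'X⟩ => ?_⟩
  · have e : g.comp ι = MvPolynomial.aeval t :=
      algHom_ext_trunc T fun n b => by rw [AlgHom.comp_apply, hgθ, hθ]; rfl
    exact (AlgHom.congr_fun e _).trans (MvPolynomial.aeval_X _ _)
  · refine algHom_ext_trunc T fun n r => ?_
    rw [hgθ]
    have e : g'.comp ι = MvPolynomial.aeval t := MvPolynomial.algHom_ext fun i => by simp [hg'X]
    have h1 := hθu n (⟨(T.truncHom n).1.comp g', by rw [← AlgHom.comp_assoc, (T.truncHom n).2, hg']⟩ :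
      HomSet Q.carrier Q.res (T.trunc n)) fun b => by
        change (T.truncHom n).1 (g' (ι b)) = _
        rw [show g' (ι b) = MvPolynomial.aeval t b from AlgHom.congr_fun e b]
        rfl
    exact AlgHom.congr_fun (congrArg Subtype.val h1) r

variable [Module.Finite Λ k]

/-- A presentation of a coefficient ring. -/
theorem exists_presentation (S : CRing Λ k) :
    ∃ (m : ℕ) (x : Fin m → S.carrier),
      Function.Surjective (MvPolynomial.aeval (R := Λ) fun i => S.res (x i)) ∧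
      ∀ (Q : CRing Λ k) (π : Q.carrier →ₐ[Λ] S.carrier), S.res.comp π = Q.res →
        (∀ i, x i ∈ Set.range π) → Function.Surjective π := by
  obtain ⟨m, x, hx⟩ := exists_generators (Λ := Λ) S.res S.res_surjective (fg_maximalIdeal S)
  refine ⟨m, x, fun c => ?_, fun Q π hπ hxr => ?_⟩
  · obtain ⟨s, rfl⟩ := S.res_surjective c
    obtain ⟨p, hp⟩ := hx s 1
    rw [pow_one, CRing.mem_maximalIdeal_iff, map_sub, sub_eq_zero, MvPolynomial.comp_aeval_apply] at hp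
    exact ⟨p, hp.symm⟩
  · choose y hy using hxr
    haveI : IsPrecomplete (RingHom.ker Q.res) Q.carrier := by
      rw [ker_res_cRing]; exact isPrecomplete_cRing Q
    refine surjective_of_map_sup_sq S.res S.res_surjective Q.res Q.res_surjective π hπ
      (le_antisymm (sup_le ?_ (Ideal.pow_le_self two_ne_zero)) fun r hr => ?_)
    · rw [Ideal.map_le_iff_le_comap]
      intro f hf
      rw [Ideal.mem_comap, CRing.mem_maximalIdeal_iff]
      exact (AlgHom.congr_fun hπ f).trans hf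
    · obtain ⟨p, hp⟩ := hx r 2
      have hval : π (MvPolynomial.aeval y p) = MvPolynomial.aeval x p := by
        rw [MvPolynomial.comp_aeval_apply]
        exact congrArg (fun z => MvPolynomial.aeval z p) (funext hy)
      rw [← sub_add_cancel r (MvPolynomial.aeval x p), ← hval]
      refine add_mem (Ideal.mem_sup_right (by rwa [hval])) (Ideal.mem_sup_left (Ideal.mem_map_of_mem _ ?_))
      rw [RingHom.mem_ker, ← hπ]
      change S.res (π (MvPolynomial.aeval y p)) = 0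
      rw [hval, ← CRing.mem_maximalIdeal_iff]
      have := sub_mem hr (Ideal.pow_le_self two_ne_zero hp)
      rwa [sub_sub_cancel] at this

omit [IsNoetherianRing Λ] [Module.Finite Λ k] in
lemma comp_lift_eq {Q : Type u} [CommRing Q] [Algebra Λ Q] {S T : Type u} [CommRing S] [Algebra Λ S]
    [CommRing T] [Algebra Λ T] (π : Q →ₐ[Λ] S) (hπ : Function.Surjective π) (g : Q →ₐ[Λ] T)
    (h : ∀ q, π q = 0 → g q = 0) : ∃ l : S →ₐ[Λ] T, ∀ q, l (π q) = g q := by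
  refine ⟨(Ideal.Quotient.liftₐ (RingHom.ker π) g fun q hq => h q hq).comp
    (Ideal.quotientKerAlgEquivOfSurjective hπ).symm.toAlgHom, fun q => ?_⟩
  have e : (Ideal.quotientKerAlgEquivOfSurjective hπ).symm (π q) = Ideal.Quotient.mk _ q := by
    rw [AlgEquiv.symm_apply_eq]; rfl
  change Ideal.Quotient.liftₐ (RingHom.ker π) g (fun q hq => h q hq)
    ((Ideal.quotientKerAlgEquivOfSurjective hπ).symm (π q)) = _
  rw [e]
  rfl

/-- Pushouts of coefficient rings: `I` is a set of relations between the two factors. -/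
theorem exists_amalgam (S₁ S₂ : CRing Λ k) {ι : Type u} (r₁ : ι → S₁.carrier) (r₂ : ι → S₂.carrier)
    (hr : ∀ i, S₁.res (r₁ i) = S₂.res (r₂ i)) :
    ∃ (P : CRing Λ k) (i₁ : S₁.carrier →ₐ[Λ] P.carrier) (i₂ : S₂.carrier →ₐ[Λ] P.carrier),
      P.res.comp i₁ = S₁.res ∧ P.res.comp i₂ = S₂.res ∧ (∀ i, i₁ (r₁ i) = i₂ (r₂ i)) ∧
      ∀ (T : CRing Λ k) (g₁ : S₁.carrier →ₐ[Λ] T.carrier) (g₂ : S₂.carrier →ₐ[Λ] T.carrier),
        T.res.comp g₁ = S₁.res → T.res.comp g₂ = S₂.res → (∀ i, g₁ (r₁ i) = g₂ (r₂ i)) →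
          ∃! h : P.carrier →ₐ[Λ] T.carrier, T.res.comp h = P.res ∧ h.comp i₁ = g₁ ∧ h.comp i₂ = g₂ := by
  obtain ⟨m₁, x₁, hx₁, hs₁⟩ := exists_presentation S₁
  obtain ⟨m₂, x₂, hx₂, hs₂⟩ := exists_presentation S₂
  let ρ₁ : Fin m₁ → k := fun i => S₁.res (x₁ i)
  let ρ₂ : Fin m₂ → k := fun i => S₂.res (x₂ i)
  let ρ : Fin m₁ ⊕ Fin m₂ → k := Sum.elim ρ₁ ρ₂
  have hρ : Function.Surjective (MvPolynomial.aeval (R := Λ) ρ) := fun c => by
    obtain ⟨p, rfl⟩ := hx₁ c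
    exact ⟨MvPolynomial.rename Sum.inl p, by rw [MvPolynomial.aeval_rename]; rfl⟩
  obtain ⟨Q₁, X₁, hX₁, hu₁⟩ := exists_free_cRing ρ₁ hx₁
  obtain ⟨Q₂, X₂, hX₂, hu₂⟩ := exists_free_cRing ρ₂ hx₂
  obtain ⟨Q, X, hX, hu⟩ := exists_free_cRing ρ hρ
  obtain ⟨π₁, ⟨hπ₁, hπ₁X⟩, -⟩ := hu₁ S₁ x₁ fun _ => rfl
  obtain ⟨π₂, ⟨hπ₂, hπ₂X⟩, -⟩ := hu₂ S₂ x₂ fun _ => rfl
  have hπ₁s := hs₁ Q₁ π₁ hπ₁ fun i => ⟨_, hπ₁X i⟩
  have hπ₂s := hs₂ Q₂ π₂ hπ₂ fun i => ⟨_, hπ₂X i⟩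
  obtain ⟨j₁, ⟨hj₁, hj₁X⟩, -⟩ := hu₁ Q (fun i => X (Sum.inl i)) fun i => hX _
  obtain ⟨j₂, ⟨hj₂, hj₂X⟩, -⟩ := hu₂ Q (fun i => X (Sum.inr i)) fun i => hX _
  choose q₁ hq₁ using fun i => hπ₁s (r₁ i)
  choose q₂ hq₂ using fun i => hπ₂s (r₂ i)
  let J : Ideal Q.carrier := (RingHom.ker π₁).map j₁ ⊔ (RingHom.ker π₂).map j₂ ⊔
    Ideal.span (Set.range fun i => j₁ (q₁ i) - j₂ (q₂ i))
  have hJ : J ≤ IsLocalRing.maximalIdeal Q.carrier := by
    refine sup_le (sup_le ?_ ?_) ?_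
    · rw [Ideal.map_le_iff_le_comap]
      intro q hq
      rw [Ideal.mem_comap, CRing.mem_maximalIdeal_iff]
      rw [show Q.res (j₁ q) = S₁.res (π₁ q) from (AlgHom.congr_fun hj₁ q).trans (AlgHom.congr_fun hπ₁ q).symm,
        RingHom.mem_ker.1 hq, map_zero]
    · rw [Ideal.map_le_iff_le_comap]
      intro q hq
      rw [Ideal.mem_comap, CRing.mem_maximalIdeal_iff]
      rw [show Q.res (j₂ q) = S₂.res (π₂ q) from (AlgHom.congr_fun hj₂ q).trans (AlgHom.congr_fun hπ₂ q).symm,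
        RingHom.mem_ker.1 hq, map_zero]
    · rw [Ideal.span_le]
      rintro _ ⟨i, rfl⟩
      rw [SetLike.mem_coe, CRing.mem_maximalIdeal_iff, map_sub,
        show Q.res (j₁ (q₁ i)) = S₁.res (π₁ (q₁ i)) from
          (AlgHom.congr_fun hj₁ _).trans (AlgHom.congr_fun hπ₁ _).symm,
        show Q.res (j₂ (q₂ i)) = S₂.res (π₂ (q₂ i)) from
          (AlgHom.congr_fun hj₂ _).trans (AlgHom.congr_fun hπ₂ _).symm, hq₁, hq₂, hr, sub_self]
  obtain ⟨P, p, hp, hps, hpk⟩ := exists_cRing_quotient Q J hJ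
  obtain ⟨i₁, hi₁⟩ := comp_lift_eq π₁ hπ₁s (p.comp j₁) fun q hq =>
    (hpk _).2 (Ideal.mem_sup_left (Ideal.mem_sup_left (Ideal.mem_map_of_mem _ hq)))
  obtain ⟨i₂, hi₂⟩ := comp_lift_eq π₂ hπ₂s (p.comp j₂) fun q hq =>
    (hpk _).2 (Ideal.mem_sup_left (Ideal.mem_sup_right (Ideal.mem_map_of_mem _ hq)))
  refine ⟨P, i₁, i₂, ?_, ?_, fun i => ?_, fun T g₁ g₂ hg₁ hg₂ hgr => ?_⟩
  · refine AlgHom.ext fun s => ?_
    obtain ⟨q, rfl⟩ := hπ₁s s
    rw [AlgHom.comp_apply, hi₁]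
    exact (AlgHom.congr_fun hp _).trans ((AlgHom.congr_fun hj₁ q).trans (AlgHom.congr_fun hπ₁ q).symm)
  · refine AlgHom.ext fun s => ?_
    obtain ⟨q, rfl⟩ := hπ₂s s
    rw [AlgHom.comp_apply, hi₂]
    exact (AlgHom.congr_fun hp _).trans ((AlgHom.congr_fun hj₂ q).trans (AlgHom.congr_fun hπ₂ q).symm)
  · rw [← hq₁, ← hq₂, hi₁, hi₂]
    change p (j₁ (q₁ i)) = p (j₂ (q₂ i))
    rw [← sub_eq_zero, ← map_sub]
    exact (hpk _).2 (Ideal.mem_sup_right (Ideal.subset_span ⟨i, rfl⟩))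
  obtain ⟨G, ⟨hG, hGX⟩, hGu⟩ := hu T (Sum.elim (fun i => g₁ (x₁ i)) fun i => g₂ (x₂ i)) fun i => by
    cases i with
    | inl i => exact AlgHom.congr_fun hg₁ _
    | inr i => exact AlgHom.congr_fun hg₂ _
  have hG₁ : ∀ q, G (j₁ q) = g₁ (π₁ q) := fun q => AlgHom.congr_fun
    ((hu₁ T (fun i => g₁ (x₁ i)) fun i => AlgHom.congr_fun hg₁ _).unique (y₁ := G.comp j₁) (y₂ := g₁.comp π₁)
      ⟨by rw [← AlgHom.comp_assoc, hG, hj₁], fun i => by rw [AlgHom.comp_apply, hj₁X, hGX]; rfl⟩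
      ⟨by rw [← AlgHom.comp_assoc, hg₁, hπ₁], fun i => by rw [AlgHom.comp_apply, hπ₁X]⟩) q
  have hG₂ : ∀ q, G (j₂ q) = g₂ (π₂ q) := fun q => AlgHom.congr_fun
    ((hu₂ T (fun i => g₂ (x₂ i)) fun i => AlgHom.congr_fun hg₂ _).unique (y₁ := G.comp j₂) (y₂ := g₂.comp π₂)
      ⟨by rw [← AlgHom.comp_assoc, hG, hj₂], fun i => by rw [AlgHom.comp_apply, hj₂X, hGX]; rfl⟩
      ⟨by rw [← AlgHom.comp_assoc, hg₂, hπ₂], fun i => by rw [AlgHom.comp_apply, hπ₂X]⟩) q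
  have hkill : J ≤ RingHom.ker G := by
    refine sup_le (sup_le ?_ ?_) ?_
    · rw [Ideal.map_le_iff_le_comap]
      intro q hq
      rw [Ideal.mem_comap, RingHom.mem_ker, hG₁, RingHom.mem_ker.1 hq, map_zero]
    · rw [Ideal.map_le_iff_le_comap]
      intro q hq
      rw [Ideal.mem_comap, RingHom.mem_ker, hG₂, RingHom.mem_ker.1 hq, map_zero]
    · rw [Ideal.span_le]
      rintro _ ⟨i, rfl⟩
      rw [SetLike.mem_coe, RingHom.mem_ker, map_sub, hG₁, hG₂, hq₁, hq₂, hgr, sub_self]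
  obtain ⟨h, hh⟩ := comp_lift_eq p hps G fun q hq => hkill ((hpk q).1 hq)
  refine ⟨h, ⟨?_, ?_, ?_⟩, fun h' ⟨hh', hh₁, hh₂⟩ => ?_⟩
  · refine AlgHom.ext fun s => ?_
    obtain ⟨q, rfl⟩ := hps s
    rw [AlgHom.comp_apply, hh]
    exact (AlgHom.congr_fun hG q).trans (AlgHom.congr_fun hp q).symm
  · refine AlgHom.ext fun s => ?_
    obtain ⟨q, rfl⟩ := hπ₁s s
    rw [AlgHom.comp_apply, hi₁]
    exact (hh _).trans (hG₁ q)
  · refine AlgHom.ext fun s => ?_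
    obtain ⟨q, rfl⟩ := hπ₂s s
    rw [AlgHom.comp_apply, hi₂]
    exact (hh _).trans (hG₂ q)
  · refine AlgHom.ext fun s => ?_
    obtain ⟨q, rfl⟩ := hps s
    rw [hh]
    refine AlgHom.congr_fun (hGu (h'.comp p) ⟨by rw [← AlgHom.comp_assoc, hh', hp], fun i => ?_⟩) q
    cases i with
    | inl i =>
      rw [AlgHom.comp_apply, ← hj₁X, show p (j₁ (X₁ i)) = i₁ (π₁ (X₁ i)) from (hi₁ _).symm,
        show h' (i₁ (π₁ (X₁ i))) = g₁ (π₁ (X₁ i)) from AlgHom.congr_fun hh₁ _, hπ₁X]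
      rfl
    | inr i =>
      rw [AlgHom.comp_apply, ← hj₂X, show p (j₂ (X₂ i)) = i₂ (π₂ (X₂ i)) from (hi₂ _).symm,
        show h' (i₂ (π₂ (X₂ i))) = g₂ (π₂ (X₂ i)) from AlgHom.congr_fun hh₂ _, hπ₂X]
      rfl

end Groth.Agent.Lib.ArtinFun
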