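import Groth.Agent.Lib.ArtinFun.Basic
import Groth.Agent.Lib.ArtinFun.Pushout
import Groth.Prelude.Def_ArtFun3
import Mathlib.LinearAlgebra.Contraction
import Mathlib.RingTheory.Filtration
import Mathlib.RingTheory.Nakayama
import Mathlib.LinearAlgebra.TensorProduct.Basis
import Mathlib.RingTheory.RegularLocalRing.Defs
import Mathlib.RingTheory.Ideal.KrullsHeightTheorem

/-!
# Obstruction theories of presented algebras
-/

universe u v

open CategoryTheory ArtFun
open scoped TensorProduct

set_option linter.style.haveILetI false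

namespace Groth.Agent.Lib.ArtinFun

variable {k : Type u} [Field k]

lemma dualTensorHomEquiv_lTensor {V M N : Type u} [AddCommGroup V] [Module k V] [Module.Finite k V]
    [AddCommGroup M] [Module k M] [AddCommGroup N] [Module k N] (f : M →ₗ[k] N)
    (x : Module.Dual k V ⊗[k] M) :
    dualTensorHomEquiv k V N (LinearMap.lTensor _ f x) = f.comp (dualTensorHomEquiv k V M x) := by
  induction x using TensorProduct.induction_on with
  | zero => simp
  | tmul g m => refine LinearMap.ext fun v => ?_; simp [dualTensorHomEquiv]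
  | add a b ha hb => simp only [map_add, ha, hb, LinearMap.comp_add]

section Presented

variable {P R : Type u} [CommRing P] [IsLocalRing P] [IsNoetherianRing P] [Algebra k P]
  [CommRing R] [Algebra k R]
variable (resP : P →ₐ[k] k) (resR : R →ₐ[k] k) (q : P →ₐ[k] R)

omit [IsNoetherianRing P] in
lemma res_eq_zero_iff_mem (x : P) : resP x = 0 ↔ x ∈ IsLocalRing.maximalIdeal P :=
  res_eq_zero_iff resP (fun c => ⟨algebraMap k P c, resP.commutes c⟩) x

omit [IsNoetherianRing P] in
lemma homSet_mem_maximalIdeal {A : Art k k} (ψ : HomSet P resP A) {x : P}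
    (hx : x ∈ IsLocalRing.maximalIdeal P) : ψ.1 x ∈ IsLocalRing.maximalIdeal A := by
  rw [Art.mem_maximalIdeal_iff, homSet_res]
  exact (res_eq_zero_iff_mem resP x).2 hx

omit [IsNoetherianRing P] in
/-- Two lifts agree on the square of the maximal ideal. -/
lemma eq_on_sq {B A : Art k k} {p : B ⟶ A} (hp : Art.IsSemismallExt p) (ψ ψ' : HomSet P resP B)
    (h : ∀ x, p (ψ.1 x) = p (ψ'.1 x)) {x : P} (hx : x ∈ IsLocalRing.maximalIdeal P ^ 2) :
    ψ.1 x = ψ'.1 x := by
  rw [pow_two] at hx
  refine Submodule.mul_induction_on hx (fun a ha b hb => ?_) fun a b ha hb => by rw [map_add, map_add, ha, hb]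
  have h1 : ψ.1 b * (ψ.1 a - ψ'.1 a) = 0 :=
    IsSemismallExt.mul_eq_zero hp (homSet_mem_maximalIdeal resP ψ hb) (by rw [map_sub, h, sub_self])
  have h2 : ψ'.1 a * (ψ.1 b - ψ'.1 b) = 0 :=
    IsSemismallExt.mul_eq_zero hp (homSet_mem_maximalIdeal resP ψ' ha) (by rw [map_sub, h, sub_self])
  rw [map_mul, map_mul]
  linear_combination h1 + h2

omit [IsNoetherianRing P] in
lemma smul_le_maximal {J : Ideal P} (hJ : J ≤ IsLocalRing.maximalIdeal P ^ 2) :
    J ≤ IsLocalRing.maximalIdeal P :=
  hJ.trans (Ideal.pow_le_self two_ne_zero)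

lemma finite_cotangent_ideal (J : Ideal P) (resP : P →ₐ[k] k) :
    Module.Finite k (↥J ⧸ (IsLocalRing.maximalIdeal P • (⊤ : Submodule P ↥J))) := by
  set N := IsLocalRing.maximalIdeal P • (⊤ : Submodule P ↥J)
  obtain ⟨s, hs⟩ := IsNoetherian.noetherian (⊤ : Submodule P (↥J ⧸ N))
  refine ⟨⟨s, eq_top_iff.2 fun y _ => ?_⟩⟩
  have hy : y ∈ Submodule.span P (s : Set (↥J ⧸ N)) := hs.symm ▸ Submodule.mem_top
  induction hy using Submodule.span_induction with
  | mem z hz => exact Submodule.subset_span hz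
  | zero => exact zero_mem _
  | add a b _ _ ha hb => exact add_mem (ha trivial) (hb trivial)
  | smul a z _ hz =>
    have hkill : ∀ m ∈ IsLocalRing.maximalIdeal P, m • z = 0 := by
      intro m hm
      obtain ⟨w, rfl⟩ := Submodule.Quotient.mk_surjective N z
      rw [← Submodule.Quotient.mk_smul, Submodule.Quotient.mk_eq_zero]
      exact Submodule.smul_mem_smul hm Submodule.mem_top
    rw [show a • z = (resP a) • z from ?_]
    · exact Submodule.smul_mem _ _ (hz trivial)
    · rw [← IsScalarTower.algebraMap_smul P (resP a) z, ← sub_eq_zero, ← sub_smul]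
      refine hkill _ ((res_eq_zero_iff_mem resP _).1 ?_)
      rw [map_sub, AlgHom.commutes]
      simp

/-- The obstruction theory of a presented algebra with values in `(J / n J)^∨`. -/
theorem hasObsTheory_presented (hq : Function.Surjective q) (hqres : resR.comp q = resP)
    (hlift : IsSmoothFunctor (hR P resP)) (J : Ideal P) (hJker : RingHom.ker q = J)
    (hJ : J ≤ IsLocalRing.maximalIdeal P ^ 2) :
    HasObsTheory (hR R resR)
      (Module.Dual k (↥J ⧸ (IsLocalRing.maximalIdeal P • (⊤ : Submodule P ↥J)))) := by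
  haveI := finite_cotangent_ideal J resP
  set V := ↥J ⧸ (IsLocalRing.maximalIdeal P • (⊤ : Submodule P ↥J))
  have hcomp : ∀ {A : Art k k} (u : HomSet R resR A), A.res.comp (u.1.comp q) = resP := fun u => by
    rw [← AlgHom.comp_assoc, u.2, hqres]
  have hψ : ∀ {B A : Art k k} (p : B ⟶ A) (_ : Art.IsSemismallExt p) (u : HomSet R resR A),
      ∃ ψ : HomSet P resP B, ∀ x, p (ψ.1 x) = u.1 (q x) := fun p hp u => by
    obtain ⟨ψ, hψ⟩ := hlift p hp.1 (⟨u.1.comp q, hcomp u⟩ : HomSet P resP _)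
    exact ⟨ψ, fun x => AlgHom.congr_fun (congrArg Subtype.val hψ) x⟩
  choose ψ hψp using @hψ
  -- the linear map on `J / n J`
  have hex : ∀ {B A : Art k k} (p : B ⟶ A) (hp : Art.IsSemismallExt p) (u : HomSet R resR A),
      ∃ L : V →ₗ[k] ↥(RingHom.ker p.toAlgHom),
        ∀ j : J, (L (Submodule.Quotient.mk j) : B) = (ψ p hp u).1 j := by
    intro B A p hp u
    have hker : ∀ j : J, (ψ p hp u).1 (j : P) ∈ RingHom.ker p.toAlgHom := fun j => by
      refine (mem_ker p _).2 ?_
      rw [hψp, RingHom.mem_ker.1 (hJker.symm ▸ j.2 : (j : P) ∈ RingHom.ker q), map_zero]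
    let L₀ : ↥J →ₗ[k] ↥(RingHom.ker p.toAlgHom) :=
      { toFun := fun j => ⟨(ψ p hp u).1 j, hker j⟩
        map_add' := fun a b => Subtype.ext (map_add _ _ _)
        map_smul' := fun c a => Subtype.ext (map_smul (ψ p hp u).1 c (a : P)) }
    have hN : (IsLocalRing.maximalIdeal P • (⊤ : Submodule P ↥J)).restrictScalars k ≤ LinearMap.ker L₀ := by
      intro x hx
      rw [LinearMap.mem_ker]
      refine Subtype.ext ?_
      change (ψ p hp u).1 (x : P) = 0
      refine Submodule.smul_induction_on (Submodule.restrictScalars_mem k _ _ |>.1 hx) (fun m hm y _ => ?_)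
        fun a b ha hb => by rw [Submodule.coe_add, map_add, ha, hb, add_zero]
      rw [show ((m • y : ↥J) : P) = m * (y : P) from rfl, map_mul]
      exact IsSemismallExt.mul_eq_zero hp (homSet_mem_maximalIdeal resP _ hm) ((mem_ker p _).1 (hker y))
    exact ⟨((IsLocalRing.maximalIdeal P • (⊤ : Submodule P ↥J)).restrictScalars k).liftQ L₀ hN, fun j => rfl⟩
  choose L hL using @hex
  let e : ∀ {B A : Art k k} (p : B ⟶ A),
      Module.Dual k V ⊗[k] ↥(RingHom.ker p.toAlgHom) ≃ₗ[k] (V →ₗ[k] ↥(RingHom.ker p.toAlgHom)) :=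
    fun p => dualTensorHomEquiv k V _
  have hzero : ∀ {C' C : Art k k} (p : C' ⟶ C) (hp : Art.IsSemismallExt p) (u : HomSet R resR C),
      (e p).symm (L p hp u) = 0 ↔ ∃ u' : HomSet R resR C', HomSet.map p u' = u := by
    intro C' C p hp u
    rw [LinearEquiv.map_eq_zero_iff]
    constructor
    · intro h0
      obtain ⟨u', hu'⟩ := comp_lift_eq q hq (ψ p hp u).1 fun x hx => by
        have hxJ : x ∈ J := hJker ▸ RingHom.mem_ker.2 hx
        rw [← hL p hp u ⟨x, hxJ⟩, h0]
        rfl
      refine ⟨⟨u', AlgHom.ext fun r => ?_⟩, homSet_ext' fun r => ?_⟩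
      · obtain ⟨x, rfl⟩ := hq r
        rw [AlgHom.comp_apply, hu', homSet_res]
        exact (AlgHom.congr_fun hqres x).symm
      · obtain ⟨x, rfl⟩ := hq r
        change p (u' (q x)) = _
        rw [hu', hψp]
    · rintro ⟨u', rfl⟩
      refine LinearMap.ext fun v => ?_
      obtain ⟨j, rfl⟩ := Submodule.Quotient.mk_surjective _ v
      refine Subtype.ext ?_
      rw [hL]
      rw [eq_on_sq resP hp (ψ p hp _) ⟨u'.1.comp q, hcomp u'⟩ (fun x => (hψp p hp _ x).trans rfl) (hJ j.2)]
      change u'.1 (q (j : P)) = 0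
      rw [RingHom.mem_ker.1 (hJker.symm ▸ j.2 : (j : P) ∈ RingHom.ker q), map_zero]
  have hquot : ∀ {C' C : Art k k} (p : C' ⟶ C) (hp : Art.IsSemismallExt p) (K : Ideal C')
      (hK : K ≤ IsLocalRing.maximalIdeal C') (hKJ : K ≤ RingHom.ker p.toAlgHom)
      (hq' : Art.IsSemismallExt (Art.quotFactor hK p hKJ)) (u : HomSet R resR C),
      (e (Art.quotFactor hK p hKJ)).symm (L _ hq' u) =
        LinearMap.lTensor _ ((Art.kerToQuot hK p hKJ).restrictScalars k) ((e p).symm (L p hp u)) := by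
    intro C' C p hp K hK hKJ hq' u
    refine (e _).injective ?_
    rw [LinearEquiv.apply_symm_apply]
    refine Eq.trans ?_ (dualTensorHomEquiv_lTensor _ _).symm
    rw [show dualTensorHomEquiv k V _ ((e p).symm (L p hp u)) = L p hp u from (e p).apply_symm_apply _]
    refine LinearMap.ext fun v => ?_
    obtain ⟨j, rfl⟩ := Submodule.Quotient.mk_surjective _ v
    refine Subtype.ext ?_
    rw [hL]
    change _ = Ideal.Quotient.mk K ((L p hp u (Submodule.Quotient.mk j) : C'))
    rw [hL]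
    refine eq_on_sq resP hq' (ψ _ hq' u) (HomSet.map (Art.quotMk C' K hK) (ψ p hp u)) (fun x => ?_) (hJ j.2)
    rw [hψp]
    exact (hψp p hp u x).symm
  exact ⟨{
    obs := fun {C' C} p hp u => (e p).symm (L p hp u)
    obs_eq_zero_iff := fun {C' C} p hp u => hzero p hp u
    obs_quot := fun {C' C} p hp K hK hKJ hq' u => hquot p hp K hK hKJ hq' u }⟩

/-- A quotient of `P` by an ideal containing a power of the maximal ideal, as an artinian object. -/
theorem exists_art_quot (I : Ideal P) (hI : I ≤ IsLocalRing.maximalIdeal P) {N : ℕ}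
    (hN : IsLocalRing.maximalIdeal P ^ N ≤ I) :
    ∃ (C : Art k k) (π : HomSet P resP C), Function.Surjective π.1 ∧ ∀ x, π.1 x = 0 ↔ x ∈ I := by
  haveI : Nontrivial (P ⧸ I) := Ideal.Quotient.nontrivial_iff.2 fun h =>
    (IsLocalRing.maximalIdeal.isMaximal P).ne_top (top_le_iff.1 (h ▸ hI))
  haveI : IsLocalRing (P ⧸ I) := IsLocalRing.of_surjective' (Ideal.Quotient.mk I) Ideal.Quotient.mk_surjective
  haveI : IsArtinianRing (P ⧸ I) := by
    rw [isArtinianRing_iff_isNilpotent_maximalIdeal]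
    refine ⟨N, ?_⟩
    rw [Ideal.zero_eq_bot, ← le_bot_iff, ← IsLocalRing.map_maximalIdeal_of_surjective _
      (Ideal.Quotient.mk_surjective (I := I)), ← Ideal.map_pow, Ideal.map_le_iff_le_comap]
    intro x hx
    rw [Ideal.mem_comap, Ideal.mem_bot, Ideal.Quotient.eq_zero_iff_mem]
    exact hN hx
  let res : P ⧸ I →ₐ[k] k := Ideal.Quotient.liftₐ I resP fun a ha => (res_eq_zero_iff_mem resP a).2 (hI ha)
  let C : Art k k :=
    { carrier := P ⧸ I
      res := res
      res_surjective := fun c => ⟨algebraMap k _ c, res.commutes c⟩ }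
  exact ⟨C, ⟨Ideal.Quotient.mkₐ k I, AlgHom.ext fun _ => rfl⟩, Ideal.Quotient.mk_surjective,
    fun x => Ideal.Quotient.eq_zero_iff_mem⟩

/-- The number of equations is bounded by the dimension of any obstruction space. -/
theorem exists_equations (hq : Function.Surjective q) (hqres : resR.comp q = resP) (J : Ideal P)
    (hJker : RingHom.ker q = J) (hJ : J ≤ IsLocalRing.maximalIdeal P ^ 2)
    (W : Type u) [AddCommGroup W] [Module k W] [Module.Finite k W] (T : ObsTheory (hR R resR) W) :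
    ∃ s : Finset P, s.card ≤ Module.finrank k W ∧ Ideal.span (s : Set P) = J := by
  classical
  set n := IsLocalRing.maximalIdeal P
  obtain ⟨c₀, hc₀⟩ := Ideal.exists_pow_inf_eq_pow_smul n (M := P) J
  let N := c₀ + 1
  have hAR : n ^ N ⊓ J ≤ n * J := by
    have h1 := hc₀ N (Nat.le_succ _)
    simp only [smul_eq_mul, Ideal.mul_top] at h1
    rw [h1, show N - c₀ = 1 by omega, pow_one]
    exact Ideal.mul_mono_right inf_le_right
  let I' := n * J ⊔ n ^ N
  let I := J ⊔ n ^ N
  have hnN : n ^ N ≤ n := Ideal.pow_le_self (Nat.succ_ne_zero _)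
  have hI' : I' ≤ n := sup_le (Ideal.mul_le_right.trans (smul_le_maximal hJ)) hnN
  have hI : I ≤ n := sup_le (smul_le_maximal hJ) hnN
  obtain ⟨C', π', hπ's, hπ'k⟩ := exists_art_quot resP I' hI' (N := N) le_sup_right
  obtain ⟨C, π, hπs, hπk⟩ := exists_art_quot resP I hI (N := N) le_sup_right
  obtain ⟨p₀, hp₀⟩ := comp_lift_eq π'.1 hπ's π.1 fun x hx =>
    (hπk x).2 ((sup_le (Ideal.mul_le_right.trans le_sup_left) le_sup_right : I' ≤ I) ((hπ'k x).1 hx))
  let p : C' ⟶ C := Art.homMk p₀ (AlgHom.ext fun y => by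
    obtain ⟨x, rfl⟩ := hπ's y
    rw [AlgHom.comp_apply, hp₀, homSet_res, homSet_res])
  have hpπ : ∀ x, p (π'.1 x) = π.1 x := hp₀
  have hps : Function.Surjective p := fun y => by
    obtain ⟨x, rfl⟩ := hπs y
    exact ⟨_, hpπ x⟩
  have hkerJ : ∀ y, p y = 0 → ∃ j ∈ J, π'.1 j = y := fun y hy => by
    obtain ⟨x, rfl⟩ := hπ's y
    rw [hpπ] at hy
    obtain ⟨j, hj, z, hz, rfl⟩ := Submodule.mem_sup.1 ((hπk x).1 hy)
    exact ⟨j, hj, by rw [map_add, (hπ'k z).2 (Ideal.mem_sup_right hz), add_zero]⟩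
  have hp : Art.IsSemismallExt p := by
    refine ⟨hps, ?_⟩
    rw [← le_bot_iff, Ideal.mul_le]
    intro b hb y hy
    obtain ⟨j, hj, rfl⟩ := hkerJ y ((mem_ker p y).1 hy)
    obtain ⟨x, rfl⟩ := hπ's b
    rw [Art.mem_maximalIdeal_iff, homSet_res, res_eq_zero_iff_mem] at hb
    rw [Ideal.mem_bot, ← map_mul, hπ'k]
    exact Ideal.mem_sup_left (Ideal.mul_mem_mul hb hj)
  obtain ⟨u₀, hu₀⟩ := comp_lift_eq q hq π.1 fun x hx =>
    (hπk x).2 (Ideal.mem_sup_left (hJker ▸ RingHom.mem_ker.2 hx))
  let u : HomSet R resR C := ⟨u₀, AlgHom.ext fun r => by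
    obtain ⟨x, rfl⟩ := hq r
    rw [AlgHom.comp_apply, hu₀, homSet_res]
    exact (AlgHom.congr_fun hqres x).symm⟩
  -- write the obstruction with `finrank W` terms
  let b := Module.finBasis k W
  have hdec : ∀ x : W ⊗[k] ↥(RingHom.ker p.toAlgHom),
      ∃ a : Fin (Module.finrank k W) → ↥(RingHom.ker p.toAlgHom), x = ∑ i, b i ⊗ₜ[k] a i := fun x => by
    induction x using TensorProduct.induction_on with
    | zero => exact ⟨0, by simp⟩
    | tmul w m =>
      refine ⟨fun i => b.repr w i • m, ?_⟩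
      simp only [TensorProduct.tmul_smul, TensorProduct.smul_tmul', ← TensorProduct.sum_tmul]
      rw [b.sum_repr]
    | add x y hx hy =>
      obtain ⟨a, rfl⟩ := hx
      obtain ⟨a', rfl⟩ := hy
      exact ⟨a + a', by simp [TensorProduct.tmul_add, Finset.sum_add_distrib]⟩
  obtain ⟨a, ha⟩ := hdec (T.obs p hp u)
  choose j hjJ hja using fun i => hkerJ (a i).1 ((mem_ker p _).1 (a i).2)
  let K : Ideal C' := Ideal.span (Set.range fun i => (a i).1)
  have hKJ : K ≤ RingHom.ker p.toAlgHom := by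
    rw [Ideal.span_le]; rintro _ ⟨i, rfl⟩; exact (a i).2
  have hK : K ≤ IsLocalRing.maximalIdeal C' := hKJ.trans (ker_le_maximalIdeal p)
  have hpK : Art.IsSemismallExt (Art.quotFactor hK p hKJ) := by
    refine ⟨quotFactor_surjective hK p hKJ hps, ?_⟩
    rw [← le_bot_iff, Ideal.mul_le]
    intro z hz y hy
    obtain ⟨z, rfl⟩ := Art.quotMk_surjective C' K hK z
    obtain ⟨y, rfl⟩ := Art.quotMk_surjective C' K hK y
    rw [mem_ker, quotFactor_quotMk_apply] at hy
    rw [Art.mem_maximalIdeal_iff, Art.res_app, ← Art.mem_maximalIdeal_iff] at hz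
    rw [Ideal.mem_bot, ← map_mul, IsSemismallExt.mul_eq_zero hp hz hy, map_zero]
  have hobs : T.obs (Art.quotFactor hK p hKJ) hpK u = 0 := by
    rw [T.obs_quot p hp K hK hKJ hpK u, ha, map_sum]
    refine Finset.sum_eq_zero fun i _ => ?_
    rw [LinearMap.lTensor_tmul]
    rw [show ((Art.kerToQuot hK p hKJ).restrictScalars k) (a i) = 0 from
      Subtype.ext ((quotMk_eq_zero_iff hK _).2 (Ideal.subset_span ⟨i, rfl⟩)), TensorProduct.tmul_zero]
  obtain ⟨u', hu'⟩ := (T.obs_eq_zero_iff _ hpK u).1 hobs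
  let ψ : HomSet P resP (Art.quot C' K hK) := ⟨u'.1.comp q, by rw [← AlgHom.comp_assoc, u'.2, hqres]⟩
  have hagree : ∀ x, Art.quotFactor hK p hKJ (ψ.1 x) =
      Art.quotFactor hK p hKJ ((HomSet.map (Art.quotMk C' K hK) π').1 x) := fun x => by
    refine (AlgHom.congr_fun (congrArg Subtype.val hu') (q x)).trans ((hu₀ x).trans ?_)
    exact (hpπ x).symm
  refine ⟨Finset.univ.image j, Finset.card_image_le.trans (by simp), le_antisymm ?_ ?_⟩
  · rw [Ideal.span_le, Finset.coe_image]
    rintro _ ⟨i, -, rfl⟩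
    exact hjJ i
  · refine Submodule.le_of_le_smul_of_le_jacobson_bot (I := n) (IsNoetherian.noetherian J)
      (IsLocalRing.maximalIdeal_le_jacobson ⊥) fun x hx => ?_
    have h0 : Art.quotMk C' K hK (π'.1 x) = 0 := by
      have h1 := eq_on_sq resP hpK ψ (HomSet.map (Art.quotMk C' K hK) π') hagree (hJ hx)
      change u'.1 (q x) = Art.quotMk C' K hK (π'.1 x) at h1
      rw [← h1, RingHom.mem_ker.1 (hJker.symm ▸ hx : x ∈ RingHom.ker q), map_zero]
    rw [quotMk_eq_zero_iff, show K = (Ideal.span (Set.range j)).map π'.1 by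
      rw [Ideal.map_span, ← Set.range_comp]; simp only [Function.comp_def, hja]; rfl] at h0
    obtain ⟨y, hy, hyx⟩ := (Ideal.mem_map_iff_of_surjective π'.1 hπ's).1 h0
    have h2 : x - y ∈ I' := (hπ'k _).1 (by rw [map_sub, hyx, sub_self])
    have hyJ : y ∈ J := (Ideal.span_le.2 (Set.range_subset_iff.2 hjJ)) hy
    obtain ⟨e₁, he₁, z, hz, hez⟩ := Submodule.mem_sup.1 h2
    have hzJ : z ∈ J := by
      rw [show z = (x - y) - e₁ by rw [← hez, add_sub_cancel_left]]
      exact sub_mem (sub_mem hx hyJ) (Ideal.mul_le_right he₁)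
    rw [show x = y + (e₁ + z) by rw [hez, add_sub_cancel]]
    refine Submodule.add_mem_sup ?_ ?_
    · rwa [Finset.coe_image, Finset.coe_univ, Set.image_univ]
    · rw [smul_eq_mul]
      exact add_mem he₁ (hAR ⟨hz, hzJ⟩)

end Presented

section Transfer

variable {F : Art k k ⥤ Type v} {R : Type u} [CommRing R] [Algebra k R] {resR : R →ₐ[k] k}
variable {V : Type u} [AddCommGroup V] [Module k V]

/-- Obstruction theories pull back along versal families. -/
theorem hasObsTheory_of_versal (ξ : Family R resR F) (hξ : IsVersal ξ) (T : ObsTheory F V) :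
    HasObsTheory (hR R resR) V :=
  ⟨{
    obs := fun {C' C} p hp w => T.obs p hp (ξ.app C w)
    obs_eq_zero_iff := fun {C' C} p hp w => by
      rw [T.obs_eq_zero_iff]
      constructor
      · rintro ⟨y, hy⟩
        obtain ⟨z, hz, -⟩ := hξ p hp.1 w y hy
        exact ⟨z, hz⟩
      · rintro ⟨w', rfl⟩
        exact ⟨ξ.app C' w', (ξ.natural p w').symm⟩
    obs_quot := fun {C' C} p hp K hK hKJ hq w => T.obs_quot p hp K hK hKJ hq (ξ.app C w) }⟩

/-- Obstruction theories push forward along universal families. -/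
theorem hasObsTheory_of_universal (ξ : Family R resR F) (hξ : IsUniversal ξ)
    (T : ObsTheory (hR R resR) V) : HasObsTheory F V := by
  let inv : ∀ A, F.obj A → HomSet R resR A := fun A => (Equiv.ofBijective _ (hξ A)).symm
  have hinv : ∀ A y, ξ.app A (inv A y) = y := fun A y => Equiv.ofBijective_apply_symm_apply _ (hξ A) y
  exact ⟨{
    obs := fun {C' C} p hp y => T.obs p hp (inv C y)
    obs_eq_zero_iff := fun {C' C} p hp y => by
      refine (T.obs_eq_zero_iff p hp _).trans ?_
      constructor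
      · rintro ⟨w, hw⟩
        refine ⟨ξ.app C' w, (ξ.natural p w).symm.trans ?_⟩
        exact (congrArg (ξ.app C) hw).trans (hinv C y)
      · rintro ⟨y', rfl⟩
        refine ⟨inv C' y', (hξ C).1 ?_⟩
        exact (ξ.natural p (inv C' y')).trans ((congrArg (F.map p) (hinv C' y')).trans (hinv C _).symm)
    obs_quot := fun {C' C} p hp K hK hKJ hq y => T.obs_quot p hp K hK hKJ hq (inv C y) }⟩

/-- Obstruction theories push forward along injective linear maps. -/
theorem hasObsTheory_of_linearEquiv {V' : Type u} [AddCommGroup V'] [Module k V'] (e : V ≃ₗ[k] V')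
    (h : HasObsTheory F V) : HasObsTheory F V' := by
  obtain ⟨T⟩ := h
  exact ⟨{
    obs := fun {C' C} p hp y => LinearEquiv.rTensor _ e (T.obs p hp y)
    obs_eq_zero_iff := fun {C' C} p hp y => by rw [LinearEquiv.map_eq_zero_iff, T.obs_eq_zero_iff]
    obs_quot := fun {C' C} p hp K hK hKJ hq y => by
      rw [T.obs_quot p hp K hK hKJ hq y]
      generalize T.obs p hp y = z
      induction z using TensorProduct.induction_on with
      | zero => simp
      | tmul v m => rfl
      | add a b ha hb => simp only [map_add, ha, hb] }⟩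

end Transfer

end Groth.Agent.Lib.ArtinFun
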