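import Groth.Agent.Lib.ArtinFun.Basic
import Mathlib.RingTheory.Length
import Mathlib.RingTheory.IntegralClosure.IsIntegralClosure.Basic
import Mathlib.RingTheory.Finiteness.Basic
import Mathlib.RingTheory.Noetherian.Basic

/-!
# Lengths over the base ring of artinian local algebras with fixed residue field
-/

universe u v

open CategoryTheory ArtFun

set_option linter.style.haveILetI false

namespace Groth.Agent.Lib.ArtinFun

section Residue

variable (Λ : Type u) (k : Type u) [CommRing Λ] [Field k] [Algebra Λ k] [Module.Finite Λ k]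

lemma isMaximal_ker : (RingHom.ker (algebraMap Λ k)).IsMaximal := by
  letI : Algebra (Λ ⧸ RingHom.ker (algebraMap Λ k)) k := (RingHom.kerLift (algebraMap Λ k)).toAlgebra
  haveI : IsScalarTower Λ (Λ ⧸ RingHom.ker (algebraMap Λ k)) k :=
    IsScalarTower.of_algebraMap_eq fun _ => rfl
  haveI : Module.Finite (Λ ⧸ RingHom.ker (algebraMap Λ k)) k :=
    Module.Finite.of_restrictScalars_finite Λ _ k
  haveI : Algebra.IsIntegral (Λ ⧸ RingHom.ker (algebraMap Λ k)) k := Algebra.IsIntegral.of_finite _ _
  haveI : IsDomain (Λ ⧸ RingHom.ker (algebraMap Λ k)) :=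
    (RingHom.kerLift_injective (algebraMap Λ k)).isDomain _
  exact Ideal.Quotient.maximal_of_isField _
    (isField_of_isIntegral_of_isField (R := Λ ⧸ RingHom.ker (algebraMap Λ k)) (S := k)
      (RingHom.kerLift_injective (algebraMap Λ k)) (Field.toIsField k))

lemma isArtinian_residue : IsArtinian Λ k := by
  haveI := isMaximal_ker Λ k
  letI : Field (Λ ⧸ RingHom.ker (algebraMap Λ k)) := Ideal.Quotient.field _
  letI : Algebra (Λ ⧸ RingHom.ker (algebraMap Λ k)) k := (RingHom.kerLift (algebraMap Λ k)).toAlgebra
  haveI : IsScalarTower Λ (Λ ⧸ RingHom.ker (algebraMap Λ k)) k :=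
    IsScalarTower.of_algebraMap_eq fun _ => rfl
  haveI : Module.Finite (Λ ⧸ RingHom.ker (algebraMap Λ k)) k :=
    Module.Finite.of_restrictScalars_finite Λ _ k
  exact isArtinian_of_surjective_algebraMap (R := Λ ⧸ RingHom.ker (algebraMap Λ k))
    Ideal.Quotient.mk_surjective

lemma isNoetherian_residue [IsNoetherianRing Λ] : IsNoetherian Λ k := inferInstance

lemma length_residue_ne_top [IsNoetherianRing Λ] : Module.length Λ k ≠ ⊤ := by
  haveI := isArtinian_residue Λ k
  haveI := isNoetherian_residue Λ k
  exact Module.length_ne_top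

end Residue

variable {Λ : Type u} {k : Type u} [CommRing Λ] [Field k] [Algebra Λ k]

lemma length_residue_mul_length_of_finite [Module.Finite Λ k]
    (A : Type u) [CommRing A] [Algebra Λ A] [IsLocalRing A] [Algebra A k] [IsScalarTower Λ A k]
    (hres : Function.Surjective (algebraMap A k))
    (M : Type v) [AddCommGroup M] [Module A M] (hfin : IsFiniteLength A M) :
    ∀ [Module Λ M] [IsScalarTower Λ A M],
      Module.length Λ k * Module.length A M = Module.length Λ M := by
  induction hfin with
  | of_subsingleton =>
    intro _ _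
    simp [Module.length_eq_zero]
  | @of_simple_quotient M _ _ N _ hN ih =>
    intro _ _
    have hker : RingHom.ker (algebraMap A k) = IsLocalRing.maximalIdeal A :=
      IsLocalRing.eq_maximalIdeal (RingHom.ker_isMaximal_of_surjective _ hres)
    obtain ⟨I, hI, ⟨e⟩⟩ :=
      isSimpleModule_iff_quot_maximal.1 (inferInstance : IsSimpleModule A (M ⧸ N))
    have hI' : I = LinearMap.ker (Algebra.linearMap A k) := by
      rw [IsLocalRing.eq_maximalIdeal hI, ← hker]; rfl
    let e' : (M ⧸ N) ≃ₗ[A] k := (e.trans (Submodule.quotEquivOfEq _ _ hI')).trans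
      (LinearMap.quotKerEquivOfSurjective (Algebra.linearMap A k) hres)
    have h1 : Module.length Λ (M ⧸ N) = Module.length Λ k := (e'.restrictScalars Λ).length_eq
    have h2 : Module.length A (M ⧸ N) = 1 := Module.length_eq_one (R := A) (M := M ⧸ N)
    have hexA := Module.length_eq_add_of_exact N.subtype N.mkQ N.injective_subtype
      N.mkQ_surjective (LinearMap.exact_subtype_mkQ N)
    have hexΛ := Module.length_eq_add_of_exact (N.subtype.restrictScalars Λ)
      (N.mkQ.restrictScalars Λ) N.injective_subtype N.mkQ_surjective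
      (LinearMap.exact_subtype_mkQ N)
    rw [hexA, hexΛ, h2, h1, mul_add, mul_one, ih]

/-- `length_Λ M = length_Λ k * length_A M` for a local `Λ`-algebra `A` with residue field `k`. -/
theorem length_residue_mul_length [Module.Finite Λ k]
    (A : Type u) [CommRing A] [Algebra Λ A] [IsLocalRing A] [Algebra A k] [IsScalarTower Λ A k]
    (hres : Function.Surjective (algebraMap A k))
    (M : Type v) [AddCommGroup M] [Module A M] [Module Λ M] [IsScalarTower Λ A M] :
    Module.length Λ k * Module.length A M = Module.length Λ M := by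
  by_cases hfin : IsFiniteLength A M
  · exact length_residue_mul_length_of_finite A hres M hfin
  · have hA : Module.length A M = ⊤ := by
      by_contra h
      exact hfin (Module.length_ne_top_iff.1 h)
    have hΛ : Module.length Λ M = ⊤ := by
      have h := Submodule.length_le_length_restrictScalars (R := A) Λ (⊤ : Submodule A M)
      rw [Submodule.topEquiv.length_eq, hA] at h
      rw [← (Submodule.topEquiv (R := Λ) (M := M)).length_eq]
      exact top_le_iff.1 h
    rw [hA, hΛ, ENat.mul_top]
    exact (Module.length_pos).ne'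

lemma length_over_base_ne_top [IsNoetherianRing Λ] [Module.Finite Λ k] (A : Art Λ k) : Module.length Λ A ≠ ⊤ := by
  letI : Algebra A k := A.res.toRingHom.toAlgebra
  haveI : IsScalarTower Λ A k := IsScalarTower.of_algebraMap_eq fun x => (A.res.commutes x).symm
  haveI : IsNoetherian A A := inferInstanceAs (IsNoetherianRing A)
  haveI : IsArtinian A A := inferInstanceAs (IsArtinianRing A)
  rw [← length_residue_mul_length (Λ := Λ) (k := k) A A.res_surjective A]
  exact WithTop.mul_ne_top (length_residue_ne_top Λ k) Module.length_ne_top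

lemma isArtinian_base [IsNoetherianRing Λ] [Module.Finite Λ k] (A : Art Λ k) : IsArtinian Λ A :=
  (isFiniteLength_iff_isNoetherian_isArtinian.1
    (Module.length_ne_top_iff.1 (length_over_base_ne_top A))).2

lemma isNoetherian_base [IsNoetherianRing Λ] [Module.Finite Λ k] (A : Art Λ k) : IsNoetherian Λ A :=
  (isFiniteLength_iff_isNoetherian_isArtinian.1
    (Module.length_ne_top_iff.1 (length_over_base_ne_top A))).1

end Groth.Agent.Lib.ArtinFun
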