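import Groth.Agent.Lib.ArtinFun.Estimates
import Groth.Agent.Lib.ArtinFun.FiniteLength
import Groth.Agent.Lib.Regular.Quotient
import Mathlib.RingTheory.KrullDimension.NonZeroDivisors

/-!
# Regularity and smoothness of the functor represented
-/

universe u

open CategoryTheory ArtFun
open scoped TensorProduct

set_option linter.style.haveILetI false

namespace Groth.Agent.Lib.ArtinFun

variable {k : Type u} [Field k]

/-- Artinian objects over a field are finite dimensional. -/
theorem finite_art (A : Art k k) : Module.Finite k A.carrier :=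
  ⟨(isNoetherian_base (Λ := k) A).noetherian ⊤⟩

/-- A presentation of regular by regular with relations in the square has no relations. -/
theorem bijective_of_regular {P R : Type u} [CommRing P] [IsRegularLocalRing P] [CommRing R]
    [IsRegularLocalRing R] (q : P →+* R) (hq : Function.Surjective q)
    (hker : RingHom.ker q ≤ IsLocalRing.maximalIdeal P ^ 2) : Function.Bijective q := by
  refine ⟨(injective_iff_map_eq_zero q).2 fun x hx => ?_, hq⟩
  by_contra hx0
  haveI := Groth.Agent.Lib.Regular.Quotient.isDomain P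
  have hdim : ringKrullDim R = ringKrullDim P := by
    rw [← IsRegularLocalRing.spanFinrank_maximalIdeal (R := P),
      ← IsRegularLocalRing.spanFinrank_maximalIdeal (R := R), spanFinrank_eq_of_ker_le_sq q hq hker]
  have h1 : ringKrullDim (P ⧸ Ideal.span {x}) + 1 ≤ ringKrullDim P :=
    ringKrullDim_quotient_succ_le_of_nonZeroDivisor (mem_nonZeroDivisors_of_ne_zero hx0)
  have h2 : ringKrullDim R ≤ ringKrullDim (P ⧸ Ideal.span {x}) :=
    ringKrullDim_le_of_surjective
      (Ideal.Quotient.lift (Ideal.span {x}) q fun a ha => by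
        obtain ⟨b, rfl⟩ := Ideal.mem_span_singleton'.1 ha
        rw [map_mul, hx, mul_zero])
      (Ideal.Quotient.lift_surjective_of_surjective _ _ hq)
  have h3 : ringKrullDim R + 1 ≤ ringKrullDim R := (add_le_add h2 le_rfl).trans (h1.trans hdim.ge)
  rw [← IsRegularLocalRing.spanFinrank_maximalIdeal (R := R)] at h3
  have h4 : (IsLocalRing.maximalIdeal R).spanFinrank + 1 ≤ (IsLocalRing.maximalIdeal R).spanFinrank := by
    exact_mod_cast h3
  omega

/-- Regularity is smoothness of the represented functor. -/
theorem isRegularLocalRing_iff_isSmoothFunctor (R : Type u) [CommRing R] [IsLocalRing R] [Algebra k R]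
    [Algebra.EssFiniteType k R] (res : R →ₐ[k] k) :
    IsRegularLocalRing R ↔ IsSmoothFunctor (hR R res) := by
  haveI : IsNoetherianRing R := Algebra.EssFiniteType.isNoetherianRing k R
  obtain ⟨P, _, _, _, resP, q, hlift, hq, hqres⟩ := exists_localized_presentation R res
  constructor
  · intro hR'
    obtain ⟨P₀, _, _, _, resP₀, q₀, hsm, hq₀, hq₀res, hker⟩ :=
      exists_reduced_presentation res _ P resP q rfl hlift hq hqres
    let e : P₀ ≃ₐ[k] R := AlgEquiv.ofBijective q₀ (bijective_of_regular q₀.toRingHom hq₀ hker)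
    intro B A μ hμ φ
    change HomSet R res A at φ
    obtain ⟨ψ₀, hψ⟩ := hsm μ hμ (⟨φ.1.comp q₀, by rw [← AlgHom.comp_assoc, φ.2, hq₀res]⟩ : HomSet P₀ resP₀ A)
    let ψ : HomSet P₀ resP₀ B := ψ₀
    refine ⟨⟨ψ.1.comp e.symm.toAlgHom, res_unique _ _⟩, homSet_ext' fun r => ?_⟩
    refine (AlgHom.congr_fun (congrArg Subtype.val hψ) (e.symm r)).trans ?_
    show φ.1 (e (e.symm r)) = φ.1 r
    rw [e.apply_symm_apply]
  · intro hsmooth
    let T : ObsTheory (hR R res) PUnit.{u + 1} :=
      { obs := fun _ _ _ => 0
        obs_eq_zero_iff := fun p hp u => ⟨fun _ => hsmooth p hp.1 u, fun _ => rfl⟩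
        obs_quot := fun p hp K hK hKJ hq u => (map_zero _).symm }
    obtain ⟨-, -, h, -⟩ := estimates_of_obsTheory resP res q hlift hq hqres PUnit.{u + 1} T
    exact h Module.finrank_zero_of_subsingleton

end Groth.Agent.Lib.ArtinFun
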