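import Groth.Agent.Lib.ArtinFun.HR
import Mathlib.LinearAlgebra.Dual.Lemmas

/-!
# Split square-zero extensions of the residue field
-/

universe u v

open CategoryTheory ArtFun

set_option linter.style.haveILetI false

namespace Groth.Agent.Lib.ArtinFun

variable {Λ : Type u} {k : Type u} [CommRing Λ] [Field k] [Algebra Λ k]

lemma dual_snd_mul (x y : Art.dual Λ k) : TrivSqZeroExt.snd (x * y) =
    TrivSqZeroExt.fst x * TrivSqZeroExt.snd y + TrivSqZeroExt.fst y * TrivSqZeroExt.snd x :=
  (TrivSqZeroExt.snd_mul (x : TrivSqZeroExt k k) y).trans (by rw [smul_eq_mul, op_smul_eq_mul, mul_comm (TrivSqZeroExt.snd (x : TrivSqZeroExt k k))])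

lemma dual_fst_mul (x y : Art.dual Λ k) :
    TrivSqZeroExt.fst (x * y) = TrivSqZeroExt.fst x * TrivSqZeroExt.fst y :=
  TrivSqZeroExt.fst_mul (x : TrivSqZeroExt k k) y

lemma dual_snd_add (x y : Art.dual Λ k) :
    TrivSqZeroExt.snd (x + y) = TrivSqZeroExt.snd x + TrivSqZeroExt.snd y :=
  TrivSqZeroExt.snd_add (x : TrivSqZeroExt k k) y

lemma dual_fst_add (x y : Art.dual Λ k) :
    TrivSqZeroExt.fst (x + y) = TrivSqZeroExt.fst x + TrivSqZeroExt.fst y :=
  TrivSqZeroExt.fst_add (x : TrivSqZeroExt k k) y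

lemma section_res {E : Art Λ k} (σ : Art.base Λ k ⟶ E) (c : k) : E.res (σ c) = c :=
  Art.res_app σ c

lemma sub_section_mem {E : Art Λ k} (σ : Art.base Λ k ⟶ E) (e : E) :
    e - σ (E.res e) ∈ IsLocalRing.maximalIdeal E := by
  rw [Art.mem_maximalIdeal_iff, map_sub, section_res, sub_self]

/-- In a split square-zero extension of `k` a nonzero class is detected by a map to `k[ε]`. -/
theorem exists_coord_hom_section {E : Art Λ k} (σ : Art.base Λ k ⟶ E)
    (hE : IsLocalRing.maximalIdeal E ^ 2 = ⊥) {K : Ideal E} (hK : K ≤ IsLocalRing.maximalIdeal E)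
    {t : E} (ht : t ∈ IsLocalRing.maximalIdeal E) (htK : t ∉ K) :
    ∃ δ : E ⟶ Art.dual Λ k, (∀ a ∈ K, δ a = 0) ∧ TrivSqZeroExt.snd (δ t) = 1 ∧
      ∀ c, TrivSqZeroExt.snd (δ (σ c)) = 0 := by
  letI : Algebra k E := (σ.toAlgHom.toRingHom : k →+* E).toAlgebra
  obtain ⟨f, hft, hfK⟩ := Submodule.exists_dual_map_eq_bot_of_notMem (R := k) (p := K.restrictScalars k)
    (x := t) htK inferInstance
  have hfK' : ∀ a ∈ K, f a = 0 := fun a ha => by
    have : f a ∈ (K.restrictScalars k).map f := ⟨a, ha, rfl⟩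
    rw [hfK] at this
    exact this
  have hsc : ∀ (c : k) (e : E), f (σ c * e) = c * f e := fun c e => by
    rw [← smul_eq_mul c (f e), ← map_smul]
    rfl
  let d : E → k := fun e => (f t)⁻¹ * f (e - σ (E.res e))
  have hmul : ∀ a b, d (a * b) = E.res a * d b + E.res b * d a := by
    intro a b
    have h0 : (a - σ (E.res a)) * (b - σ (E.res b)) = 0 := by
      rw [← Ideal.mem_bot, ← hE, pow_two]
      exact Ideal.mul_mem_mul (sub_section_mem σ a) (sub_section_mem σ b)
    have h1 : a * b - σ (E.res (a * b)) = σ (E.res a) * (b - σ (E.res b)) +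
        σ (E.res b) * (a - σ (E.res a)) := by
      have h2 : σ (E.res (a * b)) = σ (E.res a) * σ (E.res b) := by
        rw [map_mul]
        exact map_mul σ.toAlgHom _ _
      rw [h2]
      linear_combination h0
    simp only [d]
    rw [h1, map_add, hsc, hsc]
    ring
  have hadd : ∀ a b, d (a + b) = d a + d b := by
    intro a b
    have h2 : σ (E.res (a + b)) = σ (E.res a) + σ (E.res b) := by
      rw [map_add]
      exact map_add σ.toAlgHom _ _
    simp only [d]
    rw [← mul_add, ← map_add, h2]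
    congr 2
    abel
  have halg : ∀ l : Λ, d (algebraMap Λ E l) = 0 := fun l => by
    simp only [d]
    have h3 : σ (E.res (algebraMap Λ E l)) = algebraMap Λ E l := by
      rw [E.res.commutes]
      exact σ.toAlgHom.commutes l
    rw [h3, sub_self, map_zero, mul_zero]
  let δ₀ : E →ₐ[Λ] DualNumber k :=
    { toFun := fun e => (E.res e, d e)
      map_one' := TrivSqZeroExt.ext (by change E.res 1 = 1; exact map_one _) (by
        change d 1 = 0
        rw [← map_one (algebraMap Λ E), halg])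
      map_mul' := fun a b => TrivSqZeroExt.ext (by change E.res (a * b) = E.res a * E.res b; exact map_mul _ _ _) (by
        change d (a * b) = E.res a • d b + MulOpposite.op (E.res b) • d a
        rw [hmul, smul_eq_mul, op_smul_eq_mul, mul_comm (d a)])
      map_zero' := TrivSqZeroExt.ext (by change E.res 0 = 0; exact map_zero _) (by
        change d 0 = 0
        rw [← map_zero (algebraMap Λ E), halg])
      map_add' := fun a b => TrivSqZeroExt.ext (by change E.res (a + b) = E.res a + E.res b; exact map_add _ _ _) (hadd a b)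
      commutes' := fun l => TrivSqZeroExt.ext (E.res.commutes l) (by
        change d (algebraMap Λ E l) = _
        rw [halg, TrivSqZeroExt.algebraMap_eq_inl']
        rfl) }
  refine ⟨Art.homMk (B := Art.dual Λ k) δ₀ (AlgHom.ext fun _ => rfl), fun a ha => ?_, ?_, fun c => ?_⟩
  · have hra : E.res a = 0 := (Art.mem_maximalIdeal_iff _ _).1 (hK ha)
    refine TrivSqZeroExt.ext hra ?_
    change d a = 0
    simp only [d, hra]
    rw [show (σ : _ ⟶ _).toAlgHom (0 : k) = 0 from map_zero σ.toAlgHom, sub_zero, hfK' a ha, mul_zero]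
  · change d t = 1
    simp only [d, (Art.mem_maximalIdeal_iff _ _).1 ht]
    rw [show (σ : _ ⟶ _).toAlgHom (0 : k) = 0 from map_zero σ.toAlgHom, sub_zero, inv_mul_cancel₀ hft]
  · change d (σ c) = 0
    simp only [d]
    rw [section_res, sub_self, map_zero, mul_zero]

/-- In a split square-zero extension of `k` a nonzero class is detected by a map to `k[ε]`. -/
theorem exists_coord_hom {E : Art Λ k} (σ : Art.base Λ k ⟶ E)
    (hE : IsLocalRing.maximalIdeal E ^ 2 = ⊥) {K : Ideal E} (hK : K ≤ IsLocalRing.maximalIdeal E)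
    {t : E} (ht : t ∈ IsLocalRing.maximalIdeal E) (htK : t ∉ K) :
    ∃ δ : E ⟶ Art.dual Λ k, (∀ a ∈ K, δ a = 0) ∧ TrivSqZeroExt.snd (δ t) = 1 :=
  (exists_coord_hom_section σ hE hK ht htK).imp fun _ h => ⟨h.1, h.2.1⟩

/-- Maps into a split square-zero extension are separated by their composites to `k[ε]`. -/
theorem eq_of_forall_to_dual {E : Art Λ k} (σ : Art.base Λ k ⟶ E)
    (hE : IsLocalRing.maximalIdeal E ^ 2 = ⊥) {x y : E}
    (h : ∀ δ : E ⟶ Art.dual Λ k, δ x = δ y) (hres : E.res x = E.res y) : x = y := by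
  by_contra hne
  obtain ⟨δ, -, hδ⟩ := exists_coord_hom σ hE (K := ⊥) bot_le
    (t := x - y) (by rw [Art.mem_maximalIdeal_iff, map_sub, hres, sub_self])
    (fun hm => hne (sub_eq_zero.1 (Ideal.mem_bot.1 hm)))
  rw [map_sub, h δ, sub_self] at hδ
  exact zero_ne_one hδ

variable [IsNoetherianRing Λ] [Module.Finite Λ k]

/-- `H_ε` extends to every split square-zero extension of `k`. -/
theorem bijective_cmp_sqZero {F : Art Λ k ⥤ Type v} (hF : Heps F) {E : Art Λ k}
    (σ : Art.base Λ k ⟶ E) (hE : IsLocalRing.maximalIdeal E ^ 2 = ⊥) ⦃B A : Art Λ k⦄ (p' : B ⟶ A)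
    (p'' : B ⟶ E) (h : Art.IsFibreProd p' p'' (Art.toBase A) (Art.toBase E)) :
    Function.Bijective (cmp F h) := by
  have key : ∀ (K : Ideal E) (hK : K ≤ RingHom.ker (Art.toBase E).toAlgHom) ⦃B A : Art Λ k⦄
      (p' : B ⟶ A) (p'' : B ⟶ Art.quot E K (hK.trans (ker_le_maximalIdeal _)))
      (h : Art.IsFibreProd p' p'' (Art.toBase A) (Art.toBase _)), Function.Bijective (cmp F h) := by
    intro K hK
    refine ker_induction (Art.toBase E) (fun K => ∀ (hK : K ≤ RingHom.ker (Art.toBase E).toAlgHom)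
      ⦃B A : Art Λ k⦄ (p' : B ⟶ A) (p'' : B ⟶ Art.quot E K (hK.trans (ker_le_maximalIdeal _)))
      (h : Art.IsFibreProd p' p'' (Art.toBase A) (Art.toBase _)), Function.Bijective (cmp F h))
      ?_ ?_ K hK hK
    · intro hK B A p' p'' h
      have hb : Function.Bijective (Art.toBase (Art.quot E _ (hK.trans (ker_le_maximalIdeal _)))) := by
        have := quotFactor_bijective (hK.trans (ker_le_maximalIdeal _)) (Art.toBase E) rfl (toBase_surjective E)
        rwa [Art.eq_toBase (Art.quotFactor _ (Art.toBase E) _)] at this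
      haveI : IsIso p' := isIso_of_bijective p' (IsFibreProd.bijective_fst h hb)
      haveI : IsIso (Art.toBase (Art.quot E _ (hK.trans (ker_le_maximalIdeal _)))) := isIso_of_bijective _ hb
      refine ⟨(cmp_injective_iff h).2 fun z w h₁ _ => (bijective_map_of_isIso F p').1 h₁,
        (cmp_surjective_iff h).2 fun x y hxy => ?_⟩
      obtain ⟨z, rfl⟩ := (bijective_map_of_isIso F p').2 x
      refine ⟨z, rfl, (bijective_map_of_isIso F (Art.toBase _)).1 ?_⟩
      rw [← hxy, map_map, map_map, h.w]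
    · intro K t htK hm hle ih hK B A p' p'' h
      have hm' := ker_le_maximalIdeal (Art.toBase E)
      have htm : t ∈ IsLocalRing.maximalIdeal E :=
        hm' (hle (Ideal.mem_sup_right (Ideal.mem_span_singleton_self t)))
      obtain ⟨δ₀, hδK, hδt⟩ := exists_coord_hom σ hE (hK.trans hm') htm htK
      let δ : Art.quot E K (hK.trans hm') ⟶ Art.dual Λ k :=
        Art.quotFactor (hK.trans hm') δ₀ fun a ha => (mem_ker δ₀ a).2 (hδK a ha)
      let r : Art.quot E K (hK.trans hm') ⟶ Art.quot E (K ⊔ Ideal.span {t}) (hle.trans hm') :=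
        quotQuot E le_sup_left (hle.trans hm')
      obtain ⟨B₁, a, b, h₁⟩ := exists_isFibreProd (Art.toBase A)
        (Art.toBase (Art.quot E (K ⊔ Ideal.span {t}) (hle.trans hm'))) (toBase_surjective _)
      have hEK : Art.IsFibreProd r δ (Art.toBase _) (Art.toBase (Art.dual Λ k)) := by
        have hδ1 : TrivSqZeroExt.fst (δ₀ t) = (0 : k) :=
          (Art.res_app δ₀ t).trans ((Art.mem_maximalIdeal_iff _ _).1 htm)
        refine ⟨by rw [Art.eq_toBase (r ≫ _), Art.eq_toBase (δ ≫ _)], ?_, ?_⟩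
        · intro x y hx hy
          obtain ⟨e, he⟩ := Art.quotMk_surjective E K (hK.trans hm') (x - y)
          rw [← sub_eq_zero, ← he, quotMk_eq_zero_iff]
          have her : r (Art.quotMk E K (hK.trans hm') e) = 0 := by rw [he, map_sub, hx, sub_self]
          have hed : δ (Art.quotMk E K (hK.trans hm') e) = 0 := by rw [he, map_sub, hy, sub_self]
          rw [quotQuot_quotMk_apply, quotMk_eq_zero_iff] at her
          rw [quotFactor_quotMk_apply] at hed
          obtain ⟨k₀, hk₀, y₀, hy₀, rfl⟩ := Submodule.mem_sup.1 her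
          obtain ⟨c, rfl⟩ := Ideal.mem_span_singleton'.1 hy₀
          rw [map_add, hδK k₀ hk₀, zero_add, map_mul] at hed
          have hc : E.res c = 0 := by
            have h3 : TrivSqZeroExt.snd (δ₀ c * δ₀ t) = (0 : k) := by rw [hed]; rfl
            rw [dual_snd_mul, hδt, hδ1] at h3
            refine Eq.trans (Art.res_app δ₀ c).symm ?_
            change TrivSqZeroExt.fst (δ₀ c) = (0 : k)
            simpa using h3
          exact add_mem hk₀ (hm c ((Art.mem_maximalIdeal_iff _ _).2 hc))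
        · intro e' w he'w
          obtain ⟨e₀, he₀⟩ := Art.quotMk_surjective E (K ⊔ Ideal.span {t}) (hle.trans hm') e'
          let c : k := TrivSqZeroExt.snd w - TrivSqZeroExt.snd (δ₀ e₀)
          refine ⟨Art.quotMk E K (hK.trans hm') (e₀ + σ c * t), ?_, ?_⟩
          · rw [quotQuot_quotMk_apply, ← he₀]
            refine Ideal.Quotient.eq.2 ?_
            rw [add_sub_cancel_left]
            exact Ideal.mem_sup_right (Ideal.mem_span_singleton'.2 ⟨_, rfl⟩)
          · rw [quotFactor_quotMk_apply, map_add, map_mul]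
            refine TrivSqZeroExt.ext ?_ ?_
            · rw [dual_fst_add, dual_fst_mul, hδ1, mul_zero, add_zero]
              refine Eq.trans ?_ he'w
              refine (Art.res_app δ₀ e₀).trans ?_
              rw [← he₀]
              rfl
            · have h2 : TrivSqZeroExt.fst (δ₀ (σ c)) = c :=
                (Art.res_app δ₀ (σ c)).trans (section_res σ c)
              rw [dual_snd_add, dual_snd_mul, hδt, hδ1, h2]
              simp [c]
      have hw : p' ≫ Art.toBase A = (p'' ≫ r) ≫ Art.toBase _ := by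
        rw [Art.eq_toBase ((p'' ≫ r) ≫ _), Art.eq_toBase (p' ≫ _)]
      let s : B ⟶ B₁ := IsFibreProd.lift h₁ p' (p'' ≫ r) hw
      have hsa : s ≫ a = p' := IsFibreProd.lift_fst h₁ p' (p'' ≫ r) hw
      have hsb : s ≫ b = p'' ≫ r := IsFibreProd.lift_snd h₁ p' (p'' ≫ r) hw
      have hsq : Art.IsFibreProd s (p'' ≫ δ) (Art.toBase B₁) (Art.toBase (Art.dual Λ k)) := by
        refine ⟨by rw [Art.eq_toBase (s ≫ _), Art.eq_toBase ((p'' ≫ δ) ≫ _)], ?_, ?_⟩
        · intro x y hx hy
          refine h.inj x y ?_ (hEK.inj _ _ ?_ hy)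
          · rw [← hsa, hom_comp_apply, hom_comp_apply, hx]
          · rw [← hom_comp_apply p'' r, ← hom_comp_apply p'' r, ← hsb, hom_comp_apply, hom_comp_apply, hx]
        · intro b₁ w hbw
          obtain ⟨e, he₁, he₂⟩ := hEK.surj (b b₁) w ((Art.res_app b b₁).trans hbw)
          obtain ⟨x, hx₁, hx₂⟩ := h.surj (a b₁) e (by
            rw [h₁.w_apply b₁, ← he₁, ← hom_comp_apply r,
              Art.eq_toBase (r ≫ Art.toBase _)])
          refine ⟨x, h₁.inj _ _ ?_ ?_, by rw [hom_comp_apply, hx₂, he₂]⟩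
          · rw [← hom_comp_apply s a, hsa, hx₁]
          · rw [← hom_comp_apply s b, hsb, hom_comp_apply, hx₂, he₁]
      refine ⟨(cmp_injective_iff h).2 fun z z' hz₁ hz₂ => ?_, (cmp_surjective_iff h).2 fun x y hxy => ?_⟩
      · refine (cmp_injective_iff hsq).1 (hF _ _ hsq).1 z z' ?_ ?_
        · refine (cmp_injective_iff h₁).1 (ih hle a b h₁).1 _ _ ?_ ?_
          · rw [map_map, map_map, IsFibreProd.lift_fst, hz₁]
          · rw [map_map, map_map, IsFibreProd.lift_snd, ← map_map, ← map_map, hz₂]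
        · rw [← map_map, ← map_map, hz₂]
      · obtain ⟨z₁, hz₁, hz₁'⟩ := (cmp_surjective_iff h₁).1 (ih hle a b h₁).2 x (F.map r y)
          (by rw [hxy, map_map, Art.eq_toBase (r ≫ Art.toBase _)])
        obtain ⟨z, hz, hz'⟩ := (cmp_surjective_iff hsq).1 (hF _ _ hsq).2 z₁ (F.map δ y) (by
          rw [map_map δ (Art.toBase _), Art.eq_toBase (δ ≫ Art.toBase _), ← hxy, ← hz₁, map_map,
            Art.eq_toBase (a ≫ Art.toBase A)])
        refine ⟨z, by rw [← hz₁, ← hz, map_map, IsFibreProd.lift_fst], ?_⟩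
        refine (cmp_injective_iff hEK).1 (hF _ _ hEK).1 _ _ ?_ ?_
        · rw [map_map p'' r, ← IsFibreProd.lift_snd h₁ p' (p'' ≫ r) hw, ← map_map, hz, hz₁']
        · rw [map_map p'' δ, hz']
  haveI : IsIso (Art.quotMk E ⊥ bot_le) := isIso_of_bijective _ ⟨fun x y hxy => sub_eq_zero.1
    (Ideal.mem_bot.1 ((quotMk_eq_zero_iff bot_le _).1 (by rw [map_sub, hxy, sub_self]))),
    Art.quotMk_surjective _ _ _⟩
  have h' : Art.IsFibreProd p' (p'' ≫ Art.quotMk E ⊥ bot_le) (Art.toBase A) (Art.toBase _) := by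
    refine ⟨by rw [Art.eq_toBase (p' ≫ _), Art.eq_toBase ((p'' ≫ _) ≫ _)],
      fun x y h₁ h₂ => h.inj x y h₁ ((bijective_of_isIso (Art.quotMk E ⊥ bot_le)).1 h₂), ?_⟩
    intro x y hxy
    obtain ⟨e, rfl⟩ := Art.quotMk_surjective E ⊥ bot_le y
    obtain ⟨z, hz₁, hz₂⟩ := h.surj x e hxy
    exact ⟨z, hz₁, by rw [hom_comp_apply, hz₂]⟩
  have hb := key ⊥ bot_le p' _ h'
  refine ⟨(cmp_injective_iff h).2 fun z w h₁ h₂ => (cmp_injective_iff h').1 hb.1 z w h₁ ?_,
    (cmp_surjective_iff h).2 fun x y hxy => ?_⟩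
  · rw [← map_map, ← map_map, h₂]
  · obtain ⟨z, hz₁, hz₂⟩ := (cmp_surjective_iff h').1 hb.2 x (F.map (Art.quotMk E ⊥ bot_le) y)
      (by rw [hxy, map_map, Art.eq_toBase (Art.quotMk E ⊥ bot_le ≫ Art.toBase _)])
    exact ⟨z, hz₁, (bijective_map_of_isIso F (Art.quotMk E ⊥ bot_le)).1 (by rw [map_map, hz₂])⟩

end Groth.Agent.Lib.ArtinFun
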