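import Groth.Agent.Lib.ArtinFun.AffExtensions
import Groth.Agent.Lib.ArtinFun.Tangent
import Groth.Agent.Lib.ArtinFun.SqZero
import Groth.Prelude.Def_ArtFun2

/-!
# The tangent space of the deformations of an affine scheme is `T¹`, linearly
-/

noncomputable section

universe u

open CategoryTheory ArtFun CotT AlgebraicGeometry Exal
open Groth.Agent.Lib.CotTwo (pP exists_cocycle_of_lift exists_equiv_exalcom_spec)
open scoped TensorProduct

attribute [local instance] Exal.opModule Exal.isCentralScalar_opModule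

namespace Groth.Agent.Lib.ArtinFun.AffDef

variable {k : Type u} [Field k] {B₀ : Type u} [CommRing B₀] [Algebra k B₀]

/-- `ε`. -/
abbrev eE (k : Type u) [Field k] : Art.dual k k := (TrivSqZeroExt.inr (1 : k) : TrivSqZeroExt k k)

lemma eE_mul {c : Art.dual k k} (hc : (Art.dual k k).res c = 0) : c * (eE k) = 0 := by
  have hc' : TrivSqZeroExt.fst c = 0 := hc
  refine TrivSqZeroExt.ext ?_ ?_
  · show TrivSqZeroExt.fst c * 0 = 0
    rw [mul_zero]
  · rw [dual_snd_mul, hc']
    show 0 * (1 : k) + (0 : k) * TrivSqZeroExt.snd c = TrivSqZeroExt.snd (0 : Art.dual k k)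
    rw [zero_mul, zero_mul, add_zero]
    rfl

lemma dual_eq_of_res (c : Art.dual k k) :
    c = algebraMap k (Art.dual k k) ((Art.dual k k).res c) +
      algebraMap k (Art.dual k k) (TrivSqZeroExt.snd c) * (eE k) := by
  refine TrivSqZeroExt.ext ?_ ?_
  · show TrivSqZeroExt.fst c = TrivSqZeroExt.fst c + TrivSqZeroExt.snd c * 0
    rw [mul_zero, add_zero]
  · show TrivSqZeroExt.snd c = 0 + (TrivSqZeroExt.snd c • (1 : k) + MulOpposite.op (0 : k) • (0 : k))
    simp

variable (D : Data B₀ (Art.dual k k))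

lemma eE_mul_eq {r r' : D.R} (h : D.π r = D.π r') :
    algebraMap _ D.R (eE k) * r = algebraMap _ D.R (eE k) * r' := by
  have h1 : r - r' ∈ RingHom.ker D.π := by rw [RingHom.mem_ker, map_sub, h, sub_self]
  rw [← sub_eq_zero, ← mul_sub]
  generalize r - r' = y at h1
  rw [D.ker_π, Ideal.map, Ideal.span] at h1
  induction h1 using Submodule.span_induction with
  | mem y hy =>
    obtain ⟨c, hc, rfl⟩ := hy
    rw [mul_comm, ← map_mul, eE_mul hc, map_zero]
  | zero => rw [mul_zero]
  | add y z _ _ hy hz => rw [mul_add, hy, hz, add_zero]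
  | smul a y _ hy => rw [smul_eq_mul, mul_left_comm, hy, mul_zero]

/-- `B₀ → R`, `b ↦ ε b`. -/
def eps : B₀ →+ D.R :=
  AddMonoidHom.mk' (fun b => algebraMap _ D.R (eE k) * D.sec b) fun a b => by
    rw [← mul_add]
    exact eE_mul_eq D (by rw [map_add, D.π_sec, D.π_sec, D.π_sec])

lemma eps_π (r : D.R) : eps D (D.π r) = algebraMap _ D.R (eE k) * r := eE_mul_eq D (D.π_sec _)

lemma π_eps (b : B₀) : D.π (eps D b) = 0 := by
  show D.π (algebraMap _ D.R (eE k) * D.sec b) = 0
  rw [map_mul, D.comm, show (Art.dual k k).res (eE k) = 0 from TrivSqZeroExt.fst_inr k (1 : k), map_zero, zero_mul]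

lemma eps_injective : Function.Injective (eps D) := by
  let p : Art.dual k k ⟶ Art.base k k := Art.toBase _
  have hp : Art.IsSemismallExt p := ⟨toBase_surjective _, by
    refine le_bot_iff.1 (Ideal.mul_le.2 fun a ha b hb => ?_)
    have hb' : (Art.dual k k).res b = 0 := hb
    refine (Submodule.mem_bot _).2 ?_
    rw [dual_eq_of_res b, hb', map_zero, zero_add, mul_left_comm,
      eE_mul ((Art.mem_maximalIdeal_iff _ a).1 ha), mul_zero]⟩
  let j : Ker p := ⟨(eE k), TrivSqZeroExt.fst_inr k (1 : k)⟩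
  let κ : Ker p →ₗ[k] k :=
    { toFun := fun x => TrivSqZeroExt.snd (x : Art.dual k k)
      map_add' := fun _ _ => rfl
      map_smul' := fun _ _ => rfl }
  refine (injective_iff_map_eq_zero _).2 fun b hb => ?_
  have h1 : mu hp D (b ⊗ₜ j) = 0 := by
    obtain ⟨r, rfl⟩ := D.surj b
    rw [mu_tmul, ← eps_π]
    exact hb
  have h2 := congrArg ((TensorProduct.rid k B₀).toLinearMap ∘ₗ κ.lTensor B₀)
    (mu_injective hp D (h1.trans (map_zero _).symm))
  rw [map_zero, LinearMap.comp_apply, LinearMap.lTensor_tmul, LinearEquiv.coe_coe, TensorProduct.rid_tmul,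
    show κ j = 1 from TrivSqZeroExt.snd_inr k (1 : k), one_smul] at h2
  exact h2

lemma eps_exact (r : D.R) (hr : D.π r = 0) : ∃ b, eps D b = r := by
  have h1 : r ∈ RingHom.ker D.π := hr
  rw [D.ker_π, Ideal.map, Ideal.span] at h1
  clear hr
  induction h1 using Submodule.span_induction with
  | mem y hy =>
    obtain ⟨c, hc, rfl⟩ := hy
    refine ⟨D.π (algebraMap _ D.R (algebraMap k (Art.dual k k) (TrivSqZeroExt.snd c))), ?_⟩
    rw [eps_π, ← map_mul]
    conv_rhs => rw [dual_eq_of_res c, show (Art.dual k k).res c = 0 from hc, map_zero, zero_add]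
    rw [mul_comm]
  | zero => exact ⟨0, map_zero _⟩
  | add y z _ _ hy hz =>
    obtain ⟨a, rfl⟩ := hy
    obtain ⟨b, rfl⟩ := hz
    exact ⟨a + b, map_add _ _ _⟩
  | smul a y _ hy =>
    obtain ⟨b, rfl⟩ := hy
    obtain ⟨s, rfl⟩ := D.surj b
    exact ⟨D.π (a * s), by rw [eps_π, eps_π, smul_eq_mul, mul_left_comm]⟩

/-- The `k`-algebra structure. -/
def algk {A : Art k k} (D : Data B₀ A) : k →+* D.R := (algebraMap A D.R).comp (algebraMap k A)

/-- A first-order deformation as an extension. -/
def extOf : Ext k B₀ B₀ :=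
  letI : Algebra k D.R := (algk D).toAlgebra
  { E := D.R
    proj := AlgHom.mk D.π fun c => by
      show D.π (algebraMap (Art.dual k k) D.R (algebraMap k (Art.dual k k) c)) = _
      rw [D.comm, AlgHom.commutes, Algebra.algebraMap_self, RingHom.id_apply]
    incl := eps D
    isExtension :=
      { proj_surjective := D.surj
        incl_injective := eps_injective D
        exact := fun x => ⟨fun h => eps_exact D x h, fun ⟨b, hb⟩ => hb ▸ π_eps D b⟩
        mul_incl := fun x b => by
          obtain ⟨r, rfl⟩ := D.surj b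
          show x * eps D (D.π r) = eps D (D.π x • D.π r)
          rw [smul_eq_mul, ← map_mul, eps_π, eps_π, mul_left_comm] } }

variable {D}

theorem nonempty_equiv_of_hom {D' : Data B₀ (Art.dual k k)} (φ : D.Hom D') :
    Nonempty (Ext.Equiv (extOf D) (extOf D')) := by
  let e : (extOf D).E ≃+* (extOf D').E :=
    RingEquiv.ofBijective φ.toAlgHom.toRingHom (bijective_of_compat D' D _ φ.compat)
  refine ⟨⟨AlgEquiv.ofRingEquiv (f := e) fun c => ?_, fun x => φ.compat x, fun b => ?_⟩⟩
  · exact φ.toAlgHom.commutes _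
  · obtain ⟨r, rfl⟩ := D.surj b
    show φ.toAlgHom (eps D (D.π r)) = eps D' (D.π r)
    rw [eps_π, map_mul, AlgHom.commutes, ← φ.compat r, eps_π]

theorem nonempty_hom_of_equiv {D' : Data B₀ (Art.dual k k)} (e : Ext.Equiv (extOf D) (extOf D')) :
    Nonempty (D.Hom D') := by
  let f : D.R →+* D'.R := (e.toAlgEquiv : (extOf D).E →+* (extOf D').E)
  have hπ : ∀ x, D'.π (f x) = D.π x := e.proj_apply
  have hk : ∀ c : k, f (algk D c) = algk D' c := e.toAlgEquiv.commutes
  have heps : ∀ b, f (eps D b) = eps D' b := e.apply_incl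
  refine ⟨⟨AlgHom.mk f fun c => ?_, hπ⟩⟩
  show f (algebraMap (Art.dual k k) D.R c) = algebraMap (Art.dual k k) D'.R c
  rw [dual_eq_of_res c, map_add, map_mul, map_add, map_add, map_mul, map_mul]
  refine congrArg₂ (· + ·) (hk _) (congrArg₂ (· * ·) (hk _) ?_)
  have h1 := heps 1
  rwa [show (1 : B₀) = D.π 1 from (map_one _).symm, eps_π, mul_one, show D.π 1 = D'.π 1 by rw [map_one, map_one],
    eps_π, mul_one] at h1

/-- Every extension by `B₀` is a first-order deformation. -/
theorem exists_extOf (X : Ext k B₀ B₀) :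
    ∃ D : Data B₀ (Art.dual k k), Nonempty (Ext.Equiv (extOf D) X) := by
  classical
  have h0 : ∀ z, X.proj (X.incl z) = 0 := fun z => (X.isExtension.exact _).2 ⟨z, rfl⟩
  have hmul : ∀ y z, X.incl y * X.incl z = 0 := fun y z => by rw [X.isExtension.mul_incl, h0, zero_smul, map_zero]
  let g : (Art.dual k k).carrier →+* X.E :=
    { toFun := fun c => algebraMap k X.E (TrivSqZeroExt.fst c) + X.incl (algebraMap k B₀ (TrivSqZeroExt.snd c))
      map_one' := by
        show algebraMap k X.E (1 : k) + X.incl (algebraMap k B₀ (0 : k)) = 1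
        rw [map_one, map_zero, map_zero, add_zero]
      map_zero' := by
        show algebraMap k X.E (0 : k) + X.incl (algebraMap k B₀ (0 : k)) = 0
        rw [map_zero, map_zero, map_zero, add_zero]
      map_add' := fun a b => by
        rw [dual_fst_add, dual_snd_add, map_add, map_add, map_add]
        abel
      map_mul' := fun a b => by
        rw [dual_snd_mul, dual_fst_mul]
        simp only [map_mul, map_add, add_mul, mul_add]
        rw [mul_comm (X.incl (algebraMap k B₀ (TrivSqZeroExt.snd a))) (algebraMap k X.E _), hmul,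
          X.isExtension.mul_incl, X.isExtension.mul_incl, AlgHom.commutes, AlgHom.commutes, smul_eq_mul, smul_eq_mul]
        abel }
  letI : Algebra (Art.dual k k) X.E := RingHom.toAlgebra g
  let b := Module.Free.chooseBasis k B₀
  choose s hs using fun i => X.isExtension.proj_surjective (b i)
  have hg : ∀ (c : Art.dual k k) (x : X.E), c • x =
      (Art.dual k k).res c • x + X.incl (TrivSqZeroExt.snd c • X.proj x) := fun c x => by
    rw [Algebra.smul_def, Algebra.smul_def]
    show (algebraMap k X.E (TrivSqZeroExt.fst c) + X.incl (algebraMap k B₀ (TrivSqZeroExt.snd c))) * x = _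
    rw [add_mul, mul_comm (X.incl _) x, X.isExtension.mul_incl, smul_eq_mul, Algebra.smul_def, mul_comm (X.proj x)]
    rfl
  have hindep : LinearIndependent (Art.dual k k) s := by
    rw [linearIndependent_iff']
    intro S c hc i hi
    have h1 : ∑ j ∈ S, (Art.dual k k).res (c j) • b j = 0 := by
      have := congrArg X.proj hc
      rw [map_zero, map_sum] at this
      rw [← this]
      exact Finset.sum_congr rfl fun j _ => by rw [hg, map_add, h0, add_zero, map_smul, hs]
    have h2 : ∀ j ∈ S, (Art.dual k k).res (c j) = 0 := fun j hj =>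
      linearIndependent_iff'.1 b.linearIndependent S _ h1 j hj
    have h3 : ∑ j ∈ S, TrivSqZeroExt.snd (c j) • b j = 0 := X.isExtension.incl_injective (by
      rw [map_zero, map_sum, ← hc]
      exact Finset.sum_congr rfl fun j hj => by rw [hg, h2 j hj, zero_smul, zero_add, hs])
    exact TrivSqZeroExt.ext (h2 i hi) (linearIndependent_iff'.1 b.linearIndependent S _ h3 i hi)
  have hspan : Submodule.span (Art.dual k k) (Set.range s) = ⊤ := by
    let W := Submodule.span (Art.dual k k) (Set.range s)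
    have hk : ∀ (a : k) (x : X.E), x ∈ W → a • x ∈ W := fun a x hx => by
      have := W.smul_mem (algebraMap k (Art.dual k k) a) hx
      rw [hg, show TrivSqZeroExt.snd (algebraMap k (Art.dual k k) a) = 0 from rfl, zero_smul, map_zero, add_zero,
        AlgHom.commutes, Algebra.algebraMap_self, RingHom.id_apply] at this
      exact this
    have h1 : ∀ y : B₀, ∃ w ∈ W, X.proj w = y := fun y => by
      have hy := b.mem_span y
      induction hy using Submodule.span_induction with
      | mem z hz => obtain ⟨i, rfl⟩ := hz; exact ⟨s i, Submodule.subset_span ⟨i, rfl⟩, hs i⟩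
      | zero => exact ⟨0, zero_mem _, map_zero _⟩
      | add x y _ _ hx hy =>
        obtain ⟨v, hv, rfl⟩ := hx
        obtain ⟨w, hw, rfl⟩ := hy
        exact ⟨v + w, add_mem hv hw, map_add _ _ _⟩
      | smul a x _ hx =>
        obtain ⟨v, hv, rfl⟩ := hx
        exact ⟨a • v, hk a v hv, map_smul _ _ _⟩
    have h2 : ∀ y : B₀, X.incl y ∈ W := fun y => by
      obtain ⟨w, hw, rfl⟩ := h1 y
      have := W.smul_mem (eE k) hw
      rwa [hg, show (Art.dual k k).res (eE k) = 0 from TrivSqZeroExt.fst_inr k (1 : k), zero_smul, zero_add,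
        show TrivSqZeroExt.snd (eE k : Art.dual k k) = (1 : k) from TrivSqZeroExt.snd_inr k (1 : k), one_smul] at this
    refine eq_top_iff.2 fun x _ => ?_
    obtain ⟨w, hw, hwx⟩ := h1 (X.proj x)
    obtain ⟨y, hy⟩ := (X.isExtension.exact (x - w)).1 (by rw [map_sub, hwx, sub_self])
    rw [← sub_add_cancel x w, ← hy]
    exact add_mem (h2 y) hw
  haveI : Module.Free (Art.dual k k) X.E := Module.Free.of_basis (Module.Basis.mk hindep hspan.ge)
  let D : Data B₀ (Art.dual k k) :=
    { R := X.E
      flat := inferInstance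
      π := X.proj.toRingHom
      surj := X.isExtension.proj_surjective
      comm := fun c => by
        show X.proj (algebraMap k X.E (TrivSqZeroExt.fst c) + X.incl _) = _
        rw [map_add, AlgHom.commutes, h0, add_zero]
        rfl
      ker_π := by
        refine le_antisymm (fun x hx => ?_) (Ideal.map_le_iff_le_comap.2 fun c hc => ?_)
        · obtain ⟨y, rfl⟩ := (X.isExtension.exact x).1 hx
          obtain ⟨w, rfl⟩ := X.isExtension.proj_surjective y
          rw [show X.incl (X.proj w) = algebraMap _ X.E (eE k : Art.dual k k) * w from ?_]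
          · exact Ideal.mul_mem_right _ _ (Ideal.mem_map_of_mem _ (TrivSqZeroExt.fst_inr k (1 : k)))
          · rw [← Algebra.smul_def, hg, show (Art.dual k k).res (eE k) = 0 from TrivSqZeroExt.fst_inr k (1 : k), zero_smul,
              zero_add, show TrivSqZeroExt.snd (eE k : Art.dual k k) = (1 : k) from TrivSqZeroExt.snd_inr k (1 : k),
              one_smul]
        · show X.proj (algebraMap k X.E (TrivSqZeroExt.fst c) + X.incl _) = 0
          rw [show TrivSqZeroExt.fst c = 0 from hc, map_zero, zero_add, h0] }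
  refine ⟨D, ⟨AlgEquiv.ofRingEquiv (f := RingEquiv.refl X.E) fun c => ?_, fun x => rfl, fun y => ?_⟩⟩
  · show algebraMap k X.E c + X.incl (algebraMap k B₀ 0) = algebraMap k X.E c
    rw [map_zero, map_zero, add_zero]
  · obtain ⟨r, rfl⟩ := D.surj y
    show eps D (D.π r) = X.incl (X.proj r)
    rw [eps_π]
    show algebraMap (Art.dual k k) X.E (eE k) * r = _
    rw [← Algebra.smul_def, hg, show (Art.dual k k).res (eE k) = 0 from TrivSqZeroExt.fst_inr k (1 : k), zero_smul,
      zero_add, show TrivSqZeroExt.snd (eE k : Art.dual k k) = (1 : k) from TrivSqZeroExt.snd_inr k (1 : k), one_smul]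

section Theta

variable {ι σ : Type u} (P : Algebra.Presentation k B₀ ι σ)

local notation "Def₀" => defFunctor (Λ := k) (Spec (CommRingCat.of B₀)) (xB (k := k) B₀)

/-- The classifying map. -/
theorem exists_theta_tangent :
    ∃ θ : (Def₀).obj (Art.dual k k) → T1 P B₀, Function.Bijective θ ∧
      (∀ (c : k), c ≠ 0 → ∀ x, θ ((Def₀).map (Art.scale c) x) = c • θ x) ∧
      ∀ z : (Def₀).obj (Art.dual2 k k),
        θ ((Def₀).map Art.plus z) = θ ((Def₀).map Art.pr₁ z) + θ ((Def₀).map Art.pr₂ z) := by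
  obtain ⟨e, -, he⟩ := exists_equiv_exalcom_spec P (M := B₀)
  choose D hD using fun x : (Def₀).obj (Art.dual k k) => exists_data (Quotient.out x)
  let θ : (Def₀).obj (Art.dual k k) → T1 P B₀ := fun x => e (extOf (D x)).cl
  have hθ : ∀ D' : Data B₀ (Art.dual k k), θ D'.toDef.cl = e (extOf D').cl := fun D' => by
    obtain ⟨φ⟩ := Quotient.exact (Quotient.out_eq D'.toDef.cl)
    obtain ⟨ψ⟩ := (nonempty_iso_iff D' (D D'.toDef.cl)).1 ⟨φ.symm.trans (hD _).some⟩
    exact congrArg e (Quotient.sound (nonempty_equiv_of_hom ψ))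
  refine ⟨θ, ⟨fun x y hxy => ?_, fun t => ?_⟩, fun c hc x => ?_, fun z => ?_⟩
  · obtain ⟨E⟩ := Quotient.exact (e.injective hxy)
    obtain ⟨ψ⟩ := nonempty_hom_of_equiv E
    rw [← Quotient.out_eq x, ← Quotient.out_eq y]
    exact Quotient.sound ⟨(hD x).some.trans ((ψ.toIso.symm).trans (hD y).some.symm)⟩
  · obtain ⟨X, hX⟩ := e.surjective t
    induction X using Quotient.ind with
    | _ X =>
      obtain ⟨D', hD'⟩ := exists_extOf X
      exact ⟨D'.toDef.cl, (hθ D').trans (by rw [← hX]; exact congrArg e (Quotient.sound hD'))⟩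
  all_goals
    have push : ∀ {A : Art k k} (Dz : Data B₀ A) (g : A ⟶ Art.dual k k) (hg : Function.Surjective g),
        ∃ (Dg : Data B₀ (Art.dual k k)) (q : Dz.HomOver Dg g), θ ((Def₀).map g Dz.toDef.cl) = e (extOf Dg).cl := by
      intro A Dz g hg
      obtain ⟨Dg, ⟨φ⟩⟩ := exists_data (Dz.toDef.baseChange g)
      obtain ⟨q, -⟩ := exists_homOver hg φ
      have h1 : (Def₀).map g Dz.toDef.cl = Dg.toDef.cl := Quotient.sound ⟨φ⟩
      exact ⟨Dg, q, (congrArg θ h1).trans (hθ Dg)⟩
  · have hg : Function.Surjective (Art.scale c : Art.dual k k ⟶ Art.dual k k) := fun y =>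
      ⟨(TrivSqZeroExt.inl (TrivSqZeroExt.fst y) + TrivSqZeroExt.inr (c⁻¹ * TrivSqZeroExt.snd y) : TrivSqZeroExt k k), by
        refine TrivSqZeroExt.ext ?_ ?_
        · show TrivSqZeroExt.fst y + (0 : k) = TrivSqZeroExt.fst y
          rw [add_zero]
        · show c * ((0 : k) + c⁻¹ * TrivSqZeroExt.snd y) = TrivSqZeroExt.snd y
          rw [zero_add, ← mul_assoc, mul_inv_cancel₀ hc, one_mul]⟩
    have hx0 : (D x).toDef.cl = (Quotient.out x).cl := Quotient.sound ⟨(hD x).some.symm⟩
    have hx : (D x).toDef.cl = x := hx0.trans (Quotient.out_eq x)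
    obtain ⟨Dg, q, hq⟩ := push (D x) (Art.scale c) hg
    rw [hx] at hq
    let X := extOf (D x)
    choose y hy using fun i : ι => (D x).surj (P.val i)
    letI : Algebra k (D x).R := (algk (D x)).toAlgebra
    let v : P.toExtension.Ring →ₐ[k] X.E := (MvPolynomial.aeval (R := k) y : MvPolynomial ι k →ₐ[k] (D x).R)
    have hv : ∀ r, X.proj (v r) = pP P r := fun r => by
      have : (X.proj.comp v : P.toExtension.Ring →+* B₀) = (pP P).toRingHom := MvPolynomial.ringHom_ext
        (fun a => ((X.proj.comp v).commutes a).trans ((pP P).commutes a).symm) fun i => by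
          show (D x).π (MvPolynomial.aeval (R := k) y (MvPolynomial.X i)) = _
          rw [MvPolynomial.aeval_X, hy]
          exact ((CotT.algebraMap_toExtension P _).trans (MvPolynomial.aeval_X _ i)).symm
      exact RingHom.congr_fun this r
    obtain ⟨a, ha⟩ := exists_cocycle_of_lift P X v hv
    have hθx : θ x = Submodule.Quotient.mk a := he a X v hv ha
    letI : Algebra k Dg.R := (algk Dg).toAlgebra
    let w : P.toExtension.Ring →ₐ[k] (extOf Dg).E :=
      AlgHom.mk ((q.q : (D x).R →+* Dg.R).comp v.toRingHom) fun l => by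
        show q.q (v (algebraMap k _ l)) = algk Dg l
        rw [v.commutes]
        exact (q.comm _).trans (congrArg _ ((Art.scale c).toAlgHom.commutes l))
    rw [hq, hθx, ← Submodule.Quotient.mk_smul]
    refine he (c • a) (extOf Dg) w (fun r => (q.compat _).trans (hv r)) fun f => ?_
    show eps Dg (c • (a : L1 P →ₗ[B₀] B₀) ((1 : B₀) ⊗ₜ f)) = q.q (v (jmap P f))
    rw [← ha f]
    show _ = q.q (eps (D x) _)
    generalize (a : L1 P →ₗ[B₀] B₀) ((1 : B₀) ⊗ₜ f) = b
    obtain ⟨r, rfl⟩ := (D x).surj b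
    rw [eps_π, map_mul, q.comm, ← q.compat r,
      show (Art.scale c : Art.dual k k ⟶ Art.dual k k) (eE k) = algebraMap k (Art.dual k k) c * (eE k) from
        TrivSqZeroExt.ext (by show (0 : k) = c * 0; rw [mul_zero]) (by
          show c * (1 : k) = c • (1 : k) + MulOpposite.op (0 : k) • (0 : k)
          simp),
      map_mul, Algebra.smul_def, show algebraMap k B₀ c = Dg.π (algk Dg c) from ?_, ← map_mul, eps_π,
      show algk Dg c = algebraMap _ Dg.R (algebraMap k (Art.dual k k) c) from rfl]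
    · ring
    · show _ = Dg.π (algebraMap (Art.dual k k) Dg.R (algebraMap k (Art.dual k k) c))
      rw [Dg.comm, AlgHom.commutes, Algebra.algebraMap_self, RingHom.id_apply]
  · obtain ⟨Dz, ⟨ψ⟩⟩ := exists_data (Quotient.out z)
    have hz0 : Dz.toDef.cl = (Quotient.out z).cl := Quotient.sound ⟨ψ.symm⟩
    have hz : Dz.toDef.cl = z := hz0.trans (Quotient.out_eq z)
    choose y hy using fun i : ι => Dz.surj (P.val i)
    letI : Algebra k Dz.R := (algk Dz).toAlgebra
    let v : MvPolynomial ι k →ₐ[k] Dz.R := MvPolynomial.aeval y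
    have hv : ∀ r : P.toExtension.Ring, Dz.π (v r) = pP P r := fun r => by
      have : ((Dz.π).comp v.toRingHom : P.toExtension.Ring →+* B₀) = (pP P).toRingHom := MvPolynomial.ringHom_ext
        (fun a => by
          show Dz.π (v (MvPolynomial.C a)) = pP P (algebraMap k _ a)
          rw [show v (MvPolynomial.C a) = algk Dz a from MvPolynomial.aeval_C _ a]
          show Dz.π (algebraMap (Art.dual2 k k) Dz.R (algebraMap k (Art.dual2 k k) a)) = _
          rw [Dz.comm, AlgHom.commutes, Algebra.algebraMap_self, RingHom.id_apply, AlgHom.commutes])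
        fun i => by
          show Dz.π (v (MvPolynomial.X i)) = _
          rw [show v (MvPolynomial.X i) = y i from MvPolynomial.aeval_X _ i, hy]
          exact ((CotT.algebraMap_toExtension P _).trans (MvPolynomial.aeval_X _ i)).symm
      exact RingHom.congr_fun this r
    have key : ∀ (g : Art.dual2 k k ⟶ Art.dual k k), Function.Surjective g →
        ∃ (Dg : Data B₀ (Art.dual k k)) (q : Dz.HomOver Dg g) (a : cocycles1 P B₀),
          (∀ f, eps Dg ((a : L1 P →ₗ[B₀] B₀) ((1 : B₀) ⊗ₜ f)) = q.q (v (jmap P f))) ∧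
          θ ((Def₀).map g z) = Submodule.Quotient.mk a := by
      intro g hg
      obtain ⟨Dg, q, hq⟩ := push Dz g hg
      rw [hz] at hq
      letI : Algebra k Dg.R := (algk Dg).toAlgebra
      let w : P.toExtension.Ring →ₐ[k] (extOf Dg).E :=
        AlgHom.mk ((q.q : Dz.R →+* Dg.R).comp (v : MvPolynomial ι k →+* Dz.R)) fun l => by
          show q.q (v (MvPolynomial.C l)) = algk Dg l
          rw [show v (MvPolynomial.C l) = algk Dz l from MvPolynomial.aeval_C _ l]
          exact (q.comm _).trans (congrArg _ (g.toAlgHom.commutes l))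
      obtain ⟨a, ha⟩ := exists_cocycle_of_lift P (extOf Dg) w fun r => (q.compat _).trans (hv r)
      exact ⟨Dg, q, a, ha, hq.trans (he a _ w (fun r => (q.compat _).trans (hv r)) ha)⟩
    obtain ⟨D₁, q₁, a₁, ha₁, h₁⟩ := key Art.pr₁ fun y =>
      ⟨((TrivSqZeroExt.fst y, (TrivSqZeroExt.snd y, (0 : k))) : k × (k × k)), TrivSqZeroExt.ext rfl rfl⟩
    obtain ⟨D₂, q₂, a₂, ha₂, h₂⟩ := key Art.pr₂ fun y =>
      ⟨((TrivSqZeroExt.fst y, ((0 : k), TrivSqZeroExt.snd y)) : k × (k × k)), TrivSqZeroExt.ext rfl rfl⟩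
    obtain ⟨D₃, q₃, a₃, ha₃, h₃⟩ := key Art.plus fun y =>
      ⟨((TrivSqZeroExt.fst y, (TrivSqZeroExt.snd y, (0 : k))) : k × (k × k)),
        TrivSqZeroExt.ext rfl (add_zero (TrivSqZeroExt.snd y))⟩
    rw [h₁, h₂, h₃, ← Submodule.Quotient.mk_add]
    refine congrArg Submodule.Quotient.mk (Subtype.ext (LinearMap.ext fun t => ?_))
    obtain ⟨f, rfl⟩ := Groth.Agent.Lib.CotTwo.exists_one_tmul P t
    have hmem : v (jmap P f) ∈ RingHom.ker Dz.π := by rw [RingHom.mem_ker, hv, IsScalarTower.coe_toAlgHom', algebraMap_jmap]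
    rw [Dz.ker_π, Ideal.map, Ideal.span] at hmem
    have H : ∀ r ∈ Submodule.span Dz.R (algebraMap _ Dz.R '' (RingHom.ker (Art.dual2 k k).res.toRingHom : Set (Art.dual2 k k))),
        ∃ b₁ b₂ b₃, q₁.q r = eps D₁ b₁ ∧ q₂.q r = eps D₂ b₂ ∧ q₃.q r = eps D₃ b₃ ∧ b₃ = b₁ + b₂ := by
      intro r hr
      induction hr using Submodule.span_induction with
      | mem r hr =>
        obtain ⟨c, hc, rfl⟩ := hr
        have hlin : ∀ {A : Art k k} (g : A ⟶ Art.dual k k) (D' : Data B₀ (Art.dual k k)) (c : A), A.res c = 0 →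
            algebraMap _ D'.R (g c) = eps D' (algebraMap k B₀ (TrivSqZeroExt.snd (g c))) := by
          intro A g D' c hc
          rw [show algebraMap k B₀ (TrivSqZeroExt.snd (g c)) = D'.π (algk D' (TrivSqZeroExt.snd (g c))) from ?_, eps_π]
          · conv_lhs => rw [dual_eq_of_res (g c), Art.res_app, hc, map_zero, zero_add, map_mul]
            exact mul_comm _ _
          · show _ = D'.π (algebraMap _ D'.R (algebraMap k _ _))
            rw [D'.comm, AlgHom.commutes, Algebra.algebraMap_self, RingHom.id_apply]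
        refine ⟨_, _, _, (q₁.comm c).trans (hlin _ _ c hc), (q₂.comm c).trans (hlin _ _ c hc),
          (q₃.comm c).trans (hlin _ _ c hc), ?_⟩
        rw [← map_add]
        rfl
      | zero => exact ⟨0, 0, 0, by simp, by simp, by simp, (add_zero 0).symm⟩
      | add x y _ _ hx hy =>
        obtain ⟨x₁, x₂, x₃, e₁, e₂, e₃, e⟩ := hx
        obtain ⟨y₁, y₂, y₃, f₁, f₂, f₃, f'⟩ := hy
        refine ⟨x₁ + y₁, x₂ + y₂, x₃ + y₃, by rw [map_add, map_add, e₁, f₁], by rw [map_add, map_add, e₂, f₂],
          by rw [map_add, map_add, e₃, f₃], by rw [e, f']; abel⟩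
      | smul m x _ hx =>
        obtain ⟨x₁, x₂, x₃, e₁, e₂, e₃, e⟩ := hx
        have hm : ∀ {g : Art.dual2 k k ⟶ Art.dual k k} {D' : Data B₀ (Art.dual k k)} (q' : Dz.HomOver D' g) (b : B₀),
            q'.q m * eps D' b = eps D' (Dz.π m * b) := fun {g D'} q' b => by
          obtain ⟨s, rfl⟩ := D'.surj b
          rw [eps_π, ← q'.compat, ← map_mul, eps_π, mul_left_comm]
        refine ⟨Dz.π m * x₁, Dz.π m * x₂, Dz.π m * x₃, by rw [smul_eq_mul, map_mul, e₁, hm],
          by rw [smul_eq_mul, map_mul, e₂, hm], by rw [smul_eq_mul, map_mul, e₃, hm], by rw [e, mul_add]⟩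
    obtain ⟨b₁, b₂, b₃, e₁, e₂, e₃, e⟩ := H _ hmem
    show (a₃ : L1 P →ₗ[B₀] B₀) ((1 : B₀) ⊗ₜ f) = (a₁ : L1 P →ₗ[B₀] B₀) _ + (a₂ : L1 P →ₗ[B₀] B₀) _
    rw [eps_injective D₁ ((ha₁ f).trans e₁), eps_injective D₂ ((ha₂ f).trans e₂), eps_injective D₃ ((ha₃ f).trans e₃), e]

/-- The tangent space of the deformations is `T¹`. -/
theorem nonempty_tangent_linearEquiv [TangentStr (Def₀)]
    (hsurj : ∀ x y : (Def₀).obj (Art.dual k k), ∃ z, (Def₀).map Art.pr₁ z = x ∧ (Def₀).map Art.pr₂ z = y) :
    Nonempty (TangentSpace (Def₀) ≃ₗ[k] T1 P B₀) := by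
  obtain ⟨θ, hb, hs, ha⟩ := exists_theta_tangent P (B₀ := B₀) (k := k)
  let Θ : TangentSpace (Def₀) → T1 P B₀ := fun x => θ (TangentSpace.val x)
  have hadd : ∀ x y, Θ (x + y) = Θ x + Θ y := fun x y => by
    obtain ⟨z, h₁, h₂⟩ := hsurj (TangentSpace.val x) (TangentSpace.val y)
    have h := TangentStr.add_eq (F := Def₀) z
    rw [h₁, h₂] at h
    have h' := ha z
    rw [h₁, h₂, ← h] at h'
    exact h'
  let L : TangentSpace (Def₀) →ₗ[k] T1 P B₀ :=
    { toFun := Θ
      map_add' := hadd
      map_smul' := fun c x => by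
        rw [RingHom.id_apply]
        by_cases hc : c = 0
        · subst hc
          have h0 := hadd 0 0
          rw [add_zero, left_eq_add] at h0
          rw [zero_smul, zero_smul, h0]
        · exact (congrArg θ (TangentStr.smul_eq (F := Def₀) c (TangentSpace.val x))).trans (hs c hc _) }
  exact ⟨LinearEquiv.ofBijective L hb⟩

end Theta

end Groth.Agent.Lib.ArtinFun.AffDef
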