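import Groth.Agent.Lib.ArtinFun.FibProd

/-!
# The Schlessinger conditions: reduction to small extensions
-/

universe u v

open CategoryTheory ArtFun

namespace Groth.Agent.Lib.ArtinFun

variable {Λ : Type u} {k : Type u} [CommRing Λ] [Field k] [Algebra Λ k]

/-- Condition (RS): the comparison map is bijective along surjections. -/
def RS (F : Art Λ k ⥤ Type v) : Prop :=
  ∀ ⦃B A A' A'' : Art Λ k⦄ (p' : B ⟶ A') (p'' : B ⟶ A'') (f' : A' ⟶ A) (f'' : A'' ⟶ A)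
    (h : Art.IsFibreProd p' p'' f' f''), Function.Surjective f'' → Function.Bijective (cmp F h)

section Cmp

variable {F : Art Λ k ⥤ Type v} {B A A' A'' : Art Λ k} {p' : B ⟶ A'} {p'' : B ⟶ A''}
  {f' : A' ⟶ A} {f'' : A'' ⟶ A}

lemma cmp_surjective_iff (h : Art.IsFibreProd p' p'' f' f'') :
    Function.Surjective (cmp F h) ↔
      ∀ (x' : F.obj A') (x'' : F.obj A''), F.map f' x' = F.map f'' x'' →
        ∃ z : F.obj B, F.map p' z = x' ∧ F.map p'' z = x'' := by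
  constructor
  · intro hs x' x'' hc
    obtain ⟨z, hz⟩ := hs ⟨(x', x''), hc⟩
    exact ⟨z, congrArg (fun t => t.1.1) hz, congrArg (fun t => t.1.2) hz⟩
  · intro hs x
    obtain ⟨z, h₁, h₂⟩ := hs x.1.1 x.1.2 x.2
    exact ⟨z, FibProd.ext h₁ h₂⟩

lemma cmp_injective_iff (h : Art.IsFibreProd p' p'' f' f'') :
    Function.Injective (cmp F h) ↔
      ∀ z w : F.obj B, F.map p' z = F.map p' w → F.map p'' z = F.map p'' w → z = w := by
  constructor
  · intro hi z w h₁ h₂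
    exact hi (FibProd.ext h₁ h₂)
  · intro hi z w hzw
    exact hi z w (congrArg (fun t => t.1.1) hzw) (congrArg (fun t => t.1.2) hzw)

end Cmp

variable [IsNoetherianRing Λ] [Module.Finite Λ k]

/-- Gluing along a composite: the square of `p ≫ q` splits into two squares. -/
lemma exists_split_square {B A A₁ A' A'' : Art Λ k} {p' : B ⟶ A'} {p'' : B ⟶ A''} {f' : A' ⟶ A}
    {p : A'' ⟶ A₁} {q : A₁ ⟶ A} (h : Art.IsFibreProd p' p'' f' (p ≫ q))
    (hq : Function.Surjective q) :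
    ∃ (B₁ : Art Λ k) (a : B₁ ⟶ A') (b : B₁ ⟶ A₁) (r : B ⟶ B₁),
      Art.IsFibreProd a b f' q ∧ r ≫ a = p' ∧ Art.IsFibreProd r p'' b p := by
  obtain ⟨B₁, a, b, h₁⟩ := exists_isFibreProd f' q hq
  have hw : p' ≫ f' = (p'' ≫ p) ≫ q := by rw [Category.assoc, h.w]
  refine ⟨B₁, a, b, IsFibreProd.lift h₁ p' (p'' ≫ p) hw, h₁, IsFibreProd.lift_fst _ _ _ _,
    ⟨IsFibreProd.lift_snd _ _ _ _, ?_, ?_⟩⟩
  · intro x y h₁' h₂'
    refine h.inj x y ?_ h₂'
    rw [← IsFibreProd.lift_fst_apply h₁ p' (p'' ≫ p) hw x,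
      ← IsFibreProd.lift_fst_apply h₁ p' (p'' ≫ p) hw y, h₁']
  · intro b₁ a'' hc
    obtain ⟨x, hx₁, hx₂⟩ := h.surj (a b₁) a'' (by
      rw [h₁.w_apply b₁, hc]; rfl)
    refine ⟨x, h₁.inj _ _ ?_ ?_, hx₂⟩
    · rw [IsFibreProd.lift_fst_apply, hx₁]
    · rw [IsFibreProd.lift_snd_apply, hc, hom_comp_apply, hx₂]

theorem cmp_surjective_of_smallExt (F : Art Λ k ⥤ Type v) (hF : Hbar F) : S1 F := by
  intro B A A' A'' p' p'' f' f'' h hf
  refine surjective_induction (fun A A'' (f'' : A'' ⟶ A) => Function.Surjective f'' ∧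
    ∀ ⦃B A' : Art Λ k⦄ (p' : B ⟶ A') (p'' : B ⟶ A'') (f' : A' ⟶ A)
      (h : Art.IsFibreProd p' p'' f' f''), Function.Surjective (cmp F h)) ?_ ?_ ?_ f'' hf |>.2 p' p'' f' h
  · intro A A'' e he
    refine ⟨(bijective_of_isIso e).2, fun B A' p' p'' f' h => ?_⟩
    rw [cmp_surjective_iff]
    intro x' x'' hc
    haveI : IsIso p' := isIso_of_bijective p' (IsFibreProd.bijective_fst h (bijective_of_isIso e))
    obtain ⟨z, rfl⟩ := (bijective_map_of_isIso F p').2 x'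
    refine ⟨z, rfl, (bijective_map_of_isIso F e).1 ?_⟩
    rw [← hc, map_map, map_map, h.w]
  · exact fun A A'' p hp => ⟨hp.1, fun B A' p' p'' f' h => hF p' p'' f' p h hp⟩
  · intro A A₁ A'' p q hp hq
    refine ⟨hq.1.comp hp.1, fun B A' p' p'' f' h => ?_⟩
    obtain ⟨B₁, a, b, r, h₁, hra, h₂⟩ := exists_split_square h hq.1
    rw [cmp_surjective_iff]
    intro x' x'' hc
    rw [← map_map] at hc
    obtain ⟨z₁, hz₁, hz₂⟩ := (cmp_surjective_iff h₁).1 (hq.2 a b f' h₁) x' (F.map p x'') hc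
    obtain ⟨z, hz, hz'⟩ := (cmp_surjective_iff h₂).1 (hp.2 r p'' b h₂) z₁ x'' hz₂
    exact ⟨z, by rw [← hra, ← map_map, hz, hz₁], hz'⟩

theorem s1_iff_hbar (F : Art Λ k ⥤ Type v) : S1 F ↔ Hbar F :=
  ⟨fun h _ _ _ _ p' p'' f' f'' hp hs => h p' p'' f' f'' hp hs.1, cmp_surjective_of_smallExt F⟩

/-- (RS) follows from its restriction to small extensions. -/
theorem rs_of_smallExt (F : Art Λ k ⥤ Type v)
    (hF : ∀ ⦃B A A' A'' : Art Λ k⦄ (p' : B ⟶ A') (p'' : B ⟶ A'') (f' : A' ⟶ A) (f'' : A'' ⟶ A)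
      (h : Art.IsFibreProd p' p'' f' f''), Art.IsSmallExt f'' → Function.Bijective (cmp F h)) :
    RS F := by
  intro B A A' A'' p' p'' f' f'' h hf
  have hS1 : S1 F := cmp_surjective_of_smallExt F
    fun _ _ _ _ p' p'' f' f'' h hs => (hF p' p'' f' f'' h hs).2
  refine ⟨?_, hS1 p' p'' f' f'' h hf⟩
  refine surjective_induction (fun A A'' (f'' : A'' ⟶ A) => Function.Surjective f'' ∧
    ∀ ⦃B A' : Art Λ k⦄ (p' : B ⟶ A') (p'' : B ⟶ A'') (f' : A' ⟶ A)
      (h : Art.IsFibreProd p' p'' f' f''), Function.Injective (cmp F h)) ?_ ?_ ?_ f'' hf |>.2 p' p'' f' h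
  · intro A A'' e he
    refine ⟨(bijective_of_isIso e).2, fun B A' p' p'' f' h => ?_⟩
    rw [cmp_injective_iff]
    intro z w h₁ _
    haveI : IsIso p' := isIso_of_bijective p' (IsFibreProd.bijective_fst h (bijective_of_isIso e))
    exact (bijective_map_of_isIso F p').1 h₁
  · exact fun A A'' p hp => ⟨hp.1, fun B A' p' p'' f' h => (hF p' p'' f' p h hp).1⟩
  · intro A A₁ A'' p q hp hq
    refine ⟨hq.1.comp hp.1, fun B A' p' p'' f' h => ?_⟩
    obtain ⟨B₁, a, b, r, h₁, hra, h₂⟩ := exists_split_square h hq.1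
    rw [cmp_injective_iff]
    intro z w hz' hz''
    refine (cmp_injective_iff h₂).1 (hp.2 r p'' b h₂) z w ?_ hz''
    refine (cmp_injective_iff h₁).1 (hq.2 a b f' h₁) _ _ ?_ ?_
    · rwa [map_map, map_map, hra]
    · rw [map_map, map_map, h₂.w, ← map_map, ← map_map, hz'']

omit [IsNoetherianRing Λ] [Module.Finite Λ k] in
lemma RS.s1 {F : Art Λ k ⥤ Type v} (hF : RS F) : S1 F :=
  fun _ _ _ _ p' p'' f' f'' h hf => (hF p' p'' f' f'' h hf).2

omit [IsNoetherianRing Λ] [Module.Finite Λ k] in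
lemma RS.heps {F : Art Λ k ⥤ Type v} (hF : RS F) : Heps F :=
  fun _ _ p' p'' h => hF p' p'' _ _ h (toBase_surjective _)

omit [IsNoetherianRing Λ] [Module.Finite Λ k] in
lemma RS.hsq {F : Art Λ k ⥤ Type v} (hF : RS F) : HSq F :=
  fun _ _ _ p₁ p₂ f h hf => hF p₁ p₂ f f h hf.1

omit [IsNoetherianRing Λ] [Module.Finite Λ k] in
lemma RS.hbar {F : Art Λ k ⥤ Type v} (hF : RS F) : Hbar F :=
  fun _ _ _ _ p' p'' f' f'' h hf => (hF p' p'' f' f'' h hf.1).2

end Groth.Agent.Lib.ArtinFun
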