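import Groth.Agent.Lib.ArtinFun.DefGlue
import Groth.Agent.Lib.ArtinFun.Conditions
import Groth.Agent.Lib.FibreDeg.Basic

/-!
# Schlessinger's conditions for the deformation functor of a scheme
-/

noncomputable section

universe u

open CategoryTheory CategoryTheory.Limits AlgebraicGeometry ArtFun ArtFun.Art

namespace Groth.Agent.Lib.ArtinFun.DefRS

open DefCart DefGlue

variable {Λ k : Type u} [CommRing Λ] [Field k] [Algebra Λ k] {X : Scheme.{u}} {x : X ⟶ specPt k}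

instance flat_to_field : Flat x := FibreDeg.Basic.flat_of_field x

theorem h0_defFunctor : H0 (defFunctor (Λ := Λ) X x) := by
  refine ⟨⟨(DefSch.self X x inferInstance).cl⟩, ⟨fun a b => ?_⟩⟩
  induction a using Quotient.inductionOn with
  | h ξ =>
    induction b using Quotient.inductionOn with
    | h η =>
      obtain ⟨e⟩ := nonempty_iso_self ξ inferInstance
      obtain ⟨e'⟩ := nonempty_iso_self η inferInstance
      exact Quotient.sound ⟨e.symm.trans e'⟩

variable {B A A' A'' : Art Λ k} {p' : B ⟶ A'} {p'' : B ⟶ A''} {f' : A' ⟶ A} {f'' : A'' ⟶ A}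

/-- The comparison map is surjective along a surjection. -/
theorem surjective_cmp (h : IsFibreProd p' p'' f' f'') (hf : Function.Surjective f'') :
    Function.Surjective (cmp (defFunctor (Λ := Λ) X x) h) := by
  rw [cmp_surjective_iff]
  intro c' c'' e
  induction c' using Quotient.inductionOn with
  | h ξ' =>
    induction c'' using Quotient.inductionOn with
    | h ξ'' =>
      obtain ⟨q₂, h₂⟩ := exists_isCart_of_map_eq (g := f'') ξ'' (ξ'.baseChange f') e.symm
      obtain ⟨ζ, u, v, hu, hv, -⟩ := exists_glue h hf (isCart_baseChange ξ' f') h₂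
      exact ⟨ζ.cl, hu.cl_eq, hv.cl_eq⟩

/-- `θ` extends to the source of `q`. -/
def Lifts (f : A' ⟶ A) (ξ : DefSch X x A') : Prop :=
  ∀ (η : DefSch X x A) (q : η.total ⟶ ξ.total), IsCart f η ξ q → ∀ θ : η.Iso η,
    ∃ Θ : ξ.Iso ξ, q ≫ Θ.iso.hom = θ.iso.hom ≫ q

theorem lifts_iff (f : A' ⟶ A) (ξ : DefSch X x A') :
    Lifts f ξ ↔ Function.Surjective (fun e : ξ.Iso ξ => e.baseChange f) := by
  have key : ∀ e : ξ.Iso ξ, (e.baseChange f).iso.hom ≫ pullback.fst ξ.f (specMap f) =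
      pullback.fst ξ.f (specMap f) ≫ e.iso.hom := fun e => DefSch.pullMap_fst _ e.hom_f f
  constructor
  · intro h θ
    obtain ⟨Θ, hΘ⟩ := h _ _ (isCart_baseChange ξ f) θ
    exact ⟨Θ, (isCart_baseChange ξ f).iso_cancel ((key Θ).trans hΘ)⟩
  · intro h η q hq θ
    obtain ⟨a, ha⟩ := (isCart_baseChange ξ f).exists_iso hq
    obtain ⟨Θ, hΘ⟩ := h ((a.trans θ).trans a.symm)
    refine ⟨Θ, ?_⟩
    have hinv : a.iso.inv ≫ pullback.fst ξ.f (specMap f) = q := by rw [Iso.inv_comp_eq, ha]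
    have e := key Θ
    rw [show Θ.baseChange f = (a.trans θ).trans a.symm from hΘ] at e
    simp only [DefSch.Iso.trans, DefSch.Iso.symm, CategoryTheory.Iso.trans_hom, CategoryTheory.Iso.symm_hom,
      Category.assoc] at e
    rw [hinv] at e
    rw [← hinv, Category.assoc, ← e, Iso.inv_hom_id_assoc, hinv]

theorem lifts_base (f : A' ⟶ base Λ k) (ξ : DefSch X x A') : Lifts f ξ := fun η q _ θ =>
  ⟨DefSch.Iso.refl ξ, by
    rw [show θ = DefSch.Iso.refl η from @Subsingleton.elim _ (subsingleton_iso_base η η) _ _]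
    simp [DefSch.Iso.refl]⟩

theorem lifts_comp {A₁ : Art Λ k} {p : A'' ⟶ A₁} {q : A₁ ⟶ A}
    (hq : ∀ ζ : DefSch X x A₁, Lifts q ζ) (hp : ∀ ζ : DefSch X x A'', Lifts p ζ) (ξ : DefSch X x A'') :
    Lifts (p ≫ q) ξ := by
  intro η r hr θ
  let ξ₁ := ξ.baseChange p
  let η₁ := ξ₁.baseChange q
  obtain ⟨a, ha⟩ := ((isCart_baseChange ξ p).comp (isCart_baseChange ξ₁ q)).exists_iso hr
  obtain ⟨θ₁, hθ₁⟩ := hq ξ₁ η₁ _ (isCart_baseChange ξ₁ q) ((a.trans θ).trans a.symm)
  obtain ⟨Θ, hΘ⟩ := hp ξ ξ₁ _ (isCart_baseChange ξ p) θ₁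
  have hinv : a.iso.inv ≫ pullback.fst ξ₁.f (specMap q) ≫ pullback.fst ξ.f (specMap p) = r := by
    rw [Iso.inv_comp_eq, ha]
  refine ⟨Θ, ?_⟩
  rw [← hinv, Category.assoc, Category.assoc, hΘ, reassoc_of% hθ₁]
  simp [DefSch.Iso.trans, DefSch.Iso.symm]

/-- The comparison map is injective when automorphisms lift along one leg. -/
theorem injective_cmp (h : IsFibreProd p' p'' f' f'') (hf : Function.Surjective f'')
    (hl : (∀ ξ'' : DefSch X x A'', Lifts f'' ξ'') ∨ ∀ ξ' : DefSch X x A', Lifts f' ξ') :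
    Function.Injective (cmp (defFunctor (Λ := Λ) X x) h) := by
  rw [cmp_injective_iff]
  intro z w e' e''
  induction z using Quotient.inductionOn with
  | h ω =>
    induction w using Quotient.inductionOn with
    | h ω' =>
      let ξ' := ω.baseChange p'
      let ξ'' := ω.baseChange p''
      obtain ⟨u', hu'⟩ := exists_isCart_of_map_eq (g := p') ω' ξ' e'.symm
      obtain ⟨v', hv'⟩ := exists_isCart_of_map_eq (g := p'') ω' ξ'' e''.symm
      have hu := isCart_baseChange ω p'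
      have hv := isCart_baseChange ω p''
      let η := ξ'.baseChange f'
      have h₁ := isCart_baseChange ξ' f'
      have c1 : IsCart (p'' ≫ f'') η ω (pullback.fst ξ'.f (specMap f') ≫ pullback.fst ω.f (specMap p')) :=
        h.w ▸ hu.comp h₁
      obtain ⟨a, ha⟩ := c1.exists_iso (hv.comp (isCart_baseChange ξ'' f''))
      have h₂ := (isCart_baseChange ξ'' f'').iso_comp a
      have c2 : IsCart (p'' ≫ f'') η ω' (pullback.fst ξ'.f (specMap f') ≫ u') := h.w ▸ hu'.comp h₁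
      obtain ⟨θ, hθ⟩ := c2.exists_iso (hv'.comp h₂)
      have hw : pullback.fst ξ'.f (specMap f') ≫ pullback.fst ω.f (specMap p') =
          (a.iso.hom ≫ pullback.fst ξ''.f (specMap f'')) ≫ pullback.fst ω.f (specMap p'') := by
        rw [Category.assoc]; exact ha.symm
      rcases hl with hl | hl
      · obtain ⟨Θ, hΘ⟩ := hl ξ'' η _ h₂ θ
        obtain ⟨e, -, -⟩ := exists_iso_of_carts h hf h₁ h₂ hu hv hw hu' (hv'.iso_comp Θ)
          (by rw [← Category.assoc (a.iso.hom ≫ _), hΘ, Category.assoc]; exact hθ.symm)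
        exact Quotient.sound ⟨e⟩
      · obtain ⟨Θ, hΘ⟩ := hl ξ' η _ h₁ θ.symm
        obtain ⟨e, -, -⟩ := exists_iso_of_carts h hf h₁ h₂ hu hv hw (hu'.iso_comp Θ) hv'
          (by
            rw [reassoc_of% hΘ, ← hθ]
            simp [DefSch.Iso.symm])
        exact Quotient.sound ⟨e⟩

theorem s1_defFunctor : S1 (defFunctor (Λ := Λ) X x) :=
  fun _ _ _ _ _ _ _ _ h hf => surjective_cmp h hf

theorem surjective_toBase (A : Art Λ k) (hk : Function.Surjective (algebraMap Λ k)) :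
    Function.Surjective (toBase A) := fun c => by
  obtain ⟨l, hl⟩ := hk c
  exact ⟨algebraMap Λ A l, ((toBase A).toAlgHom.commutes l).trans hl⟩

theorem heps_defFunctor (hk : Function.Surjective (algebraMap Λ k)) : Heps (defFunctor (Λ := Λ) X x) :=
  fun _ _ _ _ h => ⟨injective_cmp h (surjective_toBase _ hk) (Or.inl fun ξ => lifts_base _ ξ),
    surjective_cmp h (surjective_toBase _ hk)⟩

/-- Injectivity on the fibre square of `f` gives lifting of automorphisms. -/
theorem lifts_of_injective {f : A' ⟶ A} (hf : Function.Surjective f) {B : Art Λ k} {p₁ p₂ : B ⟶ A'}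
    (h : IsFibreProd p₁ p₂ f f) (hi : Function.Injective (cmp (defFunctor (Λ := Λ) X x) h))
    (ξ : DefSch X x A') : Lifts f ξ := by
  intro η q hq θ
  obtain ⟨ω, u, v, hu, hv, hw⟩ := exists_glue h hf hq hq
  obtain ⟨ω', u', v', hu', hv', hw'⟩ := exists_glue h hf hq (hq.iso_comp θ)
  obtain ⟨Φ⟩ := Quotient.exact ((cmp_injective_iff h).1 hi ω.cl ω'.cl
    (hu.cl_eq.trans hu'.cl_eq.symm) (hv.cl_eq.trans hv'.cl_eq.symm))
  obtain ⟨α, hα⟩ := (hu.comp_iso Φ).exists_iso hu'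
  obtain ⟨β, hβ⟩ := (hv.comp_iso Φ).exists_iso hv'
  obtain ⟨a, ha⟩ := hq.exists_restrict hq α
  obtain ⟨b, hb⟩ := hq.exists_restrict hq β
  have e : a.trans θ = b := by
    refine (hv'.comp hq).iso_cancel ?_
    show (a.iso.hom ≫ θ.iso.hom) ≫ q ≫ v' = b.iso.hom ≫ q ≫ v'
    rw [reassoc_of% hb, hβ, ← reassoc_of% hw]
    rw [Category.assoc] at hw'
    rw [Category.assoc, ← hw', reassoc_of% ha, hα]
  refine ⟨α.symm.trans β, ?_⟩
  have hθ : θ = a.symm.trans b := by
    rw [← e]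
    exact iso_ext (by simp [DefSch.Iso.trans, DefSch.Iso.symm])
  have hinv : q ≫ α.iso.inv = a.iso.inv ≫ q := by
    rw [Iso.comp_inv_eq, Category.assoc, ← ha, Iso.inv_hom_id_assoc]
  rw [hθ]
  simp [DefSch.Iso.trans, DefSch.Iso.symm, hb, reassoc_of% hinv]

variable [IsNoetherianRing Λ] [Module.Finite Λ k]

theorem rs_defFunctor (hl : ∀ (A' A : Art Λ k) (p : A' ⟶ A), IsSmallExt p → ∀ ξ : DefSch X x A', Lifts p ξ) :
    RS (defFunctor (Λ := Λ) X x) :=
  rs_of_smallExt _ fun _ _ _ _ _ _ _ f h hs =>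
    ⟨injective_cmp h hs.1 (Or.inl fun ξ => hl _ _ f hs ξ), surjective_cmp h hs.1⟩

theorem lifts_of_rs (hrs : ∀ ⦃B A A' A'' : Art Λ k⦄ (p' : B ⟶ A') (p'' : B ⟶ A'') (f' : A' ⟶ A) (f'' : A'' ⟶ A)
      (h : IsFibreProd p' p'' f' f''), IsSmallExt f'' → Function.Bijective (cmp (defFunctor (Λ := Λ) X x) h))
    (A' A : Art Λ k) (p : A' ⟶ A) (hp : IsSmallExt p) (ξ : DefSch X x A') : Lifts p ξ := by
  obtain ⟨B, p₁, p₂, h⟩ := exists_isFibreProd p p hp.1
  exact lifts_of_injective hp.1 h (hrs p₁ p₂ p p h hp).1 ξ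

theorem lifts_of_surjective (hl : ∀ (A' A : Art Λ k) (p : A' ⟶ A), IsSmallExt p → ∀ ξ : DefSch X x A', Lifts p ξ)
    {A' A : Art Λ k} (p : A' ⟶ A) (hp : Function.Surjective p) (ξ : DefSch X x A') : Lifts p ξ := by
  refine surjective_induction (fun A A' (p : A' ⟶ A) => ∀ ξ : DefSch X x A', Lifts p ξ)
    (fun A A' e he ξ η q hq θ => ?_) (fun A A' p hp => hl A' A p hp)
    (fun _ _ _ p q hp hq ξ => lifts_comp hq hp ξ) p hp ξ
  haveI : IsIso (specMap e) :=
    ⟨specMap (inv e), by rw [← specMap_comp, IsIso.inv_hom_id, specMap_id],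
      by rw [← specMap_comp, IsIso.hom_inv_id, specMap_id]⟩
  haveI : IsIso q := hq.pb.isIso_fst_of_isIso
  refine ⟨⟨(asIso q).symm ≪≫ θ.iso ≪≫ asIso q, ?_, ?_⟩, ?_⟩
  · simp [hq.pb.w, reassoc_of% θ.hom_f]
  · rw [← hq.iq]
    simp [reassoc_of% θ.i_hom]
  · simp

end Groth.Agent.Lib.ArtinFun.DefRS
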