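import Groth.Agent.Lib.ArtinFun.Versal
import Mathlib.LinearAlgebra.FiniteDimensional.Basic
import Mathlib.LinearAlgebra.Basis.VectorSpace

/-!
# Schlessinger's theorems: versal families, hulls, pro-representability
-/

universe u v

open CategoryTheory ArtFun

set_option linter.style.haveILetI false

namespace Groth.Agent.Lib.ArtinFun

variable {Λ : Type u} {k : Type u} [CommRing Λ] [Field k] [Algebra Λ k]

section Shape

/-- The morphism `k ⊕ k^n → k[ε]` given by a linear form. -/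
noncomputable def linHom {n : ℕ} (b : ULift.{u} (Fin n) → k) : freeSqZero Λ k n ⟶ Art.dual Λ k :=
  ⟨Art.tszeMap (∑ j, b j • LinearMap.proj j), AlgHom.ext fun _ => rfl⟩

lemma snd_linHom {n : ℕ} (b : ULift.{u} (Fin n) → k) (x : freeSqZero Λ k n) :
    TrivSqZeroExt.snd (linHom b x) = ∑ j, b j * TrivSqZeroExt.snd x j := by
  change (∑ j, b j • LinearMap.proj j : (ULift.{u} (Fin n) → k) →ₗ[k] k) (TrivSqZeroExt.snd x) = _
  rw [LinearMap.coe_sum, Finset.sum_apply]
  rfl

/-- The section `k → k ⊕ k^n`. -/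
noncomputable def sectionHom (n : ℕ) : Art.base Λ k ⟶ freeSqZero Λ k n :=
  ⟨TrivSqZeroExt.inlAlgHom Λ k (ULift.{u} (Fin n) → k), AlgHom.ext fun _ => rfl⟩

variable {F : Art Λ k ⥤ Type v} [TangentStr F] (h0 : Subsingleton (F.obj (Art.base Λ k)))

include h0 in
lemma map_linHom {n : ℕ} (b : ULift.{u} (Fin n) → k) (z : F.obj (freeSqZero Λ k n)) :
    TangentSpace.mk (F := F) (F.map (linHom b) z) =
      ∑ j, b j • TangentSpace.mk (F := F) (F.map (projHom j) z) := by
  classical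
  suffices ∀ s : Finset (ULift.{u} (Fin n)),
      TangentSpace.mk (F := F) (F.map (linHom fun j => if j ∈ s then b j else 0) z) =
        ∑ j ∈ s, b j • TangentSpace.mk (F := F) (F.map (projHom j) z) by
    have h := this Finset.univ
    simp only [Finset.mem_univ, if_true] at h
    exact h
  intro s
  induction s using Finset.induction_on with
  | empty =>
    rw [Finset.sum_empty]
    refine Eq.trans ?_ (map_baseToDual h0 (F.map (Art.toBase (freeSqZero Λ k n)) z))
    rw [map_map]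
    exact congrArg TangentSpace.mk (map_congr (dual_hom_ext fun x => by
      rw [snd_linHom]
      simp only [Finset.notMem_empty, if_false, zero_mul, Finset.sum_const_zero]
      rfl) z)
  | insert a s ha ih =>
    rw [Finset.sum_insert ha, ← ih]
    refine Eq.trans ?_ (congrArg₂ (· + ·) (map_comp_scale (F := F) (b a) (projHom a) z) rfl)
    refine Eq.trans ?_ (map_addHom (F := F) _ _ z)
    refine congrArg TangentSpace.mk (map_congr (dual_hom_ext fun x => ?_) z)
    rw [snd_addHom, snd_scale, snd_projHom, snd_linHom, snd_linHom]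
    rw [← Finset.sum_erase_add _ _ (Finset.mem_univ a), ← Finset.sum_erase_add _ _ (Finset.mem_univ a),
      if_pos (Finset.mem_insert_self a s), if_neg ha, zero_mul, add_zero, add_comm]
    congr 1
    refine Finset.sum_congr rfl fun j hj => ?_
    simp [Finset.ne_of_mem_erase hj]

lemma hom_eq_add {n : ℕ} (ψ : freeSqZero Λ k n ⟶ Art.dual Λ k) :
    ∃ b : ULift.{u} (Fin n) → k,
      ψ = addHom (Art.toBase _ ≫ (sectionHom n ≫ ψ)) (linHom b) := by
  classical
  refine ⟨fun j => TrivSqZeroExt.snd (ψ (TrivSqZeroExt.inr (Pi.single j 1))), dual_hom_ext fun x => ?_⟩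
  rw [snd_addHom, snd_linHom]
  change TrivSqZeroExt.snd (ψ x) = TrivSqZeroExt.snd (ψ (TrivSqZeroExt.inl (TrivSqZeroExt.fst x))) + _
  have key : ∀ (c : k) (j : ULift.{u} (Fin n)),
      TrivSqZeroExt.snd (ψ (TrivSqZeroExt.inl c * TrivSqZeroExt.inr (Pi.single j 1))) =
        c * TrivSqZeroExt.snd (ψ (TrivSqZeroExt.inr (Pi.single j 1))) := by
    intro c j
    refine (congrArg TrivSqZeroExt.snd (map_mul ψ.toAlgHom _ _)).trans ?_
    refine (TrivSqZeroExt.snd_mul (ψ (TrivSqZeroExt.inl c) : TrivSqZeroExt k k) _).trans ?_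
    have h1 : TrivSqZeroExt.fst (ψ (TrivSqZeroExt.inl c) : TrivSqZeroExt k k) = c :=
      Art.res_app ψ _
    have h2 : TrivSqZeroExt.fst (ψ (TrivSqZeroExt.inr (Pi.single j 1)) : TrivSqZeroExt k k) = 0 :=
      Art.res_app ψ _
    rw [h1, h2]
    simp
  have hx : x = (TrivSqZeroExt.inl (TrivSqZeroExt.fst x) +
      ∑ j, TrivSqZeroExt.inl (TrivSqZeroExt.snd x j) * TrivSqZeroExt.inr (Pi.single j (1 : k)) :
        TrivSqZeroExt k (ULift.{u} (Fin n) → k)) := by
    refine TrivSqZeroExt.ext ?_ ?_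
    · simp [TrivSqZeroExt.fst_sum]
    · funext i
      simp [TrivSqZeroExt.snd_sum, Finset.sum_apply, Pi.single_apply]
  conv_lhs => rw [hx]
  refine (congrArg TrivSqZeroExt.snd (map_add ψ.toAlgHom _ _)).trans ?_
  refine (TrivSqZeroExt.snd_add (ψ (TrivSqZeroExt.inl (TrivSqZeroExt.fst x)) : TrivSqZeroExt k k) _).trans ?_
  congr 1
  refine (congrArg TrivSqZeroExt.snd (map_sum ψ.toAlgHom _ _)).trans ?_
  refine (TrivSqZeroExt.snd_sum Finset.univ _).trans ?_
  exact Finset.sum_congr rfl fun j _ => (key _ j).trans (mul_comm _ _)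

include h0 in
lemma map_hom {n : ℕ} (ψ : freeSqZero Λ k n ⟶ Art.dual Λ k) (b : ULift.{u} (Fin n) → k)
    (hb : ψ = addHom (Art.toBase _ ≫ (sectionHom n ≫ ψ)) (linHom b))
    (z : F.obj (freeSqZero Λ k n)) (x₀ : F.obj (Art.base Λ k)) :
    TangentSpace.mk (F := F) (F.map ψ z) = TangentSpace.mk (F := F) (F.map (sectionHom n ≫ ψ) x₀) +
      ∑ j, b j • TangentSpace.mk (F := F) (F.map (projHom j) z) := by
  rw [← map_linHom h0]
  conv_lhs => rw [hb]
  refine (map_addHom (F := F) _ _ z).trans (congrArg (· + _) (congrArg TangentSpace.mk ?_))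
  rw [← map_map]
  exact congrArg _ (@Subsingleton.elim _ h0 _ _)

end Shape

/-- The image of `Hom(k, k[ε])` in the tangent space, as a submodule. -/
noncomputable def baseTangent (F : Art Λ k ⥤ Type v) [TangentStr F]
    (h0 : Subsingleton (F.obj (Art.base Λ k))) (x₀ : F.obj (Art.base Λ k)) :
    Submodule k (TangentSpace F) where
  carrier := Set.range fun σ : Art.base Λ k ⟶ Art.dual Λ k => TangentSpace.mk (F := F) (F.map σ x₀)
  add_mem' := by
    rintro _ _ ⟨σ, rfl⟩ ⟨τ, rfl⟩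
    exact ⟨addHom σ τ, map_addHom σ τ x₀⟩
  zero_mem' := ⟨Art.baseToDual, map_baseToDual h0 x₀⟩
  smul_mem' := by
    rintro c _ ⟨σ, rfl⟩
    exact ⟨σ ≫ Art.scale c, map_comp_scale c σ x₀⟩

variable [IsNoetherianRing Λ] [Module.Finite Λ k]

/-- A versal family exists; it is miniversal when `Hom(k, k[ε]) → t_F` is injective. -/
theorem exists_versal_of_schlessinger (F : Art Λ k ⥤ Type v) [TangentStr F] (h0 : H0 F) (h1 : S1 F)
    (h2 : Heps F) (h3 : Hfin F) :
    ∃ V : VersalPair F, ((∀ x₀ : F.obj (Art.base Λ k),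
      Function.Injective (fun σ : Art.base Λ k ⟶ Art.dual Λ k => F.map σ x₀)) →
        IsMiniversal V.family) := by
  classical
  haveI : Module.Finite k (TangentSpace F) := h3
  obtain ⟨x₀⟩ := h0.1
  obtain ⟨W, hW⟩ := (baseTangent F h0.2 x₀).exists_isCompl
  haveI : Module.Finite k W := Module.Finite.of_injective W.subtype W.injective_subtype
  let B := Module.finBasis k W
  obtain ⟨z, hz⟩ := exists_free_element h0 h2 (Module.finrank k W)
    fun j => ((B j : W) : TangentSpace F).val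
  obtain ⟨P, π, hπ, hfac, hP⟩ := exists_smooth_cRing Λ k (Module.finrank k W)
  have hz' : ∀ b : ULift.{u} (Fin (Module.finrank k W)) → k,
      (∑ j, b j • TangentSpace.mk (F := F) (F.map (projHom j) z)) =
        (∑ j, b ⟨j⟩ • (B j : W) : W) := by
    intro b
    rw [Submodule.coe_sum, ← Equiv.sum_comp Equiv.ulift.symm]
    exact Finset.sum_congr rfl fun j _ => congrArg (b ⟨j⟩ • ·) (hz j)
  have hsurj : Function.Surjective fun ψ : freeSqZero Λ k _ ⟶ Art.dual Λ k => F.map ψ z := by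
    intro θ
    obtain ⟨a, ha, w, hw, haw⟩ := Submodule.mem_sup.1
      (show TangentSpace.mk θ ∈ baseTangent F h0.2 x₀ ⊔ W by rw [hW.sup_eq_top]; trivial)
    obtain ⟨σ, rfl⟩ := ha
    refine ⟨addHom (Art.toBase _ ≫ σ) (linHom fun j => B.repr ⟨w, hw⟩ j.down), ?_⟩
    refine (map_addHom (F := F) _ _ z).trans (Eq.trans ?_ haw)
    refine congrArg₂ (· + ·) ?_ ?_
    · refine congrArg TangentSpace.mk ?_
      rw [← map_map]
      exact congrArg _ (@Subsingleton.elim _ h0.2 _ _)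
    · rw [map_linHom h0.2, hz']
      exact congrArg Subtype.val (B.sum_repr ⟨w, hw⟩)
  obtain ⟨V, hV⟩ := exists_versal h1 h2 P hP _ π hπ hfac z hsurj
  refine ⟨V, fun hc => hV fun ψ₁ ψ₂ h => ?_⟩
  obtain ⟨b₁, hb₁⟩ := hom_eq_add ψ₁
  obtain ⟨b₂, hb₂⟩ := hom_eq_add ψ₂
  have e : TangentSpace.mk (F := F) (F.map ψ₁ z) = TangentSpace.mk (F := F) (F.map ψ₂ z) := h
  rw [map_hom h0.2 ψ₁ b₁ hb₁ z x₀, map_hom h0.2 ψ₂ b₂ hb₂ z x₀, hz', hz'] at e
  have hd : TangentSpace.mk (F := F) (F.map (sectionHom _ ≫ ψ₁) x₀) -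
      TangentSpace.mk (F := F) (F.map (sectionHom _ ≫ ψ₂) x₀) =
      ((∑ j, b₂ ⟨j⟩ • B j - ∑ j, b₁ ⟨j⟩ • B j : W) : TangentSpace F) := by
    rw [Submodule.coe_sub, sub_eq_sub_iff_add_eq_add, e, add_comm]
  have hmem : TangentSpace.mk (F := F) (F.map (sectionHom _ ≫ ψ₁) x₀) -
      TangentSpace.mk (F := F) (F.map (sectionHom _ ≫ ψ₂) x₀) ∈ baseTangent F h0.2 x₀ :=
    sub_mem ⟨_, rfl⟩ ⟨_, rfl⟩
  have hzero := Submodule.disjoint_def.1 hW.disjoint _ hmem (hd ▸ Subtype.prop _)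
  have hσ : sectionHom _ ≫ ψ₁ = sectionHom _ ≫ ψ₂ := hc x₀ ((sub_eq_zero (a := TangentSpace.mk (F := F) (F.map (sectionHom _ ≫ ψ₁) x₀))).1 hzero)
  have hb : b₁ = b₂ := by
    rw [hzero] at hd
    have hd' : ∑ j, (b₂ ⟨j⟩ - b₁ ⟨j⟩) • B j = 0 := by
      simp only [sub_smul, Finset.sum_sub_distrib]
      exact Subtype.ext hd.symm
    funext j
    exact (sub_eq_zero.1 (Fintype.linearIndependent_iff.1 B.linearIndependent _ hd' j.down)).symm
  rw [hb₁, hb₂, hσ, hb]

theorem hasVersal_of_schlessinger (F : Art Λ k ⥤ Type v) [TangentStr F] (h0 : H0 F) (h1 : S1 F)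
    (h2 : Heps F) (h3 : Hfin F) : HasVersal F :=
  ⟨(exists_versal_of_schlessinger F h0 h1 h2 h3).choose⟩

omit [IsNoetherianRing Λ] [Module.Finite Λ k] in
lemma subsingleton_base_dual_of_derivation (hk : Subsingleton (Derivation Λ k k)) :
    Subsingleton (Art.base Λ k ⟶ Art.dual Λ k) := by
  refine ⟨fun σ τ => dual_hom_ext fun c => ?_⟩
  have mk : ∀ σ : Art.base Λ k ⟶ Art.dual Λ k, ∃ D : Derivation Λ k k,
      ∀ x : k, D x = TrivSqZeroExt.snd (σ x : TrivSqZeroExt k k) := by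
    intro σ
    let L : k →ₗ[Λ] k :=
      (TrivSqZeroExt.sndHom k k |>.restrictScalars Λ).comp
        (σ.toAlgHom : k →ₐ[Λ] TrivSqZeroExt k k).toLinearMap
    refine ⟨Derivation.mk' L fun a b => ?_, fun x => rfl⟩
    change TrivSqZeroExt.snd (σ (a * b) : TrivSqZeroExt k k) = _
    refine (congrArg TrivSqZeroExt.snd (map_mul σ.toAlgHom a b)).trans ?_
    refine (TrivSqZeroExt.snd_mul (σ a : TrivSqZeroExt k k) (σ b)).trans ?_
    have ha : TrivSqZeroExt.fst (σ a : TrivSqZeroExt k k) = a := Art.res_app σ a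
    have hb : TrivSqZeroExt.fst (σ b : TrivSqZeroExt k k) = b := Art.res_app σ b
    rw [ha, hb, op_smul_eq_smul]
    rfl
  obtain ⟨D₁, h₁⟩ := mk σ
  obtain ⟨D₂, h₂⟩ := mk τ
  exact (h₁ c).symm.trans ((DFunLike.congr_fun (@Subsingleton.elim _ hk D₁ D₂) c).trans (h₂ c))

omit [IsNoetherianRing Λ] [Module.Finite Λ k] in
lemma subsingleton_base_dual_of_surjective (hk : Function.Surjective (algebraMap Λ k)) :
    Subsingleton (Art.base Λ k ⟶ Art.dual Λ k) :=
  ⟨fun σ τ => hom_ext_apply fun c => by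
    obtain ⟨l, rfl⟩ := hk c
    exact (σ.toAlgHom.commutes l).trans (τ.toAlgHom.commutes l).symm⟩

theorem hasHull_of_schlessinger (hk : Subsingleton (Art.base Λ k ⟶ Art.dual Λ k))
    (F : Art Λ k ⥤ Type v) [TangentStr F] (h0 : H0 F) (h1 : S1 F)
    (h2 : Heps F) (h3 : Hfin F) : HasHull F := by
  obtain ⟨V, hV⟩ := exists_versal_of_schlessinger F h0 h1 h2 h3
  exact ⟨⟨V.ring, V.family, hV fun x₀ a b _ => @Subsingleton.elim _ hk a b⟩⟩

omit [IsNoetherianRing Λ] in
lemma finite_hR_dual (R : CRing Λ k) [TangentStr (hR R.carrier R.res)] :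
    Hfin (hR R.carrier R.res) := by
  obtain ⟨N, x, hx⟩ := exists_generators R.res R.res_surjective (fg_maximalIdeal R)
  let ev : TangentSpace (hR R.carrier R.res) →ₗ[k] (Fin N → k) :=
    { toFun := fun φ i => TrivSqZeroExt.snd ((TangentSpace.val φ : HomSet R.carrier R.res (Art.dual Λ k)).1 (x i))
      map_add' := fun φ ψ => by
        obtain ⟨z, h₁, h₂⟩ := (cmp_surjective_iff Art.isFibreProd_dual2).1
          ((rs_hR R.carrier R.res).heps _ _ Art.isFibreProd_dual2).2
          (TangentSpace.val φ) (TangentSpace.val ψ) (@Subsingleton.elim _ subsingleton_homSet_base _ _)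
        have h := TangentStr.add_eq (F := hR R.carrier R.res) z
        rw [h₁, h₂] at h
        funext i
        have hφ := congrArg (fun w : HomSet R.carrier R.res (Art.dual Λ k) => TrivSqZeroExt.snd (w.1 (x i))) h₁
        have hψ := congrArg (fun w : HomSet R.carrier R.res (Art.dual Λ k) => TrivSqZeroExt.snd (w.1 (x i))) h₂
        refine (congrArg (fun w : HomSet R.carrier R.res (Art.dual Λ k) => TrivSqZeroExt.snd (w.1 (x i))) h).trans ?_
        rw [Pi.add_apply]
        exact congrArg₂ (· + ·) hφ hψ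
      map_smul' := fun c φ => by
        funext i
        exact congrArg (fun w : HomSet R.carrier R.res (Art.dual Λ k) => TrivSqZeroExt.snd (w.1 (x i)))
          (TangentStr.smul_eq (F := hR R.carrier R.res) c (TangentSpace.val φ)) }
  refine Module.Finite.of_injective ev fun φ ψ h => homSet_ext' fun r => ?_
  obtain ⟨M, hM⟩ := exists_maximalIdeal_pow_eq_bot (Art.dual Λ k)
  obtain ⟨p, hp⟩ := hx r M
  rw [← ker_res_cRing] at hp
  have h₁ := homSet_pow_le_ker (TangentSpace.val φ : HomSet R.carrier R.res (Art.dual Λ k)) hM hp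
  have h₂ := homSet_pow_le_ker (TangentSpace.val ψ : HomSet R.carrier R.res (Art.dual Λ k)) hM hp
  rw [map_sub, sub_eq_zero] at h₁ h₂
  refine h₁.trans (Eq.trans ?_ h₂.symm)
  rw [MvPolynomial.comp_aeval_apply, MvPolynomial.comp_aeval_apply]
  congr 2
  funext i
  exact TrivSqZeroExt.ext ((homSet_res (A := Art.dual Λ k) (TangentSpace.val φ) (x i)).trans (homSet_res (A := Art.dual Λ k) (TangentSpace.val ψ) (x i)).symm) (congrFun h i)

omit [IsNoetherianRing Λ] in
theorem hfin_of_surjective_family (F : Art Λ k ⥤ Type v) [TangentStr F] {R : CRing Λ k}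
    (ξ : Family R.carrier R.res F) (h : Function.Surjective (ξ.app (Art.dual Λ k))) : Hfin F := by
  obtain ⟨T⟩ := nonempty_tangentStr (hR R.carrier R.res) (h0_hR _ _) (rs_hR _ _).heps
  haveI : Module.Finite k (TangentSpace (hR R.carrier R.res)) := finite_hR_dual R
  obtain ⟨f, hf⟩ := exists_linearMap_tangent (F := hR R.carrier R.res) (G := F) (fun A => ξ.app A)
    (isNatMap_family ξ) subsingleton_homSet_base (rs_hR _ _).heps
  exact Module.Finite.of_surjective f fun θ => (h θ).imp fun φ hφ => (hf φ).trans hφ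

omit [IsNoetherianRing Λ] [Module.Finite Λ k] in
theorem rs_of_isUniversal {F : Art Λ k ⥤ Type v} {R : Type u} [CommRing R] [Algebra Λ R]
    {resR : R →ₐ[Λ] k} (ξ : Family R resR F) (hξ : IsUniversal ξ) : RS F ∧ IsLeftExact F := by
  have key : IsLeftExact F := by
    intro B A A' A'' p' p'' f' f'' h
    refine ⟨(cmp_injective_iff h).2 fun z w h₁ h₂ => ?_, (cmp_surjective_iff h).2 fun x y hxy => ?_⟩
    · obtain ⟨φ, rfl⟩ := (hξ B).2 z
      obtain ⟨ψ, rfl⟩ := (hξ B).2 w
      rw [← ξ.natural, ← ξ.natural] at h₁ h₂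
      rw [IsFibreProd.homSet_ext h ((hξ A').1 h₁) ((hξ A'').1 h₂)]
    · obtain ⟨φ, rfl⟩ := (hξ A').2 x
      obtain ⟨ψ, rfl⟩ := (hξ A'').2 y
      rw [← ξ.natural, ← ξ.natural] at hxy
      obtain ⟨χ, h₁, h₂⟩ := IsFibreProd.exists_homSet h φ ψ ((hξ A).1 hxy)
      exact ⟨ξ.app B χ, by rw [← ξ.natural, h₁], by rw [← ξ.natural, h₂]⟩
  exact ⟨fun _ _ _ _ p' p'' f' f'' h _ => key p' p'' f' f'' h, key⟩

theorem isProrepresentable_of_conditions (F : Art Λ k ⥤ Type v) [TangentStr F] (h0 : H0 F)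
    (hrs : RS F) (h3 : Hfin F)
    (hc : ∀ x₀ : F.obj (Art.base Λ k),
      Function.Injective (fun σ : Art.base Λ k ⟶ Art.dual Λ k => F.map σ x₀)) :
    IsProrepresentable F := by
  obtain ⟨V, hV⟩ := exists_versal_of_schlessinger F h0 hrs.s1 hrs.heps h3
  have hm := hV hc
  refine ⟨⟨V.ring, V.family, fun A => ⟨?_, ?_⟩⟩⟩
  · exact injective_of_tangent_injective (F := hR V.ring.carrier V.ring.res) (fun A => V.family.app A)
      (isNatMap_family _) (fun _ _ _ p₁ p₂ f h hf => ((rs_hR _ _) p₁ p₂ f f h hf.1).2)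
      (fun _ _ p' p'' h => ((rs_hR _ _).heps p' p'' h).1)
      (fun _ _ _ p₁ p₂ f h hf => (hrs p₁ p₂ f f h hf.1).1)
      (fun a b _ => @Subsingleton.elim _ subsingleton_homSet_base a b) hm.2.1 A
  · exact surjective_app_of_isVersal _ V.versal (surjective_base_of_h0 _ h0) A

omit [IsNoetherianRing Λ] in
theorem conditions_of_isProrepresentable (F : Art Λ k ⥤ Type v) [TangentStr F]
    (h : IsProrepresentable F) :
    H0 F ∧ RS F ∧ IsLeftExact F ∧ Hfin F ∧ ∀ x₀ : F.obj (Art.base Λ k),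
      Function.Injective (fun σ : Art.base Λ k ⟶ Art.dual Λ k => F.map σ x₀) := by
  obtain ⟨⟨R, ξ, hξ⟩⟩ := h
  obtain ⟨hrs, hle⟩ := rs_of_isUniversal ξ hξ
  refine ⟨⟨⟨ξ.app _ (homSetBase _ _)⟩, subsingleton_base_of_surjective ξ (hξ _).2⟩, hrs, hle,
    hfin_of_surjective_family F ξ (hξ _).2, fun x₀ σ τ e => ?_⟩
  obtain ⟨φ, rfl⟩ := (hξ _).2 x₀
  have e' := (hξ _).1 (((ξ.natural σ φ).trans e).trans (ξ.natural τ φ).symm)
  refine hom_ext_apply fun c => ?_
  obtain ⟨r, rfl⟩ := R.res_surjective c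
  rw [← homSet_res φ r]
  exact AlgHom.congr_fun (congrArg Subtype.val e') r

end Groth.Agent.Lib.ArtinFun
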