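import Groth.Agent.Lib.ArtinFun.T1Finite
import Groth.Agent.Lib.ArtinFun.DefRS
import Groth.Agent.Lib.ArtinFun.AffTangent
import Groth.Agent.Lib.ArtinFun.Hull
import Mathlib.AlgebraicGeometry.Morphisms.Smooth

/-!
# Hulls for affine schemes with finite nonsmooth locus
-/

noncomputable section

universe u

open CategoryTheory CategoryTheory.Limits AlgebraicGeometry ArtFun ArtFun.Art

namespace Groth.Agent.Lib.ArtinFun.AffHullFinite

open DefRS

variable {Λ k : Type u} [CommRing Λ] [Field k] [Algebra Λ k] {X X' : Scheme.{u}} {x : X ⟶ specPt k}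
  {x' : X' ⟶ specPt k} (e : X ≅ X') (he : e.hom ≫ x' = x)

include he in
lemma inv_x : e.inv ≫ x = x' := by rw [← he, Iso.inv_hom_id_assoc]

/-- Transport over the dual numbers. -/
def conv₁ (ξ : DefSch X x (Art.dual Λ k)) : DefSch X' x' (Art.dual k k) where
  total := ξ.total
  f := ξ.f
  flat := ξ.flat
  i := e.inv ≫ ξ.i
  isPullback := IsPullback.of_iso ξ.isPullback e (CategoryTheory.Iso.refl _) (CategoryTheory.Iso.refl _)
    (CategoryTheory.Iso.refl _) (by simp) (by simp [he]) (by simp; rfl) (by simp; rfl)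

/-- Transport over the pair of dual numbers. -/
def conv₂ (ξ : DefSch X x (Art.dual2 Λ k)) : DefSch X' x' (Art.dual2 k k) where
  total := ξ.total
  f := ξ.f
  flat := ξ.flat
  i := e.inv ≫ ξ.i
  isPullback := IsPullback.of_iso ξ.isPullback e (CategoryTheory.Iso.refl _) (CategoryTheory.Iso.refl _)
    (CategoryTheory.Iso.refl _) (by simp) (by simp [he]) (by simp; rfl) (by simp; rfl)

/-- Transport of classes over the dual numbers. -/
def cl₁ : (defFunctor (Λ := Λ) X x).obj (Art.dual Λ k) → (defFunctor (Λ := k) X' x').obj (Art.dual k k) :=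
  Quotient.lift (fun ξ => (conv₁ e he ξ).cl) fun ξ η ⟨a⟩ => Quotient.sound
    ⟨⟨a.iso, a.hom_f, by show (e.inv ≫ ξ.i) ≫ a.iso.hom = e.inv ≫ η.i; rw [Category.assoc, a.i_hom]⟩⟩

theorem cl₁_injective : Function.Injective (cl₁ (Λ := Λ) e he) := by
  intro a b h
  induction a using Quotient.inductionOn with
  | h ξ =>
    induction b using Quotient.inductionOn with
    | h η =>
      obtain ⟨φ⟩ := Quotient.exact h
      exact Quotient.sound ⟨⟨φ.iso, φ.hom_f, (cancel_epi e.inv).1 ((Category.assoc _ _ _).symm.trans φ.i_hom)⟩⟩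

theorem cl₁_map₂ (g : Art.dual2 Λ k ⟶ Art.dual Λ k) (g' : Art.dual2 k k ⟶ Art.dual k k)
    (hg : ∀ a, g'.toAlgHom a = g.toAlgHom a) (ξ : DefSch X x (Art.dual2 Λ k)) :
    cl₁ e he ((defFunctor X x).map g ξ.cl) = (defFunctor X' x').map g' (conv₂ e he ξ).cl := by
  rw [defFunctor_map_cl, defFunctor_map_cl]
  have hh : g'.toAlgHom.toRingHom = g.toAlgHom.toRingHom := RingHom.ext hg
  refine Quotient.sound ?_
  obtain ⟨a, ha⟩ := DefCart.IsCart.exists_iso (g := g') (ξ := conv₂ e he ξ) (η := conv₁ e he (ξ.baseChange g))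
    (q := pullback.fst ξ.f (specMap g))
    ⟨by show IsPullback (pullback.fst ξ.f (specMap g)) (pullback.snd ξ.f (specMap g)) ξ.f
          (Spec.map (CommRingCat.ofHom g'.toAlgHom.toRingHom))
        rw [hh]; exact IsPullback.of_hasPullback _ _,
      by show (e.inv ≫ (ξ.baseChange g).i) ≫ pullback.fst ξ.f (specMap g) = e.inv ≫ ξ.i
         rw [Category.assoc, DefSch.baseChange_i_fst]⟩
    (DefCart.isCart_baseChange (conv₂ e he ξ) g')
  exact ⟨a⟩

theorem cl₁_scale (c : k) (ξ : DefSch X x (Art.dual Λ k)) :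
    cl₁ e he ((defFunctor X x).map (Art.scale c) ξ.cl) = (defFunctor X' x').map (Art.scale c) (conv₁ e he ξ).cl := by
  rw [defFunctor_map_cl, defFunctor_map_cl]
  refine Quotient.sound ?_
  obtain ⟨a, ha⟩ := DefCart.IsCart.exists_iso (g := (Art.scale c : Art.dual k k ⟶ Art.dual k k)) (ξ := conv₁ e he ξ)
    (η := conv₁ e he (ξ.baseChange (Art.scale c))) (q := pullback.fst ξ.f (specMap (Art.scale c)))
    ⟨IsPullback.of_hasPullback _ _,
      by show (e.inv ≫ (ξ.baseChange (Art.scale c)).i) ≫ pullback.fst ξ.f (specMap (Art.scale c)) = e.inv ≫ ξ.i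
         rw [Category.assoc, DefSch.baseChange_i_fst]⟩
    (DefCart.isCart_baseChange (conv₁ e he ξ) (Art.scale c))
  exact ⟨a⟩

include he in
theorem exists_linearMap [TangentStr (defFunctor (Λ := Λ) X x)] [TangentStr (defFunctor (Λ := k) X' x')]
    (hk : Function.Surjective (algebraMap Λ k)) :
    ∃ f : TangentSpace (defFunctor (Λ := Λ) X x) →ₗ[k] TangentSpace (defFunctor (Λ := k) X' x'),
      Function.Injective f := by
  refine ⟨{ toFun := fun a => cl₁ e he a, map_add' := fun a b => ?_, map_smul' := fun c a => ?_ }, cl₁_injective e he⟩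
  · obtain ⟨z, hz₁, hz₂⟩ := (cmp_surjective_iff Art.isFibreProd_dual2).1
      (heps_defFunctor hk _ _ Art.isFibreProd_dual2).2 a b (@Subsingleton.elim _ h0_defFunctor.2 _ _)
    induction z using Quotient.inductionOn with
    | h ζ =>
      have h := TangentStr.add_eq (F := defFunctor (Λ := Λ) X x) ζ.cl
      rw [show (defFunctor X x).map Art.pr₁ ζ.cl = a from hz₁, show (defFunctor X x).map Art.pr₂ ζ.cl = b from hz₂] at h
      have h' := TangentStr.add_eq (F := defFunctor (Λ := k) X' x') (conv₂ e he ζ).cl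
      have e₁ := cl₁_map₂ (Λ := Λ) e he Art.pr₁ Art.pr₁ (fun _ => rfl) ζ
      have e₂ := cl₁_map₂ (Λ := Λ) e he Art.pr₂ Art.pr₂ (fun _ => rfl) ζ
      have e₃ := cl₁_map₂ (Λ := Λ) e he Art.plus Art.plus (fun _ => rfl) ζ
      rw [show (defFunctor X x).map Art.pr₁ ζ.cl = a from hz₁] at e₁
      rw [show (defFunctor X x).map Art.pr₂ ζ.cl = b from hz₂] at e₂
      refine (congrArg (cl₁ e he) h).trans (e₃.trans (h'.symm.trans ?_))
      exact congrArg₂ (fun (u v : TangentSpace (defFunctor (Λ := k) X' x')) => u + v) e₁.symm e₂.symm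
  · induction a using Quotient.inductionOn with
    | h ξ =>
      exact (congrArg (cl₁ e he) (TangentStr.smul_eq (F := defFunctor (Λ := Λ) X x) c ξ.cl)).trans
        ((cl₁_scale e he c ξ).trans (TangentStr.smul_eq (F := defFunctor (Λ := k) X' x') c (conv₁ e he ξ).cl).symm)

/-- Smooth open sets lie in the smooth locus. -/
theorem mem_smoothLocus {B : Type u} [CommRing B] [Algebra k B] [Algebra.FiniteType k B]
    (U : (Spec (CommRingCat.of B)).Opens)
    (hU : Smooth (U.ι ≫ Spec.map (CommRingCat.ofHom (algebraMap k B)))) (p : PrimeSpectrum B) (hp : p ∈ U) :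
    p ∈ Algebra.smoothLocus k B := by
  haveI : Algebra.FinitePresentation k B := Algebra.FinitePresentation.of_finiteType.1 inferInstance
  obtain ⟨_, ⟨t, rfl⟩, hpt, htU⟩ :=
    PrimeSpectrum.isTopologicalBasis_basic_opens.exists_subset_of_mem_open hp U.2
  refine (Algebra.basicOpen_subset_smoothLocus_iff.2 ?_) hpt
  let ι := Spec.map (CommRingCat.ofHom (algebraMap B (Localization.Away t)))
  haveI : IsOpenImmersion ι := IsOpenImmersion.of_isLocalization t
  have hι : Set.range ι ⊆ Set.range U.ι := by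
    rw [Scheme.Opens.range_ι]
    rintro _ ⟨z, rfl⟩
    refine htU ?_
    show ι z ∈ (PrimeSpectrum.basicOpen t : Set (PrimeSpectrum B))
    have := (PrimeSpectrum.localization_away_comap_range (Localization.Away t) t)
    rw [← this]
    exact ⟨z, rfl⟩
  let l := IsOpenImmersion.lift U.ι ι hι
  haveI : IsOpenImmersion (l ≫ U.ι) := by rw [IsOpenImmersion.lift_fac]; infer_instance
  haveI : IsOpenImmersion l := IsOpenImmersion.of_comp l U.ι
  haveI := hU
  have h : Smooth (Spec.map (CommRingCat.ofHom (algebraMap k (Localization.Away t)))) := by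
    rw [IsScalarTower.algebraMap_eq k B (Localization.Away t), CommRingCat.ofHom_comp, Spec.map_comp]
    show Smooth (ι ≫ _)
    rw [← IsOpenImmersion.lift_fac U.ι ι hι, Category.assoc]
    infer_instance
  have h2 : Algebra.Smooth k (Localization.Away t) :=
    RingHom.smooth_algebraMap.1 ((HasRingHomProperty.Spec_iff (P := @Smooth)).1 h)
  exact h2.formallySmooth

/-- **The hull of an affine scheme with finite nonsmooth locus.** -/
theorem hasHull [IsLocalRing Λ] [IsNoetherianRing Λ] [IsAdicComplete (IsLocalRing.maximalIdeal Λ) Λ]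
    (hk : Function.Surjective (algebraMap Λ k)) [IsAffine X] [LocallyOfFiniteType x]
    (U : X.Opens) (hU : Smooth (U.ι ≫ x)) (hfin : ((U : Set X)ᶜ).Finite) :
    HasHull (defFunctor (Λ := Λ) X x) := by
  let B : CommRingCat := Γ(X, ⊤)
  let φ : CommRingCat.of k ⟶ B := Spec.preimage (X.isoSpec.inv ≫ x)
  letI : Algebra k B := φ.hom.toAlgebra
  let x' : Spec B ⟶ specPt k := Spec.map (CommRingCat.ofHom (algebraMap k B))
  have hx' : x' = X.isoSpec.inv ≫ x := Spec.map_preimage _
  have he : X.isoSpec.hom ≫ x' = x := by rw [hx', Iso.hom_inv_id_assoc]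
  haveI : LocallyOfFiniteType x' := by rw [hx']; infer_instance
  haveI : Algebra.FiniteType k B := (HasRingHomProperty.Spec_iff (P := @LocallyOfFiniteType)).1 ‹LocallyOfFiniteType x'›
  obtain ⟨TΛ⟩ := nonempty_tangentStr (defFunctor (Λ := Λ) X x) h0_defFunctor (heps_defFunctor hk)
  have hk' : Function.Surjective (algebraMap k k) := fun c => ⟨c, rfl⟩
  obtain ⟨Tk⟩ := nonempty_tangentStr (defFunctor (Λ := k) (Spec B) x') h0_defFunctor (heps_defFunctor hk')
  obtain ⟨ι, σ, _, _, ⟨P⟩⟩ := T1Finite.exists_presentation k B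
  obtain ⟨E⟩ := AffDef.nonempty_tangent_linearEquiv P (k := k) (B₀ := B) fun a b => by
    obtain ⟨z, h₁, h₂⟩ := (cmp_surjective_iff Art.isFibreProd_dual2).1
      (heps_defFunctor (X := Spec B) (x := x') hk' _ _ Art.isFibreProd_dual2).2 a b
      (@Subsingleton.elim _ h0_defFunctor.2 _ _)
    exact ⟨z, h₁, h₂⟩
  have hs : (Algebra.smoothLocus k B)ᶜ.Finite := by
    refine (hfin.image X.isoSpec.hom).subset fun p hp => ?_
    refine ⟨X.isoSpec.inv p, fun hpU => hp ?_, ?_⟩
    · refine mem_smoothLocus (k := k) (X.isoSpec.inv ⁻¹ᵁ U) ?_ p hpU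
      show Smooth ((X.isoSpec.inv ⁻¹ᵁ U).ι ≫ x')
      rw [hx', ← Category.assoc, ← morphismRestrict_ι, Category.assoc]
      haveI := hU
      infer_instance
    · rw [← Scheme.Hom.comp_apply, Iso.inv_hom_id]; rfl
  haveI : Module.Finite k (CotT.T1 P B) := T1Finite.finite_T1 P hs
  haveI : Module.Finite k (TangentSpace (defFunctor (Λ := k) (Spec B) x')) := Module.Finite.equiv E.symm
  obtain ⟨f, hf⟩ := exists_linearMap (Λ := Λ) X.isoSpec he hk
  haveI : Module.Finite Λ k := Module.Finite.of_surjective (Algebra.linearMap Λ k) hk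
  exact hasHull_of_schlessinger (subsingleton_base_dual_of_surjective hk) _ h0_defFunctor s1_defFunctor
    (heps_defFunctor hk) (Module.Finite.of_injective f hf)

end Groth.Agent.Lib.ArtinFun.AffHullFinite
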