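import Groth.Agent.Lib.ArtinFun.Conditions

/-!
# The tangent action on lifts along small extensions, and its consequences
-/

universe u v w

open CategoryTheory ArtFun

namespace Groth.Agent.Lib.ArtinFun

variable {Λ : Type u} {k : Type u} [CommRing Λ] [Field k] [Algebra Λ k]

/-- A natural family of maps between functors whose values may live in different universes. -/
def IsNatMap (F : Art Λ k ⥤ Type v) (G : Art Λ k ⥤ Type w) (η : ∀ A, F.obj A → G.obj A) : Prop :=
  ∀ ⦃A B : Art Λ k⦄ (f : A ⟶ B) (x : F.obj A), η B (F.map f x) = G.map f (η A x)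

lemma isNatMap_natTrans {F G : Art Λ k ⥤ Type v} (η : F ⟶ G) :
    IsNatMap F G fun A x => η.app A x :=
  fun _ _ f x => NatTrans.naturality_apply η f x

lemma isNatMap_family {R : Type u} [CommRing R] [Algebra Λ R] {resR : R →ₐ[Λ] k}
    {F : Art Λ k ⥤ Type v} (ξ : Family R resR F) :
    IsNatMap (hR R resR) F fun A x => ξ.app A x :=
  fun _ _ f x => ξ.natural f x

/-- The diagonal of a fibre square. -/
noncomputable def diag {P B A : Art Λ k} {p₁ p₂ : P ⟶ B} {p : B ⟶ A}
    (hP : Art.IsFibreProd p₁ p₂ p p) : B ⟶ P :=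
  IsFibreProd.lift hP (𝟙 B) (𝟙 B) rfl

lemma diag_fst {P B A : Art Λ k} {p₁ p₂ : P ⟶ B} {p : B ⟶ A}
    (hP : Art.IsFibreProd p₁ p₂ p p) : diag hP ≫ p₁ = 𝟙 B :=
  IsFibreProd.lift_fst _ _ _ _

lemma diag_snd {P B A : Art Λ k} {p₁ p₂ : P ⟶ B} {p : B ⟶ A}
    (hP : Art.IsFibreProd p₁ p₂ p p) : diag hP ≫ p₂ = 𝟙 B :=
  IsFibreProd.lift_snd _ _ _ _

/-- The square `P = B ×_A B` of a small extension with generator `t`, with its difference map to
the dual numbers, so that `P` is also `B ×_k k[ε]`. -/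
structure DiffSquare {B A : Art Λ k} (p : B ⟶ A) (t : B) where
  /-- The fibre product. -/
  P : Art Λ k
  /-- First projection. -/
  p₁ : P ⟶ B
  /-- Second projection. -/
  p₂ : P ⟶ B
  /-- The difference map. -/
  g : P ⟶ Art.dual Λ k
  isFibreProd : Art.IsFibreProd p₁ p₂ p p
  isFibreProd_dual : Art.IsFibreProd p₁ g (Art.toBase B) (Art.toBase (Art.dual Λ k))
  snd_g : ∀ (z : P) (b : B), p₂ z - p₁ z = b * t → TrivSqZeroExt.snd (g z) = B.res b

section Diff

variable [IsNoetherianRing Λ] [Module.Finite Λ k]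

omit [IsNoetherianRing Λ] [Module.Finite Λ k] in
lemma res_eq_of_mul_eq {B : Art Λ k} {t b b' : B} (ht0 : t ≠ 0) (h : b * t = b' * t) :
    B.res b = B.res b' := by
  by_contra hne
  refine ht0 ((IsUnit.mul_right_eq_zero (a := b - b') ?_).1 (by rw [sub_mul, h, sub_self]))
  rw [isUnit_iff_res, map_sub]
  exact sub_ne_zero.2 hne

theorem nonempty_diffSquare {B A : Art Λ k} (p : B ⟶ A) (hp : Art.IsSmallExt p) (t : B)
    (ht : RingHom.ker p.toAlgHom = Ideal.span {t}) : Nonempty (DiffSquare p t) := by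
  obtain ⟨P, p₁, p₂, hP⟩ := exists_isFibreProd p p hp.1
  have hpt : p t = 0 := by
    rw [← mem_ker p t, ht]
    exact Ideal.mem_span_singleton_self t
  have hm : ∀ b ∈ IsLocalRing.maximalIdeal B, b * t = 0 :=
    fun b hb => IsSemismallExt.mul_eq_zero hp.isSemismallExt hb hpt
  have ht0 : t ≠ 0 := by
    rintro rfl
    exact hp.2.1 (ht.trans (Ideal.span_singleton_eq_bot.2 rfl))
  have hex : ∀ z : P, ∃ b : B, b * t = p₂ z - p₁ z := fun z => by
    refine Ideal.mem_span_singleton'.1 ?_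
    rw [← ht, mem_ker, map_sub, ← hP.w_apply, sub_self]
  choose d hd using hex
  have hsnd : ∀ (z : P) (b : B), p₂ z - p₁ z = b * t → B.res (d z) = B.res b :=
    fun z b h => res_eq_of_mul_eq ht0 ((hd z).trans h)
  let g₀ : P →ₐ[Λ] DualNumber k :=
    { toFun := fun z => (B.res (p₁ z), B.res (d z))
      map_one' := TrivSqZeroExt.ext (by change B.res (p₁ 1) = 1; rw [map_one, map_one])
        (by
          change B.res (d 1) = 0
          rw [hsnd 1 0 (by simp), map_zero])
      map_mul' := fun x y => TrivSqZeroExt.ext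
        (by change B.res (p₁ (x * y)) = B.res (p₁ x) * B.res (p₁ y); rw [map_mul, map_mul])
        (by
          change B.res (d (x * y)) = B.res (p₁ x) • B.res (d y) + MulOpposite.op (B.res (p₁ y)) • B.res (d x)
          rw [hsnd (x * y) (p₁ x * d y + p₂ y * d x) ?_]
          · simp only [map_add, map_mul, Art.res_app, smul_eq_mul, op_smul_eq_mul]
            ring
          · rw [map_mul, map_mul, add_mul, mul_assoc, mul_assoc, hd y, hd x]
            ring)
      map_zero' := TrivSqZeroExt.ext (by change B.res (p₁ 0) = 0; rw [map_zero, map_zero])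
        (by
          change B.res (d 0) = 0
          rw [hsnd 0 0 (by simp), map_zero])
      map_add' := fun x y => TrivSqZeroExt.ext
        (by change B.res (p₁ (x + y)) = B.res (p₁ x) + B.res (p₁ y); rw [map_add, map_add])
        (by
          change B.res (d (x + y)) = B.res (d x) + B.res (d y)
          rw [hsnd (x + y) (d x + d y) (by rw [map_add, map_add, add_mul, hd x, hd y]; ring),
            map_add])
      commutes' := fun c => TrivSqZeroExt.ext (by
          change B.res (p₁ (algebraMap Λ P c)) = algebraMap Λ k c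
          rw [AlgHom.commutes, AlgHom.commutes])
        (by
          rw [TrivSqZeroExt.algebraMap_eq_inl']
          change B.res (d (algebraMap Λ P c)) = 0
          rw [hsnd (algebraMap Λ P c) 0 (by rw [AlgHom.commutes, AlgHom.commutes, sub_self, zero_mul]),
            map_zero]) }
  refine ⟨⟨P, p₁, p₂, Art.homMk (B := Art.dual Λ k) g₀ ?_, hP, ?_, hsnd⟩⟩
  · apply AlgHom.ext
    intro z
    exact Art.res_app p₁ z
  refine ⟨?_, ?_, ?_⟩
  · rw [Art.eq_toBase (p₁ ≫ Art.toBase B), Art.eq_toBase (_ ≫ Art.toBase _)]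
  · intro x y h₁ h₂
    refine hP.inj x y h₁ ?_
    have e : B.res (d x) = B.res (d y) := congrArg TrivSqZeroExt.snd h₂
    have e' : p₂ x - p₁ x = p₂ y - p₁ y := by
      rw [← hd x, ← hd y, ← sub_eq_zero, ← sub_mul]
      refine hm _ ?_
      rw [Art.mem_maximalIdeal_iff, map_sub, e, sub_self]
    rw [h₁] at e'
    exact sub_left_inj.1 e'
  · intro b w hbw
    obtain ⟨e, he⟩ := B.res_surjective (TrivSqZeroExt.snd w)
    obtain ⟨z, hz₁, hz₂⟩ := hP.surj b (b + e * t) (by rw [map_add, map_mul, hpt, mul_zero, add_zero])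
    refine ⟨z, hz₁, TrivSqZeroExt.ext ?_ ?_⟩
    · change B.res (p₁ z) = TrivSqZeroExt.fst w
      rw [hz₁]
      exact hbw
    · change B.res (d z) = TrivSqZeroExt.snd w
      rw [hsnd z e (by rw [hz₁, hz₂, add_sub_cancel_left]), he]

end Diff

lemma DiffSquare.diag_g {B A : Art Λ k} {p : B ⟶ A} {t : B} (S : DiffSquare p t) :
    diag S.isFibreProd ≫ S.g = Art.toBase B ≫ Art.baseToDual := by
  apply hom_ext_apply
  intro b
  refine TrivSqZeroExt.ext ?_ ?_
  · have h₁ := Art.res_app S.g (diag S.isFibreProd b)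
    exact h₁.trans (Art.res_app (diag S.isFibreProd) b)
  · rw [hom_comp_apply, S.snd_g (diag S.isFibreProd b) 0 ?_, map_zero]
    · rfl
    · rw [← hom_comp_apply (diag S.isFibreProd) S.p₁, ← hom_comp_apply (diag S.isFibreProd) S.p₂,
        diag_fst, diag_snd, sub_self, zero_mul]

section Apply

variable {F : Art Λ k ⥤ Type v} {B A : Art Λ k} {p : B ⟶ A} {t : B} (S : DiffSquare p t)

lemma map_diag_p₁ (x : F.obj B) : F.map S.p₁ (F.map (diag S.isFibreProd) x) = x := by
  rw [map_map, diag_fst, CategoryTheory.Functor.map_id]; rfl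

lemma map_diag_p₂ (x : F.obj B) : F.map S.p₂ (F.map (diag S.isFibreProd) x) = x := by
  rw [map_map, diag_snd, CategoryTheory.Functor.map_id]; rfl

lemma map_diag_g (x : F.obj B) :
    F.map S.g (F.map (diag S.isFibreProd) x) = F.map Art.baseToDual (F.map (Art.toBase B) x) := by
  rw [map_map, S.diag_g, map_map]

end Apply

variable [IsNoetherianRing Λ] [Module.Finite Λ k]

/-- (RS) follows from the conditions `H̄`, `H_ε`, `H`. -/
theorem rs_of_schlessinger (F : Art Λ k ⥤ Type v) (h1 : Hbar F) (h2 : Heps F) (h4 : HSq F) :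
    RS F := by
  refine rs_of_smallExt F fun B A A' A'' p' p'' f' f'' h hf => ⟨?_, h1 p' p'' f' f'' h hf⟩
  rw [cmp_injective_iff]
  intro z w hz' hz''
  have hp : Art.IsSmallExt p' := IsFibreProd.isSmallExt_fst h hf
  obtain ⟨s, hs, -, hps, -⟩ := IsSmallExt.exists_generator hp
  have hft : RingHom.ker f''.toAlgHom = Ideal.span {p'' s} := by
    apply le_antisymm
    · intro x hx
      obtain ⟨b, hb₁, hb₂⟩ := h.surj 0 x (by rw [map_zero, (mem_ker f'' x).1 hx])
      obtain ⟨c, hc⟩ := Ideal.mem_span_singleton'.1 (hs ▸ (mem_ker p' b).2 hb₁)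
      exact Ideal.mem_span_singleton'.2 ⟨p'' c, by rw [← map_mul, hc, hb₂]⟩
    · rw [Ideal.span_singleton_le_iff_mem, mem_ker, ← h.w_apply, hps, map_zero]
  obtain ⟨S⟩ := nonempty_diffSquare p' hp s hs
  obtain ⟨T⟩ := nonempty_diffSquare f'' hf (p'' s) hft
  have hw : (S.p₁ ≫ p'') ≫ f'' = (S.p₂ ≫ p'') ≫ f'' := by
    rw [Category.assoc, Category.assoc, ← h.w, ← Category.assoc, ← Category.assoc,
      S.isFibreProd.w]
  let π : S.P ⟶ T.P := IsFibreProd.lift T.isFibreProd (S.p₁ ≫ p'') (S.p₂ ≫ p'') hw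
  have hπg : π ≫ T.g = S.g := by
    apply hom_ext_apply
    intro x
    refine TrivSqZeroExt.ext ?_ ?_
    · exact ((Art.res_app T.g (π x)).trans (Art.res_app π x)).trans (Art.res_app S.g x).symm
    · obtain ⟨b, hb⟩ := Ideal.mem_span_singleton'.1 (show S.p₂ x - S.p₁ x ∈ Ideal.span {s} by
        rw [← hs, mem_ker, map_sub, ← S.isFibreProd.w_apply, sub_self])
      rw [hom_comp_apply, T.snd_g (π x) (p'' b) ?_, S.snd_g x b hb.symm, Art.res_app]
      rw [IsFibreProd.lift_fst_apply, IsFibreProd.lift_snd_apply, hom_comp_apply, hom_comp_apply,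
        ← map_sub, ← map_mul, hb]
  obtain ⟨ζ, hζ₁, hζ₂⟩ :=
    (cmp_surjective_iff S.isFibreProd).1 (h1 _ _ _ _ S.isFibreProd hp) z w hz'
  have hζ'' : F.map π ζ = F.map (diag T.isFibreProd) (F.map p'' z) := by
    refine (cmp_injective_iff T.isFibreProd).1 (h4 _ _ _ T.isFibreProd hf).1 _ _ ?_ ?_
    · rw [map_diag_p₁, map_map, IsFibreProd.lift_fst, ← map_map, hζ₁]
    · rw [map_diag_p₂, map_map, IsFibreProd.lift_snd, ← map_map, hζ₂, hz'']
  have hζ : ζ = F.map (diag S.isFibreProd) z := by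
    refine (cmp_injective_iff S.isFibreProd_dual).1 (h2 _ _ S.isFibreProd_dual).1 _ _ ?_ ?_
    · rw [map_diag_p₁, hζ₁]
    · rw [map_diag_g, ← hπg, ← map_map, hζ'', map_diag_g, map_map p'' (Art.toBase A''),
        Art.eq_toBase (p'' ≫ Art.toBase A'')]
  rw [← hζ₂, hζ, map_diag_p₂]

/-- A natural map which is injective on tangent spaces and on the residue field is injective. -/
theorem injective_of_tangent_injective {F : Art Λ k ⥤ Type v} {G : Art Λ k ⥤ Type w}
    (η : ∀ A, F.obj A → G.obj A) (hη : IsNatMap F G η)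
    (hF1 : ∀ ⦃P A A' : Art Λ k⦄ (p₁ p₂ : P ⟶ A') (f : A' ⟶ A) (h : Art.IsFibreProd p₁ p₂ f f),
      Art.IsSmallExt f → Function.Surjective (cmp F h))
    (hF2 : ∀ ⦃P A' : Art Λ k⦄ (p' : P ⟶ A') (p'' : P ⟶ Art.dual Λ k)
      (h : Art.IsFibreProd p' p'' (Art.toBase A') (Art.toBase (Art.dual Λ k))),
      Function.Injective (cmp F h))
    (hG : ∀ ⦃P A A' : Art Λ k⦄ (p₁ p₂ : P ⟶ A') (f : A' ⟶ A) (h : Art.IsFibreProd p₁ p₂ f f),
      Art.IsSmallExt f → Function.Injective (cmp G h))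
    (h0 : Function.Injective (η (Art.base Λ k))) (ht : Function.Injective (η (Art.dual Λ k)))
    (A : Art Λ k) : Function.Injective (η A) := by
  refine obj_induction (fun A => Function.Injective (η A)) ?_ h0 ?_ A
  · intro A B e he hA z w hzw
    refine (bijective_map_of_isIso F e).1 (hA ?_)
    rw [hη, hη, hzw]
  · intro A B p hp hA z w hzw
    obtain ⟨t, ht', -, -, -⟩ := IsSmallExt.exists_generator hp
    obtain ⟨S⟩ := nonempty_diffSquare p hp t ht'
    have hpzw : F.map p z = F.map p w := hA (by rw [hη, hη, hzw])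
    obtain ⟨ζ, hζ₁, hζ₂⟩ :=
      (cmp_surjective_iff S.isFibreProd).1 (hF1 _ _ _ S.isFibreProd hp) z w hpzw
    have hG' : η S.P ζ = η S.P (F.map (diag S.isFibreProd) z) := by
      refine (cmp_injective_iff S.isFibreProd).1 (hG _ _ _ S.isFibreProd hp) _ _ ?_ ?_
      · rw [← hη, ← hη, hζ₁, map_diag_p₁]
      · rw [← hη, ← hη, hζ₂, map_diag_p₂, hzw]
    have hζ : ζ = F.map (diag S.isFibreProd) z := by
      refine (cmp_injective_iff S.isFibreProd_dual).1 (hF2 _ _ S.isFibreProd_dual) _ _ ?_ (ht ?_)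
      · rw [hζ₁, map_diag_p₁]
      · rw [hη, hη, hG']
    rw [← hζ₂, hζ, map_diag_p₂]

/-- Correcting a lift along a small extension by a tangent vector. -/
theorem exists_adjust_lift {F : Art Λ k ⥤ Type v} {G : Art Λ k ⥤ Type w}
    (η : ∀ A, F.obj A → G.obj A) (hη : IsNatMap F G η) (h0 : Subsingleton (F.obj (Art.base Λ k)))
    (hF : Heps F) (hG1 : Hbar G) (hG2 : Heps G) (ht : Function.Surjective (η (Art.dual Λ k)))
    {B A : Art Λ k} (p : B ⟶ A) (hp : Art.IsSmallExt p) (x' : F.obj B) (y : G.obj B)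
    (hy : G.map p y = η A (F.map p x')) :
    ∃ x'' : F.obj B, F.map p x'' = F.map p x' ∧ η B x'' = y := by
  obtain ⟨t, ht', -, -, -⟩ := IsSmallExt.exists_generator hp
  obtain ⟨S⟩ := nonempty_diffSquare p hp t ht'
  obtain ⟨ζ, hζ₁, hζ₂⟩ :=
    (cmp_surjective_iff S.isFibreProd).1 (hG1 _ _ _ _ S.isFibreProd hp) (η B x') y
      (by rw [← hη, hy])
  obtain ⟨θ, hθ⟩ := ht (G.map S.g ζ)
  obtain ⟨ω, hω₁, hω₂⟩ :=
    (cmp_surjective_iff S.isFibreProd_dual).1 (hF _ _ S.isFibreProd_dual).2 x' θ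
      (@Subsingleton.elim _ h0 _ _)
  have hωζ : η S.P ω = ζ := by
    refine (cmp_injective_iff S.isFibreProd_dual).1 (hG2 _ _ S.isFibreProd_dual).1 _ _ ?_ ?_
    · rw [← hη, hω₁, hζ₁]
    · rw [← hη, hω₂, hθ]
  exact ⟨F.map S.p₂ ω, by rw [map_map, ← S.isFibreProd.w, ← map_map, hω₁],
    by rw [hη, hωζ, hζ₂]⟩

end Groth.Agent.Lib.ArtinFun
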