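import Groth.Agent.Lib.ArtinFun.AffTangent
import Groth.Agent.Lib.ArtinFun.Torsor
import Groth.Agent.Lib.ArtinFun.Hull
import Mathlib.RingTheory.DedekindDomain.PID
import Mathlib.RingTheory.Flat.TorsionFree
import Mathlib.RingTheory.Polynomial.Quotient

/-!
# The deformations of a node
-/

noncomputable section

universe u

open CategoryTheory ArtFun AlgebraicGeometry
open scoped TensorProduct Polynomial

attribute [local instance] Exal.opModule Exal.isCentralScalar_opModule

namespace Groth.Agent.Lib.ArtinFun.AffDef.Node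

variable (k : Type u) [Field k]

/-- The node. -/
abbrev Bn : Type u :=
  MvPolynomial (Fin 2) k ⧸ Ideal.span {(MvPolynomial.X 0 * MvPolynomial.X 1 : MvPolynomial (Fin 2) k)}

/-- `k[t] ⧸ (t³)`. -/
abbrev T3 : Type u := k[X] ⧸ Ideal.span {(Polynomial.X ^ 3 : k[X])}

/-- The augmentation of `k[t] ⧸ (t³)`. -/
def res3 : T3 k →ₐ[k] k :=
  Ideal.Quotient.liftₐ _ (Polynomial.aeval (0 : k)) fun a ha => by
    obtain ⟨c, rfl⟩ := Ideal.mem_span_singleton'.1 ha
    simp

lemma res3_mk (f : k[X]) : res3 k (Ideal.Quotient.mk _ f) = f.eval 0 := by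
  show Polynomial.aeval (0 : k) f = _
  rw [Polynomial.coe_aeval_eq_eval]

instance : IsLocalRing (T3 k) := by
  haveI : Nontrivial (T3 k) := (res3 k).toRingHom.domain_nontrivial
  refine IsLocalRing.of_isUnit_or_isUnit_one_sub_self fun a => ?_
  obtain ⟨f, rfl⟩ := Ideal.Quotient.mk_surjective a
  have hnil : ∀ f : k[X], f.eval 0 = 0 → IsNilpotent (Ideal.Quotient.mk (Ideal.span {(Polynomial.X ^ 3 : k[X])}) f) := by
    intro f hf
    obtain ⟨g, rfl⟩ := Polynomial.X_dvd_iff.2 ((Polynomial.coeff_zero_eq_eval_zero f).trans hf)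
    exact ⟨3, by
      rw [← map_pow, Ideal.Quotient.eq_zero_iff_mem, mul_pow]
      exact Ideal.mul_mem_right _ _ (Ideal.mem_span_singleton_self _)⟩
  by_cases h : f.eval 0 = 0
  · exact Or.inr (IsNilpotent.isUnit_one_sub (hnil f h))
  · refine Or.inl ?_
    have h1 := hnil (f - Polynomial.C (f.eval 0)) (by simp)
    rw [map_sub] at h1
    have h2 : IsUnit (Ideal.Quotient.mk (Ideal.span {(Polynomial.X ^ 3 : k[X])}) (Polynomial.C (f.eval 0))) :=
      ((isUnit_iff_ne_zero.2 h).map Polynomial.C).map _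
    have h3 := h1.isUnit_add_left_of_commute h2 (Commute.all _ _)
    first
      | rwa [sub_add_cancel] at h3
      | rwa [add_sub_cancel] at h3

instance : IsArtinianRing (T3 k) := by
  haveI : Module.Finite k (T3 k) := (Polynomial.monic_X_pow 3).finite_adjoinRoot
  exact IsArtinianRing.of_finite k _

/-- `k[t] ⧸ (t³)` as an object. -/
def A3 : Art k k :=
  { carrier := T3 k
    res := res3 k
    res_surjective := fun c => ⟨algebraMap k _ c, (res3 k).commutes c⟩ }

/-- `t`. -/
def τ : (A3 k).carrier := (Ideal.Quotient.mk _ Polynomial.X : T3 k)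

lemma res_τ : (A3 k).res (τ k) = 0 := (res3_mk k _).trans (Polynomial.eval_X)

lemma τ_cube : τ k * τ k * τ k = 0 := by
  show ((Ideal.Quotient.mk (Ideal.span {(Polynomial.X ^ 3 : k[X])}) Polynomial.X : T3 k) *
    (Ideal.Quotient.mk _ Polynomial.X : T3 k) * (Ideal.Quotient.mk _ Polynomial.X : T3 k) : T3 k) = (0 : T3 k)
  rw [← map_mul, ← map_mul, Ideal.Quotient.eq_zero_iff_mem, show (Polynomial.X * Polynomial.X * Polynomial.X : k[X]) = Polynomial.X ^ 3 by ring]
  exact Ideal.mem_span_singleton_self _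

lemma exists_mul_τ (a : A3 k) : ∃ b, a = algebraMap k (A3 k) ((A3 k).res a) + b * τ k := by
  obtain ⟨f, hf⟩ := Ideal.Quotient.mk_surjective (I := Ideal.span {(Polynomial.X ^ 3 : k[X])}) a
  obtain ⟨g, hg⟩ := Polynomial.X_dvd_iff.2 (show (f - Polynomial.C (f.eval 0)).coeff 0 = 0 by
    rw [Polynomial.coeff_zero_eq_eval_zero]; simp)
  refine ⟨(Ideal.Quotient.mk _ g : T3 k), ?_⟩
  rw [← hf]
  show (Ideal.Quotient.mk _ f : T3 k) = ((algebraMap k (T3 k) (res3 k (Ideal.Quotient.mk _ f)) : T3 k) +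
    ((Ideal.Quotient.mk _ g : T3 k) * (Ideal.Quotient.mk _ Polynomial.X : T3 k) : T3 k) : T3 k)
  rw [res3_mk, ← map_mul, mul_comm g, ← hg, map_sub, show algebraMap k (T3 k) (f.eval 0) =
    Ideal.Quotient.mk _ (Polynomial.C (f.eval 0)) from rfl, add_sub_cancel]

lemma τ_sq_ne_zero : τ k * τ k ≠ 0 := by
  intro h
  have h1 : (Ideal.Quotient.mk (Ideal.span {(Polynomial.X ^ 3 : k[X])}) (Polynomial.X * Polynomial.X)) = 0 := h
  rw [Ideal.Quotient.eq_zero_iff_mem, Ideal.mem_span_singleton] at h1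
  have h2 := Polynomial.natDegree_le_of_dvd h1 (mul_ne_zero Polynomial.X_ne_zero Polynomial.X_ne_zero)
  simp at h2

lemma τ_sq_mul {b : A3 k} (hb : b ∈ IsLocalRing.maximalIdeal (A3 k)) : b * (τ k * τ k) = 0 := by
  obtain ⟨c, hc⟩ := exists_mul_τ k b
  rw [hc, (Art.mem_maximalIdeal_iff _ _).1 hb, map_zero, zero_add,
    show c * τ k * (τ k * τ k) = c * (τ k * τ k * τ k) by ring, τ_cube, mul_zero]

/-- `k[t] → k[x, y]`, `t ↦ x y`. -/
def inc : k[X] →+* MvPolynomial (Fin 2) k :=
  (Polynomial.aeval (R := k) (MvPolynomial.X 0 * MvPolynomial.X 1 : MvPolynomial (Fin 2) k)).toRingHom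

lemma inc_injective : Function.Injective (inc k) := by
  refine (injective_iff_map_eq_zero _).2 fun f hf => ?_
  have h := congrArg (MvPolynomial.aeval (R := k) ![(Polynomial.X : k[X]), 1]) hf
  rw [map_zero] at h
  have h2 : (MvPolynomial.aeval (R := k) ![(Polynomial.X : k[X]), 1]).comp
      (Polynomial.aeval (R := k) (MvPolynomial.X 0 * MvPolynomial.X 1 : MvPolynomial (Fin 2) k)) = AlgHom.id k k[X] :=
    Polynomial.algHom_ext (by simp)
  exact (AlgHom.congr_fun h2 f).symm.trans h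

/-- The family `x y = t`. -/
theorem exists_family : ∃ (D : Data (Bn k) (A3 k)) (x y : D.R),
    D.π x = Ideal.Quotient.mk _ (MvPolynomial.X 0) ∧ D.π y = Ideal.Quotient.mk _ (MvPolynomial.X 1) ∧
    x * y = algebraMap (A3 k) D.R (τ k) ∧
    ∀ (D' : Data (Bn k) (A3 k)) (x' y' : D'.R), D'.π x' = Ideal.Quotient.mk _ (MvPolynomial.X 0) →
      D'.π y' = Ideal.Quotient.mk _ (MvPolynomial.X 1) → x' * y' = algebraMap (A3 k) D'.R (τ k) →
      Nonempty (D.Hom D') := by
  let Q := MvPolynomial (Fin 2) k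
  let I3 : Ideal Q := (Ideal.span {(Polynomial.X ^ 3 : k[X])}).map (inc k)
  have hI3 : I3 = Ideal.span {((MvPolynomial.X 0 * MvPolynomial.X 1) ^ 3 : Q)} := by
    simp only [I3, Ideal.map_span, Set.image_singleton]
    congr 2
    simp [inc]
  let b : T3 k →+* Q ⧸ I3 := Ideal.quotientMap I3 (inc k) Ideal.le_comap_map
  letI : Algebra (A3 k) (Q ⧸ I3) := RingHom.toAlgebra b
  have hflat : Module.Flat (A3 k) (Q ⧸ I3) := by
    letI : Algebra k[X] Q := (inc k).toAlgebra
    haveI : Module.Flat k[X] Q := by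
      haveI : Module.IsTorsionFree k[X] Q := (Module.isTorsionFree_iff_algebraMap_injective).2 (inc_injective k)
      infer_instance
    letI : Algebra (T3 k) (Q ⧸ I3) := b.toAlgebra
    haveI : IsScalarTower k[X] (T3 k) (Q ⧸ I3) :=
      IsScalarTower.of_algebraMap_eq (R := k[X]) (S := T3 k) (A := Q ⧸ I3) fun a => rfl
    haveI := IsScalarTower.of_algebraMap_eq (R := k[X]) (S := Q) (A := Q ⧸ I3) fun a => rfl
    have hpo : Algebra.IsPushout k[X] (T3 k) Q (Q ⧸ I3) := (CommRingCat.isPushout_iff_isPushout).1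
      (isPushout_ofHom (Ideal.Quotient.mk (Ideal.span {(Polynomial.X ^ 3 : k[X])})) (inc k) (Ideal.Quotient.mk I3) b
        Ideal.Quotient.mk_surjective Ideal.Quotient.mk_surjective (RingHom.ext fun a => rfl)
        (by rw [Ideal.mk_ker, Ideal.mk_ker])).flip
    exact Module.Flat.isBaseChange k[X] (T3 k) Q (Q ⧸ I3) hpo.out
  let π : Q ⧸ I3 →+* Bn k := Ideal.Quotient.factor (by
    rw [hI3, Ideal.span_singleton_le_iff_mem, pow_three]
    exact Ideal.mul_mem_right _ _ (Ideal.mem_span_singleton_self _))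
  have hπ : ∀ q, π (Ideal.Quotient.mk I3 q) = Ideal.Quotient.mk _ q := fun q => rfl
  have hτ : algebraMap (A3 k) (Q ⧸ I3) (τ k) = Ideal.Quotient.mk I3 (MvPolynomial.X 0 * MvPolynomial.X 1) :=
    congrArg (Ideal.Quotient.mk I3) (Polynomial.aeval_X _)
  have hcomm : ∀ a : A3 k, π (algebraMap (A3 k) (Q ⧸ I3) a) = algebraMap k (Bn k) ((A3 k).res a) := by
    intro a
    obtain ⟨c, hc⟩ := exists_mul_τ k a
    conv_lhs => rw [hc]
    rw [map_add, map_add, map_mul, map_mul, hτ, hπ, Ideal.Quotient.eq_zero_iff_mem.2 (Ideal.mem_span_singleton_self _),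
      mul_zero, add_zero]
    show π (b (Ideal.Quotient.mk _ (Polynomial.C _))) = _
    rw [show b (Ideal.Quotient.mk _ (Polynomial.C ((A3 k).res a))) =
      Ideal.Quotient.mk I3 (inc k (Polynomial.C ((A3 k).res a))) from rfl, hπ]
    exact congrArg (Ideal.Quotient.mk _) (Polynomial.aeval_C _ _)
  let D : Data (Bn k) (A3 k) :=
    { R := Q ⧸ I3
      flat := hflat
      π := π
      surj := fun z => by
        obtain ⟨q, rfl⟩ := Ideal.Quotient.mk_surjective z
        exact ⟨Ideal.Quotient.mk I3 q, rfl⟩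
      comm := hcomm
      ker_π := by
        refine le_antisymm (fun z hz => ?_) (Ideal.map_le_iff_le_comap.2 fun c hc => ?_)
        · obtain ⟨q, rfl⟩ := Ideal.Quotient.mk_surjective z
          obtain ⟨c, rfl⟩ := Ideal.mem_span_singleton'.1 (Ideal.Quotient.eq_zero_iff_mem.1 hz)
          rw [map_mul, ← hτ]
          exact Ideal.mul_mem_left _ _ (Ideal.mem_map_of_mem _ (res_τ k))
        · show π (algebraMap (A3 k) (Q ⧸ I3) c) = 0
          rw [hcomm, show (A3 k).res c = 0 from hc, map_zero] }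
  refine ⟨D, Ideal.Quotient.mk I3 (MvPolynomial.X 0), Ideal.Quotient.mk I3 (MvPolynomial.X 1), rfl, rfl,
    ((map_mul _ _ _).symm.trans hτ.symm), fun D' x' y' hx hy hxy => ?_⟩
  letI : Algebra k D'.R := ((algebraMap (A3 k) D'.R).comp (algebraMap k (A3 k))).toAlgebra
  let ψ : Q →ₐ[k] D'.R := MvPolynomial.aeval ![x', y']
  have hψ : ψ ((MvPolynomial.X 0 * MvPolynomial.X 1) : Q) = algebraMap (A3 k) D'.R (τ k) := by
    show MvPolynomial.aeval ![x', y'] _ = _
    rw [map_mul, MvPolynomial.aeval_X, MvPolynomial.aeval_X]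
    exact hxy
  let f : Q ⧸ I3 →+* D'.R := Ideal.Quotient.lift I3 ψ.toRingHom fun q hq => by
    rw [hI3] at hq
    obtain ⟨c, rfl⟩ := Ideal.mem_span_singleton'.1 hq
    show ψ (c * _) = 0
    rw [map_mul, map_pow, hψ, ← map_pow, pow_three, ← mul_assoc, τ_cube, map_zero, mul_zero]
  refine ⟨⟨AlgHom.mk f fun a => ?_, fun z => ?_⟩⟩
  · show f (algebraMap (A3 k) (Q ⧸ I3) a) = algebraMap (A3 k) D'.R a
    refine RingHom.congr_fun (?_ : (f.comp (algebraMap (A3 k) (Q ⧸ I3))) = algebraMap (A3 k) D'.R) a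
    refine Ideal.Quotient.ringHom_ext (Polynomial.ringHom_ext (fun c => ?_) ?_)
    · show ψ (inc k (Polynomial.C c)) = _
      rw [show inc k (Polynomial.C c) = algebraMap k Q c from Polynomial.aeval_C _ _, ψ.commutes]
      rfl
    · show ψ (inc k Polynomial.X) = _
      rw [show inc k Polynomial.X = (MvPolynomial.X 0 * MvPolynomial.X 1 : Q) from Polynomial.aeval_X _, hψ]
      rfl
  · obtain ⟨q, rfl⟩ := Ideal.Quotient.mk_surjective z
    refine RingHom.congr_fun (MvPolynomial.ringHom_ext (f := D'.π.comp ψ.toRingHom) (g := Ideal.Quotient.mk _)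
      (fun c => ?_) fun i => ?_) q
    · show D'.π (ψ (MvPolynomial.C c)) = _
      rw [show ψ (MvPolynomial.C c) = algebraMap (A3 k) D'.R (algebraMap k (A3 k) c) from MvPolynomial.aeval_C _ c,
        D'.comm, AlgHom.commutes]
      rfl
    · fin_cases i
      · show D'.π (MvPolynomial.aeval ![x', y'] (MvPolynomial.X 0)) = _
        rw [MvPolynomial.aeval_X]
        exact hx
      · show D'.π (MvPolynomial.aeval ![x', y'] (MvPolynomial.X 1)) = _
        rw [MvPolynomial.aeval_X]
        exact hy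

/-- `Def` of the node is not prorepresentable. -/
theorem not_isProrepresentable :
    ¬ IsProrepresentable (defFunctor (Λ := k) (Spec (CommRingCat.of (Bn k))) (xB (k := k) (Bn k))) := by
  classical
  rintro ⟨⟨R, ξ, hξ⟩⟩
  have hle : IsLeftExact (defFunctor (Λ := k) (Spec (CommRingCat.of (Bn k))) (xB (k := k) (Bn k))) :=
    (rs_of_isUniversal ξ hξ).2
  obtain ⟨D, x, y, hx, hy, hxy, huniv⟩ := exists_family k
  have hK : Ideal.span {τ k * τ k} ≤ IsLocalRing.maximalIdeal (A3 k) := by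
    rw [Ideal.span_singleton_le_iff_mem]
    exact Ideal.mul_mem_right _ _ ((Art.mem_maximalIdeal_iff _ _).2 (res_τ k))
  let p := Art.quotMk (A3 k) (Ideal.span {τ k * τ k}) hK
  have hker : RingHom.ker p.toAlgHom = Ideal.span {τ k * τ k} := ker_quotMk hK
  have hp : Art.IsSmallExt p :=
    isSmallExt_of_generator p (Art.quotMk_surjective _ _ _) _ hker (τ_sq_ne_zero k) fun b hb => τ_sq_mul k hb
  obtain ⟨D₀, ⟨e₀⟩⟩ := exists_data (D.toDef.baseChange p)
  obtain ⟨q, -⟩ := exists_homOver hp.1 e₀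
  have hfib : ∀ u, (defFunctor _ (xB (k := k) (Bn k))).map p u = (defFunctor _ (xB (k := k) (Bn k))).map p D.toDef.cl →
      u = D.toDef.cl := by
    intro u hu
    induction u using Quotient.ind with
    | _ ζ =>
      obtain ⟨D', ⟨ψ⟩⟩ := exists_data ζ
      obtain ⟨φ⟩ := Quotient.exact hu
      obtain ⟨q', -⟩ := exists_homOver hp.1 ((ψ.symm.baseChange p).trans (φ.trans e₀))
      obtain ⟨X, hX⟩ := q'.surjective hp.1 (q.q x)
      obtain ⟨Y, hY⟩ := q'.surjective hp.1 (q.q y)
      have hπX : D'.π X = Ideal.Quotient.mk _ (MvPolynomial.X 0) := by rw [← q'.compat, hX, q.compat, hx]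
      have hπY : D'.π Y = Ideal.Quotient.mk _ (MvPolynomial.X 1) := by rw [← q'.compat, hY, q.compat, hy]
      let s := algebraMap (A3 k) D'.R (τ k)
      have h1 : X * Y - s ∈ RingHom.ker q'.q := by
        rw [RingHom.mem_ker, map_sub, map_mul, hX, hY, ← map_mul, hxy, q.comm, q'.comm, sub_self]
      rw [q'.ker_eq hp.1, show RingHom.ker p.toAlgHom.toRingHom = Ideal.span {τ k * τ k} from hker, Ideal.map_span,
        Set.image_singleton, map_mul] at h1
      obtain ⟨r, hr⟩ := Ideal.mem_span_singleton'.1 h1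
      have hkill : ∀ z, D'.π z = 0 → s * s * z = 0 := fun z hz => by
        have h2 : z ∈ RingHom.ker D'.π := hz
        rw [D'.ker_π] at h2
        replace h2 : z ∈ Submodule.span D'.R (algebraMap (A3 k) D'.R '' _) := h2
        clear hz
        induction h2 using Submodule.span_induction with
        | mem w hw =>
          obtain ⟨a, ha, rfl⟩ := hw
          obtain ⟨a', ha'⟩ := exists_mul_τ k a
          rw [show (A3 k).res a = 0 from ha, map_zero, zero_add] at ha'
          rw [ha', ← map_mul, ← map_mul, show τ k * τ k * (a' * τ k) = a' * (τ k * τ k * τ k) by ring, τ_cube, mul_zero,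
            map_zero]
        | zero => rw [mul_zero]
        | add v w _ _ hv hw => rw [mul_add, hv, hw, add_zero]
        | smul a w _ hw => rw [smul_eq_mul, mul_left_comm, hw, mul_zero]
      obtain ⟨g, hg⟩ := Ideal.Quotient.mk_surjective (D'.π r)
      have hdec : ∃ (c : k) (ga gb : MvPolynomial (Fin 2) k),
          g = MvPolynomial.C c + MvPolynomial.X 0 * ga + MvPolynomial.X 1 * gb := by
        clear hg
        induction g using MvPolynomial.induction_on with
        | C c => exact ⟨c, 0, 0, by ring⟩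
        | add f f' hf hf' =>
          obtain ⟨c, a, b, rfl⟩ := hf
          obtain ⟨c', a', b', rfl⟩ := hf'
          exact ⟨c + c', a + a', b + b', by rw [map_add]; ring⟩
        | mul_X f i hf =>
          obtain ⟨c, a, b, rfl⟩ := hf
          fin_cases i
          · exact ⟨0, MvPolynomial.C c + MvPolynomial.X 0 * a + MvPolynomial.X 1 * b, 0, by simp; ring⟩
          · exact ⟨0, 0, MvPolynomial.C c + MvPolynomial.X 0 * a + MvPolynomial.X 1 * b, by simp; ring⟩
      obtain ⟨c, ga, gb, rfl⟩ := hdec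
      obtain ⟨a, ha⟩ := D'.surj (Ideal.Quotient.mk _ ga)
      obtain ⟨b, hb⟩ := D'.surj (Ideal.Quotient.mk _ gb)
      let γ := algebraMap (A3 k) D'.R (algebraMap k (A3 k) c)
      have hγ : D'.π γ = Ideal.Quotient.mk _ (MvPolynomial.C c) := by
        rw [D'.comm, AlgHom.commutes]; rfl
      have h3 : s * s * (r - γ - X * a - Y * b) = 0 := hkill _ (by
        rw [map_sub, map_sub, map_sub, map_mul, map_mul, hπX, hπY, ha, hb, hγ, ← hg, map_add, map_add, map_mul,
          map_mul]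
        ring)
      have hs3 : s * s * s = 0 := by rw [← map_mul, ← map_mul, τ_cube, map_zero]
      have hπs : D'.π s = 0 := by rw [D'.comm, res_τ, map_zero]
      obtain ⟨φ'⟩ := huniv D' ((1 - γ * s) * (X - s * s * b)) (Y - s * s * a)
        (by rw [map_mul, map_sub, map_sub, map_mul, map_mul, map_mul, hπs, hπX, map_one]; ring)
        (by rw [map_sub, map_mul, map_mul, hπs, hπY]; ring)
        (by
          show _ = s
          linear_combination (1 - γ * s) * hr.symm + (1 - γ * s) * h3 +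
            (a * b * s * (1 - γ * s) - γ * γ) * hs3)
      exact Quotient.sound ⟨ψ.trans φ'.toIso⟩
  obtain ⟨S⟩ := nonempty_diffSquare p hp (τ k * τ k) hker
  have hsub : Subsingleton ((defFunctor _ (xB (k := k) (Bn k))).obj (Art.base k k)) := ⟨fun a b => by
    induction a using Quotient.ind with
    | _ v =>
      induction b using Quotient.ind with
      | _ w => exact Quotient.sound ⟨isoBase v w⟩⟩
  have hall : ∀ v w : (defFunctor _ (xB (k := k) (Bn k))).obj (Art.dual k k), v = w := by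
    intro v w
    obtain ⟨hinj, -⟩ := hle S.p₁ S.p₂ p p S.isFibreProd
    obtain ⟨-, hsurj⟩ := hle S.p₁ S.g _ _ S.isFibreProd_dual
    obtain ⟨z, hz⟩ := hsurj ⟨(D.toDef.cl, v), @Subsingleton.elim _ hsub _ _⟩
    obtain ⟨z', hz'⟩ := hsurj ⟨(D.toDef.cl, w), @Subsingleton.elim _ hsub _ _⟩
    have h1 := congrArg (fun t => t.1.1) hz
    have h1' := congrArg (fun t => t.1.1) hz'
    have h2 : ∀ z, (defFunctor _ (xB (k := k) (Bn k))).map S.p₁ z = D.toDef.cl →
        (defFunctor _ (xB (k := k) (Bn k))).map S.p₂ z = D.toDef.cl := fun z h => hfib _ (by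
      rw [map_map, ← S.isFibreProd.w, ← map_map, h])
    have hzz : z = z' := hinj (FibProd.ext (h1.trans h1'.symm) ((h2 z h1).trans (h2 z' h1').symm))
    exact congrArg (fun t => t.1.2) (hz.symm.trans ((congrArg _ hzz).trans hz'))
  -- two first-order deformations
  obtain ⟨DT, ⟨eT⟩⟩ := exists_extOf (Exal.Ext.trivial k (Bn k) (Bn k))
  let g₁ : A3 k ⟶ Art.dual k k := ⟨Ideal.Quotient.liftₐ _ (Polynomial.aeval (R := k) (eE k)) (fun f hf => by
      obtain ⟨c, rfl⟩ := Ideal.mem_span_singleton'.1 hf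
      rw [map_mul, map_pow, Polynomial.aeval_X, pow_three, eE_mul (TrivSqZeroExt.fst_inr k (1 : k)), mul_zero, mul_zero]),
    AlgHom.ext fun a => by
      obtain ⟨f, rfl⟩ := Ideal.Quotient.mk_surjective (I := Ideal.span {(Polynomial.X ^ 3 : k[X])}) a
      show (Art.dual k k).res (Polynomial.aeval (R := k) (eE k) f) = res3 k (Ideal.Quotient.mk _ f)
      rw [← Polynomial.aeval_algHom_apply, show (Art.dual k k).res (eE k) = 0 from TrivSqZeroExt.fst_inr k (1 : k), res3_mk,
        Polynomial.coe_aeval_eq_eval]⟩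
  have hg₁τ : g₁ (τ k) = eE k := Polynomial.aeval_X _
  have hg₁ : Function.Surjective g₁ := fun v =>
    ⟨algebraMap k (A3 k) ((Art.dual k k).res v) + algebraMap k (A3 k) (TrivSqZeroExt.snd v) * τ k, by
      rw [map_add, map_mul, AlgHom.commutes, AlgHom.commutes, hg₁τ, ← dual_eq_of_res v]⟩
  obtain ⟨D₁, ⟨e₁⟩⟩ := exists_data (D.toDef.baseChange g₁)
  obtain ⟨q₁, -⟩ := exists_homOver hg₁ e₁
  obtain ⟨φ⟩ := Quotient.exact (hall DT.toDef.cl D₁.toDef.cl)
  obtain ⟨χ⟩ := (nonempty_iso_iff DT D₁).1 ⟨φ⟩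
  obtain ⟨eχ⟩ := nonempty_equiv_of_hom χ
  let E := eχ.trans eT
  let U := E.toAlgEquiv (q₁.q x)
  let V := E.toAlgEquiv (q₁.q y)
  have hU : TrivSqZeroExt.fst (U : TrivSqZeroExt (Bn k) (Bn k)) = Ideal.Quotient.mk _ (MvPolynomial.X 0) :=
    (E.proj_apply _).trans ((q₁.compat x).trans hx)
  have hV : TrivSqZeroExt.fst (V : TrivSqZeroExt (Bn k) (Bn k)) = Ideal.Quotient.mk _ (MvPolynomial.X 1) :=
    (E.proj_apply _).trans ((q₁.compat y).trans hy)
  have hUV : U * V = (Exal.Ext.trivial k (Bn k) (Bn k)).incl 1 := by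
    rw [← map_mul, ← E.apply_incl]
    refine congrArg _ ?_
    show q₁.q x * q₁.q y = eps D₁ 1
    rw [← map_mul, hxy, q₁.comm, hg₁τ, show (1 : Bn k) = D₁.π 1 from (map_one _).symm, eps_π, mul_one]
  have h5 : TrivSqZeroExt.fst (U : TrivSqZeroExt (Bn k) (Bn k)) * TrivSqZeroExt.snd (V : TrivSqZeroExt (Bn k) (Bn k)) +
      TrivSqZeroExt.fst (V : TrivSqZeroExt (Bn k) (Bn k)) * TrivSqZeroExt.snd (U : TrivSqZeroExt (Bn k) (Bn k)) = 1 :=
    congrArg (fun t : TrivSqZeroExt (Bn k) (Bn k) => TrivSqZeroExt.snd t) hUV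
  let ev0 : Bn k →+* k := Ideal.Quotient.lift _ (MvPolynomial.aeval (R := k) (fun _ : Fin 2 => (0 : k))).toRingHom
    fun f hf => by
      obtain ⟨c, rfl⟩ := Ideal.mem_span_singleton'.1 hf
      simp
  have h6 := congrArg ev0 h5
  rw [hU, hV, map_add, map_mul, map_mul, map_one] at h6
  simp [ev0] at h6

end Groth.Agent.Lib.ArtinFun.AffDef.Node
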