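import Groth.Agent.Lib.ArtinFun.AffObstruction
import Groth.Agent.Lib.CotTwo.MapM
import Groth.Agent.Lib.ArtinFun.RegularSmooth
import Groth.Prelude.Def_ArtFun3
import Mathlib.RingTheory.MvPolynomial.Basic

/-!
# The obstruction theory `T² ⊗ J` of the deformations of an affine scheme
-/

noncomputable section

universe u

open CategoryTheory ArtFun CotT AlgebraicGeometry
open Groth.Agent.Lib.CotTwo (exists_T2_mk T2map_mk)
open scoped TensorProduct

namespace Groth.Agent.Lib.ArtinFun.AffDef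

variable {k : Type u} [Field k] {B₀ : Type u} [CommRing B₀] [Algebra k B₀] {ι σ : Type u}
  (P : Algebra.Presentation k B₀ ι σ) {A' A : Art k k}

section Val

variable (p : A' ⟶ A)

lemma exists_retr : ∃ r : A' →ₗ[k] Ker p, ∀ j : Ker p, r j = j := by
  obtain ⟨r, hr⟩ := LinearMap.exists_leftInverse_of_injective ((Ker p).restrictScalars k).subtype
    (Submodule.ker_subtype _)
  exact ⟨r, fun j => LinearMap.congr_fun hr j⟩

/-- A linear projection onto the kernel. -/
def retr : A' →ₗ[k] Ker p := (exists_retr p).choose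

lemma retr_coe (j : Ker p) : retr p j = j := (exists_retr p).choose_spec j

/-- The value in `B₀ ⊗ J` of a polynomial with coefficients in `J`. -/
def val : MvPolynomial ι A' →+ B₀ ⊗[k] Ker p :=
  (Finsupp.liftAddHom fun m : ι →₀ ℕ =>
    (TensorProduct.mk k B₀ (Ker p) (ev P (rho P A' (MvPolynomial.monomial m 1)))).toAddMonoidHom.comp
      (retr p).toAddMonoidHom).comp (MvPolynomial.basisMonomials ι A').repr.toAddEquiv.toAddMonoidHom

lemma val_monomial (m : ι →₀ ℕ) (c : A') :
    val P p (MvPolynomial.monomial m c) = ev P (rho P A' (MvPolynomial.monomial m 1)) ⊗ₜ retr p c := by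
  show Finsupp.liftAddHom _ ((MvPolynomial.basisMonomials ι A').repr (MvPolynomial.monomial m c)) = _
  have h : (MvPolynomial.basisMonomials ι A').repr (MvPolynomial.monomial m c) = Finsupp.single m c := by
    rw [show MvPolynomial.monomial m c = c • MvPolynomial.monomial m (1 : A') by
      rw [MvPolynomial.smul_monomial, smul_eq_mul, mul_one], map_smul]
    rw [show MvPolynomial.monomial m (1 : A') = MvPolynomial.basisMonomials ι A' m from
      (congrFun (MvPolynomial.coe_basisMonomials ι A') m).symm, Module.Basis.repr_self, Finsupp.smul_single,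
      smul_eq_mul, mul_one]
  rw [h, Finsupp.liftAddHom_apply_single]
  rfl

variable {p} (hp : Art.IsSemismallExt p)

include hp in
lemma val_mul_C (a : MvPolynomial ι A') (j : Ker p) :
    val P p (a * MvPolynomial.C (j : A')) = ev P (rho P A' a) ⊗ₜ j := by
  induction a using MvPolynomial.induction_on' with
  | monomial m c =>
    rw [mul_comm, MvPolynomial.C_mul_monomial, val_monomial,
      show (j : A') * c = ((c • j : Ker p) : A') from mul_comm _ _, retr_coe, smul_eq_res_smul hp,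
      ← TensorProduct.smul_tmul]
    refine congrArg (· ⊗ₜ[k] j) ?_
    rw [show MvPolynomial.monomial m c = MvPolynomial.C c * MvPolynomial.monomial m 1 by
      rw [MvPolynomial.C_mul_monomial, mul_one], map_mul, map_mul, rho_C, ← IsScalarTower.algebraMap_apply,
      Algebra.smul_def]
  | add a b ha hb => rw [add_mul, map_add, ha, hb, map_add, map_add, TensorProduct.add_tmul]

lemma ker_mapP_eq (p : A' ⟶ A) : RingHom.ker (mapP ι p) = (Ker p).map MvPolynomial.C :=
  MvPolynomial.ker_map p.toAlgHom.toRingHom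

/-- Induction on polynomials with coefficients in `J`. -/
theorem ker_mapP_induction {C : MvPolynomial ι A' → Prop} (h0 : C 0) (hadd : ∀ x y, C x → C y → C (x + y))
    (hgen : ∀ (a : MvPolynomial ι A') (j : Ker p), C (a * MvPolynomial.C (j : A'))) {y : MvPolynomial ι A'}
    (hy : y ∈ RingHom.ker (mapP ι p)) : C y := by
  rw [ker_mapP_eq, Ideal.map, Ideal.span] at hy
  suffices H : ∀ a, C (a * y) by simpa using H 1
  intro a
  induction hy using Submodule.span_induction generalizing a with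
  | mem y hy => obtain ⟨j, hj, rfl⟩ := hy; exact hgen a ⟨j, hj⟩
  | zero => rw [mul_zero]; exact h0
  | add x y _ _ hx hy => rw [mul_add]; exact hadd _ _ (hx a) (hy a)
  | smul c x _ hx => rw [smul_eq_mul, ← mul_assoc]; exact hx _

include hp in
lemma val_mul (a : MvPolynomial ι A') {y : MvPolynomial ι A'} (hy : y ∈ RingHom.ker (mapP ι p)) :
    val P p (a * y) = ev P (rho P A' a) • val P p y := by
  refine ker_mapP_induction (C := fun y => val P p (a * y) = ev P (rho P A' a) • val P p y) ?_ ?_ ?_ hy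
  · rw [mul_zero, map_zero, smul_zero]
  · intro x y hx hy; rw [mul_add, map_add, map_add, smul_add, hx, hy]
  · intro b j
    rw [← mul_assoc, val_mul_C P hp, val_mul_C P hp, TensorProduct.smul_tmul', smul_eq_mul, map_mul, map_mul]

include hp in
lemma exists_val_eq (z : B₀ ⊗[k] Ker p) : ∃ w ∈ RingHom.ker (mapP ι p), val P p w = z := by
  induction z using TensorProduct.induction_on with
  | zero => exact ⟨0, zero_mem _, map_zero _⟩
  | add y z hy hz =>
    obtain ⟨v, hv, rfl⟩ := hy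
    obtain ⟨w, hw, rfl⟩ := hz
    exact ⟨v + w, add_mem hv hw, map_add _ _ _⟩
  | tmul b j =>
    obtain ⟨a, rfl⟩ := (P.toExtension.algebraMap_surjective).comp (rho_surjective P A') b
    exact ⟨a * MvPolynomial.C (j : A'), Ideal.mul_mem_left _ _ ((ker_mapP_eq p).ge (Ideal.mem_map_of_mem _ j.2)),
      val_mul_C P hp a j⟩

include hp in
lemma mul_ker_mapP {a w : MvPolynomial ι A'} (ha : a ∈ mPol ι A') (hw : w ∈ RingHom.ker (mapP ι p)) : a * w = 0 := by
  have h := Ideal.mul_mem_mul ha ((ker_mapP_eq p).le hw)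
  rw [← Ideal.map_mul, ker_res, hp.2, Ideal.map_bot] at h
  exact (Submodule.mem_bot _).1 h

end Val

/-- A compatible map from the polynomial ring is onto. -/
theorem surjective_of_compat (D : Data B₀ A) (Φ : MvPolynomial ι A →ₐ[A] D.R)
    (hπΦ : ∀ y, D.π (Φ y) = ev P (rho P A y)) : Function.Surjective Φ := by
  refine LinearMap.range_eq_top.1 (?_ : LinearMap.range Φ.toLinearMap = ⊤)
  refine FSAdic.FreeNil.eq_top_of_sup_smul_eq_top (isNilpotent_maximalIdeal A) _ (eq_top_iff.2 fun r _ => ?_)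
  obtain ⟨s, hs⟩ := P.toExtension.algebraMap_surjective (D.π r)
  obtain ⟨s', rfl⟩ := rho_surjective P A s
  have h1 : r - Φ s' ∈ RingHom.ker D.π := by rw [RingHom.mem_ker, map_sub, hπΦ, hs, sub_self]
  rw [D.ker_π, ker_res, ← Submodule.restrictScalars_mem A, ← Ideal.smul_top_eq_map] at h1
  exact Submodule.mem_sup.2 ⟨Φ s', ⟨s', rfl⟩, r - Φ s', h1, add_sub_cancel _ _⟩

/-- Equations of a deformation. -/
theorem exists_equation_of (D : Data B₀ A) (Φ : MvPolynomial ι A →ₐ[A] D.R) (hΦ : Function.Surjective Φ)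
    (hπΦ : ∀ y, D.π (Φ y) = ev P (rho P A y)) (s : σ) : ∃ F, Φ F = 0 ∧ rho P A F = rel P s := by
  obtain ⟨f, hf⟩ := rho_surjective P A (rel P s)
  have h1 : Φ f ∈ RingHom.ker D.π := by rw [RingHom.mem_ker, hπΦ, hf, algebraMap_rel]
  rw [D.ker_π, show algebraMap A D.R = (Φ : MvPolynomial ι A →+* D.R).comp MvPolynomial.C from
    RingHom.ext fun c => (Φ.commutes c).symm, ← Ideal.map_map,
    Ideal.mem_map_iff_of_surjective (Φ : MvPolynomial ι A →+* D.R) hΦ] at h1
  obtain ⟨e, he, he'⟩ := h1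
  refine ⟨f - e, by rw [map_sub, show Φ e = Φ f from he', sub_self], ?_⟩
  have h2 : rho P A e = 0 := (mPol_eq P A).le he
  rw [map_sub, hf, h2, sub_zero]

section Obstruction

variable {p : A' ⟶ A} (hp : Art.IsSemismallExt p) (D₀ : Data B₀ A) (Φ : MvPolynomial ι A →ₐ[A] D₀.R)
  (hΦ : Function.Surjective Φ) (hπΦ : ∀ y, D₀.π (Φ y) = ev P (rho P A y))

/-- The obstruction ideal `m K'`. -/
abbrev obsIdeal : Ideal (MvPolynomial ι A') := mPol ι A' * RingHom.ker (psi (p := p) D₀ Φ)

lemma ker_mapP_le : RingHom.ker (mapP ι p) ≤ RingHom.ker (psi (p := p) D₀ Φ) := fun y hy =>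
  (congrArg Φ (show mapP ι p y = 0 from hy)).trans (map_zero Φ)

include hp hΦ hπΦ in
theorem kernel_splitting' :
    (∀ y ∈ RingHom.ker (mapP ι p), y ∈ obsIdeal (p := p) D₀ Φ → val P p y = 0) ∧
    (∀ y ∈ RingHom.ker (psi (p := p) D₀ Φ), rho P A' y = 0 →
      ∃ w ∈ RingHom.ker (mapP ι p), y - w ∈ obsIdeal (p := p) D₀ Φ) := by
  haveI : Module.Free A D₀.R := FSAdic.FreeNil.free_of_flat (isNilpotent_maximalIdeal A)
  obtain ⟨s₀, hs₀⟩ := Module.projective_lifting_property Φ.toLinearMap LinearMap.id hΦ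
  let θ : MvPolynomial ι A →ₗ[A] MvPolynomial ι A := LinearMap.id - s₀ ∘ₗ Φ.toLinearMap
  have hθ : ∀ y, Φ (θ y) = 0 := fun y => by
    show Φ (y - s₀ (Φ y)) = 0
    rw [map_sub, show Φ (s₀ (Φ y)) = Φ y from LinearMap.congr_fun hs₀ (Φ y), sub_self]
  letI : Algebra A' (MvPolynomial ι A) := (MvPolynomial.C.comp p.toAlgHom.toRingHom).toAlgebra
  let mpL : MvPolynomial ι A' →ₗ[A'] MvPolynomial ι A :=
    { toFun := mapP ι p
      map_add' := map_add _
      map_smul' := fun c y => by
        rw [RingHom.id_apply, MvPolynomial.smul_eq_C_mul, map_mul, MvPolynomial.map_C,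
          Algebra.smul_def (A := MvPolynomial ι A)]
        rfl }
  let θ' : MvPolynomial ι A →ₗ[A'] MvPolynomial ι A :=
    { toFun := θ
      map_add' := map_add θ
      map_smul' := fun c y => by
        rw [RingHom.id_apply, Algebra.smul_def (R := A'), Algebra.smul_def (R := A')]
        show θ (MvPolynomial.C (p c) * y) = MvPolynomial.C (p c) * θ y
        rw [← MvPolynomial.smul_eq_C_mul, map_smul, MvPolynomial.smul_eq_C_mul] }
  obtain ⟨Θ, hΘ'⟩ := Module.projective_lifting_property mpL (θ'.comp mpL) (MvPolynomial.map_surjective _ hp.1)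
  have hΘ : ∀ y, mapP ι p (Θ y) = θ (mapP ι p y) := fun y => LinearMap.congr_fun hΘ' y
  have hΘK : ∀ y, Θ y ∈ RingHom.ker (psi (p := p) D₀ Φ) := fun y => (congrArg Φ (hΘ y)).trans (hθ _)
  have hfix : ∀ y ∈ RingHom.ker (psi (p := p) D₀ Φ), y - Θ y ∈ RingHom.ker (mapP ι p) := fun y hy => by
    rw [RingHom.mem_ker, map_sub, hΘ]
    show mapP ι p y - (mapP ι p y - s₀ (Φ (mapP ι p y))) = 0
    rw [show Φ (mapP ι p y) = 0 from hy, map_zero, sub_zero, sub_self]
  have hI : ∀ y ∈ obsIdeal (p := p) D₀ Φ, Θ y = y := fun y hy => by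
    refine Submodule.mul_induction_on hy ?_ fun u v hu hv => by rw [map_add, hu, hv]
    intro a ha
    rw [show mPol ι A' = Submodule.span _ (MvPolynomial.C '' (RingHom.ker A'.res.toRingHom : Set A')) from rfl] at ha
    induction ha using Submodule.span_induction with
    | mem a ha =>
      obtain ⟨c, hc, rfl⟩ := ha
      intro b hb
      have h1 : MvPolynomial.C c * (b - Θ b) = 0 := mul_ker_mapP hp (Ideal.mem_map_of_mem _ hc) (hfix b hb)
      rw [mul_sub, sub_eq_zero] at h1
      rw [← MvPolynomial.smul_eq_C_mul, map_smul, MvPolynomial.smul_eq_C_mul, MvPolynomial.smul_eq_C_mul, h1]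
    | zero => intro b _; rw [zero_mul, map_zero]
    | add u v _ _ hu hv => intro b hb; rw [add_mul, map_add, hu b hb, hv b hb]
    | smul c u _ hu =>
      intro b hb
      rw [smul_eq_mul, show c * u * b = u * (c * b) by ring]
      exact hu _ (Ideal.mul_mem_left _ c hb)
  refine ⟨fun y hy hy' => ?_, fun y hy hy0 => ⟨y - Θ y, hfix y hy, ?_⟩⟩
  · rw [← hI y hy']
    have h1 := hy
    rw [ker_mapP_eq, show (Ker p).map MvPolynomial.C = (Ker p).map (algebraMap A' (MvPolynomial ι A')) from rfl,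
      ← Submodule.restrictScalars_mem A', ← Ideal.smul_top_eq_map] at h1
    refine Submodule.smul_induction_on (p := fun y => val P p (Θ y) = 0) h1 (fun c hc b _ => ?_) fun u v hu hv => ?_
    · rw [map_smul, MvPolynomial.smul_eq_C_mul, mul_comm, val_mul_C P hp _ ⟨c, hc⟩, ← π_psi P D₀ Φ hπΦ,
        show psi (p := p) D₀ Φ (Θ b) = 0 from hΘK b, map_zero, TensorProduct.zero_tmul]
    · rw [map_add, map_add, hu, hv, add_zero]
  · rw [sub_sub_cancel]
    have h1 : y ∈ mPol ι A' := (mPol_eq P A').ge hy0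
    rw [show mPol ι A' = (RingHom.ker A'.res.toRingHom).map (algebraMap A' (MvPolynomial ι A')) from rfl,
      ← Submodule.restrictScalars_mem A', ← Ideal.smul_top_eq_map] at h1
    refine Submodule.smul_induction_on (p := fun y => Θ y ∈ obsIdeal (p := p) D₀ Φ) h1
      (fun c hc b _ => ?_) fun u v hu hv => ?_
    · rw [map_smul, MvPolynomial.smul_eq_C_mul]
      exact Ideal.mul_mem_mul (Ideal.mem_map_of_mem _ hc) (hΘK b)
    · rw [map_add]
      exact add_mem hu hv

/-- The obstruction of `x`. -/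
def Obs (x : MvPolynomial ι A') (z : B₀ ⊗[k] Ker p) : Prop :=
  ∃ w ∈ RingHom.ker (mapP ι p), val P p w = z ∧ x - w ∈ obsIdeal (p := p) D₀ Φ

include hp hΦ hπΦ in
lemma obs_unique {x : MvPolynomial ι A'} {z z' : B₀ ⊗[k] Ker p} (h : Obs P D₀ Φ x z) (h' : Obs P D₀ Φ x z') :
    z = z' := by
  obtain ⟨w, hw, rfl, hx⟩ := h
  obtain ⟨w', hw', rfl, hx'⟩ := h'
  rw [← sub_eq_zero, ← map_sub]
  refine (kernel_splitting' P hp D₀ Φ hΦ hπΦ).1 _ (sub_mem hw hw') ?_
  have := sub_mem hx' hx
  rwa [sub_sub_sub_cancel_left] at this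

lemma Obs.add {x y : MvPolynomial ι A'} {z v : B₀ ⊗[k] Ker p} (h : Obs P D₀ Φ x z) (h' : Obs P D₀ Φ y v) :
    Obs P D₀ Φ (x + y) (z + v) := by
  obtain ⟨w, hw, rfl, hx⟩ := h
  obtain ⟨w', hw', rfl, hy⟩ := h'
  exact ⟨w + w', add_mem hw hw', map_add _ _ _, by rw [add_sub_add_comm]; exact add_mem hx hy⟩

lemma obs_zero {x : MvPolynomial ι A'} (hx : x ∈ obsIdeal (p := p) D₀ Φ) :
    Obs P D₀ Φ x (0 : B₀ ⊗[k] Ker p) :=
  ⟨0, zero_mem _, map_zero _, by rwa [sub_zero]⟩

lemma obs_val {w : MvPolynomial ι A'} (hw : w ∈ RingHom.ker (mapP ι p)) : Obs P D₀ Φ w (val P p w) :=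
  ⟨w, hw, rfl, by rw [sub_self]; exact zero_mem _⟩

/-- A cocycle represents the obstruction for the lifted equations `F`. -/
def IsObs (F : σ → MvPolynomial ι A') (o : L2 P →ₗ[B₀] B₀ ⊗[k] Ker p) : Prop :=
  ∀ (q : relKer P) (g : σ →₀ MvPolynomial ι A'), red P g = (q : relMod P) →
    Obs P D₀ Φ (lc F g) (o (Submodule.Quotient.mk ((1 : B₀) ⊗ₜ q)))

lemma L2_hom_ext {M : Type u} [AddCommGroup M] [Module B₀ M] {o o' : L2 P →ₗ[B₀] M}
    (h : ∀ q : relKer P, o (Submodule.Quotient.mk ((1 : B₀) ⊗ₜ q)) = o' (Submodule.Quotient.mk ((1 : B₀) ⊗ₜ q))) :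
    o = o' := by
  refine Submodule.linearMap_qext _ (LinearMap.ext fun z => ?_)
  induction z using TensorProduct.induction_on with
  | zero => rw [map_zero, map_zero]
  | add x y hx hy => rw [map_add, map_add, hx, hy]
  | tmul b q =>
    rw [show b ⊗ₜ[P.toExtension.Ring] q = b • ((1 : B₀) ⊗ₜ q) by
      rw [TensorProduct.smul_tmul', smul_eq_mul, mul_one], map_smul, map_smul]
    exact congrArg _ (h q)

include hp hΦ hπΦ in
theorem exists_isObs (F : σ → MvPolynomial ι A') (hFK : ∀ s, F s ∈ RingHom.ker (psi (p := p) D₀ Φ))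
    (hFρ : ∀ s, rho P A' (F s) = rel P s) :
    ∃ o : L2 P →ₗ[B₀] B₀ ⊗[k] Ker p, IsObs P D₀ Φ F o := by
  obtain ⟨-, hdec⟩ := kernel_splitting' P hp D₀ Φ hΦ hπΦ
  have hlc0 : ∀ g, red P g = 0 → lc F g ∈ obsIdeal (p := p) D₀ Φ := fun g hg => by
    rw [Finsupp.linearCombination_apply]
    exact Submodule.sum_mem _ fun s _ => Ideal.mul_mem_mul ((mPol_eq P A').ge (DFunLike.congr_fun hg s)) (hFK s)
  have hex : ∀ q : relKer P, ∃ z : B₀ ⊗[k] Ker p, ∀ g : σ →₀ MvPolynomial ι A',
      red P g = (q : relMod P) → Obs P D₀ Φ (lc F g) z := by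
    intro q
    obtain ⟨g₀, hg₀⟩ := red_surjective P (A' := A') (q : relMod P)
    obtain ⟨w, hw, hx⟩ := hdec _ (lc_mem F hFK g₀) (by rw [rho_lc P F hFρ, hg₀]; exact q.2)
    refine ⟨val P p w, fun g hg => ?_⟩
    have h1 := (obs_zero P D₀ Φ (hlc0 (g - g₀) (Finsupp.ext fun s => by
      rw [red, Finsupp.mapRange_apply, Finsupp.sub_apply, map_sub, Finsupp.zero_apply, sub_eq_zero]
      exact DFunLike.congr_fun (hg.trans hg₀.symm) s))).add P D₀ Φ ⟨w, hw, rfl, hx⟩
    rwa [map_sub, sub_add_cancel, zero_add] at h1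
  choose o ho using hex
  have huniq := @obs_unique k _ B₀ _ _ ι σ P A' A p hp D₀ Φ hΦ hπΦ
  let oL : relKer P →ₗ[P.toExtension.Ring] B₀ ⊗[k] Ker p :=
    { toFun := o
      map_add' := fun q r => by
        obtain ⟨g, hg⟩ := red_surjective P (A' := A') (q : relMod P)
        obtain ⟨h, hh⟩ := red_surjective P (A' := A') (r : relMod P)
        refine huniq (ho (q + r) (g + h) (by rw [red_add, hg, hh]; rfl)) ?_
        rw [map_add]
        exact (ho q g hg).add P D₀ Φ (ho r h hh)
      map_smul' := fun c q => by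
        obtain ⟨c, rfl⟩ := rho_surjective P A' c
        obtain ⟨g, hg⟩ := red_surjective P (A' := A') (q : relMod P)
        refine huniq (ho _ (c • g) (by rw [red_smul, hg]; rfl)) ?_
        obtain ⟨w, hw, hz, hx⟩ := ho q g hg
        refine ⟨c * w, Ideal.mul_mem_left _ _ hw, by rw [val_mul P hp c hw, hz]; exact algebraMap_smul B₀ _ _, ?_⟩
        rw [map_smul, smul_eq_mul, ← mul_sub]
        exact Ideal.mul_mem_left _ _ hx }
  have htriv : ∀ y ∈ trivRel P, ∀ hy : y ∈ relKer P, oL ⟨y, hy⟩ = 0 := by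
    intro y h
    induction h using Submodule.span_induction with
    | mem y hy =>
      obtain ⟨a, b, rfl⟩ := hy
      intro hq
      obtain ⟨g, rfl⟩ := red_surjective P (A' := A') a
      obtain ⟨h, rfl⟩ := red_surjective P (A' := A') b
      refine huniq (ho _ (lc F g • h - lc F h • g) ?_) (obs_zero P D₀ Φ ?_)
      · refine Finsupp.ext fun s => ?_
        simp only [red, Finsupp.mapRange_apply, Finsupp.sub_apply, Finsupp.smul_apply, smul_eq_mul, map_sub,
          map_mul, rho_lc P F hFρ]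
      · rw [map_sub, map_smul, map_smul, smul_eq_mul, smul_eq_mul, mul_comm, sub_self]
        exact zero_mem _
    | zero => exact fun _ => map_zero oL
    | add y z hy hz iy iz =>
      intro hq
      have h1 : (⟨y + z, hq⟩ : relKer P) =
          (⟨y, trivRel_le_relKer P hy⟩ : relKer P) + ⟨z, trivRel_le_relKer P hz⟩ := Subtype.ext rfl
      rw [h1, LinearMap.map_add, iy (trivRel_le_relKer P hy), iz (trivRel_le_relKer P hz), add_zero]
    | smul c y hy iy =>
      intro hq
      have h1 : (⟨c • y, hq⟩ : relKer P) = c • (⟨y, trivRel_le_relKer P hy⟩ : relKer P) := Subtype.ext rfl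
      rw [h1, LinearMap.map_smul]
      exact (congrArg (c • ·) (iy (trivRel_le_relKer P hy))).trans (smul_zero c)
  refine ⟨Submodule.liftQ _ (LinearMap.liftBaseChange B₀ oL) (by
    rw [LinearMap.range_le_ker_iff]
    refine TensorProduct.AlgebraTensorModule.ext fun b q => ?_
    show LinearMap.liftBaseChange B₀ oL (b ⊗ₜ ((q : relKer P))) = 0
    rw [LinearMap.liftBaseChange_tmul]
    exact (congrArg (b • ·) (htriv _ q.2 (q : relKer P).2)).trans (smul_zero b)), fun q g hg => ?_⟩
  show Obs P D₀ Φ (lc F g) (LinearMap.liftBaseChange B₀ oL ((1 : B₀) ⊗ₜ q))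
  rw [LinearMap.liftBaseChange_tmul, one_smul]
  exact ho q g hg

include hp hΦ hπΦ in
lemma isObs_unique {F : σ → MvPolynomial ι A'} {o o' : L2 P →ₗ[B₀] B₀ ⊗[k] Ker p}
    (h : IsObs P D₀ Φ F o) (h' : IsObs P D₀ Φ F o') : o = o' := by
  refine L2_hom_ext P fun q => ?_
  obtain ⟨g, hg⟩ := red_surjective P (A' := A') (q : relMod P)
  exact obs_unique P hp D₀ Φ hΦ hπΦ (h q g hg) (h' q g hg)

include hp in
lemma val_lc (w : σ → MvPolynomial ι A') (hw : ∀ s, w s ∈ RingHom.ker (mapP ι p))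
    (φ : L1 P →ₗ[B₀] B₀ ⊗[k] Ker p)
    (hφ : ∀ s, φ ((1 : B₀) ⊗ₜ Finsupp.single s (1 : P.toExtension.Ring)) = val P p (w s))
    (g : σ →₀ MvPolynomial ι A') : val P p (lc w g) = φ ((1 : B₀) ⊗ₜ red P g) := by
  induction g using Finsupp.induction_linear with
  | zero => rw [red_zero, map_zero, map_zero, TensorProduct.tmul_zero, map_zero]
  | add g h hg hh => rw [map_add, map_add, hg, hh, red_add, TensorProduct.tmul_add, map_add]
  | single s c =>
    rw [Finsupp.linearCombination_single, smul_eq_mul, val_mul P hp c (hw s), ← hφ, red_single,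
      show Finsupp.single s (rho P A' c) = rho P A' c • Finsupp.single s (1 : P.toExtension.Ring) by
        rw [Finsupp.smul_single, smul_eq_mul, mul_one],
      TensorProduct.tmul_smul, ← algebraMap_smul B₀ (rho P A' c), LinearMap.map_smul φ]

include hp hΦ hπΦ in
/-- The class does not depend on the lifted equations. -/
theorem isObs_class_eq {F F' : σ → MvPolynomial ι A'} {o o' : L2 P →ₗ[B₀] B₀ ⊗[k] Ker p}
    (hFK : ∀ s, F s ∈ RingHom.ker (psi (p := p) D₀ Φ)) (hFρ : ∀ s, rho P A' (F s) = rel P s)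
    (hFK' : ∀ s, F' s ∈ RingHom.ker (psi (p := p) D₀ Φ)) (hFρ' : ∀ s, rho P A' (F' s) = rel P s)
    (h : IsObs P D₀ Φ F o) (h' : IsObs P D₀ Φ F' o') : toT2 P _ o' = toT2 P _ o := by
  choose w hw hwI using fun s => (kernel_splitting' P hp D₀ Φ hΦ hπΦ).2 _ (sub_mem (hFK' s) (hFK s))
    (by rw [map_sub, hFρ', hFρ, sub_self])
  let φ : L1 P →ₗ[B₀] B₀ ⊗[k] Ker p := (L1basis P).constr B₀ fun s => val P p (w s)
  have hφ : ∀ s, φ ((1 : B₀) ⊗ₜ Finsupp.single s (1 : P.toExtension.Ring)) = val P p (w s) := fun s => by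
    rw [← L1basis_apply]; exact (L1basis P).constr_basis B₀ _ s
  refine (Submodule.Quotient.eq _).2 ⟨φ, (sub_eq_iff_eq_add'.2 ?_).symm⟩
  refine isObs_unique P hp D₀ Φ hΦ hπΦ h' fun q g hg => ?_
  rw [LinearMap.add_apply, d2Star_apply, LinearMap.comp_apply, d2_mk_tmul, ← hg, ← val_lc P hp w hw φ hφ g]
  have h1 : lc F' g = lc F g + (lc w g + lc (fun s => F' s - F s - w s) g) := by
    simp only [Finsupp.linearCombination_apply, Finsupp.sum, smul_eq_mul, ← Finset.sum_add_distrib]
    exact Finset.sum_congr rfl fun s _ => by ring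
  rw [h1, ← add_zero (val P p (lc w g))]
  exact (h q g hg).add P D₀ Φ
    ((obs_val P D₀ Φ (lc_mem w hw g)).add P D₀ Φ (obs_zero P D₀ Φ (lc_mem _ hwI g)))

include hp hπΦ in
/-- A lift kills the obstruction. -/
theorem exists_isObs_zero (D' : Data B₀ A') (q' : D'.HomOver D₀ p) :
    ∃ F : σ → MvPolynomial ι A', (∀ s, F s ∈ RingHom.ker (psi (p := p) D₀ Φ)) ∧
      (∀ s, rho P A' (F s) = rel P s) ∧
        ∀ o : L2 P →ₗ[B₀] B₀ ⊗[k] Ker p, IsObs P D₀ Φ F o → o = 0 := by
  choose x hx using fun i : ι => q'.surjective hp.1 (Φ (MvPolynomial.X i))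
  let Φ' : MvPolynomial ι A' →ₐ[A'] D'.R := MvPolynomial.aeval x
  have hq : ∀ y, q'.q (Φ' y) = psi (p := p) D₀ Φ y := fun y => RingHom.congr_fun (MvPolynomial.ringHom_ext
    (f := q'.q.comp Φ'.toRingHom) (g := psi (p := p) D₀ Φ)
    (fun c => by
      show q'.q (Φ' (MvPolynomial.C c)) = Φ (mapP ι p (MvPolynomial.C c))
      rw [show Φ' (MvPolynomial.C c) = algebraMap A' D'.R c from Φ'.commutes c, q'.comm, MvPolynomial.map_C]
      exact (Φ.commutes _).symm)
    (fun i => by
      show q'.q (Φ' (MvPolynomial.X i)) = Φ (mapP ι p (MvPolynomial.X i))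
      rw [MvPolynomial.map_X, show Φ' (MvPolynomial.X i) = x i from MvPolynomial.aeval_X x i, hx])) y
  have hπ' : ∀ y, D'.π (Φ' y) = ev P (rho P A' y) := fun y => by rw [← q'.compat, hq, π_psi P D₀ Φ hπΦ]
  choose F hF0 hFρ using exists_equation_of P D' Φ' (surjective_of_compat P D' Φ' hπ') hπ'
  refine ⟨F, fun s => by rw [RingHom.mem_ker, ← hq, hF0, map_zero], hFρ, fun o ho => L2_hom_ext P fun q => ?_⟩
  obtain ⟨g, hg⟩ := red_surjective P (A' := A') (q : relMod P)
  obtain ⟨w, hw, hz, hx⟩ := ho q g hg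
  have h1 : ∀ y ∈ obsIdeal (p := p) D₀ Φ, Φ' y = 0 := fun y hy => by
    refine Submodule.mul_induction_on hy (fun a ha b hb => ?_) fun u v hu hv => by rw [map_add, hu, hv, add_zero]
    obtain ⟨z, hz⟩ := (⟨D', q'⟩ : Lift p D₀).exists_mu_eq hp (x := Φ' b) ((hq b).trans hb)
    rw [map_mul, ← hz, mu_smul, hπ', show rho P A' a = 0 from (mPol_eq P A').le ha, map_zero, zero_smul, map_zero]
  have h2 : Φ' w = mu hp D' (val P p w) := by
    refine ker_mapP_induction (C := fun w => Φ' w = mu hp D' (val P p w)) ?_ ?_ ?_ hw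
    · rw [map_zero, map_zero, map_zero]
    · intro u v hu hv; rw [map_add, map_add, map_add, hu, hv]
    · intro a j
      rw [map_mul, show Φ' (MvPolynomial.C (j : A')) = algebraMap A' D'.R j from Φ'.commutes _, val_mul_C P hp,
        ← hπ', mu_tmul, mul_comm]
  have h3 : Φ' (lc F g) = 0 := lc_mem (K := RingHom.ker Φ'.toRingHom) F hF0 g
  have h4 := h1 _ hx
  rw [map_sub, h3, zero_sub, neg_eq_zero, h2] at h4
  rw [LinearMap.zero_apply, ← hz]
  exact mu_injective hp D' (h4.trans (map_zero _).symm)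

include hp hΦ hπΦ in
/-- A lift from good equations. -/
theorem exists_lift_of_ideal' (L : Ideal (MvPolynomial ι A')) (hLK : L ≤ RingHom.ker (psi (p := p) D₀ Φ))
    (hcap : ∀ y ∈ RingHom.ker (mapP ι p), y ∈ L → val P p y = 0)
    (hlift : ∀ y, ev P (rho P A' y) = 0 → ∃ l ∈ L, rho P A' (y - l) = 0)
    (hK : RingHom.ker (psi (p := p) D₀ Φ) ≤ L ⊔ RingHom.ker (mapP ι p)) :
    ∃ D' : Data B₀ A', Nonempty (D'.HomOver D₀ p) := by
  haveI : Module.Free A D₀.R := FSAdic.FreeNil.free_of_flat (isNilpotent_maximalIdeal A)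
  let Ψ := psi (p := p) D₀ Φ
  have hΨ : Function.Surjective Ψ := hΦ.comp (MvPolynomial.map_surjective _ hp.1)
  let b₀ := Module.Free.chooseBasis A D₀.R
  choose e he using fun i => hΨ (b₀ i)
  let mkL : MvPolynomial ι A' →ₐ[A'] MvPolynomial ι A' ⧸ L := Ideal.Quotient.mkₐ A' L
  let q : MvPolynomial ι A' ⧸ L →+* D₀.R := Ideal.Quotient.lift L Ψ hLK
  have hqC : ∀ c : A', Ψ (MvPolynomial.C c) = algebraMap A D₀.R (p c) := fun c =>
    (congrArg Φ (MvPolynomial.map_C _ c)).trans (Φ.commutes _)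
  have hΨsmul : ∀ (c : A') (y), Ψ (c • y) = p c • Ψ y := fun c y => by
    rw [MvPolynomial.smul_eq_C_mul, map_mul, hqC, Algebra.smul_def]
  have hindep : LinearIndependent A' fun i => mkL (e i) := by
    classical
    rw [linearIndependent_iff']
    intro S c hc i hi
    have h1 : ∑ i ∈ S, p (c i) • b₀ i = 0 := by
      have h0 : mkL (∑ i ∈ S, c i • e i) = 0 := by rw [map_sum, ← hc]; simp only [map_smul]
      have := congrArg q h0
      rw [map_zero] at this
      rw [← this]
      show _ = Ψ _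
      rw [map_sum]
      exact Finset.sum_congr rfl fun i _ => by rw [hΨsmul, show Ψ (e i) = b₀ i from he i]
    have h2 : ∀ j ∈ S, c j ∈ Ker p := fun j hj => linearIndependent_iff'.1 b₀.linearIndependent S _ h1 j hj
    let y := ∑ j ∈ S, e j * MvPolynomial.C (c j)
    have h3 : val P p y = 0 := by
      refine hcap y (Submodule.sum_mem _ fun j hj => ?_) ?_
      · exact Ideal.mul_mem_left _ _ ((ker_mapP_eq p).ge (Ideal.mem_map_of_mem _ (h2 j hj)))
      · rw [← Ideal.Quotient.eq_zero_iff_mem]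
        show mkL y = 0
        rw [← hc, map_sum]
        exact Finset.sum_congr rfl fun j _ => by rw [mul_comm, ← MvPolynomial.smul_eq_C_mul, map_smul]
    let κ' : D₀.R →ₗ[A] A := b₀.coord i
    have hκ' : ∀ r r', D₀.π r = D₀.π r' → A.res (κ' r) = A.res (κ' r') := fun r r' h => by
      have h4 : r - r' ∈ RingHom.ker D₀.π := by rw [RingHom.mem_ker, map_sub, h, sub_self]
      rw [D₀.ker_π, ker_res, ← Submodule.restrictScalars_mem A, ← Ideal.smul_top_eq_map] at h4
      have h5 := Submodule.mem_map_of_mem (f := κ') h4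
      rw [Submodule.map_smul''] at h5
      have h6 := Submodule.smul_le.2 (fun r hr x _ => Ideal.mul_mem_right x _ hr) h5
      rw [← sub_eq_zero, ← map_sub, ← map_sub]
      exact (A.mem_maximalIdeal_iff _).1 h6
    let κ : B₀ →ₗ[k] k :=
      { toFun := fun b => A.res (κ' (Function.surjInv D₀.surj b))
        map_add' := fun b b' => by
          rw [← map_add, ← map_add]
          exact hκ' _ _ (by rw [map_add, Function.surjInv_eq D₀.surj, Function.surjInv_eq D₀.surj,
            Function.surjInv_eq D₀.surj])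
        map_smul' := fun a b => by
          show A.res (κ' (Function.surjInv D₀.surj (a • b))) = a * A.res (κ' (Function.surjInv D₀.surj b))
          have h0 : A.res (algebraMap k A a) = a := A.res.commutes a
          refine (hκ' _ (algebraMap k A a • Function.surjInv D₀.surj b) ?_).trans ?_
          · rw [Function.surjInv_eq D₀.surj, Algebra.smul_def (A := D₀.R), map_mul, D₀.comm,
              Function.surjInv_eq D₀.surj, h0, Algebra.smul_def]
          · rw [map_smul, smul_eq_mul, map_mul, h0] }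
    have hκ : ∀ j, κ (D₀.π (b₀ j)) = if j = i then 1 else 0 := fun j => by
      refine (hκ' _ (b₀ j) (Function.surjInv_eq D₀.surj _)).trans ?_
      simp [κ', Finsupp.single_apply, apply_ite A.res]
    let L₁ : B₀ ⊗[k] Ker p →ₗ[k] Ker p := (TensorProduct.lid k (Ker p)).toLinearMap ∘ₗ κ.rTensor (Ker p)
    have h7 : L₁ (val P p y) = ⟨c i, h2 i hi⟩ := by
      rw [map_sum, map_sum]
      rw [Finset.sum_eq_single_of_mem i hi fun j hj hji => ?_]
      · rw [val_mul_C P hp (e i) ⟨c i, h2 i hi⟩, ← π_psi P D₀ Φ hπΦ, show psi (p := p) D₀ Φ (e i) = b₀ i from he i]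
        simp only [L₁, LinearMap.comp_apply, LinearMap.rTensor_tmul, LinearEquiv.coe_coe, TensorProduct.lid_tmul]
        rw [hκ, if_pos rfl, one_smul]
      · rw [val_mul_C P hp (e j) ⟨c j, h2 j hj⟩, ← π_psi P D₀ Φ hπΦ, show psi (p := p) D₀ Φ (e j) = b₀ j from he j]
        simp only [L₁, LinearMap.comp_apply, LinearMap.rTensor_tmul, LinearEquiv.coe_coe, TensorProduct.lid_tmul]
        rw [hκ, if_neg hji, zero_smul]
    rw [h3, map_zero] at h7
    exact (congrArg Subtype.val h7).symm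
  have hspan : Submodule.span A' (Set.range fun i => mkL (e i)) = ⊤ := by
    refine FSAdic.FreeNil.eq_top_of_sup_smul_eq_top (isNilpotent_maximalIdeal A') _ (eq_top_iff.2 fun r _ => ?_)
    obtain ⟨y, rfl⟩ := Ideal.Quotient.mk_surjective r
    obtain ⟨c, hc⟩ := Finsupp.mem_span_range_iff_exists_finsupp.1 (b₀.mem_span (Ψ y))
    choose c' hc' using fun i => hp.1 (c i)
    let y₀ : MvPolynomial ι A' := c.sum fun i _ => c' i • e i
    have h2 : y - y₀ ∈ L ⊔ RingHom.ker (mapP ι p) := by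
      refine hK ?_
      show Ψ (y - y₀) = 0
      rw [map_sub, sub_eq_zero, ← hc, map_finsuppSum]
      exact Finsupp.sum_congr fun i _ => by rw [hΨsmul, show Ψ (e i) = b₀ i from he i, hc']
    obtain ⟨l, hl, w, hw, hlw⟩ := Submodule.mem_sup.1 h2
    refine Submodule.mem_sup.2 ⟨mkL y₀, ?_, mkL w, ?_, ?_⟩
    · rw [map_finsuppSum]
      exact Submodule.sum_mem _ fun i _ => by
        show mkL (c' i • e i) ∈ _
        rw [map_smul]
        exact Submodule.smul_mem _ _ (Submodule.subset_span ⟨i, rfl⟩)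
    · refine ker_mapP_induction
        (C := fun w => mkL w ∈ IsLocalRing.maximalIdeal A' • (⊤ : Submodule A' (MvPolynomial ι A' ⧸ L))) ?_ ?_ ?_ hw
      · rw [map_zero]; exact zero_mem _
      · intro u v hu hv; rw [map_add]; exact add_mem hu hv
      · intro a j
        rw [mul_comm, ← MvPolynomial.smul_eq_C_mul, map_smul]
        exact Submodule.smul_mem_smul (ker_le_maximalIdeal p j.2) Submodule.mem_top
    · rw [← map_add]
      refine Ideal.Quotient.eq.2 ?_
      rw [show y₀ + w - y = -l by rw [sub_eq_iff_eq_add, ← sub_eq_zero]; rw [← sub_eq_zero] at hlw; rw [← hlw]; abel]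
      exact neg_mem hl
  haveI : Module.Free A' (MvPolynomial ι A' ⧸ L) := Module.Free.of_basis (Module.Basis.mk hindep hspan.ge)
  let D' : Data B₀ A' :=
    { R := MvPolynomial ι A' ⧸ L
      flat := inferInstance
      π := D₀.π.comp q
      surj := D₀.surj.comp (Ideal.Quotient.lift_surjective_of_surjective L hLK hΨ)
      comm := fun c => by
        show D₀.π (Ψ (MvPolynomial.C c)) = _
        rw [hqC, D₀.comm, show A.res (p c) = A'.res c from Art.res_app p c]
      ker_π := by
        refine le_antisymm (fun r hr => ?_) (Ideal.map_le_iff_le_comap.2 fun c hc => ?_)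
        · obtain ⟨y, rfl⟩ := Ideal.Quotient.mk_surjective r
          obtain ⟨l, hl, hl'⟩ := hlift y (by rw [← π_psi P D₀ Φ hπΦ]; exact hr)
          have h1 : y - l ∈ mPol ι A' := (mPol_eq P A').ge hl'
          have h2 := Ideal.mem_map_of_mem (Ideal.Quotient.mk L) h1
          rw [Ideal.map_map, map_sub, Ideal.Quotient.eq_zero_iff_mem.2 hl, sub_zero] at h2
          exact h2
        · show D₀.π (Ψ (MvPolynomial.C c)) = 0
          rw [hqC, D₀.comm, show A.res (p c) = A'.res c from Art.res_app p c, show A'.res c = 0 from hc, map_zero] }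
  exact ⟨D', ⟨{ q := q, comm := hqC, compat := fun r => rfl }⟩⟩

include hp hΦ hπΦ in
/-- A lift exists as soon as the obstruction is a coboundary. -/
theorem exists_lift_of_class_eq_zero {F : σ → MvPolynomial ι A'} {o : L2 P →ₗ[B₀] B₀ ⊗[k] Ker p}
    (hFK : ∀ s, F s ∈ RingHom.ker (psi (p := p) D₀ Φ)) (hFρ : ∀ s, rho P A' (F s) = rel P s)
    (h : IsObs P D₀ Φ F o) (h0 : toT2 P _ o = 0) : ∃ D' : Data B₀ A', Nonempty (D'.HomOver D₀ p) := by
  obtain ⟨-, hdec⟩ := kernel_splitting' P hp D₀ Φ hΦ hπΦ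
  obtain ⟨φ, hφ⟩ := (Submodule.Quotient.mk_eq_zero _).1 h0
  choose ψ hψ hψv using fun s : σ => exists_val_eq P hp (φ ((1 : B₀) ⊗ₜ Finsupp.single s (1 : P.toExtension.Ring)))
  let G : σ → MvPolynomial ι A' := fun s => F s - ψ s
  have hGK : ∀ s, G s ∈ RingHom.ker (psi (p := p) D₀ Φ) := fun s => sub_mem (hFK s) (ker_mapP_le D₀ Φ (hψ s))
  have hlc : ∀ g, lc G g = lc F g - lc ψ g := fun g => by
    simp only [G, Finsupp.linearCombination_apply, Finsupp.sum, smul_eq_mul, ← Finset.sum_sub_distrib, mul_sub]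
  have hGρ : ∀ s, rho P A' (G s) = rel P s := fun s => by
    rw [map_sub, hFρ, ← rho_mapP P p (ψ s), show mapP ι p (ψ s) = 0 from hψ s, map_zero, sub_zero]
  have hlift : ∀ y, ev P (rho P A' y) = 0 → ∃ l ∈ LinearMap.range (lc G), rho P A' (y - l) = 0 := fun y hy => by
    have h1 : rho P A' y ∈ LinearMap.range (jmap P) := by rw [range_jmap]; exact hy
    obtain ⟨f, hf⟩ := h1
    obtain ⟨g, rfl⟩ := red_surjective P (A' := A') f
    exact ⟨lc G g, ⟨g, rfl⟩, by rw [map_sub, rho_lc P G hGρ, hf, sub_self]⟩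
  refine exists_lift_of_ideal' P hp D₀ Φ hΦ hπΦ (LinearMap.range (lc G)) ?_ ?_ hlift ?_
  · rintro _ ⟨g, rfl⟩; exact lc_mem G hGK g
  · rintro _ hy ⟨g, rfl⟩
    have hq : red P g ∈ relKer P := by
      rw [relKer, LinearMap.mem_ker, ← rho_lc P G hGρ, ← rho_mapP P p, show mapP ι p (lc G g) = 0 from hy, map_zero]
    have h1 : Obs P D₀ Φ (lc F g) (val P p (lc G g) + val P p (lc ψ g)) := by
      rw [← map_add, ← eq_sub_iff_add_eq.1 (hlc g)]
      exact obs_val P D₀ Φ (by
        rw [eq_sub_iff_add_eq.1 (hlc g), ← sub_add_cancel (lc F g) (lc ψ g), ← hlc]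
        exact add_mem hy (lc_mem ψ hψ g))
    have h2 := obs_unique P hp D₀ Φ hΦ hπΦ (h ⟨red P g, hq⟩ g rfl) h1
    rw [← hφ, d2Star_apply, LinearMap.comp_apply, d2_mk_tmul, val_lc P hp ψ hψ φ (fun s => (hψv s).symm) g,
      right_eq_add] at h2
    exact h2
  · let N : Ideal (MvPolynomial ι A') := LinearMap.range (lc G) ⊔ RingHom.ker (mapP ι p)
    let K := RingHom.ker (psi (p := p) D₀ Φ)
    have h1 : K ≤ N ⊔ mPol ι A' * K := fun y hy => by
      obtain ⟨_, ⟨g, rfl⟩, hg⟩ := hlift y (by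
        rw [← π_psi P D₀ Φ hπΦ, show psi (p := p) D₀ Φ y = 0 from hy, map_zero])
      obtain ⟨w, hw, hz⟩ := hdec _ (sub_mem hy (lc_mem G hGK g)) hg
      exact Submodule.mem_sup.2 ⟨lc G g + w, add_mem (Ideal.mem_sup_left ⟨g, rfl⟩) (Ideal.mem_sup_right hw),
        _, hz, by abel⟩
    have hn : ∀ n, K ≤ N ⊔ mPol ι A' ^ n * K := fun n => by
      induction n with
      | zero => rw [pow_zero, one_mul]; exact le_sup_right
      | succ n ih =>
        refine h1.trans (sup_le le_sup_left ((Ideal.mul_mono_right ih).trans ?_))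
        rw [Ideal.mul_sup, ← mul_assoc, ← pow_succ']
        exact sup_le_sup Ideal.mul_le_right le_rfl
    obtain ⟨n, hn'⟩ := exists_maximalIdeal_pow_eq_bot A'
    refine (hn n).trans (sup_le le_rfl ?_)
    rw [show mPol ι A' ^ n = ((RingHom.ker A'.res.toRingHom) ^ n).map MvPolynomial.C from (Ideal.map_pow _ _ _).symm,
      ker_res, hn', Ideal.map_bot, Ideal.bot_mul]
    exact bot_le

end Obstruction

section Tensor

variable {J J' : Type u} [AddCommGroup J] [Module k J] [AddCommGroup J'] [Module k J']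

/-- `B₀ → B₀ ⊗ J`, `b ↦ b ⊗ j`. -/
def inclJ (j : J) : B₀ →ₗ[B₀] B₀ ⊗[k] J := LinearMap.toSpanSingleton B₀ _ ((1 : B₀) ⊗ₜ j)

lemma inclJ_apply (j : J) (b : B₀) : inclJ (k := k) j b = b ⊗ₜ j := by
  show b • ((1 : B₀) ⊗ₜ[k] j) = b ⊗ₜ j
  rw [TensorProduct.smul_tmul', smul_eq_mul, mul_one]

lemma T2map_congr {M : Type u} [AddCommGroup M] [Module B₀ M] {g g' : B₀ →ₗ[B₀] M} (h : g = g') (x : T2 P B₀) :
    T2map P g x = T2map P g' x := by rw [h]

variable (J) in
/-- `T²(B₀) ⊗ J → T²(B₀ ⊗ J)`. -/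
def ten : T2 P B₀ ⊗[k] J →+ T2 P (B₀ ⊗[k] J) :=
  TensorProduct.liftAddHom
    (AddMonoidHom.mk' (fun x => AddMonoidHom.mk' (fun j => T2map P (inclJ j) x) fun i j => by
      obtain ⟨a, rfl⟩ := exists_T2_mk P x
      rw [T2map_mk, T2map_mk, T2map_mk, ← map_add]
      refine congrArg _ (LinearMap.ext fun z => ?_)
      rw [LinearMap.add_apply, LinearMap.comp_apply, LinearMap.comp_apply, LinearMap.comp_apply, inclJ_apply,
        inclJ_apply, inclJ_apply, TensorProduct.tmul_add])
      fun x y => AddMonoidHom.ext fun j => map_add (T2map P (inclJ j)) x y)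
    fun c x j => by
      show T2map P (inclJ j) (c • x) = T2map P (inclJ (c • j)) x
      obtain ⟨a, rfl⟩ := exists_T2_mk P x
      rw [← LinearMap.map_smul_of_tower, T2map_mk, T2map_mk]
      refine congrArg _ (LinearMap.ext fun z => ?_)
      rw [LinearMap.comp_apply, LinearMap.comp_apply, LinearMap.smul_apply, inclJ_apply, inclJ_apply,
        TensorProduct.smul_tmul]

lemma ten_tmul (x : T2 P B₀) (j : J) : ten P J (x ⊗ₜ j) = T2map P (inclJ j) x := rfl

variable (J) in
theorem ten_bijective [Module.Finite k J] : Function.Bijective (ten P J) := by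
  classical
  let b := Module.finBasis k J
  let κ : Fin (Module.finrank k J) → (B₀ ⊗[k] J →ₗ[B₀] B₀) := fun i =>
    (TensorProduct.AlgebraTensorModule.rid k B₀ B₀).toLinearMap ∘ₗ
      TensorProduct.AlgebraTensorModule.map LinearMap.id (b.coord i)
  have hκ : ∀ i c j, κ i (c ⊗ₜ j) = b.coord i j • c := fun i c j => rfl
  let G : T2 P (B₀ ⊗[k] J) → T2 P B₀ ⊗[k] J := fun x => ∑ i, T2map P (κ i) x ⊗ₜ b i
  have h1 : ∀ z, G (ten P J z) = z := by
    intro z
    induction z using TensorProduct.induction_on with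
    | zero => simp [G]
    | add x y hx hy => simp only [G, map_add, TensorProduct.add_tmul, Finset.sum_add_distrib] at hx hy ⊢; rw [hx, hy]
    | tmul x j =>
      obtain ⟨a, rfl⟩ := exists_T2_mk P x
      have : ∀ i, T2map P (κ i) (ten P J ((LinearMap.range (d2Star P B₀)).mkQ a ⊗ₜ j)) =
          b.coord i j • (LinearMap.range (d2Star P B₀)).mkQ a := fun i => by
        rw [ten_tmul, T2map_mk, T2map_mk, ← LinearMap.map_smul_of_tower]
        refine congrArg _ (LinearMap.ext fun z => ?_)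
        show κ i (inclJ (k := k) j (a z)) = b.coord i j • a z
        rw [inclJ_apply, hκ]
      simp only [G, this, TensorProduct.smul_tmul, ← TensorProduct.tmul_sum]
      exact congrArg _ (b.sum_repr j)
  have h2 : ∀ x, ten P J (G x) = x := by
    intro x
    obtain ⟨a, rfl⟩ := exists_T2_mk P x
    simp only [G, map_sum, ten_tmul, T2map_mk]
    rw [← map_sum]
    refine congrArg _ (LinearMap.ext fun z => ?_)
    rw [LinearMap.sum_apply]
    show ∑ i, inclJ (b i) (κ i (a z)) = a z
    induction a z using TensorProduct.induction_on with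
    | zero => simp
    | add u v hu hv => simp only [map_add, Finset.sum_add_distrib, hu, hv]
    | tmul c j =>
      simp only [hκ, inclJ_apply, TensorProduct.smul_tmul, ← TensorProduct.tmul_sum]
      exact congrArg _ (b.sum_repr j)
  exact ⟨Function.LeftInverse.injective h1, Function.RightInverse.surjective h2⟩

lemma T2map_comp {M N L : Type u} [AddCommGroup M] [Module B₀ M] [AddCommGroup N] [Module B₀ N] [AddCommGroup L]
    [Module B₀ L] (g : N →ₗ[B₀] L) (f : M →ₗ[B₀] N) (x : T2 P M) :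
    T2map P g (T2map P f x) = T2map P (g ∘ₗ f) x := by
  obtain ⟨a, rfl⟩ := exists_T2_mk P x
  rfl

lemma ten_natural (f : J →ₗ[k] J') (z : T2 P B₀ ⊗[k] J) :
    ten P J' (f.lTensor (T2 P B₀) z) =
      T2map P (TensorProduct.AlgebraTensorModule.map (LinearMap.id : B₀ →ₗ[B₀] B₀) f) (ten P J z) := by
  induction z using TensorProduct.induction_on with
  | zero => simp only [map_zero]
  | add x y hx hy => simp only [map_add, hx, hy]
  | tmul x j =>
    obtain ⟨a, rfl⟩ := exists_T2_mk P x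
    rw [LinearMap.lTensor_tmul, ten_tmul, ten_tmul, T2map_mk, T2map_mk, T2map_mk]
    refine congrArg _ (LinearMap.ext fun z => ?_)
    simp only [LinearMap.comp_apply, inclJ_apply, TensorProduct.AlgebraTensorModule.map_tmul, LinearMap.id_apply]

end Tensor

/-- The deformations of an affine scheme have an obstruction theory with values in `T²`. -/
theorem hasObsTheory_defFunctor :
    HasObsTheory (defFunctor (Λ := k) (Spec (CommRingCat.of B₀)) (xB B₀)) (T2 P B₀) := by
  classical
  choose D₀ hD₀ using fun (C : Art k k) (u : (defFunctor (Spec (CommRingCat.of B₀)) (xB B₀)).obj C) =>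
    exists_data (Quotient.out u)
  choose Φ hΦ hπΦ using fun (C : Art k k) u => exists_presentation P (D₀ C u)
  choose F₀ hF₀K hF₀ρ using fun (C : Art k k) u => exists_equation_of P (D₀ C u) (Φ C u) (hΦ C u) (hπΦ C u)
  choose F hF using fun {C' C : Art k k} (p : C' ⟶ C) (hp : Art.IsSemismallExt p) u s =>
    (MvPolynomial.map_surjective p.toAlgHom.toRingHom hp.1) (F₀ C u s)
  have hFK : ∀ {C' C : Art k k} (p : C' ⟶ C) (hp : Art.IsSemismallExt p) u s,
      F p hp u s ∈ RingHom.ker (psi (p := p) (D₀ C u) (Φ C u)) := fun p hp u s =>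
    (congrArg (Φ _ u) (hF p hp u s)).trans (hF₀K _ u s)
  have hFρ : ∀ {C' C : Art k k} (p : C' ⟶ C) (hp : Art.IsSemismallExt p) u s,
      rho P C' (F p hp u s) = rel P s := fun p hp u s => by
    rw [← rho_mapP P p, show mapP ι p (F p hp u s) = _ from hF p hp u s, hF₀ρ]
  choose o ho using fun {C' C : Art k k} (p : C' ⟶ C) (hp : Art.IsSemismallExt p) u =>
    exists_isObs P hp (D₀ C u) (Φ C u) (hΦ C u) (hπΦ C u) (F p hp u) (hFK p hp u) (hFρ p hp u)
  have hfin : ∀ {C' C : Art k k} (p : C' ⟶ C), Module.Finite k (Ker p) := fun {C' C} p => by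
    haveI := finite_art C'
    exact Module.Finite.of_injective ((Ker p).restrictScalars k).subtype Subtype.val_injective
  let e := fun {C' C : Art k k} (p : C' ⟶ C) =>
    AddEquiv.ofBijective (ten P (Ker p)) (haveI := hfin p; ten_bijective P (Ker p))
  refine ⟨{ obs := fun {C' C} p hp u => (e p).symm (toT2 P _ (o p hp u))
            obs_eq_zero_iff := fun {C' C} p hp u => ?_
            obs_quot := fun {C' C} p hp K hK hKJ hq u => ?_ }⟩
  · rw [AddEquiv.map_eq_zero_iff]
    constructor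
    · intro h0
      obtain ⟨D', ⟨q⟩⟩ := exists_lift_of_class_eq_zero P hp (D₀ C u) (Φ C u) (hΦ C u) (hπΦ C u) (hFK p hp u)
        (hFρ p hp u) (ho p hp u) h0
      have h1 : (D'.toDef.baseChange p).cl = (Quotient.out u).cl := Quotient.sound ⟨(isoOf hp.1 q).trans (hD₀ C u).some.symm⟩
      exact ⟨D'.toDef.cl, h1.trans (Quotient.out_eq u)⟩
    · rintro ⟨u', hu'⟩
      induction u' using Quotient.ind with
      | _ ξ =>
        obtain ⟨D', ⟨ψ⟩⟩ := exists_data ξ
        obtain ⟨φ⟩ := Quotient.exact (hu'.trans (Quotient.out_eq u).symm)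
        obtain ⟨q, -⟩ := exists_homOver hp.1 ((ψ.symm.baseChange p).trans (φ.trans (hD₀ C u).some))
        obtain ⟨G, hGK, hGρ, hG0⟩ := exists_isObs_zero P hp (D₀ C u) (Φ C u) (hπΦ C u) D' q
        obtain ⟨o', ho'⟩ := exists_isObs P hp (D₀ C u) (Φ C u) (hΦ C u) (hπΦ C u) G hGK hGρ
        rw [← isObs_class_eq P hp (D₀ C u) (Φ C u) (hΦ C u) (hπΦ C u) hGK hGρ (hFK p hp u) (hFρ p hp u) ho'
          (ho p hp u) |>.symm, hG0 o' ho', map_zero]
  · let f := (Art.kerToQuot hK p hKJ).restrictScalars k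
    let p' := Art.quotFactor hK p hKJ
    let mk := Art.quotMk C' K hK
    refine (AddEquiv.symm_apply_eq _).2 ?_
    refine Eq.trans ?_ (ten_natural P f ((e p).symm (toT2 P _ (o p hp u)))).symm
    rw [show ten P (Ker p) ((e p).symm (toT2 P _ (o p hp u))) = toT2 P _ (o p hp u) from (e p).apply_symm_apply _]
    let g := TensorProduct.AlgebraTensorModule.map (LinearMap.id : B₀ →ₗ[B₀] B₀) f
    let G : σ → MvPolynomial ι (Art.quot C' K hK) := fun s => mapP ι mk (F p hp u s)
    have hpm : ∀ y, mapP ι p' (mapP ι mk y) = mapP ι p y := fun y => by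
      show MvPolynomial.map _ (MvPolynomial.map _ y) = MvPolynomial.map _ y
      rw [MvPolynomial.map_map]
      rfl
    have hpsi : ∀ y, psi (p := p') (D₀ C u) (Φ C u) (mapP ι mk y) = psi (p := p) (D₀ C u) (Φ C u) y := fun y =>
      congrArg (Φ C u) (hpm y)
    have hGK : ∀ s, G s ∈ RingHom.ker (psi (p := p') (D₀ C u) (Φ C u)) := fun s => (hpsi _).trans (hFK p hp u s)
    have hGρ : ∀ s, rho P _ (G s) = rel P s := fun s => (rho_mapP P mk _).trans (hFρ p hp u s)
    obtain ⟨o', ho'⟩ := exists_isObs P hq (D₀ C u) (Φ C u) (hΦ C u) (hπΦ C u) G hGK hGρ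
    refine (isObs_class_eq P hq (D₀ C u) (Φ C u) (hΦ C u) (hπΦ C u) hGK hGρ (hFK p' hq u) (hFρ p' hq u) ho'
      (ho p' hq u)).trans ?_
    refine Eq.trans ?_ (T2map_mk P g (o p hp u)).symm
    refine congrArg (toT2 P _) (L2_hom_ext P fun q => ?_)
    obtain ⟨γ, hγ⟩ := red_surjective P (A' := C') (q : relMod P)
    let γ' : σ →₀ MvPolynomial ι (Art.quot C' K hK) := Finsupp.mapRange (mapP ι mk) (map_zero _) γ
    refine obs_unique P hq (D₀ C u) (Φ C u) (hΦ C u) (hπΦ C u) (ho' q γ' ?_) ?_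
    · rw [← hγ]
      refine Finsupp.ext fun s => ?_
      simp only [γ', red, Finsupp.mapRange_apply]
      exact rho_mapP P mk _
    obtain ⟨w, hw, hz, hx⟩ := ho p hp u q γ hγ
    have hlc : lc G γ' = mapP ι mk (lc (F p hp u) γ) := by
      simp only [Finsupp.linearCombination_apply, γ', smul_eq_mul]
      rw [Finsupp.sum_mapRange_index (by simp), map_finsuppSum]
      exact Finsupp.sum_congr fun s _ => (map_mul _ _ _).symm
    refine ⟨mapP ι mk w, (hpm w).trans hw, ?_, ?_⟩
    · rw [LinearMap.comp_apply, ← hz]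
      refine ker_mapP_induction (C := fun w => val P p' (mapP ι mk w) = g (val P p w)) ?_ ?_ ?_ hw
      · rw [map_zero, map_zero, map_zero, map_zero]
      · intro x y hx hy; rw [map_add, map_add, map_add, map_add, hx, hy]
      · intro a j
        rw [val_mul_C P hp, map_mul, MvPolynomial.map_C]
        refine (val_mul_C P hq (mapP ι mk a) (f j)).trans ?_
        rw [rho_mapP]
        rfl
    · rw [hlc, ← map_sub]
      refine Submodule.mul_induction_on hx (fun a ha b hb => ?_) fun x y hx hy => by rw [map_add]; exact add_mem hx hy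
      rw [map_mul]
      refine Ideal.mul_mem_mul ((mPol_eq P _).ge ?_) ((hpsi b).trans hb)
      exact (rho_mapP P mk a).trans ((mPol_eq P C').le ha)

end Groth.Agent.Lib.ArtinFun.AffDef
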