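import Groth.Agent.Lib.ArtinFun.AffExtensions
import Groth.Agent.Lib.FSAdic.FreeNil
import Groth.Prelude.Def_CotT
import Mathlib.RingTheory.Polynomial.Basic

/-!
# The obstruction to lifting a deformation of an algebra
-/

noncomputable section

universe u

open CategoryTheory ArtFun CotT
open scoped TensorProduct

namespace Groth.Agent.Lib.ArtinFun.AffDef

variable {k : Type u} [Field k] {B₀ : Type u} [CommRing B₀] [Algebra k B₀] {ι σ : Type u}
  (P : Algebra.Presentation k B₀ ι σ) {A' A : Art k k}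

/-- The reduction of polynomials. -/
def rho (A' : Art k k) : MvPolynomial ι A' →+* P.toExtension.Ring := MvPolynomial.map A'.res.toRingHom

/-- The evaluation of polynomials. -/
abbrev ev : P.toExtension.Ring →+* B₀ := algebraMap P.toExtension.Ring B₀

/-- The reduction along `p`. -/
abbrev mapP (ι : Type u) (p : A' ⟶ A) : MvPolynomial ι A' →+* MvPolynomial ι A :=
  MvPolynomial.map p.toAlgHom.toRingHom

/-- The ideal of polynomials with coefficients in the maximal ideal. -/
abbrev mPol (ι : Type u) (A' : Art k k) : Ideal (MvPolynomial ι A') :=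
  (RingHom.ker A'.res.toRingHom).map MvPolynomial.C

lemma rho_surjective (A' : Art k k) : Function.Surjective (rho P A') :=
  MvPolynomial.map_surjective _ A'.res_surjective

lemma rho_C (A' : Art k k) (a : A') : rho P A' (MvPolynomial.C a) = algebraMap k P.toExtension.Ring (A'.res a) :=
  MvPolynomial.map_C _ a

lemma mPol_eq (A' : Art k k) : mPol ι A' = RingHom.ker (rho P A') := (MvPolynomial.ker_map _).symm

lemma rho_mapP (p : A' ⟶ A) (y : MvPolynomial ι A') : rho P A (mapP ι p y) = rho P A' y := by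
  show MvPolynomial.map A.res.toRingHom (MvPolynomial.map p.toAlgHom.toRingHom y) = _
  rw [MvPolynomial.map_map]
  exact congrArg (fun f => MvPolynomial.map f y) (RingHom.ext fun a => Art.res_app p a)

/-- A presentation of a deformation. -/
theorem exists_presentation (D₀ : Data B₀ A) :
    ∃ Φ : MvPolynomial ι A →ₐ[A] D₀.R, Function.Surjective Φ ∧ ∀ y, D₀.π (Φ y) = ev P (rho P A y) := by
  choose x hx using fun i : ι => D₀.surj (P.val i)
  let Φ : MvPolynomial ι A →ₐ[A] D₀.R := MvPolynomial.aeval x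
  have hπΦ : ∀ y, D₀.π (Φ y) = ev P (rho P A y) := by
    refine fun y => RingHom.congr_fun (MvPolynomial.ringHom_ext
      (f := D₀.π.comp Φ.toRingHom) (g := (ev P).comp (rho P A)) (fun a => ?_) (fun i => ?_)) y
    · show D₀.π (Φ (MvPolynomial.C a)) = ev P (rho P A (MvPolynomial.C a))
      rw [show Φ (MvPolynomial.C a) = algebraMap A D₀.R a from MvPolynomial.aeval_C x a, D₀.comm,
        rho_C, ← IsScalarTower.algebraMap_apply]
    · show D₀.π (Φ (MvPolynomial.X i)) = ev P (rho P A (MvPolynomial.X i))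
      rw [show Φ (MvPolynomial.X i) = x i from MvPolynomial.aeval_X x i, hx,
        show rho P A (MvPolynomial.X i) = (MvPolynomial.X i : MvPolynomial ι k) from MvPolynomial.map_X _ i]
      exact ((CotT.algebraMap_toExtension P _).trans (MvPolynomial.aeval_X _ i)).symm
  refine ⟨Φ, LinearMap.range_eq_top.1 (?_ : LinearMap.range Φ.toLinearMap = ⊤), hπΦ⟩
  refine FSAdic.FreeNil.eq_top_of_sup_smul_eq_top (isNilpotent_maximalIdeal A) _ (eq_top_iff.2 fun r _ => ?_)
  obtain ⟨s, hs⟩ := P.toExtension.algebraMap_surjective (D₀.π r)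
  obtain ⟨s', rfl⟩ := rho_surjective P A s
  have h1 : r - Φ s' ∈ RingHom.ker D₀.π := by rw [RingHom.mem_ker, map_sub, hπΦ, hs, sub_self]
  rw [D₀.ker_π, ker_res, ← Submodule.restrictScalars_mem A, ← Ideal.smul_top_eq_map] at h1
  exact Submodule.mem_sup.2 ⟨Φ s', ⟨s', rfl⟩, r - Φ s', h1, add_sub_cancel _ _⟩

section

variable {p : A' ⟶ A} {t : A'} (ht : RingHom.ker p.toAlgHom = Ideal.span {t}) (hp : Art.IsSmallExt p)

include ht in
lemma p_t : p t = 0 := ht.ge (Ideal.mem_span_singleton_self t)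

include ht hp in
lemma t_mul_eq_zero {c : A'} (hc : A'.res c = 0) : t * c = 0 := by
  rw [mul_comm]
  exact (Submodule.mem_bot A').1 (hp.2.2.2 ▸ Ideal.mul_mem_mul ((A'.mem_maximalIdeal_iff c).2 hc) (p_t ht))

include ht hp in
lemma res_eq_zero_of_t_mul {a : A'} (ha : t * a = 0) : A'.res a = 0 := by
  by_contra h
  exact hp.2.1 (ht.trans (Ideal.span_singleton_eq_bot.2 ((((isUnit_iff_res a).2 h).mul_left_eq_zero).1 ha)))

include ht in
lemma res_t : A'.res t = 0 := (Art.res_app p t).symm.trans (by rw [p_t ht, map_zero])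

include ht in
lemma ker_mapP : RingHom.ker (mapP ι p) = Ideal.span {MvPolynomial.C t} := by
  refine (MvPolynomial.ker_map p.toAlgHom.toRingHom).trans ?_
  rw [show RingHom.ker p.toAlgHom.toRingHom = Ideal.span {t} from ht, Ideal.map_span, Set.image_singleton]

include ht hp in
lemma rho_eq_zero_of_C_mul {y : MvPolynomial ι A'} (hy : MvPolynomial.C t * y = 0) : rho P A' y = 0 := by
  refine MvPolynomial.ext (R := k) _ _ fun m => ?_
  refine (MvPolynomial.coeff_map A'.res.toRingHom y m).trans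
    ((res_eq_zero_of_t_mul ht hp ?_).trans (MvPolynomial.coeff_zero m).symm)
  rw [← MvPolynomial.coeff_C_mul, hy, MvPolynomial.coeff_zero]

variable (D₀ : Data B₀ A) (Φ : MvPolynomial ι A →ₐ[A] D₀.R) (hΦ : Function.Surjective Φ)
  (hπΦ : ∀ y, D₀.π (Φ y) = ev P (rho P A y))

/-- The composite presentation. -/
abbrev psi : MvPolynomial ι A' →+* D₀.R := Φ.toRingHom.comp (mapP ι p)

include hπΦ in
lemma π_psi (y : MvPolynomial ι A') : D₀.π (psi (p := p) D₀ Φ y) = ev P (rho P A' y) :=
  (hπΦ _).trans (congrArg _ (rho_mapP P p y))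

include ht hp hΦ in
/-- A lift of a projection onto the kernel. -/
theorem exists_theta :
    ∃ Θ : MvPolynomial ι A' →ₗ[A'] MvPolynomial ι A', (∀ y, Θ y ∈ RingHom.ker (psi (p := p) D₀ Φ)) ∧
      (∀ y ∈ RingHom.ker (psi (p := p) D₀ Φ), y - Θ y ∈ RingHom.ker (mapP ι p)) := by
  haveI : Module.Free A D₀.R := FSAdic.FreeNil.free_of_flat (isNilpotent_maximalIdeal A)
  obtain ⟨s₀, hs₀⟩ := Module.projective_lifting_property Φ.toLinearMap LinearMap.id hΦ
  let θ : MvPolynomial ι A →ₗ[A] MvPolynomial ι A := LinearMap.id - s₀ ∘ₗ Φ.toLinearMap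
  have hθ : ∀ y, Φ (θ y) = 0 := fun y => by
    show Φ (y - s₀ (Φ y)) = 0
    rw [map_sub, show Φ (s₀ (Φ y)) = Φ y from LinearMap.congr_fun hs₀ (Φ y), sub_self]
  letI : Algebra A' (MvPolynomial ι A) := (MvPolynomial.C.comp p.toAlgHom.toRingHom).toAlgebra
  let mpL : MvPolynomial ι A' →ₗ[A'] MvPolynomial ι A :=
    { toFun := mapP ι p
      map_add' := map_add _
      map_smul' := fun c y => by
        rw [RingHom.id_apply, MvPolynomial.smul_eq_C_mul, map_mul, MvPolynomial.map_C,
          Algebra.smul_def (A := MvPolynomial ι A)]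
        rfl }
  let θ' : MvPolynomial ι A →ₗ[A'] MvPolynomial ι A :=
    { toFun := θ
      map_add' := map_add θ
      map_smul' := fun c y => by
        rw [RingHom.id_apply, Algebra.smul_def (R := A'), Algebra.smul_def (R := A')]
        show θ (MvPolynomial.C (p c) * y) = MvPolynomial.C (p c) * θ y
        rw [← MvPolynomial.smul_eq_C_mul, map_smul, MvPolynomial.smul_eq_C_mul] }
  obtain ⟨Θ, hΘ'⟩ := Module.projective_lifting_property mpL (θ'.comp mpL) (MvPolynomial.map_surjective _ hp.1)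
  have hΘ : ∀ y, mapP ι p (Θ y) = θ (mapP ι p y) := fun y => LinearMap.congr_fun hΘ' y
  refine ⟨Θ, fun y => (congrArg Φ (hΘ y)).trans (hθ _), fun y hy => ?_⟩
  rw [RingHom.mem_ker, map_sub, hΘ]
  show mapP ι p y - (mapP ι p y - s₀ (Φ (mapP ι p y))) = 0
  rw [show Φ (mapP ι p y) = 0 from hy, map_zero, sub_zero, sub_self]

include ht hp hΦ hπΦ in
/-- `m K' ∩ t P' = t I₀` and `K' ∩ m P' ⊆ m K' + t P'`. -/
theorem kernel_splitting :
    (∀ y, MvPolynomial.C t * y ∈ mPol ι A' * RingHom.ker (psi (p := p) D₀ Φ) → ev P (rho P A' y) = 0) ∧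
    (∀ y ∈ RingHom.ker (psi (p := p) D₀ Φ), rho P A' y = 0 →
      ∃ z, y - MvPolynomial.C t * z ∈ mPol ι A' * RingHom.ker (psi (p := p) D₀ Φ)) := by
  obtain ⟨Θ, hΘK, hfix⟩ := exists_theta ht hp D₀ Φ hΦ
  have hmK : ∀ a ∈ mPol ι A', ∀ b ∈ RingHom.ker (psi (p := p) D₀ Φ), Θ (a * b) = a * b := by
    intro a ha
    rw [show mPol ι A' = Submodule.span _ (MvPolynomial.C '' (RingHom.ker A'.res.toRingHom : Set A')) from rfl] at ha
    induction ha using Submodule.span_induction with
    | mem a ha =>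
      obtain ⟨c, hc, rfl⟩ := ha
      intro b hb
      obtain ⟨y, hy⟩ := Ideal.mem_span_singleton'.1 (ker_mapP ht ▸ hfix b hb)
      have h1 : MvPolynomial.C c * (b - Θ b) = 0 := by
        rw [← hy, mul_left_comm, ← map_mul, mul_comm c t, t_mul_eq_zero ht hp hc, map_zero, mul_zero]
      rw [mul_sub, sub_eq_zero] at h1
      rw [← MvPolynomial.smul_eq_C_mul, map_smul, MvPolynomial.smul_eq_C_mul, MvPolynomial.smul_eq_C_mul, h1]
    | zero => intro b _; rw [zero_mul, map_zero]
    | add u v _ _ hu hv => intro b hb; rw [add_mul, map_add, hu b hb, hv b hb]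
    | smul c u _ hu =>
      intro b hb
      rw [smul_eq_mul, show c * u * b = u * (c * b) by ring]
      exact hu _ (Ideal.mul_mem_left _ c hb)
  refine ⟨fun y hy => ?_, fun y hy hy0 => ?_⟩
  · have h0 : ∀ z ∈ mPol ι A' * RingHom.ker (psi (p := p) D₀ Φ), Θ z = z := fun z hz => by
      refine Submodule.mul_induction_on hz (fun a ha b hb => hmK a ha b hb) fun u v hu hv => ?_
      rw [map_add, hu, hv]
    have h1 : MvPolynomial.C t * (Θ y - y) = 0 := by
      rw [mul_sub, sub_eq_zero, ← MvPolynomial.smul_eq_C_mul, ← map_smul, MvPolynomial.smul_eq_C_mul]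
      exact h0 _ hy
    have h2 := rho_eq_zero_of_C_mul P ht hp h1
    rw [map_sub, sub_eq_zero] at h2
    rw [← h2, ← π_psi P D₀ Φ hπΦ, show psi (p := p) D₀ Φ (Θ y) = 0 from hΘK y, map_zero]
  · obtain ⟨z, hz⟩ := Ideal.mem_span_singleton'.1 (ker_mapP ht ▸ hfix y hy)
    refine ⟨z, ?_⟩
    rw [mul_comm (MvPolynomial.C t), hz, sub_sub_cancel]
    have h1 : y ∈ mPol ι A' := by rw [mPol_eq P]; exact hy0
    rw [show mPol ι A' = (RingHom.ker A'.res.toRingHom).map (algebraMap A' (MvPolynomial ι A')) from rfl,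
      ← Submodule.restrictScalars_mem A', ← Ideal.smul_top_eq_map] at h1
    refine Submodule.smul_induction_on (p := fun y => Θ y ∈ mPol ι A' * RingHom.ker (psi (p := p) D₀ Φ)) h1
      (fun c hc b _ => ?_) fun u v hu hv => ?_
    · rw [map_smul, MvPolynomial.smul_eq_C_mul]
      exact Ideal.mul_mem_mul (Ideal.mem_map_of_mem _ hc) (hΘK b)
    · rw [map_add]
      exact add_mem hu hv

include hp hΦ hπΦ in
/-- Lifts of the equations. -/
theorem exists_equation (s : σ) : ∃ F, F ∈ RingHom.ker (psi (p := p) D₀ Φ) ∧ rho P A' F = rel P s := by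
  obtain ⟨f, hf⟩ := rho_surjective P A' (rel P s)
  have h1 : psi (p := p) D₀ Φ f ∈ RingHom.ker D₀.π := by
    rw [RingHom.mem_ker, π_psi P D₀ Φ hπΦ, hf, algebraMap_rel]
  have h2 : RingHom.ker D₀.π = (mPol ι A').map (psi (p := p) D₀ Φ) := by
    have h3 : (psi (p := p) D₀ Φ).comp MvPolynomial.C = (algebraMap A D₀.R).comp p.toAlgHom.toRingHom :=
      RingHom.ext fun c => (congrArg Φ (MvPolynomial.map_C _ c)).trans (Φ.commutes _)
    rw [Ideal.map_map, h3, ← Ideal.map_map, D₀.ker_π]
    refine congrArg _ (Ideal.ext fun c => ?_)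
    rw [Ideal.mem_map_iff_of_surjective p.toAlgHom.toRingHom hp.1]
    constructor
    · intro hc
      obtain ⟨a, rfl⟩ := hp.1 c
      exact ⟨a, (Art.res_app p a).symm.trans hc, rfl⟩
    · rintro ⟨a, ha, rfl⟩
      exact (Art.res_app p a).trans ha
  rw [h2, Ideal.mem_map_iff_of_surjective (psi (p := p) D₀ Φ) (hΦ.comp (MvPolynomial.map_surjective _ hp.1))] at h1
  obtain ⟨e, he, he'⟩ := h1
  refine ⟨f - e, by rw [RingHom.mem_ker, map_sub, he', sub_self], ?_⟩
  rw [mPol_eq P] at he
  rw [map_sub, hf, show rho P A' e = 0 from he, sub_zero]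

/-- Reduction of vectors of polynomials. -/
def red (g : σ →₀ MvPolynomial ι A') : relMod P := Finsupp.mapRange (rho P A') (map_zero _) g

lemma red_add (g h : σ →₀ MvPolynomial ι A') : red P (g + h) = red P g + red P h :=
  Finsupp.mapRange_add (map_add _) g h

lemma red_zero : red P (0 : σ →₀ MvPolynomial ι A') = 0 := Finsupp.mapRange_zero

lemma red_single (s : σ) (c : MvPolynomial ι A') : red P (Finsupp.single s c) = Finsupp.single s (rho P A' c) :=
  Finsupp.mapRange_single

lemma red_smul (c : MvPolynomial ι A') (g : σ →₀ MvPolynomial ι A') : red P (c • g) = rho P A' c • red P g :=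
  Finsupp.mapRange_smul' c _ g fun _ => map_mul _ _ _

lemma red_surjective : Function.Surjective (red P (A' := A')) :=
  Finsupp.mapRange_surjective _ (map_zero _) (rho_surjective P A')

variable (F : σ → MvPolynomial ι A')

/-- Combinations of the lifted equations. -/
abbrev lc : (σ →₀ MvPolynomial ι A') →ₗ[MvPolynomial ι A'] MvPolynomial ι A' :=
  Finsupp.linearCombination (MvPolynomial ι A') F

lemma rho_lc (hF : ∀ s, rho P A' (F s) = rel P s) (g : σ →₀ MvPolynomial ι A') :
    rho P A' (lc F g) = jmap P (red P g) := by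
  induction g using Finsupp.induction_linear with
  | zero => rw [map_zero, map_zero, red_zero, map_zero]
  | add g h hg hh => rw [map_add, map_add, hg, hh, red_add, map_add]
  | single s c => rw [Finsupp.linearCombination_single, red_single, jmap_single, smul_eq_mul, map_mul, hF]

lemma lc_mem {K : Ideal (MvPolynomial ι A')} (hF : ∀ s, F s ∈ K) (g : σ →₀ MvPolynomial ι A') : lc F g ∈ K := by
  induction g using Finsupp.induction_linear with
  | zero => rw [map_zero]; exact zero_mem _
  | add g h hg hh => rw [map_add]; exact add_mem hg hh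
  | single s c => rw [Finsupp.linearCombination_single]; exact Ideal.mul_mem_left _ _ (hF s)

include ht hp hΦ hπΦ in
/-- The obstruction cocycle, killed as `T² = 0`. -/
theorem exists_correction (hT2 : Subsingleton (CotT.T2 P B₀))
    (hFK : ∀ s, F s ∈ RingHom.ker (psi (p := p) D₀ Φ)) (hFρ : ∀ s, rho P A' (F s) = rel P s) :
    ∃ ψ : σ → MvPolynomial ι A', ∀ (g : σ →₀ MvPolynomial ι A') (y : MvPolynomial ι A'),
      lc F g - MvPolynomial.C t * lc ψ g = MvPolynomial.C t * y → red P g ∈ relKer P → ev P (rho P A' y) = 0 := by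
  obtain ⟨key, hdec⟩ := kernel_splitting P ht hp D₀ Φ hΦ hπΦ
  let I : Ideal (MvPolynomial ι A') := mPol ι A' * RingHom.ker (psi (p := p) D₀ Φ)
  let Obs : MvPolynomial ι A' → B₀ → Prop := fun y b =>
    ∃ z, ev P (rho P A' z) = b ∧ y - MvPolynomial.C t * z ∈ I
  have obs_unique : ∀ {y b b'}, Obs y b → Obs y b' → b = b' := by
    rintro y b b' ⟨z, rfl, hz⟩ ⟨z', rfl, hz'⟩
    refine sub_eq_zero.1 ?_
    rw [← map_sub, ← map_sub]
    refine key _ ?_
    rw [mul_sub]
    have := sub_mem hz' hz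
    rwa [sub_sub_sub_cancel_left] at this
  have hlc0 : ∀ g, red P g = 0 → lc F g ∈ I := fun g hg => by
    rw [Finsupp.linearCombination_apply]
    refine Submodule.sum_mem _ fun s _ => Ideal.mul_mem_mul ?_ (hFK s)
    rw [mPol_eq P]
    exact DFunLike.congr_fun hg s
  have hex : ∀ q : relKer P, ∃ b, ∀ g, red P g = (q : relMod P) → Obs (lc F g) b := by
    intro q
    obtain ⟨g₀, hg₀⟩ := red_surjective P (A' := A') (q : relMod P)
    obtain ⟨z, hz⟩ := hdec _ (lc_mem F hFK g₀) (by rw [rho_lc P F hFρ, hg₀]; exact q.2)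
    refine ⟨ev P (rho P A' z), fun g hg => ⟨z, rfl, ?_⟩⟩
    have h1 := hlc0 (g - g₀) (Finsupp.ext fun s => by
      rw [red, Finsupp.mapRange_apply, Finsupp.sub_apply, map_sub, Finsupp.zero_apply, sub_eq_zero]
      exact (DFunLike.congr_fun (hg.trans hg₀.symm) s))
    have := add_mem h1 hz
    rwa [map_sub, ← add_sub_assoc, sub_add_cancel] at this
  choose o ho using hex
  let oL : relKer P →ₗ[P.toExtension.Ring] B₀ :=
    { toFun := o
      map_add' := fun q r => by
        obtain ⟨g, hg⟩ := red_surjective P (A' := A') (q : relMod P)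
        obtain ⟨h, hh⟩ := red_surjective P (A' := A') (r : relMod P)
        refine obs_unique (ho (q + r) (g + h) (by rw [red_add, hg, hh]; rfl)) ?_
        obtain ⟨z, hz, hz'⟩ := ho q g hg
        obtain ⟨w, hw, hw'⟩ := ho r h hh
        refine ⟨z + w, by rw [map_add, map_add, hz, hw], ?_⟩
        rw [map_add, mul_add, add_sub_add_comm]
        exact add_mem hz' hw'
      map_smul' := fun c q => by
        obtain ⟨c, rfl⟩ := rho_surjective P A' c
        obtain ⟨g, hg⟩ := red_surjective P (A' := A') (q : relMod P)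
        refine obs_unique (ho _ (c • g) (by rw [red_smul, hg]; rfl)) ?_
        obtain ⟨z, hz, hz'⟩ := ho q g hg
        refine ⟨c * z, by rw [map_mul, map_mul, hz, RingHom.id_apply, Algebra.smul_def], ?_⟩
        rw [map_smul, smul_eq_mul, mul_left_comm, ← mul_sub]
        exact Ideal.mul_mem_left _ _ hz' }
  have htriv : ∀ y ∈ trivRel P, ∀ hy : y ∈ relKer P, oL ⟨y, hy⟩ = 0 := by
    intro y h
    induction h using Submodule.span_induction with
    | mem y hy =>
      obtain ⟨a, b, rfl⟩ := hy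
      intro hq
      obtain ⟨g, rfl⟩ := red_surjective P (A' := A') a
      obtain ⟨h, rfl⟩ := red_surjective P (A' := A') b
      refine obs_unique (ho _ (lc F g • h - lc F h • g) ?_) ⟨0, by rw [map_zero, map_zero], ?_⟩
      · refine Finsupp.ext fun s => ?_
        simp only [red, Finsupp.mapRange_apply, Finsupp.sub_apply, Finsupp.smul_apply, smul_eq_mul, map_sub,
          map_mul, rho_lc P F hFρ]
      · rw [map_sub, map_smul, map_smul, smul_eq_mul, smul_eq_mul, mul_comm, sub_self, mul_zero, sub_zero]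
        exact zero_mem _
    | zero => exact fun _ => map_zero oL
    | add y z hy hz iy iz =>
      intro hq
      have h1 : (⟨y + z, hq⟩ : relKer P) =
          (⟨y, trivRel_le_relKer P hy⟩ : relKer P) + ⟨z, trivRel_le_relKer P hz⟩ := Subtype.ext rfl
      rw [h1, LinearMap.map_add, iy (trivRel_le_relKer P hy), iz (trivRel_le_relKer P hz), add_zero]
    | smul c y hy iy =>
      intro hq
      have h1 : (⟨c • y, hq⟩ : relKer P) = c • (⟨y, trivRel_le_relKer P hy⟩ : relKer P) := Subtype.ext rfl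
      rw [h1, LinearMap.map_smul]
      exact (congrArg (c • ·) (iy (trivRel_le_relKer P hy))).trans (smul_zero c)
  let oB : L2 P →ₗ[B₀] B₀ := Submodule.liftQ _ (LinearMap.liftBaseChange B₀ oL) (by
    rw [LinearMap.range_le_ker_iff]
    refine TensorProduct.AlgebraTensorModule.ext fun b q => ?_
    show LinearMap.liftBaseChange B₀ oL (b ⊗ₜ ((q : relKer P))) = 0
    rw [LinearMap.liftBaseChange_tmul]
    exact (congrArg (b • ·) (htriv _ q.2 (q : relKer P).2)).trans (smul_zero b))
  obtain ⟨φ, hφ⟩ : oB ∈ LinearMap.range (d2Star P B₀) :=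
    (Submodule.Quotient.mk_eq_zero _).1 (Subsingleton.elim (toT2 P B₀ oB) 0)
  have hφq : ∀ q : relKer P, φ ((1 : B₀) ⊗ₜ (q : relMod P)) = o q := fun q => by
    rw [← d2_mk_tmul]
    refine (LinearMap.congr_fun hφ (Submodule.Quotient.mk ((1 : B₀) ⊗ₜ q))).trans ?_
    show LinearMap.liftBaseChange B₀ oL ((1 : B₀) ⊗ₜ q) = o q
    rw [LinearMap.liftBaseChange_tmul, one_smul]
    rfl
  choose ψ hψ using fun s : σ => ((P.toExtension.algebraMap_surjective).comp (rho_surjective P A'))
    (φ ((1 : B₀) ⊗ₜ Finsupp.single s (1 : P.toExtension.Ring)))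
  have hlψ : ∀ g, ev P (rho P A' (lc ψ g)) = φ ((1 : B₀) ⊗ₜ red P g) := fun g => by
    induction g using Finsupp.induction_linear with
    | zero => rw [red_zero, map_zero, map_zero, map_zero, TensorProduct.tmul_zero, map_zero]
    | add g h hg hh => rw [map_add, map_add, map_add, hg, hh, red_add, TensorProduct.tmul_add, map_add]
    | single s c =>
      rw [Finsupp.linearCombination_single, red_single,
        show Finsupp.single s (rho P A' c) = rho P A' c • Finsupp.single s (1 : P.toExtension.Ring) by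
          rw [Finsupp.smul_single, smul_eq_mul, mul_one],
        TensorProduct.tmul_smul, ← algebraMap_smul B₀ (rho P A' c), LinearMap.map_smul φ, smul_eq_mul, smul_eq_mul,
        map_mul, map_mul]
      exact congrArg _ (hψ s)
  refine ⟨ψ, fun g y hg hq => ?_⟩
  have h2 : Obs (lc F g) (ev P (rho P A' (y + lc ψ g))) := ⟨y + lc ψ g, rfl, by
    rw [mul_add, ← hg, sub_add_cancel, sub_self]
    exact zero_mem _⟩
  have h3 := obs_unique (ho ⟨red P g, hq⟩ g rfl) h2
  rw [← hφq, map_add, map_add, hlψ, right_eq_add] at h3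
  exact h3

include ht hp hΦ hπΦ in
/-- A lift from good equations. -/
theorem exists_lift_of_ideal (L : Ideal (MvPolynomial ι A')) (hLK : L ≤ RingHom.ker (psi (p := p) D₀ Φ))
    (hcap : ∀ y, MvPolynomial.C t * y ∈ L → ev P (rho P A' y) = 0)
    (hlift : ∀ y, ev P (rho P A' y) = 0 → ∃ l ∈ L, rho P A' (y - l) = 0)
    (hK : RingHom.ker (psi (p := p) D₀ Φ) ≤ L ⊔ RingHom.ker (mapP ι p)) :
    ∃ D' : Data B₀ A', Nonempty (D'.HomOver D₀ p) := by
  haveI : Module.Free A D₀.R := FSAdic.FreeNil.free_of_flat (isNilpotent_maximalIdeal A)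
  let Ψ := psi (p := p) D₀ Φ
  have hΨ : Function.Surjective Ψ := hΦ.comp (MvPolynomial.map_surjective _ hp.1)
  let b₀ := Module.Free.chooseBasis A D₀.R
  choose e he using fun i => hΨ (b₀ i)
  let mkL : MvPolynomial ι A' →ₐ[A'] MvPolynomial ι A' ⧸ L := Ideal.Quotient.mkₐ A' L
  let q : MvPolynomial ι A' ⧸ L →+* D₀.R := Ideal.Quotient.lift L Ψ hLK
  have hqC : ∀ c : A', Ψ (MvPolynomial.C c) = algebraMap A D₀.R (p c) := fun c =>
    (congrArg Φ (MvPolynomial.map_C _ c)).trans (Φ.commutes _)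
  have hΨsmul : ∀ (c : A') (y), Ψ (c • y) = p c • Ψ y := fun c y => by
    rw [MvPolynomial.smul_eq_C_mul, map_mul, hqC, Algebra.smul_def]
  have hindep : LinearIndependent A' fun i => mkL (e i) := by
    rw [linearIndependent_iff']
    intro S c hc
    have h1 : ∑ i ∈ S, p (c i) • b₀ i = 0 := by
      have h0 : mkL (∑ i ∈ S, c i • e i) = 0 := by rw [map_sum, ← hc]; simp only [map_smul]
      have := congrArg q h0
      rw [map_zero] at this
      rw [← this]
      show _ = Ψ _
      rw [map_sum]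
      exact Finset.sum_congr rfl fun i _ => by rw [hΨsmul, show Ψ (e i) = b₀ i from he i]
    have h2 := linearIndependent_iff'.1 b₀.linearIndependent S _ h1
    choose a ha using fun i (hi : i ∈ S) => Ideal.mem_span_singleton'.1 (ht.le (show c i ∈ RingHom.ker p.toAlgHom from h2 i hi))
    classical
    let a' : _ → A' := fun i => if hi : i ∈ S then a i hi else 0
    have ha' : ∀ i ∈ S, a' i * t = c i := fun i hi => by rw [show a' i = a i hi from dif_pos hi, ha i hi]
    have h3 : MvPolynomial.C t * (∑ i ∈ S, a' i • e i) ∈ L := by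
      rw [← Ideal.Quotient.eq_zero_iff_mem]
      show mkL _ = 0
      rw [← MvPolynomial.smul_eq_C_mul, map_smul, map_sum, Finset.smul_sum, ← hc]
      exact Finset.sum_congr rfl fun i hi => by rw [map_smul, smul_smul, mul_comm, ha' i hi]
    have h4 : ∑ i ∈ S, p (a' i) • b₀ i ∈ RingHom.ker D₀.π := by
      rw [RingHom.mem_ker, ← hcap _ h3, ← π_psi P D₀ Φ hπΦ]
      refine congrArg _ ?_
      rw [map_sum]
      exact Finset.sum_congr rfl fun i _ => by rw [hΨsmul, show Ψ (e i) = b₀ i from he i]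
    rw [D₀.ker_π, ker_res, ← Submodule.restrictScalars_mem A, ← Ideal.smul_top_eq_map] at h4
    intro i hi
    have h5 : p (a' i) ∈ IsLocalRing.maximalIdeal A := by
      have h7 := Submodule.mem_map_of_mem (f := b₀.coord i) h4
      rw [Submodule.map_smul''] at h7
      have h6 : b₀.coord i (∑ j ∈ S, p (a' j) • b₀ j) = p (a' i) := by
        simp [map_sum, Finsupp.single_apply, hi]
      rw [h6] at h7
      exact Submodule.smul_le.2 (fun r hr x _ => Ideal.mul_mem_right x _ hr) h7
    rw [← ha' i hi, mul_comm]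
    exact t_mul_eq_zero ht hp ((Art.res_app p (a' i)).symm.trans ((A.mem_maximalIdeal_iff _).1 h5))
  have hspan : Submodule.span A' (Set.range fun i => mkL (e i)) = ⊤ := by
    refine FSAdic.FreeNil.eq_top_of_sup_smul_eq_top (isNilpotent_maximalIdeal A') _ (eq_top_iff.2 fun r _ => ?_)
    obtain ⟨y, rfl⟩ := Ideal.Quotient.mk_surjective r
    obtain ⟨c, hc⟩ := Finsupp.mem_span_range_iff_exists_finsupp.1 (b₀.mem_span (Ψ y))
    choose c' hc' using fun i => hp.1 (c i)
    let y₀ : MvPolynomial ι A' := c.sum fun i _ => c' i • e i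
    have h2 : y - y₀ ∈ L ⊔ RingHom.ker (mapP ι p) := by
      refine hK ?_
      show Ψ (y - y₀) = 0
      rw [map_sub, sub_eq_zero, ← hc, map_finsuppSum]
      exact Finsupp.sum_congr fun i _ => by rw [hΨsmul, show Ψ (e i) = b₀ i from he i, hc']
    obtain ⟨l, hl, w, hw, hlw⟩ := Submodule.mem_sup.1 h2
    obtain ⟨z, hz⟩ := Ideal.mem_span_singleton'.1 (ker_mapP ht ▸ hw)
    refine Submodule.mem_sup.2 ⟨mkL y₀, ?_, mkL w, ?_, ?_⟩
    · rw [map_finsuppSum]
      exact Submodule.sum_mem _ fun i _ => by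
        show mkL (c' i • e i) ∈ _
        rw [map_smul]
        exact Submodule.smul_mem _ _ (Submodule.subset_span ⟨i, rfl⟩)
    · rw [← hz, mul_comm, ← MvPolynomial.smul_eq_C_mul, map_smul]
      exact Submodule.smul_mem_smul ((A'.mem_maximalIdeal_iff t).2 (res_t ht)) Submodule.mem_top
    · rw [← map_add]
      refine Ideal.Quotient.eq.2 ?_
      rw [show y₀ + w - y = -l by rw [sub_eq_iff_eq_add, ← sub_eq_zero]; rw [← sub_eq_zero] at hlw; rw [← hlw]; abel]
      exact neg_mem hl
  haveI : Module.Free A' (MvPolynomial ι A' ⧸ L) := Module.Free.of_basis (Module.Basis.mk hindep hspan.ge)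
  let D' : Data B₀ A' :=
    { R := MvPolynomial ι A' ⧸ L
      flat := inferInstance
      π := D₀.π.comp q
      surj := D₀.surj.comp (Ideal.Quotient.lift_surjective_of_surjective L hLK hΨ)
      comm := fun c => by
        show D₀.π (Ψ (MvPolynomial.C c)) = _
        rw [hqC, D₀.comm, show A.res (p c) = A'.res c from Art.res_app p c]
      ker_π := by
        refine le_antisymm (fun r hr => ?_) (Ideal.map_le_iff_le_comap.2 fun c hc => ?_)
        · obtain ⟨y, rfl⟩ := Ideal.Quotient.mk_surjective r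
          obtain ⟨l, hl, hl'⟩ := hlift y (by rw [← π_psi P D₀ Φ hπΦ]; exact hr)
          have h1 : y - l ∈ mPol ι A' := by rw [mPol_eq P]; exact hl'
          have h2 := Ideal.mem_map_of_mem (Ideal.Quotient.mk L) h1
          rw [Ideal.map_map, map_sub, Ideal.Quotient.eq_zero_iff_mem.2 hl, sub_zero] at h2
          exact h2
        · show D₀.π (Ψ (MvPolynomial.C c)) = 0
          rw [hqC, D₀.comm, show A.res (p c) = A'.res c from Art.res_app p c, show A'.res c = 0 from hc, map_zero] }
  exact ⟨D', ⟨{ q := q, comm := hqC, compat := fun r => rfl }⟩⟩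

end

/-- A deformation lifts along small extensions when `T²` vanishes. -/
theorem exists_lift_of_subsingleton_T2 {p : A' ⟶ A} (hp : Art.IsSmallExt p) (hT2 : Subsingleton (CotT.T2 P B₀))
    (D₀ : Data B₀ A) : ∃ D' : Data B₀ A', Nonempty (D'.HomOver D₀ p) := by
  obtain ⟨t, ht⟩ := hp.2.2.1.principal
  replace ht : RingHom.ker p.toAlgHom = Ideal.span {t} := ht
  obtain ⟨Φ, hΦ, hπΦ⟩ := exists_presentation P D₀
  obtain ⟨key, hdec⟩ := kernel_splitting P ht hp D₀ Φ hΦ hπΦ
  choose F hFK hFρ using exists_equation P hp D₀ Φ hΦ hπΦ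
  obtain ⟨ψ, hψ⟩ := exists_correction P ht hp D₀ Φ hΦ hπΦ F hT2 hFK hFρ
  let ℓ : (σ →₀ MvPolynomial ι A') →ₗ[MvPolynomial ι A'] MvPolynomial ι A' :=
    lc F - (MvPolynomial.C t : MvPolynomial ι A') • lc ψ
  have hℓ : ∀ g, ℓ g = lc F g - MvPolynomial.C t * lc ψ g := fun g => rfl
  have hkerpK : RingHom.ker (mapP ι p) ≤ RingHom.ker (psi (p := p) D₀ Φ) := fun y hy =>
    (congrArg Φ (show mapP ι p y = 0 from hy)).trans (map_zero Φ)
  have hCtp : MvPolynomial.C t ∈ RingHom.ker (mapP ι p) := (ker_mapP ht).ge (Ideal.mem_span_singleton_self _)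
  have hℓK : ∀ g, ℓ g ∈ RingHom.ker (psi (p := p) D₀ Φ) := fun g => by
    rw [hℓ]
    exact sub_mem (lc_mem F hFK g) (Ideal.mul_mem_right _ _ (hkerpK hCtp))
  have hρt : rho P A' (MvPolynomial.C t) = 0 := by rw [rho_C, res_t ht, map_zero]
  have hℓρ : ∀ g, rho P A' (ℓ g) = jmap P (red P g) := fun g => by
    rw [hℓ, map_sub, map_mul, hρt, zero_mul, sub_zero, rho_lc P F hFρ]
  have hlift : ∀ y, ev P (rho P A' y) = 0 → ∃ l ∈ LinearMap.range ℓ, rho P A' (y - l) = 0 := fun y hy => by
    have h1 : rho P A' y ∈ LinearMap.range (jmap P) := by rw [range_jmap]; exact hy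
    obtain ⟨f, hf⟩ := h1
    obtain ⟨g, rfl⟩ := red_surjective P (A' := A') f
    exact ⟨ℓ g, ⟨g, rfl⟩, by rw [map_sub, hℓρ, hf, sub_self]⟩
  refine exists_lift_of_ideal P ht hp D₀ Φ hΦ hπΦ (LinearMap.range ℓ) ?_ ?_ hlift ?_
  · rintro _ ⟨g, rfl⟩; exact hℓK g
  · rintro y ⟨g, hg⟩
    refine hψ g y hg ?_
    rw [relKer, LinearMap.mem_ker, ← hℓρ, hg, map_mul, hρt, zero_mul]
  · let N : Ideal (MvPolynomial ι A') := LinearMap.range ℓ ⊔ RingHom.ker (mapP ι p)
    let K := RingHom.ker (psi (p := p) D₀ Φ)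
    have h1 : K ≤ N ⊔ mPol ι A' * K := fun y hy => by
      obtain ⟨_, ⟨g, rfl⟩, hg⟩ := hlift y (by
        rw [← π_psi P D₀ Φ hπΦ, show psi (p := p) D₀ Φ y = 0 from hy, map_zero])
      obtain ⟨z, hz⟩ := hdec _ (sub_mem hy (hℓK g)) hg
      refine Submodule.mem_sup.2 ⟨ℓ g + MvPolynomial.C t * z, add_mem (Ideal.mem_sup_left ⟨g, rfl⟩)
        (Ideal.mem_sup_right (Ideal.mul_mem_right _ _ hCtp)), _, hz, ?_⟩
      abel
    have hn : ∀ n, K ≤ N ⊔ mPol ι A' ^ n * K := fun n => by
      induction n with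
      | zero => rw [pow_zero, one_mul]; exact le_sup_right
      | succ n ih =>
        refine h1.trans (sup_le le_sup_left ((Ideal.mul_mono_right ih).trans ?_))
        rw [Ideal.mul_sup, ← mul_assoc, ← pow_succ']
        exact sup_le_sup Ideal.mul_le_right le_rfl
    obtain ⟨n, hn'⟩ := exists_maximalIdeal_pow_eq_bot A'
    refine (hn n).trans (sup_le le_rfl ?_)
    rw [show mPol ι A' ^ n = ((RingHom.ker A'.res.toRingHom) ^ n).map MvPolynomial.C from (Ideal.map_pow _ _ _).symm,
      ker_res, hn', Ideal.map_bot, Ideal.bot_mul]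
    exact bot_le

end Groth.Agent.Lib.ArtinFun.AffDef
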