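import Groth.Agent.Lib.ArtinFun.AffDef
import Groth.Agent.Lib.FSAdic.FreeNil
import Groth.Prelude.Def_Exal

/-!
# Lifts of deformations of algebras are a torsor under extensions
-/

noncomputable section

universe u

open CategoryTheory ArtFun Exal
open scoped TensorProduct

attribute [local instance] Exal.opModule Exal.isCentralScalar_opModule

namespace Groth.Agent.Lib.ArtinFun.AffDef

variable {k : Type u} [Field k] {B₀ : Type u} [CommRing B₀] [Algebra k B₀] {C' C : Art k k}

/-- The kernel of `p`. -/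
abbrev Ker (p : C' ⟶ C) : Ideal C' := RingHom.ker p.toAlgHom

variable {p : C' ⟶ C} (hp : Art.IsSemismallExt p)

include hp in
lemma smul_eq_res_smul (c : C') (j : Ker p) : c • j = C'.res c • j := by
  refine Subtype.ext ?_
  show c * (j : C') = C'.res c • (j : C')
  rw [Algebra.smul_def, ← sub_eq_zero, ← sub_mul]
  refine (Submodule.mem_bot C').1 (hp.2 ▸ Ideal.mul_mem_mul ?_ j.2)
  rw [Art.mem_maximalIdeal_iff, map_sub, AlgHom.commutes, Algebra.algebraMap_self, RingHom.id_apply, sub_self]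

lemma res_ker (j : Ker p) : C'.res (j : C') = 0 :=
  (C'.mem_maximalIdeal_iff _).1 (ker_le_maximalIdeal p j.2)

lemma Data.π_smul (D : Data B₀ C') (c : C') (r : D.R) : D.π (c • r) = C'.res c • D.π r := by
  rw [Algebra.smul_def, Algebra.smul_def, map_mul, D.comm]

include hp in
lemma tmul_eq_of_π_eq (D : Data B₀ C') {r r' : D.R} (h : D.π r = D.π r') (j : Ker p) :
    r ⊗ₜ[C'] j = r' ⊗ₜ j := by
  have h1 : r - r' ∈ RingHom.ker D.π := by rw [RingHom.mem_ker, map_sub, h, sub_self]
  rw [← sub_eq_zero, ← TensorProduct.sub_tmul]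
  generalize r - r' = y at h1
  rw [D.ker_π, Ideal.map, Ideal.span] at h1
  suffices H : ∀ s : D.R, (s * y) ⊗ₜ[C'] j = 0 by simpa using H 1
  intro s
  induction h1 using Submodule.span_induction generalizing s with
  | mem y hy =>
    obtain ⟨c, hc, rfl⟩ := hy
    rw [mul_comm, ← Algebra.smul_def, TensorProduct.smul_tmul, smul_eq_res_smul hp,
      show C'.res c = 0 from hc, zero_smul, TensorProduct.tmul_zero]
  | zero => rw [mul_zero, TensorProduct.zero_tmul]
  | add y z _ _ hy hz => rw [mul_add, TensorProduct.add_tmul, hy, hz, add_zero]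
  | smul a y _ hy => rw [smul_eq_mul, ← mul_assoc, hy]

/-- A set-theoretic section of the reduction. -/
def Data.sec (D : Data B₀ C') : B₀ → D.R := Function.surjInv D.surj

lemma Data.π_sec (D : Data B₀ C') (b : B₀) : D.π (D.sec b) = b := Function.surjInv_eq D.surj b

/-- `B₀ ⊗ J → R ⊗ J`. -/
def muAux (D : Data B₀ C') : B₀ ⊗[k] Ker p →+ D.R ⊗[C'] Ker p :=
  TensorProduct.liftAddHom
    (AddMonoidHom.mk' (fun b => AddMonoidHom.mk' (fun j => D.sec b ⊗ₜ j) fun _ _ => TensorProduct.tmul_add _ _ _)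
      fun b b' => AddMonoidHom.ext fun j => by
        show D.sec (b + b') ⊗ₜ[C'] j = D.sec b ⊗ₜ j + D.sec b' ⊗ₜ j
        rw [← TensorProduct.add_tmul]
        exact tmul_eq_of_π_eq hp D (by rw [map_add, D.π_sec, D.π_sec, D.π_sec]) j)
    fun c b j => by
      show D.sec (c • b) ⊗ₜ[C'] j = D.sec b ⊗ₜ (c • j)
      have h1 : c • j = algebraMap k C' c • j := by
        rw [smul_eq_res_smul hp, AlgHom.commutes, Algebra.algebraMap_self, RingHom.id_apply]
      rw [h1, ← TensorProduct.smul_tmul]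
      exact tmul_eq_of_π_eq hp D (by
        rw [D.π_smul, D.π_sec, D.π_sec, AlgHom.commutes, Algebra.algebraMap_self, RingHom.id_apply]) j

/-- `B₀ ⊗ J → R`, with image `J R`. -/
def mu (D : Data B₀ C') : B₀ ⊗[k] Ker p →+ D.R :=
  ((TensorProduct.rid C' D.R).toLinearMap ∘ₗ (Submodule.subtype (Ker p)).lTensor D.R).toAddMonoidHom.comp (muAux hp D)

lemma mu_tmul (D : Data B₀ C') (r : D.R) (j : Ker p) :
    mu hp D (D.π r ⊗ₜ j) = algebraMap C' D.R j * r := by
  show TensorProduct.rid C' D.R ((Submodule.subtype (Ker p)).lTensor D.R (D.sec (D.π r) ⊗ₜ j)) = _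
  rw [tmul_eq_of_π_eq hp D (D.π_sec _), LinearMap.lTensor_tmul, TensorProduct.rid_tmul, Algebra.smul_def]
  rfl

lemma mu_smul (D : Data B₀ C') (r : D.R) (z : B₀ ⊗[k] Ker p) : r * mu hp D z = mu hp D (D.π r • z) := by
  induction z using TensorProduct.induction_on with
  | zero => rw [map_zero, mul_zero, smul_zero, map_zero]
  | add y z hy hz => rw [map_add, mul_add, hy, hz, smul_add, map_add]
  | tmul b j =>
    obtain ⟨s, rfl⟩ := D.surj b
    rw [mu_tmul, TensorProduct.smul_tmul', smul_eq_mul, ← map_mul, mu_tmul]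
    ring

lemma algebraMap_mul_mu (D : Data B₀ C') {c : C'} (hc : C'.res c = 0) (z : B₀ ⊗[k] Ker p) :
    algebraMap C' D.R c * mu hp D z = 0 := by
  rw [mu_smul, D.comm, hc, map_zero, zero_smul, map_zero]

lemma π_mu (D : Data B₀ C') (z : B₀ ⊗[k] Ker p) : D.π (mu hp D z) = 0 := by
  induction z using TensorProduct.induction_on with
  | zero => rw [map_zero, map_zero]
  | add y z hy hz => rw [map_add, map_add, hy, hz, add_zero]
  | tmul b j =>
    obtain ⟨s, rfl⟩ := D.surj b
    rw [mu_tmul, map_mul, D.comm, res_ker, map_zero, zero_mul]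

lemma mu_injective (D : Data B₀ C') : Function.Injective (mu hp D) := by
  let G : D.R ⊗[C'] Ker p →+ B₀ ⊗[k] Ker p := TensorProduct.liftAddHom
    (AddMonoidHom.mk' (fun r => AddMonoidHom.mk' (fun j => D.π r ⊗ₜ j) fun _ _ => TensorProduct.tmul_add _ _ _)
      fun r r' => AddMonoidHom.ext fun j => by
        show D.π (r + r') ⊗ₜ[k] j = D.π r ⊗ₜ j + D.π r' ⊗ₜ j
        rw [map_add, TensorProduct.add_tmul])
    fun c r j => by
      show D.π (c • r) ⊗ₜ[k] j = D.π r ⊗ₜ (c • j)
      rw [D.π_smul, TensorProduct.smul_tmul, smul_eq_res_smul hp]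
  have hG : ∀ z, G (muAux hp D z) = z := by
    intro z
    induction z using TensorProduct.induction_on with
    | zero => rw [map_zero, map_zero]
    | add y z hy hz => rw [map_add, map_add, hy, hz]
    | tmul b j =>
      show D.π (D.sec b) ⊗ₜ[k] j = b ⊗ₜ j
      rw [D.π_sec]
  exact ((TensorProduct.rid C' D.R).injective.comp
    (Module.Flat.lTensor_preserves_injective_linearMap _ (Submodule.injective_subtype _))).comp
    (Function.LeftInverse.injective hG)

lemma map_mu {D D' : Data B₀ C'} (φ : D.Hom D') (z : B₀ ⊗[k] Ker p) :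
    φ.toAlgHom (mu hp D z) = mu hp D' z := by
  induction z using TensorProduct.induction_on with
  | zero => rw [map_zero, map_zero, map_zero]
  | add y z hy hz => rw [map_add, map_add, map_add, hy, hz]
  | tmul b j =>
    obtain ⟨r, rfl⟩ := D.surj b
    rw [mu_tmul, map_mul, AlgHom.commutes, ← mu_tmul hp D' (φ.toAlgHom r), φ.compat]

variable (p) in
/-- A lift of a deformation of an algebra. -/
structure Lift (D₀ : Data B₀ C) where
  /-- the deformation upstairs -/
  D : Data B₀ C'
  /-- its reduction -/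
  q : D.HomOver D₀ p

variable {D₀ : Data B₀ C}

/-- Equivalence of lifts. -/
def LiftRel (a b : Lift p D₀) : Prop := ∃ φ : a.D.Hom b.D, ∀ r, b.q.q (φ.toAlgHom r) = a.q.q r

lemma Lift.π_eq (a b : Lift p D₀) {x : a.D.R} {y : b.D.R} (h : a.q.q x = b.q.q y) : a.D.π x = b.D.π y := by
  rw [← a.q.compat, ← b.q.compat, h]

include hp in
lemma Lift.exists_eq (a : Lift p D₀) (r : D₀.R) : ∃ x, a.q.q x = r := a.q.surjective hp.1 r

lemma Lift.q_mu (a : Lift p D₀) (z : B₀ ⊗[k] Ker p) : a.q.q (mu hp a.D z) = 0 := by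
  induction z using TensorProduct.induction_on with
  | zero => rw [map_zero, map_zero]
  | add y z hy hz => rw [map_add, map_add, hy, hz, add_zero]
  | tmul b j =>
    obtain ⟨s, rfl⟩ := a.D.surj b
    rw [mu_tmul, map_mul, a.q.comm, show p (j : C') = 0 from j.2, map_zero, zero_mul]

lemma Lift.exists_mu_eq (a : Lift p D₀) {x : a.D.R} (hx : a.q.q x = 0) : ∃ z, mu hp a.D z = x := by
  have h1 : x ∈ RingHom.ker a.q.q := hx
  rw [a.q.ker_eq hp.1, Ideal.map, Ideal.span] at h1
  clear hx
  induction h1 using Submodule.span_induction with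
  | mem y hy =>
    obtain ⟨c, hc, rfl⟩ := hy
    exact ⟨a.D.π 1 ⊗ₜ ⟨c, hc⟩, by rw [mu_tmul, mul_one]⟩
  | zero => exact ⟨0, map_zero _⟩
  | add y z _ _ hy hz =>
    obtain ⟨u, rfl⟩ := hy
    obtain ⟨v, rfl⟩ := hz
    exact ⟨u + v, map_add _ _ _⟩
  | smul r y _ hy =>
    obtain ⟨u, rfl⟩ := hy
    exact ⟨a.D.π r • u, (mu_smul hp a.D r u).symm⟩

/-- The fibre product of two lifts. -/
def T (a₀ a : Lift p D₀) : Subring (a₀.D.R × a.D.R) :=
  RingHom.eqLocus (a₀.q.q.comp (RingHom.fst _ _)) (a.q.q.comp (RingHom.snd _ _))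

variable {a₀ a b : Lift p D₀}

lemma mem_T {t : a₀.D.R × a.D.R} : t ∈ T a₀ a ↔ a₀.q.q t.1 = a.q.q t.2 := Iff.rfl

variable (a₀ a) in
/-- The diagonal map from the base. -/
def diag : (C' : Type u) →+* T a₀ a :=
  ((algebraMap C' a₀.D.R).prod (algebraMap C' a.D.R)).codRestrict _ fun c => by
    show a₀.q.q _ = a.q.q _
    exact (a₀.q.comm c).trans (a.q.comm c).symm

variable (a₀ a) in
/-- The second kernel inclusion. -/
def inr : B₀ ⊗[k] Ker p →+ T a₀ a :=
  AddMonoidHom.mk' (fun z => ⟨(0, mu hp a.D z), by rw [mem_T, map_zero, a.q_mu hp]⟩) fun x y =>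
    Subtype.ext (Prod.ext (add_zero 0).symm (map_add _ _ _))

variable (a₀) in
/-- A lift and an extension correspond. -/
structure Rel (a : Lift p D₀) (E : Ext k B₀ (B₀ ⊗[k] Ker p)) where
  /-- the comparison map -/
  θ : T a₀ a →+* E.E
  proj_θ : ∀ t : T a₀ a, E.proj (θ t) = a₀.D.π t.1.1
  θ_diag : ∀ c, θ (diag a₀ a c) = algebraMap k E.E (C'.res c)
  θ_inr : ∀ z, θ (inr hp a₀ a z) = E.incl z

lemma eq_inr {t : T a₀ a} (ht : t.1.1 = 0) : ∃ z, t = inr hp a₀ a z := by
  obtain ⟨z, hz⟩ := a.exists_mu_eq hp (x := t.1.2) (by rw [← (mem_T.1 t.2), ht, map_zero])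
  exact ⟨z, Subtype.ext (Prod.ext ht hz.symm)⟩

include hp in
lemma exists_z {t : T a₀ a} (ht : a₀.D.π t.1.1 = 0) :
    ∃ z, ∀ (E : Ext k B₀ (B₀ ⊗[k] Ker p)) (r : Rel hp a₀ a E), r.θ t = E.incl z := by
  have key : ∀ x ∈ RingHom.ker a₀.D.π, ∀ y : a₀.D.R, ∃ s : T a₀ a, s.1.1 = y * x ∧
      ∀ (E : Ext k B₀ (B₀ ⊗[k] Ker p)) (r : Rel hp a₀ a E), r.θ s = 0 := by
    intro x hx
    rw [a₀.D.ker_π, Ideal.map, Ideal.span] at hx
    induction hx using Submodule.span_induction with
    | mem x hx =>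
      obtain ⟨c, hc, rfl⟩ := hx
      intro y
      obtain ⟨y', hy'⟩ := a.exists_eq hp (a₀.q.q y)
      refine ⟨diag a₀ a c * ⟨(y, y'), hy'.symm⟩, mul_comm _ _, fun E r => ?_⟩
      rw [map_mul, r.θ_diag, show C'.res c = 0 from hc, map_zero, zero_mul]
    | zero => exact fun y => ⟨0, (mul_zero y).symm, fun E r => map_zero _⟩
    | add x x' _ _ hx hx' =>
      intro y
      obtain ⟨s, hs, hs'⟩ := hx y
      obtain ⟨u, hu, hu'⟩ := hx' y
      exact ⟨s + u, by rw [mul_add, ← hs, ← hu]; rfl, fun E r => by rw [map_add, hs', hu', add_zero]⟩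
    | smul c x _ hx =>
      intro y
      obtain ⟨s, hs, hs'⟩ := hx (y * c)
      exact ⟨s, by rw [hs, smul_eq_mul, mul_assoc], hs'⟩
  obtain ⟨s, hs, hs'⟩ := key _ ht 1
  obtain ⟨z, hz⟩ := eq_inr hp (t := t - s) (by
    show t.1.1 - s.1.1 = 0
    rw [hs, one_mul, sub_self])
  exact ⟨z, fun E r => by rw [← sub_add_cancel t s, map_add, hs', add_zero, hz, r.θ_inr]⟩

namespace Rel

variable {hp} {E E' : Ext k B₀ (B₀ ⊗[k] Ker p)} (r : Rel hp a₀ a E)

include r in
lemma exists_pre (x : a₀.D.R) (e : E.E) (h : a₀.D.π x = E.proj e) : ∃ t : T a₀ a, t.1.1 = x ∧ r.θ t = e := by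
  obtain ⟨y, hy⟩ := a.exists_eq hp (a₀.q.q x)
  let t : T a₀ a := ⟨(x, y), hy.symm⟩
  obtain ⟨z, hz⟩ := (E.isExtension.exact (e - r.θ t)).1 (by rw [map_sub, r.proj_θ, h, sub_self])
  exact ⟨t + inr hp a₀ a z, add_zero x, by rw [map_add, r.θ_inr, hz, add_sub_cancel]⟩

include r in
lemma ext_eq {t s : T a₀ a} (h1 : t.1.1 = s.1.1) (h2 : r.θ t = r.θ s) : t = s := by
  obtain ⟨z, hz⟩ := eq_inr hp (t := t - s) (sub_eq_zero.2 h1)
  have h3 : r.θ (t - s) = E.incl z := by rw [hz, r.θ_inr]
  rw [map_sub, h2, sub_self, ← map_zero E.incl] at h3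
  rwa [← E.isExtension.incl_injective h3, map_zero, sub_eq_zero] at hz

include r in
lemma surjective : Function.Surjective r.θ := fun e => by
  obtain ⟨x, hx⟩ := a₀.D.surj (E.proj e)
  obtain ⟨t, -, ht⟩ := r.exists_pre x e hx
  exact ⟨t, ht⟩

/-- Transport along an isomorphism of extensions. -/
def ofEquiv (e : Ext.Equiv E E') : Rel hp a₀ a E' where
  θ := (e.toAlgEquiv : E.E →+* E'.E).comp r.θ
  proj_θ t := (e.proj_apply _).trans (r.proj_θ t)
  θ_diag c := by
    show e.toAlgEquiv (r.θ (diag a₀ a c)) = _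
    rw [r.θ_diag, AlgEquiv.commutes]
  θ_inr z := by
    show e.toAlgEquiv (r.θ (inr hp a₀ a z)) = _
    rw [r.θ_inr, e.apply_incl]

include r in
/-- The extension of a lift is unique. -/
theorem nonempty_equiv (r' : Rel hp a₀ a E') : Nonempty (Ext.Equiv E E') := by
  have hle : RingHom.ker r.θ ≤ RingHom.ker r'.θ := fun t ht => by
    have h0 : a₀.D.π t.1.1 = 0 := by rw [← r.proj_θ, show r.θ t = 0 from ht, map_zero]
    obtain ⟨z, hz⟩ := exists_z hp h0
    have h1 : E.incl z = E.incl 0 := by rw [← hz E r, show r.θ t = 0 from ht, map_zero]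
    rw [RingHom.mem_ker, hz E' r', E.isExtension.incl_injective h1, map_zero]
  let g : E.E →+* E'.E := r.θ.liftOfSurjective r.surjective ⟨r'.θ, hle⟩
  have hg : ∀ t, g (r.θ t) = r'.θ t := fun t => lift_surj_apply r.θ r.surjective ⟨r'.θ, hle⟩ t
  have hproj : ∀ e, E'.proj (g e) = E.proj e := fun e => by
    obtain ⟨t, rfl⟩ := r.surjective e
    rw [hg, r.proj_θ, r'.proj_θ]
  have hincl : ∀ z, g (E.incl z) = E'.incl z := fun z => by rw [← r.θ_inr, hg, r'.θ_inr]
  let gA : E.E →ₐ[k] E'.E := AlgHom.mk g fun c => by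
    show g (algebraMap k E.E c) = algebraMap k E'.E c
    obtain ⟨c', rfl⟩ := C'.res_surjective c
    rw [← r.θ_diag, hg, r'.θ_diag]
  have hbij : Function.Bijective gA := by
    refine ⟨(injective_iff_map_eq_zero gA).2 fun e he => ?_, fun e => ?_⟩
    · have h0 : E.proj e = 0 := by rw [← hproj, show g e = 0 from he, map_zero]
      obtain ⟨z, rfl⟩ := (E.isExtension.exact e).1 h0
      have h1 : E'.incl z = E'.incl 0 := by rw [← hincl, show g (E.incl z) = 0 from he, map_zero]
      rw [E'.isExtension.incl_injective h1, map_zero]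
    · obtain ⟨t, rfl⟩ := r'.surjective e
      exact ⟨r.θ t, hg t⟩
  exact ⟨⟨AlgEquiv.ofBijective gA hbij, hproj, hincl⟩⟩

lemma θ_pair_mu (z : B₀ ⊗[k] Ker p) :
    r.θ ⟨(mu hp a₀.D z, mu hp a.D z), by rw [mem_T, a₀.q_mu hp, a.q_mu hp]⟩ = 0 := by
  induction z using TensorProduct.induction_on with
  | zero =>
    rw [← map_zero r.θ]
    exact congrArg r.θ (Subtype.ext (Prod.ext (map_zero _) (map_zero _)))
  | add y z hy hz =>
    refine Eq.trans ?_ ((congrArg₂ (· + ·) hy hz).trans (add_zero 0))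
    rw [← map_add]
    exact congrArg r.θ (Subtype.ext (Prod.ext (map_add _ _ _) (map_add _ _ _)))
  | tmul c j =>
    obtain ⟨x, rfl⟩ := a₀.D.surj c
    obtain ⟨y, hy⟩ := a.exists_eq hp (a₀.q.q x)
    refine (congrArg r.θ (Subtype.ext (Prod.ext (mu_tmul hp a₀.D x j) ?_) :
      _ = diag a₀ a (j : C') * ⟨(x, y), hy.symm⟩)).trans ?_
    · show mu hp a.D (a₀.D.π x ⊗ₜ j) = algebraMap C' a.D.R j * y
      rw [← mu_tmul hp a.D y j, a.π_eq a₀ hy]
    · rw [map_mul, r.θ_diag, res_ker, map_zero, zero_mul]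

include r in
/-- Lifts with the same extension are equivalent. -/
theorem liftRel (r' : Rel hp a₀ b E) : LiftRel a b := by
  choose G hG1 hG2 using fun t : T a₀ a => r'.exists_pre t.1.1 (r.θ t) (r.proj_θ t).symm
  let H : T a₀ a →+* b.D.R :=
    { toFun := fun t => (G t).1.2
      map_one' := congrArg (fun t : T a₀ b => t.1.2) (r'.ext_eq (s := 1) (hG1 1) (by rw [hG2, map_one, map_one]))
      map_zero' := congrArg (fun t : T a₀ b => t.1.2) (r'.ext_eq (s := 0) (hG1 0) (by rw [hG2, map_zero, map_zero]))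
      map_mul' := fun t s => congrArg (fun t : T a₀ b => t.1.2) (r'.ext_eq (s := G t * G s)
        ((hG1 _).trans (congrArg₂ (· * ·) (hG1 t) (hG1 s)).symm) (by simp only [map_mul, hG2]))
      map_add' := fun t s => congrArg (fun t : T a₀ b => t.1.2) (r'.ext_eq (s := G t + G s)
        ((hG1 _).trans (congrArg₂ (· + ·) (hG1 t) (hG1 s)).symm) (by simp only [map_add, hG2])) }
  let π₂ : T a₀ a →+* a.D.R := (RingHom.snd _ _).comp (T a₀ a).subtype
  have hπ₂ : Function.Surjective π₂ := fun y => by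
    obtain ⟨x, hx⟩ := a₀.exists_eq hp (a.q.q y)
    exact ⟨⟨(x, y), hx⟩, rfl⟩
  have hle : RingHom.ker π₂ ≤ RingHom.ker H := fun t ht => by
    have ht' : t.1.2 = 0 := ht
    obtain ⟨z, hz⟩ := a₀.exists_mu_eq hp (x := t.1.1) (by rw [mem_T.1 t.2, ht', map_zero])
    let s : T a₀ b := ⟨(mu hp a₀.D z, 0), by rw [mem_T, a₀.q_mu hp, map_zero]⟩
    have h1 : r.θ t = - E.incl z := by
      rw [← r.θ_inr, eq_neg_iff_add_eq_zero, ← map_add, ← r.θ_pair_mu z]
      exact congrArg r.θ (Subtype.ext (Prod.ext ((add_zero _).trans hz.symm) ((congrArg (· + _) ht').trans (zero_add _))))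
    have h2 : r'.θ s = - E.incl z := by
      rw [← r'.θ_inr, eq_neg_iff_add_eq_zero, ← map_add, ← r'.θ_pair_mu z]
      exact congrArg r'.θ (Subtype.ext (Prod.ext (add_zero _) (zero_add _)))
    show (G t).1.2 = 0
    rw [r'.ext_eq (s := s) ((hG1 t).trans hz.symm) (by rw [hG2, h1, h2])]
  let φ : a.D.R →+* b.D.R := π₂.liftOfSurjective hπ₂ ⟨H, hle⟩
  have hφ : ∀ t, φ t.1.2 = (G t).1.2 := fun t => lift_surj_apply π₂ hπ₂ ⟨H, hle⟩ t
  have hq : ∀ y, b.q.q (φ y) = a.q.q y := fun y => by
    obtain ⟨t, rfl⟩ := hπ₂ y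
    show b.q.q (φ t.1.2) = a.q.q t.1.2
    rw [hφ, ← mem_T.1 (G t).2, hG1, mem_T.1 t.2]
  refine ⟨⟨AlgHom.mk φ fun c => ?_, fun y => b.π_eq a (hq y)⟩, hq⟩
  refine (hφ (diag a₀ a c)).trans ?_
  rw [r'.ext_eq (t := G (diag a₀ a c)) (s := diag a₀ b c) (hG1 _) (by rw [hG2, r.θ_diag, r'.θ_diag])]
  rfl

include r in
/-- Equivalent lifts have the same extension. -/
theorem nonempty_of_liftRel (h : LiftRel a b) : Nonempty (Rel hp a₀ b E) := by
  obtain ⟨φ, hφ⟩ := h
  let e : a.D.R ≃+* b.D.R := RingEquiv.ofBijective φ.toAlgHom.toRingHom (bijective_of_compat b.D a.D _ φ.compat)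
  have he : ∀ y, a.q.q (e.symm y) = b.q.q y := fun y => by
    rw [← hφ]; exact congrArg b.q.q (e.apply_symm_apply y)
  let f : T a₀ b →+* T a₀ a :=
    (((RingHom.fst _ _).prod (e.symm.toRingHom.comp (RingHom.snd _ _))).comp (T a₀ b).subtype).codRestrict _
      fun t => (mem_T.1 t.2).trans (he _).symm
  refine ⟨⟨r.θ.comp f, fun t => r.proj_θ (f t), fun c => ?_, fun z => ?_⟩⟩
  · have h1 : f (diag a₀ b c) = diag a₀ a c :=
      Subtype.ext (Prod.ext rfl (e.injective ((e.apply_symm_apply _).trans (φ.toAlgHom.commutes c).symm)))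
    rw [RingHom.comp_apply, h1, r.θ_diag]
  · have h1 : f (inr hp a₀ b z) = inr hp a₀ a z :=
      Subtype.ext (Prod.ext rfl (e.injective ((e.apply_symm_apply _).trans (map_mu hp φ z).symm)))
    rw [RingHom.comp_apply, h1, r.θ_inr]

end Rel

include hp in
variable (a₀ a) in
/-- Every lift has an extension. -/
theorem exists_rel : ∃ E : Ext k B₀ (B₀ ⊗[k] Ker p), Nonempty (Rel hp a₀ a E) := by
  haveI : Module.Free C' a₀.D.R := FSAdic.FreeNil.free_of_flat (isNilpotent_maximalIdeal C')
  letI : Algebra C' D₀.R := (a₀.q.q.comp (algebraMap C' a₀.D.R)).toAlgebra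
  let qa : a.D.R →ₗ[C'] D₀.R :=
    { toFun := a.q.q
      map_add' := map_add _
      map_smul' := fun c y => by
        rw [RingHom.id_apply, Algebra.smul_def, Algebra.smul_def, map_mul, a.q.comm, ← a₀.q.comm]
        rfl }
  let q₀ : a₀.D.R →ₗ[C'] D₀.R :=
    { toFun := a₀.q.q
      map_add' := map_add _
      map_smul' := fun c y => by
        rw [RingHom.id_apply, Algebra.smul_def, Algebra.smul_def, map_mul]
        rfl }
  obtain ⟨h, hh⟩ := Module.projective_lifting_property qa q₀ (a.q.surjective hp.1)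
  let σ : a₀.D.R → T a₀ a := fun x => ⟨(x, h x), (LinearMap.congr_fun hh x).symm⟩
  have hσ : ∀ (c : C') x, σ (c • x) = diag a₀ a c * σ x := fun c x =>
    Subtype.ext (Prod.ext (Algebra.smul_def c x) ((map_smul h c x).trans (Algebra.smul_def c (h x))))
  let I : Ideal (T a₀ a) := (IsLocalRing.maximalIdeal C').map (diag a₀ a)
  have hgraph : ∀ t ∈ I, ∀ s : T a₀ a, (s * t).1.2 = h (s * t).1.1 := by
    intro t ht
    rw [show I = Submodule.span _ (diag a₀ a '' (IsLocalRing.maximalIdeal C' : Set C')) from rfl] at ht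
    induction ht using Submodule.span_induction with
    | mem t ht =>
      obtain ⟨c, hc, rfl⟩ := ht
      intro s
      obtain ⟨z, hz⟩ := eq_inr hp (t := s - σ s.1.1) (sub_self _)
      have hs : s.1.2 = h s.1.1 + mu hp a.D z := by
        rw [← sub_eq_iff_eq_add']
        exact congrArg (fun t : T a₀ a => t.1.2) hz
      show s.1.2 * algebraMap C' a.D.R c = h (s.1.1 * algebraMap C' a₀.D.R c)
      rw [mul_comm s.1.1, ← Algebra.smul_def, map_smul, Algebra.smul_def, hs, add_mul,
        mul_comm (mu hp a.D z), algebraMap_mul_mu hp a.D ((C'.mem_maximalIdeal_iff c).1 hc), add_zero, mul_comm]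
    | zero => intro s; rw [mul_zero]; exact (map_zero h).symm
    | add x y _ _ hx hy =>
      intro s
      rw [mul_add]
      show (s * x).1.2 + (s * y).1.2 = h ((s * x).1.1 + (s * y).1.1)
      rw [map_add, hx, hy]
    | smul c x _ hx => intro s; rw [smul_eq_mul, ← mul_assoc]; exact hx _
  let j : (T a₀ a ⧸ I) →+* B₀ := Ideal.Quotient.lift I ((a₀.D.π.comp (RingHom.fst _ _)).comp (T a₀ a).subtype) (by
    intro t ht
    refine (Ideal.map_le_iff_le_comap.2 ?_ : I ≤ RingHom.ker _) ht
    intro c hc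
    show a₀.D.π (algebraMap C' a₀.D.R c) = 0
    rw [a₀.D.comm, (C'.mem_maximalIdeal_iff c).1 hc, map_zero])
  let d : (C' : Type u) →+* T a₀ a ⧸ I := (Ideal.Quotient.mk I).comp (diag a₀ a)
  have hd : ∀ c, d c = d (algebraMap k C' (C'.res c)) := fun c => by
    refine Ideal.Quotient.eq.2 ?_
    rw [← map_sub]
    refine Ideal.mem_map_of_mem _ ?_
    rw [Art.mem_maximalIdeal_iff, map_sub, AlgHom.commutes, Algebra.algebraMap_self, RingHom.id_apply, sub_self]
  letI : Algebra k (T a₀ a ⧸ I) := (d.comp (algebraMap k C')).toAlgebra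
  let E : Ext k B₀ (B₀ ⊗[k] Ker p) :=
    { E := T a₀ a ⧸ I
      proj := AlgHom.mk j fun c => by
        show a₀.D.π (algebraMap C' a₀.D.R (algebraMap k C' c)) = _
        rw [a₀.D.comm, AlgHom.commutes, Algebra.algebraMap_self, RingHom.id_apply]
      incl := (Ideal.Quotient.mk I).toAddMonoidHom.comp (inr hp a₀ a)
      isExtension :=
        { proj_surjective := fun b => by
            obtain ⟨x, rfl⟩ := a₀.D.surj b
            exact ⟨Ideal.Quotient.mk I (σ x), rfl⟩
          incl_injective := (injective_iff_map_eq_zero _).2 fun z hz => by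
            refine mu_injective hp a.D ?_
            have := hgraph _ (Ideal.Quotient.eq_zero_iff_mem.1 hz) 1
            rw [one_mul] at this
            rw [map_zero]
            exact this.trans (map_zero h)
          exact := fun x => by
            obtain ⟨t, rfl⟩ := Ideal.Quotient.mk_surjective x
            constructor
            · intro ht
              have ht' : t.1.1 ∈ RingHom.ker a₀.D.π := ht
              obtain ⟨z, hz⟩ := eq_inr hp (t := t - σ t.1.1) (sub_self _)
              refine ⟨z, Ideal.Quotient.eq.2 ?_⟩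
              rw [← hz, sub_sub_cancel_left]
              refine neg_mem ?_
              rw [a₀.D.ker_π, ker_res, ← Submodule.restrictScalars_mem C', ← Ideal.smul_top_eq_map] at ht'
              generalize t.1.1 = x at ht'
              refine Submodule.smul_induction_on (p := fun x => σ x ∈ I) ht'
                (fun c hc x _ => ?_) fun x y hx hy => ?_
              · show σ (c • x) ∈ I
                rw [hσ]; exact Ideal.mul_mem_right _ _ (Ideal.mem_map_of_mem _ hc)
              · show σ (x + y) ∈ I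
                rw [show σ (x + y) = σ x + σ y from Subtype.ext (Prod.ext rfl (map_add h x y))]
                exact add_mem hx hy
            · rintro ⟨z, hz⟩
              rw [← hz]
              exact map_zero a₀.D.π
          mul_incl := fun x z => by
            obtain ⟨t, rfl⟩ := Ideal.Quotient.mk_surjective x
            refine ((map_mul (Ideal.Quotient.mk I) t (inr hp a₀ a z)).symm).trans (congrArg _ ?_)
            refine Subtype.ext (Prod.ext (mul_zero _) ?_)
            show t.1.2 * mu hp a.D z = mu hp a.D (a₀.D.π t.1.1 • z)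
            rw [mu_smul, a.π_eq a₀ (mem_T.1 t.2).symm] } }
  exact ⟨E, ⟨⟨Ideal.Quotient.mk I, fun t => rfl, fun c => hd c, fun z => rfl⟩⟩⟩

include hp in
variable (a₀) in
/-- Every extension comes from a lift. -/
theorem exists_lift_rel (E : Ext k B₀ (B₀ ⊗[k] Ker p)) : ∃ a : Lift p D₀, Nonempty (Rel hp a₀ a E) := by
  obtain ⟨σ, hσ⟩ := E.proj.toLinearMap.exists_rightInverse_of_surjective
    (LinearMap.range_eq_top.2 E.isExtension.proj_surjective)
  replace hσ : ∀ b, E.proj (σ b) = b := LinearMap.congr_fun hσ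
  let F : Subring (a₀.D.R × E.E) :=
    RingHom.eqLocus (a₀.D.π.comp (RingHom.fst _ _)) (E.proj.toRingHom.comp (RingHom.snd _ _))
  let N : Ideal F :=
    { carrier := {t | ∃ z, t.1 = (mu hp a₀.D z, - E.incl z)}
      zero_mem' := ⟨0, by rw [map_zero, map_zero, neg_zero]; rfl⟩
      add_mem' := fun {s t} ⟨y, hy⟩ ⟨z, hz⟩ => ⟨y + z, by
        show s.1 + t.1 = _
        rw [hy, hz, map_add, map_add, neg_add]; rfl⟩
      smul_mem' := fun s t ⟨z, hz⟩ => ⟨a₀.D.π s.1.1 • z, by
        show s.1 * t.1 = _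
        rw [hz]
        refine Prod.ext (mu_smul hp a₀.D _ z) ?_
        show s.1.2 * -E.incl z = -_
        rw [mul_neg, E.isExtension.mul_incl, ← show a₀.D.π s.1.1 = E.proj s.1.2 from s.2]⟩ }
  let dF : (C' : Type u) →+* F :=
    ((algebraMap C' a₀.D.R).prod ((algebraMap k E.E).comp C'.res.toRingHom)).codRestrict _ fun c => by
      show a₀.D.π (algebraMap C' a₀.D.R c) = E.proj (algebraMap k E.E (C'.res c))
      rw [a₀.D.comm, AlgHom.commutes]
  letI : Algebra C' (F ⧸ N) := ((Ideal.Quotient.mk N).comp dF).toAlgebra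
  let ι : a₀.D.R → F := fun x => ⟨(x, σ (a₀.D.π x)), (hσ _).symm⟩
  let L : a₀.D.R →ₗ[C'] F ⧸ N :=
    { toFun := fun x => Ideal.Quotient.mk N (ι x)
      map_add' := fun x y => by
        rw [← map_add]
        exact congrArg _ (Subtype.ext (Prod.ext rfl ((congrArg σ (map_add _ x y)).trans (map_add σ _ _))))
      map_smul' := fun c x => by
        rw [RingHom.id_apply, Algebra.smul_def (A := F ⧸ N)]
        refine (congrArg (Ideal.Quotient.mk N) ?_ : _ = Ideal.Quotient.mk N (dF c * ι x)).trans (map_mul _ _ _)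
        refine Subtype.ext (Prod.ext (Algebra.smul_def c x) ?_)
        show σ (a₀.D.π (c • x)) = algebraMap k E.E (C'.res c) * σ (a₀.D.π x)
        rw [a₀.D.π_smul, map_smul, Algebra.smul_def] }
  have hL : ∀ (t : F) (w), t.1.2 = σ (a₀.D.π t.1.1) + E.incl w →
      Ideal.Quotient.mk N t = L (t.1.1 + mu hp a₀.D w) := fun t w hw => by
    refine Ideal.Quotient.eq.2 ⟨-w, Prod.ext ?_ ?_⟩
    · show t.1.1 - (t.1.1 + mu hp a₀.D w) = mu hp a₀.D (-w)
      rw [map_neg, sub_add_cancel_left]
    · show t.1.2 - σ (a₀.D.π (t.1.1 + mu hp a₀.D w)) = -E.incl (-w)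
      rw [hw, map_neg, neg_neg, map_add, π_mu, add_zero, add_sub_cancel_left]
  have hw : ∀ t : F, ∃ w, t.1.2 = σ (a₀.D.π t.1.1) + E.incl w := fun t => by
    obtain ⟨w, hw⟩ := (E.isExtension.exact (t.1.2 - σ (a₀.D.π t.1.1))).1
      (by rw [map_sub, hσ, show a₀.D.π t.1.1 = E.proj t.1.2 from t.2, sub_self])
    exact ⟨w, by rw [hw, add_sub_cancel]⟩
  have hbij : Function.Bijective L := by
    refine ⟨(injective_iff_map_eq_zero L).2 fun x hx => ?_, fun y => ?_⟩
    · obtain ⟨z, hz⟩ := Ideal.Quotient.eq_zero_iff_mem.1 hx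
      have h1 : x = mu hp a₀.D z := congrArg Prod.fst hz
      have h2 : σ (a₀.D.π x) = -E.incl z := congrArg Prod.snd hz
      rw [h1, π_mu, map_zero, zero_eq_neg, ← map_zero E.incl] at h2
      rw [h1, E.isExtension.incl_injective h2, map_zero]
    · obtain ⟨t, rfl⟩ := Ideal.Quotient.mk_surjective y
      obtain ⟨w, hw⟩ := hw t
      exact ⟨_, (hL t w hw).symm⟩
  have hN : ∀ t ∈ N, a₀.q.q t.1.1 = 0 ∧ a₀.D.π t.1.1 = 0 := fun t ⟨z, hz⟩ => by
    rw [show t.1.1 = mu hp a₀.D z from congrArg Prod.fst hz]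
    exact ⟨a₀.q_mu hp z, π_mu hp a₀.D z⟩
  let D : Data B₀ C' :=
    { R := F ⧸ N
      flat := Module.Flat.of_linearEquiv (LinearEquiv.ofBijective L hbij).symm
      π := Ideal.Quotient.lift N ((a₀.D.π.comp (RingHom.fst _ _)).comp F.subtype) fun t ht => (hN t ht).2
      surj := fun b => by
        obtain ⟨x, rfl⟩ := a₀.D.surj b
        exact ⟨L x, rfl⟩
      comm := fun c => a₀.D.comm c
      ker_π := by
        refine le_antisymm (fun y hy => ?_) (Ideal.map_le_iff_le_comap.2 fun c hc => ?_)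
        · obtain ⟨t, rfl⟩ := Ideal.Quotient.mk_surjective y
          have ht : t.1.1 ∈ RingHom.ker a₀.D.π := hy
          obtain ⟨w, hw⟩ := hw t
          rw [hL t w hw, ← Submodule.restrictScalars_mem C', ← Ideal.smul_top_eq_map]
          have h3 : t.1.1 + mu hp a₀.D w ∈ RingHom.ker a₀.D.π := by
            rw [RingHom.mem_ker, map_add, π_mu, show a₀.D.π t.1.1 = 0 from ht, add_zero]
          rw [a₀.D.ker_π, ← Submodule.restrictScalars_mem C', ← Ideal.smul_top_eq_map] at h3
          have h4 := Submodule.mem_map_of_mem (f := L) h3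
          rw [Submodule.map_smul''] at h4
          exact Submodule.smul_mono le_rfl le_top h4
        · show a₀.D.π (algebraMap C' a₀.D.R c) = 0
          rw [a₀.D.comm, show C'.res c = 0 from hc, map_zero] }
  let a : Lift p D₀ :=
    ⟨D, { q := Ideal.Quotient.lift N ((a₀.q.q.comp (RingHom.fst _ _)).comp F.subtype) fun t ht => (hN t ht).1
          comm := fun c => a₀.q.comm c
          compat := fun y => by
            obtain ⟨t, rfl⟩ := Ideal.Quotient.mk_surjective y
            exact a₀.q.compat _ }⟩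
  let Φ : F →+* T a₀ a :=
    (((RingHom.fst _ _).comp F.subtype).prod (Ideal.Quotient.mk N)).codRestrict _ fun t => rfl
  have hΦ : Function.Bijective Φ := by
    refine ⟨(injective_iff_map_eq_zero Φ).2 fun t ht => ?_, fun s => ?_⟩
    · have h1 : t.1.1 = 0 := congrArg (fun s : T a₀ a => s.1.1) ht
      obtain ⟨z, hz⟩ := Ideal.Quotient.eq_zero_iff_mem.1 (congrArg (fun s : T a₀ a => s.1.2) ht)
      have h2 : mu hp a₀.D z = 0 := (congrArg Prod.fst hz).symm.trans h1
      rw [mu_injective hp a₀.D (h2.trans (map_zero _).symm), map_zero, map_zero, neg_zero] at hz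
      exact Subtype.ext hz
    · obtain ⟨t, ht⟩ := Ideal.Quotient.mk_surjective (I := N) s.1.2
      obtain ⟨z, hz⟩ := a₀.exists_mu_eq hp (x := s.1.1 - t.1.1) (by
        rw [map_sub, mem_T.1 s.2, ← ht]
        exact sub_self _)
      let u : F := ⟨(s.1.1, t.1.2 - E.incl z), by
        show a₀.D.π s.1.1 = E.proj (t.1.2 - E.incl z)
        rw [map_sub, (E.isExtension.exact _).2 ⟨z, rfl⟩, sub_zero, ← sub_add_cancel s.1.1 t.1.1, map_add, ← hz,
          π_mu, zero_add]
        exact t.2⟩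
      refine ⟨u, Subtype.ext (Prod.ext rfl ?_)⟩
      show Ideal.Quotient.mk N u = s.1.2
      rw [← ht, Ideal.Quotient.eq]
      refine ⟨z, Prod.ext hz.symm ?_⟩
      show t.1.2 - E.incl z - t.1.2 = -E.incl z
      abel
  let e := RingEquiv.ofBijective Φ hΦ
  have hmu : ∀ z, ∀ t : F, t.1 = (0, E.incl z) → mu hp D z = Ideal.Quotient.mk N t := by
    intro z
    induction z using TensorProduct.induction_on with
    | zero =>
      intro t ht
      rw [map_zero] at ht
      rw [show t = 0 from Subtype.ext ht, map_zero, map_zero]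
    | add y z hy hz =>
      intro t ht
      let ty : F := ⟨(0, E.incl y), (map_zero a₀.D.π).trans ((E.isExtension.exact _).2 ⟨y, rfl⟩).symm⟩
      let tz : F := ⟨(0, E.incl z), (map_zero a₀.D.π).trans ((E.isExtension.exact _).2 ⟨z, rfl⟩).symm⟩
      rw [map_add, hy ty rfl, hz tz rfl, show t = ty + tz from Subtype.ext (ht.trans
        (Prod.ext (add_zero 0).symm (map_add E.incl y z))), map_add]
    | tmul c j =>
      intro t ht
      obtain ⟨x, rfl⟩ := a₀.D.surj c
      refine ((mu_tmul hp D (L x) j).trans (map_mul (Ideal.Quotient.mk N) (dF j) (ι x)).symm).trans ?_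
      refine Ideal.Quotient.eq.2 ⟨a₀.D.π x ⊗ₜ j, ?_⟩
      show (dF (j : C') * ι x).1 - t.1 = _
      rw [ht]
      refine Prod.ext ?_ ?_
      · show algebraMap C' a₀.D.R j * x - 0 = _
        rw [sub_zero, mu_tmul]
      · show algebraMap k E.E (C'.res j) * σ (a₀.D.π x) - E.incl _ = _
        rw [res_ker, map_zero, zero_mul, zero_sub]
  refine ⟨a, ⟨⟨((RingHom.snd _ _).comp F.subtype).comp e.symm.toRingHom, fun s => ?_, fun c => ?_, fun z => ?_⟩⟩⟩
  · show E.proj (e.symm s).1.2 = _
    rw [← show a₀.D.π (e.symm s).1.1 = E.proj (e.symm s).1.2 from (e.symm s).2]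
    exact congrArg (fun s : T a₀ a => a₀.D.π s.1.1) (e.apply_symm_apply s)
  · show (e.symm (diag a₀ a c)).1.2 = _
    rw [show diag a₀ a c = e (dF c) from Subtype.ext rfl, RingEquiv.symm_apply_apply]
    rfl
  · show (e.symm (inr hp a₀ a z)).1.2 = _
    let t : F := ⟨(0, E.incl z), (map_zero a₀.D.π).trans ((E.isExtension.exact _).2 ⟨z, rfl⟩).symm⟩
    rw [show inr hp a₀ a z = e t from Subtype.ext (Prod.ext rfl (hmu z t rfl)), RingEquiv.symm_apply_apply]

include hp in
/-- Lifts are a torsor under extensions. -/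
theorem nonempty_equiv_exalcom (a₀ : Lift p D₀) :
    Nonempty (Quot (LiftRel (p := p) (D₀ := D₀)) ≃ Exalcom k B₀ (B₀ ⊗[k] Ker p)) := by
  choose E hE using fun a : Lift p D₀ => exists_rel hp a₀ a
  let f : Quot (LiftRel (p := p) (D₀ := D₀)) → Exalcom k B₀ (B₀ ⊗[k] Ker p) :=
    Quot.lift (fun a => (E a).cl) fun a b hab => by
      obtain ⟨r⟩ := (hE a).some.nonempty_of_liftRel hab
      exact Quotient.sound (r.nonempty_equiv (hE b).some)
  refine ⟨Equiv.ofBijective f ⟨fun x y hxy => ?_, fun X => ?_⟩⟩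
  · induction x using Quot.ind with
    | _ a =>
      induction y using Quot.ind with
      | _ b =>
        obtain ⟨e⟩ := Quotient.exact hxy
        exact Quot.sound (((hE a).some.ofEquiv e).liftRel (hE b).some)
  · induction X using Quotient.ind with
    | _ X =>
      obtain ⟨a, ⟨r⟩⟩ := exists_lift_rel hp a₀ X
      exact ⟨Quot.mk _ a, Quotient.sound ((hE a).some.nonempty_equiv r)⟩

omit [Field k] in
lemma Ext.nonempty_equiv_trivial {A : Type u} [CommRing A] {B : Type u} [CommRing B] [Algebra A B] {M : Type u}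
    [AddCommGroup M] [Module B M] (X : Ext A B M) (h : X.IsTrivial) :
    Nonempty (Ext.Equiv (Ext.trivial A B M) X) := by
  obtain ⟨s, hs⟩ := h
  have h0 : ∀ z, X.proj (X.incl z) = 0 := fun z => (X.isExtension.exact _).2 ⟨z, rfl⟩
  let g : (Ext.trivial A B M).E →ₐ[A] X.E :=
    { toFun := fun t => s (TrivSqZeroExt.fst t) + X.incl (TrivSqZeroExt.snd t)
      map_one' := by
        show s 1 + X.incl 0 = 1
        rw [map_one, map_zero, add_zero]
      map_zero' := by
        show s 0 + X.incl 0 = 0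
        rw [map_zero, map_zero, add_zero]
      map_add' := fun t u => by
        show s (TrivSqZeroExt.fst t + TrivSqZeroExt.fst u) + X.incl (TrivSqZeroExt.snd t + TrivSqZeroExt.snd u) = _
        rw [map_add, map_add]
        abel
      map_mul' := fun t u => by
        show s (TrivSqZeroExt.fst t * TrivSqZeroExt.fst u) +
          X.incl (TrivSqZeroExt.fst t • TrivSqZeroExt.snd u + TrivSqZeroExt.fst u • TrivSqZeroExt.snd t) = _
        rw [add_mul, mul_add, mul_add, X.isExtension.mul_incl, X.isExtension.mul_incl, h0, zero_smul, map_zero,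
          mul_comm (X.incl (TrivSqZeroExt.snd t)), X.isExtension.mul_incl, hs, hs, map_mul, map_add]
        abel
      commutes' := fun c => by
        show s (algebraMap A B c) + X.incl 0 = _
        rw [map_zero, add_zero, AlgHom.commutes] }
  have hproj : ∀ t, X.proj (g t) = TrivSqZeroExt.fst t := fun t => by
    show X.proj (s _ + X.incl _) = _
    rw [map_add, hs, h0, add_zero]
  have hincl : ∀ z, g ((Ext.trivial A B M).incl z) = X.incl z := fun z => by
    show s 0 + X.incl z = _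
    rw [map_zero, zero_add]
  have hbij : Function.Bijective g := by
    refine ⟨(injective_iff_map_eq_zero g).2 fun t ht => ?_, fun x => ?_⟩
    · have h1 : TrivSqZeroExt.fst t = 0 := by rw [← hproj, ht, map_zero]
      obtain ⟨z, rfl⟩ := ((Ext.trivial A B M).isExtension.exact t).1 h1
      rw [X.isExtension.incl_injective ((hincl z).symm.trans (ht.trans (map_zero _).symm)), map_zero]
    · obtain ⟨z, hz⟩ := (X.isExtension.exact (x - s (X.proj x))).1 (by rw [map_sub, hs, sub_self])
      refine ⟨TrivSqZeroExt.inl (X.proj x) + TrivSqZeroExt.inr z, ?_⟩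
      show s (X.proj x + 0) + X.incl (0 + z) = x
      rw [add_zero, zero_add, hz, add_sub_cancel]
  exact ⟨⟨AlgEquiv.ofBijective g hbij, hproj, hincl⟩⟩

include hp in
/-- If all extensions are trivial, lifts are unique. -/
theorem liftRel_of_trivial (h : ∀ E : Ext k B₀ (B₀ ⊗[k] Ker p), E.IsTrivial) (a b : Lift p D₀) : LiftRel a b := by
  obtain ⟨E, ⟨r⟩⟩ := exists_rel hp a a
  obtain ⟨E', ⟨r'⟩⟩ := exists_rel hp a b
  obtain ⟨e⟩ := Ext.nonempty_equiv_trivial E (h E)
  obtain ⟨e'⟩ := Ext.nonempty_equiv_trivial E' (h E')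
  exact (r.ofEquiv (e.symm.trans e')).liftRel r'

end Groth.Agent.Lib.ArtinFun.AffDef
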