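import Groth.Agent.Lib.ArtinFun.AffDef
import Mathlib.RingTheory.IsTensorProduct
import Mathlib.RingTheory.Flat.Stability
import Mathlib.Algebra.Category.Ring.Constructions
import Mathlib.AlgebraicGeometry.Morphisms.Smooth
import Mathlib.RingTheory.Smooth.Basic

/-!
# Deformations with a section are trivial
-/

noncomputable section

universe u

open CategoryTheory CategoryTheory.Limits AlgebraicGeometry ArtFun
open scoped TensorProduct

namespace Groth.Agent.Lib.ArtinFun.AffTrivial

open AffDef

variable {k : Type u} [Field k] {B₀ : Type u} [CommRing B₀] [Algebra k B₀] {A : Art k k}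

/-- The trivial deformation. -/
def triv (B₀ : Type u) [CommRing B₀] [Algebra k B₀] (A : Art k k) : Data B₀ A where
  R := A ⊗[k] B₀
  flat := inferInstance
  π := (Algebra.TensorProduct.lift ((Algebra.ofId k B₀).comp A.res) (AlgHom.id k B₀)
    fun _ _ => Commute.all _ _).toRingHom
  surj := fun b => ⟨1 ⊗ₜ b, by simp⟩
  comm := fun a => by simp [Algebra.TensorProduct.algebraMap_apply, Algebra.ofId_apply]
  ker_π := by
    let p : A ⊗[k] B₀ →ₐ[k] B₀ :=
      Algebra.TensorProduct.lift ((Algebra.ofId k B₀).comp A.res) (AlgHom.id k B₀) fun _ _ => Commute.all _ _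
    let I : Ideal (A ⊗[k] B₀) := (RingHom.ker A.res.toRingHom).map (algebraMap A (A ⊗[k] B₀))
    have hdec : ∀ z, z - Algebra.TensorProduct.includeRight (p z) ∈ I := fun z => by
      induction z with
      | zero => simp
      | add x y hx hy =>
        rw [map_add, map_add, add_sub_add_comm]
        exact add_mem hx hy
      | tmul a b =>
        have h1 : a ⊗ₜ[k] b - Algebra.TensorProduct.includeRight (p (a ⊗ₜ[k] b)) =
            algebraMap A (A ⊗[k] B₀) (a - algebraMap k A (A.res a)) * (1 ⊗ₜ b) := by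
          simp only [p, Algebra.TensorProduct.lift_tmul, AlgHom.comp_apply, Algebra.ofId_apply, AlgHom.id_apply,
            Algebra.TensorProduct.includeRight_apply, Algebra.TensorProduct.algebraMap_apply,
            Algebra.algebraMap_self, RingHom.id_apply, Algebra.TensorProduct.tmul_mul_tmul, mul_one, one_mul,
            TensorProduct.sub_tmul]
          rw [← Algebra.smul_def, TensorProduct.tmul_smul, TensorProduct.smul_tmul', Algebra.algebraMap_eq_smul_one,
            sub_mul, Algebra.TensorProduct.tmul_mul_tmul, Algebra.TensorProduct.tmul_mul_tmul, mul_one, mul_one,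
            one_mul]
        rw [h1]
        refine Ideal.mul_mem_right _ _ (Ideal.mem_map_of_mem _ ?_)
        rw [RingHom.mem_ker]
        show A.res (a - algebraMap k A (A.res a)) = 0
        rw [map_sub, A.res.commutes]
        exact sub_self _
    refine le_antisymm (fun z hz => ?_) (Ideal.map_le_iff_le_comap.2 fun a ha => ?_)
    · have h1 := hdec z
      rwa [show p z = 0 from hz, map_zero, sub_zero] at h1
    · show p (algebraMap A (A ⊗[k] B₀) a) = 0
      simp only [p, Algebra.TensorProduct.algebraMap_apply, Algebra.algebraMap_self, RingHom.id_apply,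
        Algebra.TensorProduct.lift_tmul, AlgHom.comp_apply, Algebra.ofId_apply, map_one, mul_one]
      rw [show A.res a = 0 from ha, map_zero]

/-- A deformation with a section is a product. -/
theorem isPullback_of_section (D : Data B₀ A) (σ : B₀ →+* D.R)
    (hσ : ∀ c : k, σ (algebraMap k B₀ c) = algebraMap A D.R (algebraMap k A c)) (hπ : ∀ b, D.π (σ b) = b) :
    IsPullback (sp σ) (sp (algebraMap A D.R)) (xB B₀) (sp (algebraMap k A)) := by
  letI : Algebra k D.R := ((algebraMap A D.R).comp (algebraMap k A)).toAlgebra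
  haveI : IsScalarTower k A D.R := IsScalarTower.of_algebraMap_eq fun _ => rfl
  let σA : B₀ →ₐ[k] D.R := { σ with commutes' := hσ }
  let φ : (triv B₀ A).R →ₐ[A] D.R :=
    Algebra.TensorProduct.lift (Algebra.ofId A D.R) σA fun _ _ => Commute.all _ _
  have hφ : Function.Bijective φ := bijective_of_compat D (triv B₀ A) φ fun r => by
    induction r using TensorProduct.induction_on with
    | zero => exact (congrArg D.π (map_zero φ)).trans ((map_zero D.π).trans (map_zero (triv B₀ A).π).symm)
    | add x y hx hy =>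
      exact (congrArg D.π (map_add φ x y)).trans ((map_add D.π _ _).trans
        ((congrArg₂ (· + ·) hx hy).trans (map_add (triv B₀ A).π x y).symm))
    | tmul a b =>
      show D.π (algebraMap A D.R a * σ b) = algebraMap k B₀ (A.res a) * b
      rw [map_mul, hπ, D.comm]
  letI : Algebra B₀ D.R := σ.toAlgebra
  haveI : IsScalarTower k B₀ D.R := IsScalarTower.of_algebraMap_eq fun c => (hσ c).symm
  letI : Algebra B₀ (A ⊗[k] B₀) := Algebra.TensorProduct.rightAlgebra
  haveI h0 : Algebra.IsPushout k A B₀ (A ⊗[k] B₀) := inferInstance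
  let e : (A ⊗[k] B₀) ≃ₐ[A] D.R := AlgEquiv.ofBijective φ hφ
  haveI : Algebra.IsPushout k A B₀ D.R := Algebra.IsPushout.of_equiv (h := h0) e (RingHom.ext fun b => by
    show φ ((1 : A) ⊗ₜ b) = σ b
    exact (Algebra.TensorProduct.lift_tmul _ _ _ _ _).trans (by rw [map_one, one_mul]; rfl))
  exact (isPullback_SpecMap_of_isPushout _ _ _ _ (CommRingCat.isPushout_of_isPushout k A B₀ D.R)).flip

/-- An augmented local Artinian algebra as an object of `Art`. -/
abbrev artOf (A : Type u) [CommRing A] [IsLocalRing A] [IsArtinianRing A] [Algebra k A] (e : A →ₐ[k] k) : Art k k where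
  carrier := A
  res := e
  res_surjective := fun c => ⟨algebraMap k A c, e.commutes c⟩

/-- The ring of an affine scheme over a field, with its deformation data. -/
theorem exists_affine_data (X : Scheme.{u}) (hX : X ⟶ Spec (CommRingCat.of k)) [IsAffine X]
    (A : Type u) [CommRing A] [IsLocalRing A] [IsArtinianRing A] [Algebra k A] (e : A →ₐ[k] k)
    (X' : Scheme.{u}) (g : X' ⟶ Spec (CommRingCat.of A)) [Flat g] (i : X ⟶ X')
    (hsq : IsPullback i hX g (Spec.map (CommRingCat.ofHom e.toRingHom))) :
    ∃ (B₀ : Type u) (_ : CommRing B₀) (_ : Algebra k B₀) (D : Data B₀ (artOf A e))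
      (eX : X ≅ Spec (CommRingCat.of B₀)) (eT : X' ≅ Spec (CommRingCat.of D.R)),
      eX.hom ≫ xB B₀ = hX ∧ eT.hom ≫ D.toDef.f = g ∧ i ≫ eT.hom = eX.hom ≫ sp D.π ∧
        (Smooth hX → Algebra.Smooth k B₀) := by
  let B₀ : Type u := Γ(X, ⊤)
  obtain ⟨a, ha⟩ := exists_sp (R := k) (S := B₀) (X.isoSpec.inv ≫ hX)
  letI : Algebra k B₀ := a.toAlgebra
  have hx : X.isoSpec.hom ≫ xB B₀ = hX := by
    show X.isoSpec.hom ≫ sp a = hX
    rw [ha, Iso.hom_inv_id_assoc]
  let ξ : DefSch (Spec (CommRingCat.of B₀)) (xB B₀) (artOf A e) :=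
    { total := X'
      f := g
      flat := ‹_›
      i := X.isoSpec.inv ≫ i
      isPullback := IsPullback.of_iso hsq X.isoSpec (Iso.refl _) (Iso.refl _) (Iso.refl _) (by simp)
        (by rw [Iso.refl_hom, Category.comp_id, hx]) (by simp) (by
          rw [Iso.refl_hom, Iso.refl_hom, Category.comp_id, Category.id_comp]) }
  obtain ⟨D, ⟨f⟩⟩ := exists_data ξ
  refine ⟨B₀, inferInstance, inferInstance, D, X.isoSpec, f.iso, hx, f.hom_f, ?_, fun hs => ?_⟩
  · exact ((Iso.hom_inv_id_assoc X.isoSpec (i ≫ f.iso.hom)).symm).trans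
      (congrArg (fun t => X.isoSpec.hom ≫ t) ((Category.assoc _ _ _).symm.trans f.i_hom))
  · haveI : Smooth (sp a) := by rw [ha]; infer_instance
    exact (HasRingHomProperty.Spec_iff (P := @Smooth)).1 this

/-- The isomorphism with the product given by a section. -/
theorem exists_iso_of_section (X : Scheme.{u}) (hX : X ⟶ Spec (CommRingCat.of k))
    (D : Data B₀ A) (eX : X ≅ Spec (CommRingCat.of B₀)) (hx : eX.hom ≫ xB B₀ = hX)
    (σ : B₀ →+* D.R)
    (hσ : ∀ c : k, σ (algebraMap k B₀ c) = algebraMap A D.R (algebraMap k A c)) (hπ : ∀ b, D.π (σ b) = b) :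
    ∃ φ : Spec (CommRingCat.of D.R) ≅ pullback hX (sp (algebraMap k A)),
      φ.hom ≫ pullback.snd hX (sp (algebraMap k A)) = sp (algebraMap A D.R) ∧
      φ.hom ≫ pullback.fst hX (sp (algebraMap k A)) = sp σ ≫ eX.inv := by
  have h : IsPullback (sp σ ≫ eX.inv) (sp (algebraMap A D.R)) hX (sp (algebraMap k A)) := by
    refine IsPullback.of_iso (isPullback_of_section D σ hσ hπ) (Iso.refl _) eX.symm (Iso.refl _) (Iso.refl _)
      ?_ ?_ ?_ ?_
    · simp
    · simp
    · rw [← hx]; simp
    · simp
  exact ⟨h.isoPullback, h.isoPullback_hom_snd, h.isoPullback_hom_fst⟩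

end Groth.Agent.Lib.ArtinFun.AffTrivial
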