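import Groth.Agent.Lib.ArtinFun.Basic
import Mathlib.RingTheory.AdicCompletion.Basic
import Mathlib.RingTheory.Nakayama
import Mathlib.RingTheory.Derivation.Basic
import Mathlib.Algebra.MvPolynomial.CommRing
import Mathlib.Algebra.MvPolynomial.Derivation
import Mathlib.RingTheory.Finiteness.Ideal
import Mathlib.LinearAlgebra.FiniteDimensional.Basic

/-!
# Approximation in local rings: generators of cotangent spaces generate topologically
-/

universe u v

open CategoryTheory ArtFun

namespace Groth.Agent.Lib.ArtinFun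

lemma smodEq_iff_sub_mem {S : Type u} [CommRing S] (I : Ideal S) (n : ℕ) (x y : S) :
    x ≡ y [SMOD (I ^ n • ⊤ : Submodule S S)] ↔ x - y ∈ I ^ n := by
  rw [SModEq.sub_mem, smul_eq_mul, Ideal.mul_top]

lemma eq_of_forall_sub_mem_pow {S : Type u} [CommRing S] (I : Ideal S) [IsHausdorff I S] {x y : S}
    (h : ∀ n, x - y ∈ I ^ n) : x = y :=
  IsHausdorff.eq_iff_smodEq.2 fun n => (smodEq_iff_sub_mem I n x y).2 (h n)

lemma exists_limit {S : Type u} [CommRing S] (I : Ideal S) [IsPrecomplete I S] (a : ℕ → S)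
    (h : ∀ n, a (n + 1) - a n ∈ I ^ n) : ∃ L, ∀ n, a n - L ∈ I ^ n := by
  have h' : ∀ {m n}, m ≤ n → a n - a m ∈ I ^ m := by
    intro m n hmn
    induction n, hmn using Nat.le_induction with
    | base => simp
    | succ n hmn ih =>
      rw [← sub_add_sub_cancel (a (n + 1)) (a n) (a m)]
      exact add_mem (Ideal.pow_le_pow_right hmn (h n)) ih
  obtain ⟨L, hL⟩ := IsPrecomplete.prec (‹IsPrecomplete I S›) (f := a) fun {m n} hmn =>
    (smodEq_iff_sub_mem I m _ _).2 (by rw [← neg_sub]; exact neg_mem (h' hmn))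
  exact ⟨L, fun n => (smodEq_iff_sub_mem I n _ _).1 (hL n)⟩

section Dense

variable {R S : Type u} [CommRing R] [CommRing S] [IsLocalRing S] (f : R →+* S) (M : Ideal R)

lemma map_eq_maximalIdeal_of_sup_sq (hfg : (IsLocalRing.maximalIdeal S).FG)
    (h : M.map f ⊔ IsLocalRing.maximalIdeal S ^ 2 = IsLocalRing.maximalIdeal S) :
    M.map f = IsLocalRing.maximalIdeal S := by
  refine le_antisymm (le_sup_left.trans h.le) ?_
  refine Submodule.le_of_le_smul_of_le_jacobson_bot hfg
    (IsLocalRing.maximalIdeal_le_jacobson _) ?_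
  rw [smul_eq_mul, ← pow_two]
  exact h.ge

/-- If `M` generates the maximal ideal and `R` surjects to the residue field, then `M ^ n`
surjects to `m ^ n / m ^ (n + 1)`. -/
lemma exists_sub_mem_pow_succ (hres : ∀ s : S, ∃ r : R, s - f r ∈ IsLocalRing.maximalIdeal S)
    (hM : M.map f = IsLocalRing.maximalIdeal S) (n : ℕ) {x : S}
    (hx : x ∈ IsLocalRing.maximalIdeal S ^ n) :
    ∃ r ∈ M ^ n, x - f r ∈ IsLocalRing.maximalIdeal S ^ (n + 1) := by
  have hx' : x ∈ Ideal.span (f '' ((M ^ n : Ideal R) : Set R)) := by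
    rw [← hM, ← Ideal.map_pow] at hx
    exact hx
  suffices ∀ c : S, ∃ r ∈ M ^ n, c * x - f r ∈ IsLocalRing.maximalIdeal S ^ (n + 1) by
    simpa using this 1
  clear hx
  induction hx' using Submodule.span_induction with
  | mem y hy =>
    intro c
    obtain ⟨r, hr, rfl⟩ := hy
    obtain ⟨d, hd⟩ := hres c
    refine ⟨d * r, Ideal.mul_mem_left _ d hr, ?_⟩
    rw [map_mul, ← sub_mul, pow_succ']
    refine Ideal.mul_mem_mul hd ?_
    rw [← hM, ← Ideal.map_pow]
    exact Ideal.mem_map_of_mem f hr
  | zero => intro c; exact ⟨0, zero_mem _, by simp⟩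
  | add y z hy' hz' hy hz =>
    intro c
    obtain ⟨r, hr, hy⟩ := hy c
    obtain ⟨r', hr', hz⟩ := hz c
    refine ⟨r + r', add_mem hr hr', ?_⟩
    rw [map_add, mul_add, add_sub_add_comm]
    exact add_mem hy hz
  | smul a y hy' hy =>
    intro c
    simpa [mul_assoc] using hy (c * a)

lemma exists_sub_mem_pow (hres : ∀ s : S, ∃ r : R, s - f r ∈ IsLocalRing.maximalIdeal S)
    (hM : M.map f = IsLocalRing.maximalIdeal S) (s : S) (n : ℕ) :
    ∃ r : R, s - f r ∈ IsLocalRing.maximalIdeal S ^ n := by
  induction n with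
  | zero => exact ⟨0, by simp⟩
  | succ n ih =>
    obtain ⟨r, hr⟩ := ih
    obtain ⟨r', -, hr'⟩ := exists_sub_mem_pow_succ f M hres hM n hr
    exact ⟨r + r', by rwa [map_add, ← sub_sub]⟩

lemma surjective_of_isPrecomplete [IsPrecomplete M R]
    [IsHausdorff (IsLocalRing.maximalIdeal S) S]
    (hres : ∀ s : S, ∃ r : R, s - f r ∈ IsLocalRing.maximalIdeal S)
    (hM : M.map f = IsLocalRing.maximalIdeal S) : Function.Surjective f := by
  intro s
  have step : ∀ (n : ℕ) (r : R), s - f r ∈ IsLocalRing.maximalIdeal S ^ n →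
      ∃ r', r' - r ∈ M ^ n ∧ s - f r' ∈ IsLocalRing.maximalIdeal S ^ (n + 1) := by
    intro n r hr
    obtain ⟨d, hd, hd'⟩ := exists_sub_mem_pow_succ f M hres hM n hr
    exact ⟨r + d, by simpa using hd, by rwa [map_add, ← sub_sub]⟩
  choose! g hg₁ hg₂ using step
  let a : ℕ → R := fun n => n.rec 0 g
  have ha : ∀ n, s - f (a n) ∈ IsLocalRing.maximalIdeal S ^ n := by
    intro n
    induction n with
    | zero => simp
    | succ n ih => exact hg₂ n _ ih
  obtain ⟨L, hL⟩ := exists_limit M a fun n => hg₁ n _ (ha n)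
  refine ⟨L, (eq_of_forall_sub_mem_pow (IsLocalRing.maximalIdeal S) fun n => ?_).symm⟩
  have h₁ : f (a n) - f L ∈ IsLocalRing.maximalIdeal S ^ n := by
    rw [← map_sub, ← hM, ← Ideal.map_pow]
    exact Ideal.mem_map_of_mem f (hL n)
  rw [← sub_add_sub_cancel s (f (a n)) (f L)]
  exact add_mem (ha n) h₁

end Dense

section Augmented

variable {Λ : Type u} {k : Type u} [CommRing Λ] [Field k] [Algebra Λ k]
variable {S : Type u} [CommRing S] [IsLocalRing S] [Algebra Λ S] (resS : S →ₐ[Λ] k)
  (hS : Function.Surjective resS)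

include hS in
lemma res_eq_zero_iff (s : S) : resS s = 0 ↔ s ∈ IsLocalRing.maximalIdeal S := by
  rw [← IsLocalRing.eq_maximalIdeal (RingHom.ker_isMaximal_of_surjective (resS : S →+* k) hS),
    RingHom.mem_ker]
  rfl

include hS in
lemma exists_mem_maximalIdeal_sub {R : Type u} [CommRing R] [Algebra Λ R] (f : R →ₐ[Λ] S)
    (resR : R →ₐ[Λ] k) (hR : Function.Surjective resR) (hf : resS.comp f = resR) (s : S) :
    ∃ r, s - f r ∈ IsLocalRing.maximalIdeal S := by
  obtain ⟨r, hr⟩ := hR (resS s)
  exact ⟨r, (res_eq_zero_iff resS hS _).1 (by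
    rw [map_sub, ← AlgHom.comp_apply resS f, hf, hr, sub_self])⟩

include hS in
/-- A local augmented algebra with finitely generated maximal ideal has a finite set of elements
whose polynomials approximate every element. -/
theorem exists_generators [Module.Finite Λ k] (hfg : (IsLocalRing.maximalIdeal S).FG) :
    ∃ (N : ℕ) (x : Fin N → S), ∀ (s : S) (n : ℕ), ∃ p : MvPolynomial (Fin N) Λ,
      s - MvPolynomial.aeval x p ∈ IsLocalRing.maximalIdeal S ^ n := by
  classical
  obtain ⟨G, hG⟩ := hfg
  obtain ⟨E, hE⟩ := (Module.Finite.fg_top (R := Λ) (M := k))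
  choose l hl using hS
  let T : Finset S := G ∪ E.image l
  refine ⟨T.card, fun i => (T.equivFin.symm i : S), ?_⟩
  set q : MvPolynomial (Fin T.card) Λ →ₐ[Λ] S :=
    MvPolynomial.aeval fun i => (T.equivFin.symm i : S) with hq
  have hX : ∀ t (ht : t ∈ T), q (MvPolynomial.X (T.equivFin ⟨t, ht⟩)) = t := fun t ht => by
    simp [hq]
  intro s
  refine exists_sub_mem_pow (q : MvPolynomial (Fin T.card) Λ →+* S)
    ((IsLocalRing.maximalIdeal S).comap (q : MvPolynomial (Fin T.card) Λ →+* S)) ?_ ?_ s
  · have hc : ∀ c : k, ∃ p, resS (q p) = c := by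
      intro c
      have hc : c ∈ Submodule.span Λ (E : Set k) := by rw [hE]; trivial
      induction hc using Submodule.span_induction with
      | mem e he =>
        exact ⟨_, by rw [hX (l e) (Finset.mem_union_right _ (Finset.mem_image_of_mem _ he)), hl]⟩
      | zero => exact ⟨0, by simp⟩
      | add a b _ _ ha hb =>
        obtain ⟨p, rfl⟩ := ha
        obtain ⟨p', rfl⟩ := hb
        exact ⟨p + p', by simp⟩
      | smul c a _ ha =>
        obtain ⟨p, rfl⟩ := ha
        exact ⟨c • p, by simp⟩
    intro s'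
    obtain ⟨p, hp⟩ := hc (resS s')
    refine ⟨p, (res_eq_zero_iff resS (fun c => ⟨l c, hl c⟩) _).1 ?_⟩
    rw [map_sub]
    exact sub_eq_zero.2 hp.symm
  · refine le_antisymm Ideal.map_comap_le ?_
    conv_lhs => rw [← hG]
    refine Submodule.span_le.2 fun g hg => ?_
    rw [← hX g (Finset.mem_union_left _ hg)]
    refine Ideal.mem_map_of_mem (q : MvPolynomial (Fin T.card) Λ →+* S) ?_
    change q _ ∈ IsLocalRing.maximalIdeal S
    rw [hX g (Finset.mem_union_left _ hg), ← hG]
    exact Submodule.subset_span hg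

lemma derivation_mem_sq [Algebra S k] [IsScalarTower Λ S k] (hres : algebraMap S k = (resS : S →+* k))
    (hS : Function.Surjective resS) (D : Derivation Λ S k) {x : S}
    (hx : x ∈ IsLocalRing.maximalIdeal S ^ 2) : D x = 0 := by
  rw [pow_two] at hx
  induction hx using Submodule.mul_induction_on' with
  | mem_mul_mem a ha b hb =>
    rw [Derivation.leibniz, Algebra.smul_def, Algebra.smul_def, hres]
    simp [(res_eq_zero_iff resS hS a).2 ha, (res_eq_zero_iff resS hS b).2 hb]
  | add a _ b _ ha hb => rw [map_add, ha, hb, add_zero]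

/-- Derivations into the residue field form a finite dimensional space. -/
theorem finite_derivation [Module.Finite Λ k] [Algebra S k] [IsScalarTower Λ S k]
    (hres : Function.Surjective (algebraMap S k)) (hfg : (IsLocalRing.maximalIdeal S).FG) :
    Module.Finite k (Derivation Λ S k) := by
  obtain ⟨N, x, hx⟩ := exists_generators (IsScalarTower.toAlgHom Λ S k) hres hfg
  let ev : Derivation Λ S k →ₗ[k] (Fin N → k) :=
    { toFun := fun D i => D (x i), map_add' := fun _ _ => rfl, map_smul' := fun _ _ => rfl }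
  refine Module.Finite.of_injective ev ?_
  rw [← LinearMap.ker_eq_bot, Submodule.eq_bot_iff]
  intro D hD
  have hD' : ∀ i, D (x i) = 0 := fun i => congrFun (LinearMap.mem_ker.1 hD) i
  apply Derivation.ext
  intro s
  obtain ⟨p, hp⟩ := hx s 2
  have hp0 : D (MvPolynomial.aeval x p) = 0 := by
    clear hp
    induction p using MvPolynomial.induction_on with
    | C a => simp
    | add p q hp hq => simp [hp, hq]
    | mul_X p i hp => simp [Derivation.leibniz, hp, hD' i]
  have h2 := derivation_mem_sq (IsScalarTower.toAlgHom Λ S k) rfl hres D hp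
  rw [map_sub, hp0, sub_zero] at h2
  simpa using h2

/-- If restriction of derivations along `f` is injective then `f` generates the cotangent space. -/
theorem map_sup_sq_of_derivation_injective [Algebra S k] [IsScalarTower Λ S k] [IsNoetherianRing S]
    (hres : Function.Surjective (algebraMap S k))
    {R : Type u} [CommRing R] [Algebra Λ R] (f : R →ₐ[Λ] S)
    (resR : R →ₐ[Λ] k) (hR : Function.Surjective resR)
    (hf : (IsScalarTower.toAlgHom Λ S k).comp f = resR)
    (hinj : ∀ D : Derivation Λ S k, (∀ r : R, D (f r) = 0) → D = 0) :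
    (RingHom.ker resR).map f ⊔ IsLocalRing.maximalIdeal S ^ 2 = IsLocalRing.maximalIdeal S := by
  have hker : ∀ s : S, algebraMap S k s = 0 ↔ s ∈ IsLocalRing.maximalIdeal S := fun s =>
    res_eq_zero_iff (IsScalarTower.toAlgHom Λ S k) hres s
  have hfr : ∀ r, algebraMap S k (f r) = resR r := fun r => AlgHom.congr_fun hf r
  set J := (RingHom.ker resR).map f ⊔ IsLocalRing.maximalIdeal S ^ 2 with hJdef
  have hJm : J ≤ IsLocalRing.maximalIdeal S := by
    refine sup_le (Ideal.map_le_iff_le_comap.2 fun r hr => ?_) (Ideal.pow_le_self two_ne_zero)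
    rw [Ideal.mem_comap, ← hker, hfr]
    exact hr
  by_contra hne
  obtain ⟨x₀, hx₀, hx₀J⟩ := SetLike.exists_of_lt (lt_of_le_of_ne hJm hne)
  obtain ⟨H, ⟨hJH, hHm, hxH⟩, hmax⟩ := set_has_maximal_iff_noetherian.2
    (inferInstance : IsNoetherian S S)
    {H : Ideal S | J ≤ H ∧ H ≤ IsLocalRing.maximalIdeal S ∧ x₀ ∉ H}
    ⟨J, le_rfl, hJm, hx₀J⟩
  have hsq : ∀ a b, a ∈ IsLocalRing.maximalIdeal S → b ∈ IsLocalRing.maximalIdeal S → a * b ∈ H :=
    fun a b ha hb => hJH (Ideal.mem_sup_right (by rw [pow_two]; exact Ideal.mul_mem_mul ha hb))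
  have hspan : ∀ x ∈ IsLocalRing.maximalIdeal S, ∃ c, x - c * x₀ ∈ H := by
    intro x hx
    by_cases hxH' : x ∈ H
    · exact ⟨0, by simpa using hxH'⟩
    · have h1 : x₀ ∈ H ⊔ Ideal.span {x} := by
        by_contra h
        refine hmax _ ⟨hJH.trans le_sup_left, sup_le hHm ((Ideal.span_singleton_le_iff_mem _).2 hx), h⟩
          (lt_of_le_of_ne le_sup_left fun e => hxH' ?_)
        rw [e]
        exact Ideal.mem_sup_right (Ideal.mem_span_singleton_self x)
      obtain ⟨h₀, hh₀, y, hy, hxy⟩ := Submodule.mem_sup.1 h1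
      obtain ⟨c, rfl⟩ := Ideal.mem_span_singleton'.1 hy
      have hc : IsUnit c := by
        by_contra hc
        exact hxH (hxy ▸ add_mem hh₀ (hsq _ _ ((IsLocalRing.mem_maximalIdeal c).2 hc) hx))
      obtain ⟨u, rfl⟩ := hc
      refine ⟨↑u⁻¹, ?_⟩
      have e : x - ↑u⁻¹ * x₀ = -(↑u⁻¹ * h₀) := by
        rw [← hxy, mul_add, Units.inv_mul_cancel_left]
        ring
      rw [e]
      exact neg_mem (Ideal.mul_mem_left H _ hh₀)
  have hex : ∀ s : S, ∃ r c, s - f r - c * x₀ ∈ H := by
    intro s
    obtain ⟨r, hr⟩ := hR (algebraMap S k s)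
    obtain ⟨c, hc⟩ := hspan (s - f r) ((hker _).1 (by rw [map_sub, hfr, hr, sub_self]))
    exact ⟨r, c, hc⟩
  choose r c hrc using hex
  have huniq : ∀ (s : S) (r' : R) (c' : S), s - f r' - c' * x₀ ∈ H →
      algebraMap S k (c s) = algebraMap S k c' := by
    intro s r' c' h'
    have h := sub_mem h' (hrc s)
    have e₀ : resR (r s - r') = 0 := by
      have := (hker _).2 (hHm h)
      simp only [map_sub, map_mul, (hker _).2 hx₀, mul_zero, sub_zero, hfr] at this
      rw [map_sub]
      linear_combination this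
    have e₁ : f (r s - r') ∈ H := hJH (Ideal.mem_sup_left (Ideal.mem_map_of_mem f e₀))
    by_contra hne'
    have hu : IsUnit (c s - c') := by
      rw [← IsLocalRing.notMem_maximalIdeal, ← hker, map_sub]
      exact sub_ne_zero.2 hne'
    refine hxH ?_
    obtain ⟨u, hu⟩ := hu
    have e₂ : (c s - c') * x₀ ∈ H := by
      have := sub_mem h e₁
      convert this using 1
      rw [map_sub]
      ring
    rw [← hu] at e₂
    simpa using Ideal.mul_mem_left H ↑u⁻¹ e₂
  let L : S →ₗ[Λ] k :=
    { toFun := fun s => algebraMap S k (c s)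
      map_add' := fun a b => by
        rw [huniq (a + b) (r a + r b) (c a + c b) ?_, map_add]
        convert add_mem (hrc a) (hrc b) using 1
        rw [map_add]
        ring
      map_smul' := fun l a => by
        rw [huniq (l • a) (l • r a) (l • c a) ?_, RingHom.id_apply, Algebra.smul_def, map_mul,
          ← IsScalarTower.algebraMap_apply, ← Algebra.smul_def]
        convert Ideal.mul_mem_left H (algebraMap Λ S l) (hrc a) using 1
        simp only [Algebra.smul_def, map_mul, AlgHom.commutes]
        ring }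
  let D : Derivation Λ S k := Derivation.mk' L fun a b => by
    change algebraMap S k (c (a * b)) = a • algebraMap S k (c b) + b • algebraMap S k (c a)
    have hmem : a * b - f (r a * r b) - (f (r a) * c b + f (r b) * c a) * x₀ ∈ H := by
      have key : a * b - f (r a * r b) - (f (r a) * c b + f (r b) * c a) * x₀ =
          (a - f (r a) - c a * x₀) * b + (f (r a) + c a * x₀) * (b - f (r b) - c b * x₀) +
            c a * c b * (x₀ * x₀) := by
        rw [map_mul]
        ring
      rw [key]
      exact add_mem (add_mem (Ideal.mul_mem_right _ H (hrc a)) (Ideal.mul_mem_left H _ (hrc b)))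
        (Ideal.mul_mem_left H _ (hsq _ _ hx₀ hx₀))
    have hfst : ∀ s, algebraMap S k (f (r s)) = algebraMap S k s := fun s => by
      have := (hker _).2 (hHm (hrc s))
      simp only [map_sub, map_mul, (hker _).2 hx₀, mul_zero, sub_zero] at this
      linear_combination -this
    rw [huniq (a * b) _ _ hmem, map_add, map_mul, map_mul, hfst, hfst, Algebra.smul_def,
      Algebra.smul_def]
  have hD : D = 0 := hinj D fun x => by
    change algebraMap S k (c (f x)) = 0
    rw [huniq (f x) x 0 (by simp), map_zero]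
  have h1 : algebraMap S k (c x₀) = 0 := by
    have := DFunLike.congr_fun hD x₀
    exact this
  rw [huniq x₀ 0 1 (by simp), map_one] at h1
  exact one_ne_zero h1

end Augmented

end Groth.Agent.Lib.ArtinFun
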