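import Groth.Agent.Lib.ArtinFun.HilbertBurch

/-!
# Transfer of fibre conditions for determinantal deformations
-/

noncomputable section

universe u

open IsLocalRing TensorProduct

namespace Groth.Agent.Lib.ArtinFun.HB

/-- Flatness of the reduction modulo an ideal of the base. -/
theorem flat_quot {C A : Type u} [CommRing C] [CommRing A] [Algebra C A] [Module.Flat C A] (J : Ideal C) :
    Module.Flat (C ⧸ J) (A ⧸ J.map (algebraMap C A)) :=
  Module.Flat.of_linearEquiv (Algebra.TensorProduct.quotIdealMapEquivQuotTensor A J).toLinearEquiv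

/-- The fibre conditions of a lift. -/
theorem fibre_conditions {C A : Type u} [CommRing C] [IsLocalRing C] [CommRing A] [Algebra C A] [Module.Flat C A]
    (J : Ideal C) (hJne : J ≠ ⊤) {r : ℕ} (φ : Matrix (Fin (r + 1)) (Fin r) A)
    (hinj : Function.Injective (φ.map (Ideal.Quotient.mk (J.map (algebraMap C A)))).mulVecLin)
    (hex : LinearMap.range (φ.map (Ideal.Quotient.mk (J.map (algebraMap C A)))).mulVecLin =
      LinearMap.ker (lc (fs (φ.map (Ideal.Quotient.mk (J.map (algebraMap C A)))))))
    (hflat : Module.Flat (C ⧸ J) ((A ⧸ J.map (algebraMap C A)) ⧸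
      Ideal.span (Set.range (fs (φ.map (Ideal.Quotient.mk (J.map (algebraMap C A)))))))) :
    (∀ u, φ.mulVecLin u ∈ maximalIdeal C • (⊤ : Submodule C (Fin (r + 1) → A)) →
      u ∈ maximalIdeal C • (⊤ : Submodule C (Fin r → A))) ∧
    (∀ v, lc (fs φ) v ∈ (maximalIdeal C).map (algebraMap C A) →
      ∃ u, v - φ.mulVecLin u ∈ maximalIdeal C • (⊤ : Submodule C (Fin (r + 1) → A))) := by
  haveI : Nontrivial (C ⧸ J) := Ideal.Quotient.nontrivial_iff.2 hJne
  haveI : IsLocalRing (C ⧸ J) := IsLocalRing.of_surjective' (Ideal.Quotient.mk J) Ideal.Quotient.mk_surjective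
  haveI := flat_quot (A := A) J
  haveI := hflat
  let π := Ideal.Quotient.mk (J.map (algebraMap C A))
  let N := (maximalIdeal C).map (algebraMap C A)
  obtain ⟨h1, h2⟩ := exact_fibre (C := C ⧸ J) (φ.map π) hinj hex
  have hJm : J ≤ maximalIdeal C := IsLocalRing.le_maximalIdeal hJne
  have hmax : maximalIdeal (C ⧸ J) = (maximalIdeal C).map (Ideal.Quotient.mk J) := by
    refine (IsLocalRing.eq_maximalIdeal ?_).symm
    rcases Ideal.map_eq_top_or_isMaximal_of_surjective (Ideal.Quotient.mk J) Ideal.Quotient.mk_surjective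
      (IsLocalRing.maximalIdeal.isMaximal C) with h | h
    · exfalso
      have h' := congrArg (Ideal.comap (Ideal.Quotient.mk J)) h
      rw [Ideal.comap_map_of_surjective _ Ideal.Quotient.mk_surjective, ← RingHom.ker_eq_comap_bot, Ideal.mk_ker,
        sup_eq_left.2 hJm, Ideal.comap_top] at h'
      exact (IsLocalRing.maximalIdeal.isMaximal C).ne_top h'
    · exact h
  have hmem : ∀ x, π x ∈ (maximalIdeal (C ⧸ J)).map (algebraMap (C ⧸ J) (A ⧸ J.map (algebraMap C A))) ↔ x ∈ N := by
    intro x
    rw [hmax, Ideal.map_map]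
    have hc : (algebraMap (C ⧸ J) (A ⧸ J.map (algebraMap C A))).comp (Ideal.Quotient.mk J) =
        π.comp (algebraMap C A) := rfl
    rw [hc, ← Ideal.map_map]
    constructor
    · intro hx
      have : x ∈ Ideal.comap π (((maximalIdeal C).map (algebraMap C A)).map π) := hx
      rw [Ideal.comap_map_of_surjective _ Ideal.Quotient.mk_surjective, ← RingHom.ker_eq_comap_bot, Ideal.mk_ker,
        sup_eq_left.2 (Ideal.map_mono hJm)] at this
      exact this
    · exact fun hx => Ideal.mem_map_of_mem _ hx
  refine ⟨fun u hu => ?_, fun v hv => ?_⟩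
  · rw [mem_smul_top_pi] at hu ⊢
    have h3 : (φ.map π).mulVecLin (π ∘ u) ∈
        maximalIdeal (C ⧸ J) • (⊤ : Submodule (C ⧸ J) (Fin (r + 1) → A ⧸ J.map (algebraMap C A))) := by
      rw [mem_smul_top_pi, ← map_mulVec]
      exact fun i => (hmem _).2 (hu i)
    exact fun i => (hmem _).1 ((mem_smul_top_pi _ _).1 (h1 _ h3) i)
  · have h3 : lc (fs (φ.map π)) (π ∘ v) ∈
        (maximalIdeal (C ⧸ J)).map (algebraMap (C ⧸ J) (A ⧸ J.map (algebraMap C A))) := by
      rw [map_fs, ← map_lc]
      exact (hmem _).2 hv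
    obtain ⟨u', hu'⟩ := h2 _ h3
    obtain ⟨u, rfl⟩ : ∃ u : Fin r → A, π ∘ u = u' :=
      ⟨fun i => (Ideal.Quotient.mk_surjective (u' i)).choose,
        funext fun i => (Ideal.Quotient.mk_surjective (u' i)).choose_spec⟩
    refine ⟨u, ?_⟩
    rw [mem_smul_top_pi] at hu' ⊢
    intro i
    refine (hmem _).1 ?_
    have h4 := hu' i
    rw [← map_mulVec, Pi.sub_apply, Function.comp_apply, Function.comp_apply, ← map_sub] at h4
    exact h4

/-- The special fibre of a smooth algebra is Cohen-Macaulay. -/
theorem isCohenMacaulayRing_of_smooth (k A : Type u) [CommRing k] (hk : IsField k) [CommRing A] [Algebra k A]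
    [Algebra.Smooth k A] : LocCoh.IsCohenMacaulayRing A := by
  letI := hk.toField
  haveI : Algebra.FiniteType k A := inferInstance
  haveI : IsNoetherianRing A := Algebra.FiniteType.isNoetherianRing k A
  exact { isCohenMacaulayLocalRing_localization := fun p _ =>
    haveI := Synt92.KoszulFlat.isRegularLocalRing_of_smooth k A p
    Groth.Agent.H25.CMUnmixed.isCohenMacaulayLocalRing_of_regular _ }

/-- Heights do not drop along a surjection with nil kernel. -/
theorem height_comap_le {R S : Type u} [CommRing R] [CommRing S] (g : R →+* S) (hg : Function.Surjective g)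
    (hker : RingHom.ker g ≤ nilradical R) (p : Ideal S) [p.IsPrime] : (p.comap g).height ≤ p.height := by
  have hle : ∀ Q : PrimeSpectrum R, RingHom.ker g ≤ Q.asIdeal := fun Q =>
    hker.trans (nilradical_le_prime Q.asIdeal)
  let f : PrimeSpectrum R → PrimeSpectrum S := fun Q =>
    ⟨Q.asIdeal.map g, Ideal.map_isPrime_of_surjective hg (hle Q)⟩
  have hback : ∀ Q : PrimeSpectrum R, (Q.asIdeal.map g).comap g = Q.asIdeal := fun Q => by
    rw [Ideal.comap_map_of_surjective _ hg, ← RingHom.ker_eq_comap_bot, sup_eq_left.2 (hle Q)]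
  have hf : StrictMono f := fun Q Q' h => by
    refine lt_of_le_of_ne (Ideal.map_mono h.le) fun he => h.ne (PrimeSpectrum.ext ?_)
    rw [← hback Q, ← hback Q']
    exact congrArg (fun I => Ideal.comap g (PrimeSpectrum.asIdeal I)) he
  have h1 := Order.height_le_height_apply_of_strictMono f hf ⟨p.comap g, inferInstance⟩
  rw [← PrimeSpectrum.height_eq_orderHeight, ← PrimeSpectrum.height_eq_orderHeight] at h1
  refine h1.trans (le_of_eq ?_)
  show ((p.comap g).map g).height = p.height
  rw [Ideal.map_comap_of_surjective g hg]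

end Groth.Agent.Lib.ArtinFun.HB
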