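import Groth.Agent.Lib.ArtinFun.LiftExt
import Groth.Agent.Lib.RegImmFlat.Basic
import Groth.Agent.H26.RegKinds
import Groth.Prelude.Def_Mor2

/-!
# Local lifts of locally complete intersections
-/

noncomputable section

universe u

open CategoryTheory CategoryTheory.Limits AlgebraicGeometry ArtFun ArtFun.Art
open scoped TensorProduct

namespace Groth.Agent.Lib.ArtinFun.LciLocal

open FlatIdealFP LocalHilbAffine LocalHilbGlue LocalHilbTangent LiftSplit LiftExt

variable {k : Type u} [Field k]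

/-- Triviality of relations from `H₁`-regularity. -/
theorem koszulRel_of_h1 {C : Type u} [CommRing C] {r : ℕ} {f : Fin r → C}
    (hf : CAlgX.IsH1Regular f) : KoszulRel C f := by
  classical
  intro a ha
  refine Submodule.span_induction
    (p := fun v _ => ∃ c : Fin r → Fin r → C, (∀ i, c i i = 0) ∧ (∀ i j, c i j = -c j i) ∧
      ∀ i, v i = ∑ j, c i j * f j) ?_ ?_ ?_ ?_ (hf a ha)
  · rintro v ⟨i, j, rfl⟩
    refine ⟨fun p q => (Pi.single i 1 : Fin r → C) p * (Pi.single j 1 : Fin r → C) q -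
      (Pi.single j 1 : Fin r → C) p * (Pi.single i 1 : Fin r → C) q, fun p => by ring, fun p q => by ring,
      fun p => ?_⟩
    simp only [sub_mul, Finset.sum_sub_distrib, mul_assoc, ← Finset.mul_sum, Pi.sub_apply]
    simp [Pi.single_apply, ite_mul, Finset.sum_ite_eq']
  · exact ⟨0, fun _ => rfl, fun _ _ => neg_zero.symm, fun _ => by simp⟩
  · rintro v w - - ⟨c, h1, h2, h3⟩ ⟨d, g1, g2, g3⟩
    refine ⟨c + d, fun i => by simp [h1, g1], fun i j => ?_, fun i => ?_⟩
    · simp only [Pi.add_apply]; rw [h2, g2, neg_add]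
    · simp only [Pi.add_apply, add_mul, Finset.sum_add_distrib, h3, g3]
  · rintro t v - ⟨c, h1, h2, h3⟩
    refine ⟨fun i j => t * c i j, fun i => by simp only [h1, mul_zero], fun i j => by simp only []; rw [h2]; ring, fun i => ?_⟩
    simp only [Pi.smul_apply, smul_eq_mul, h3, Finset.mul_sum, mul_assoc]

variable {X : Scheme.{u}}

/-- `I` is locally generated by `H₁`-regular sequences. -/
def IsH1Ideal (I : X.IdealSheafData) : Prop :=
  ∀ q ∈ I.support, ∃ U : X.affineOpens, q ∈ U.1 ∧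
    ∃ (r : ℕ) (f : Fin r → Γ(X, U.1)), CAlgX.IsH1Regular f ∧ I.ideal U = Ideal.span (Set.range f)

lemma range_get {R : Type*} [CommRing R] (rs : List R) :
    Ideal.span (Set.range rs.get) = Ideal.ofList rs := by
  rw [Ideal.ofList, Set.range_list_get]

theorem isH1Ideal_of_koszul {I : X.IdealSheafData} (h : RegImm.IsRegularIdeal RegImm.Kind.koszul I) :
    IsH1Ideal I := fun q hq => by
  obtain ⟨U, hqU, rs, hrs, hI⟩ := h q hq
  exact ⟨U, hqU, _, rs.get, H26.RegKinds.h1_of_koszul rs hrs, hI.trans (range_get rs).symm⟩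

theorem isH1Ideal_of_regularImmersion {Z : Scheme.{u}} {i : Z ⟶ X} (h : Mor2.IsRegularClosedImmersion i) :
    IsH1Ideal i.ker := fun q hq => by
  haveI := h.1
  have hq' : q ∈ Set.range i := by
    have := Scheme.Hom.support_ker i
    rw [← i.isClosedEmbedding.isClosed_range.closure_eq]
    exact this ▸ hq
  obtain ⟨z, rfl⟩ := hq'
  obtain ⟨U, hU, hzU, rs, hrs, hI⟩ := h.2 z
  exact ⟨⟨U, hU⟩, hzU, _, rs.get,
    H26.RegKinds.h1_of_koszul rs (H26.RegKinds.koszul_of_regular rs hrs), hI.trans (range_get rs).symm⟩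

variable (x : X ⟶ specPt k) (I₀ : X.IdealSheafData)

/-- Lifts exist locally. -/
def LocLift {A' A : Art k k} (p : A' ⟶ A) (z : (localHilb X x I₀).obj A) : Prop :=
  ∀ (U : X.affineOpens) (q : X), q ∈ U.1 → ∃ V : X.affineOpens, V.1 ≤ U.1 ∧ q ∈ V.1 ∧
    ∃ J' : Ideal (A' ⊗[k] Sec x V), J'.map (tmap (Sec x V) p) = cI x V A z.1 ∧
      Module.Flat A' ((A' ⊗[k] Sec x V) ⧸ J')

/-- A locally complete intersection lifts locally. -/
theorem locLift (h : IsH1Ideal I₀) {A' A : Art k k} (p : A' ⟶ A) (hp : Art.IsSemismallExt p)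
    (z : (localHilb X x I₀).obj A) : LocLift x I₀ p z := by
  intro U q hq
  suffices hs : ∃ V : X.affineOpens, V.1 ≤ U.1 ∧ q ∈ V.1 ∧ ∃ (r : ℕ) (f : Fin r → Sec x V),
      KoszulRel (Sec x V) f ∧ I0 x I₀ V = Ideal.span (Set.range f) by
    obtain ⟨V, hVU, hqV, r, f, hf, hI⟩ := hs
    exact ⟨V, hVU, hqV, exists_lift_koszul (Sec x V) p hp (cI x V A z.1) hf
      (by rw [res0_cI, hI])⟩
  by_cases hs : q ∈ I₀.support
  · obtain ⟨U₀, hqU₀, r, f, hf, hI⟩ := h q hs
    obtain ⟨g, hg, hqg⟩ := U.2.exists_basicOpen_le (V := U.1 ⊓ U₀.1) ⟨q, hq, hqU₀⟩ hq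
    refine ⟨X.affineBasicOpen g, X.basicOpen_le g, hqg, r,
      fun i => (X.presheaf.map (homOfLE (hg.trans inf_le_right)).op).hom (f i), ?_, ?_⟩
    · refine koszulRel_of_h1 (RegImmFlat.h1_map _ ?_ f hf)
      have := HasRingHomProperty.appLE @Flat (𝟙 X) inferInstance U₀ (X.affineBasicOpen g)
        (show (X.affineBasicOpen g).1 ≤ 𝟙 X ⁻¹ᵁ U₀.1 from hg.trans inf_le_right)
      simp only [Scheme.Hom.appLE, Scheme.Hom.id_app] at this
      exact this
    · show I₀.ideal (X.affineBasicOpen g) = _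
      rw [← I₀.map_ideal (U := X.affineBasicOpen g) (V := U₀) (hg.trans inf_le_right), hI, Ideal.map_span,
        ← Set.range_comp]
      rfl
  · rw [Scheme.IdealSheafData.mem_support_iff_of_mem hq] at hs
    obtain ⟨g, hgI, hqg⟩ : ∃ g ∈ (I₀.ideal U : Set Γ(X, U.1)), q ∈ X.basicOpen g := by
      by_contra hne
      exact hs ((Scheme.mem_zeroLocus_iff _ _ _).2 fun g hg hqg => hne ⟨g, hg, hqg⟩)
    refine ⟨X.affineBasicOpen g, X.basicOpen_le g, hqg, 1, fun _ => 1, ?_, ?_⟩
    · intro a ha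
      refine ⟨0, fun _ => rfl, fun _ _ => neg_zero.symm, fun i => ?_⟩
      fin_cases i
      simpa using ha
    · have h1 : (X.presheaf.map (homOfLE (X.basicOpen_le g)).op).hom g ∈ I₀.ideal (X.affineBasicOpen g) := by
        rw [← I₀.map_ideal (U := X.affineBasicOpen g) (V := U) (X.basicOpen_le g)]
        exact Ideal.mem_map_of_mem _ hgI
      have h2 : IsUnit ((X.presheaf.map (homOfLE (X.basicOpen_le g)).op).hom g) :=
        RingedSpace.isUnit_res_basicOpen _ g
      show I₀.ideal (X.affineBasicOpen g) = _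
      rw [Ideal.eq_top_of_isUnit_mem _ h1 h2]
      exact (Ideal.eq_top_of_isUnit_mem _ (Ideal.subset_span (Set.mem_range.2 ⟨0, rfl⟩)) isUnit_one).symm

end Groth.Agent.Lib.ArtinFun.LciLocal
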