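import Groth.Agent.Lib.ArtinFun.Tangent
import Groth.Agent.Lib.ArtinFun.Torsor
import Mathlib.RingTheory.Finiteness.Basic
import Mathlib.LinearAlgebra.FreeModule.Finite.Basic

/-!
# Fibres along semismall extensions
-/

noncomputable section

universe u v

open CategoryTheory ArtFun
open scoped TensorProduct

namespace Groth.Agent.Lib.ArtinFun.SemismallFibre

variable {k : Type u} [Field k] {F : Art k k ⥤ Type v}

/-- `F(k ⊕ k^n) ≅ F(k[ε])^n`. -/
theorem bijective_free (h0 : H0 F) (heps : Heps F) : ∀ n : ℕ,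
    Function.Bijective fun (z : F.obj (freeSqZero k k n)) (j : Fin n) => F.map (projHom ⟨j⟩) z := by
  intro n
  refine ⟨?_, fun θ => ?_⟩
  · induction n with
    | zero =>
      intro z w _
      have hb : Function.Bijective (Art.toBase (freeSqZero k k 0)) := by
        refine ⟨fun a b hab => TrivSqZeroExt.ext hab (funext fun j => j.down.elim0), ?_⟩
        intro c
        exact ⟨(c, 0), rfl⟩
      haveI : IsIso (Art.toBase (freeSqZero k k 0)) := isIso_of_bijective _ hb
      exact (bijective_map_of_isIso F (Art.toBase (freeSqZero k k 0))).1 (@Subsingleton.elim _ h0.2 _ _)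
    | succ n ih =>
      intro z w hzw
      refine (cmp_injective_iff (isFibreProd_freeSqZero n)).1 (heps _ _ (isFibreProd_freeSqZero n)).1 z w
        (ih (funext fun j => ?_)) (congrFun hzw (Fin.last n))
      show F.map (projHom ⟨j⟩) (F.map (initHom n) z) = F.map (projHom ⟨j⟩) (F.map (initHom n) w)
      rw [map_map, map_map, initHom_projHom]
      exact congrFun hzw j.castSucc
  · obtain ⟨z, hz⟩ := exists_free_element h0 heps n θ
    exact ⟨z, funext hz⟩

variable {B A : Art k k} (p : B ⟶ A)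

/-- The difference square of a semismall extension. -/
theorem exists_diff_square (hp : Art.IsSemismallExt p) {n : ℕ}
    (b : Module.Basis (Fin n) k ↥(RingHom.ker p.toAlgHom)) :
    ∃ (P : Art k k) (p₁ p₂ : P ⟶ B) (g : P ⟶ freeSqZero k k n),
      Art.IsFibreProd p₁ p₂ p p ∧
      Art.IsFibreProd p₁ g (Art.toBase B) (Art.toBase (freeSqZero k k n)) := by
  have hsm : ∀ (a : B) (j : B), j ∈ RingHom.ker p.toAlgHom → a * j = B.res a • j := by
    intro a j hj
    have h0 : (a - algebraMap k B (B.res a)) * j = 0 :=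
      IsSemismallExt.mul_eq_zero hp (by rw [Art.mem_maximalIdeal_iff, map_sub, AlgHom.commutes]; simp)
        ((mem_ker p _).1 hj)
    rw [Algebra.smul_def, ← sub_eq_zero, ← sub_mul, h0]
  obtain ⟨P, p₁, p₂, hP⟩ := exists_isFibreProd p p hp.1
  have hmem : ∀ z : P, p₂ z - p₁ z ∈ RingHom.ker p.toAlgHom := fun z => by
    rw [mem_ker, map_sub, ← hP.w_apply, sub_self]
  let d : P → (Fin n → k) := fun z => b.equivFun ⟨p₂ z - p₁ z, hmem z⟩
  have hd : ∀ (z : P) (y : B) (hy : y ∈ RingHom.ker p.toAlgHom), p₂ z - p₁ z = y →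
      d z = b.equivFun ⟨y, hy⟩ := fun z y hy h => congrArg b.equivFun (Subtype.ext h)
  have hone : d 1 = 0 :=
    (hd 1 0 (zero_mem _) (by simp)).trans (map_zero b.equivFun)
  have hzero : d 0 = 0 :=
    (hd 0 0 (zero_mem _) (by simp)).trans (map_zero b.equivFun)
  have hadd : ∀ x y, d (x + y) = d x + d y := fun x y =>
    (hd (x + y) _ (add_mem (hmem x) (hmem y)) (by rw [map_add, map_add]; ring)).trans
      (map_add b.equivFun ⟨_, hmem x⟩ ⟨_, hmem y⟩)
  have hmul : ∀ x y, d (x * y) = B.res (p₁ x) • d y + B.res (p₁ y) • d x := fun x y => by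
    have e : p₂ (x * y) - p₁ (x * y) =
        B.res (p₁ x) • (p₂ y - p₁ y) + B.res (p₁ y) • (p₂ x - p₁ x) := by
      rw [← hsm _ _ (hmem y), show B.res (p₁ y) = B.res (p₂ y) from (Art.res_app p₁ y).trans (Art.res_app p₂ y).symm,
        ← hsm _ _ (hmem x), map_mul, map_mul]
      ring
    refine (hd (x * y) _ (add_mem (Submodule.smul_of_tower_mem _ _ (hmem y))
      (Submodule.smul_of_tower_mem _ _ (hmem x))) e).trans ?_
    exact (map_add b.equivFun (B.res (p₁ x) • (⟨_, hmem y⟩ : ↥(RingHom.ker p.toAlgHom)))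
      (B.res (p₁ y) • (⟨_, hmem x⟩ : ↥(RingHom.ker p.toAlgHom)))).trans
      (congrArg₂ (· + ·) (map_smul b.equivFun _ _) (map_smul b.equivFun _ _))
  have halg : ∀ c : k, d (algebraMap k P c) = 0 := fun c =>
    (hd _ 0 (zero_mem _) (by rw [AlgHom.commutes, AlgHom.commutes, sub_self])).trans (map_zero b.equivFun)
  let g₀ : P →ₐ[k] TrivSqZeroExt k (ULift.{u} (Fin n) → k) :=
    { toFun := fun z => (B.res (p₁ z), fun j => d z j.down)
      map_one' := TrivSqZeroExt.ext (by change B.res (p₁ 1) = 1; rw [map_one, map_one])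
        (funext fun j => congrFun hone j.down)
      map_mul' := fun x y => TrivSqZeroExt.ext
        (by change B.res (p₁ (x * y)) = B.res (p₁ x) * B.res (p₁ y); rw [map_mul, map_mul])
        (funext fun j => by
          change d (x * y) j.down = B.res (p₁ x) * d y j.down + d x j.down * B.res (p₁ y)
          rw [hmul, Pi.add_apply, Pi.smul_apply, Pi.smul_apply, smul_eq_mul, smul_eq_mul]
          ring)
      map_zero' := TrivSqZeroExt.ext (by change B.res (p₁ 0) = 0; rw [map_zero, map_zero])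
        (funext fun j => congrFun hzero j.down)
      map_add' := fun x y => TrivSqZeroExt.ext
        (by change B.res (p₁ (x + y)) = B.res (p₁ x) + B.res (p₁ y); rw [map_add, map_add])
        (funext fun j => congrFun (hadd x y) j.down)
      commutes' := fun c => TrivSqZeroExt.ext (by
          change B.res (p₁ (algebraMap k P c)) = c
          rw [AlgHom.commutes, AlgHom.commutes]
          rfl)
        (funext fun j => congrFun (halg c) j.down) }
  refine ⟨P, p₁, p₂, Art.homMk (B := freeSqZero k k n) g₀ (AlgHom.ext fun z => Art.res_app p₁ z), hP,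
    ⟨?_, ?_, ?_⟩⟩
  · rw [Art.eq_toBase (p₁ ≫ Art.toBase B), Art.eq_toBase (_ ≫ Art.toBase _)]
  · intro x y h₁ h₂
    refine hP.inj x y h₁ ?_
    have e : d x = d y := funext fun j => congrFun (congrArg TrivSqZeroExt.snd h₂) ⟨j⟩
    have e' : p₂ x - p₁ x = p₂ y - p₁ y := congrArg Subtype.val (b.equivFun.injective e)
    rw [h₁] at e'
    exact sub_left_inj.1 e'
  · intro c w hcw
    let v : ↥(RingHom.ker p.toAlgHom) := b.equivFun.symm fun j => TrivSqZeroExt.snd w ⟨j⟩
    obtain ⟨z, hz₁, hz₂⟩ := hP.surj c (c + v.1) (by rw [map_add, (mem_ker p v.1).1 v.2, add_zero])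
    refine ⟨z, hz₁, TrivSqZeroExt.ext ?_ (funext fun j => ?_)⟩
    · change B.res (p₁ z) = TrivSqZeroExt.fst w
      rw [hz₁]
      exact hcw
    · change d z j.down = TrivSqZeroExt.snd w j
      rw [hd z v.1 v.2 (by rw [hz₁, hz₂, add_sub_cancel_left])]
      exact congrFun (b.equivFun.apply_symm_apply fun j => TrivSqZeroExt.snd w ⟨j⟩) j.down

/-- **The fibres along semismall extensions**: a nonempty fibre is `F(k[ε]) ⊗ ker p`, as a set. -/
theorem nonempty_fibre_equiv (h0 : H0 F) (hrs : RS F) (hp : Art.IsSemismallExt p)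
    {T : Type u} [AddCommGroup T] [Module k T] (e : F.obj (Art.dual k k) ≃ T) (x' : F.obj B) :
    Nonempty ({z : F.obj B // F.map p z = F.map p x'} ≃ (T ⊗[k] ↥(RingHom.ker p.toAlgHom))) := by
  haveI := isNoetherian_base B
  haveI : Module.Finite k ↥(RingHom.ker p.toAlgHom) :=
    Module.Finite.of_injective ((RingHom.ker p.toAlgHom).subtype.restrictScalars k) Subtype.val_injective
  let b := Module.finBasis k ↥(RingHom.ker p.toAlgHom)
  obtain ⟨P, p₁, p₂, g, hP, hPg⟩ := exists_diff_square p hp b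
  have h₁ := hrs p₁ p₂ p p hP hp.1
  have h₂ := hrs p₁ g _ _ hPg (toBase_surjective _)
  let S := {ω : F.obj P // F.map p₁ ω = x'}
  have hl : Function.Bijective (fun ω : S =>
      (⟨F.map p₂ ω.1, by rw [map_map, ← hP.w, ← map_map, ω.2]⟩ : {z : F.obj B // F.map p z = F.map p x'})) := by
    refine ⟨fun ω ω' h => Subtype.ext ?_, fun z => ?_⟩
    · exact (cmp_injective_iff hP).1 h₁.1 _ _ (ω.2.trans ω'.2.symm) (congrArg Subtype.val h)
    · obtain ⟨ω, hω, hω'⟩ := (cmp_surjective_iff hP).1 h₁.2 x' z.1 z.2.symm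
      exact ⟨⟨ω, hω⟩, Subtype.ext hω'⟩
  have hr : Function.Bijective (fun ω : S => F.map g ω.1) := by
    refine ⟨fun ω ω' h => Subtype.ext ?_, fun w => ?_⟩
    · exact (cmp_injective_iff hPg).1 h₂.1 _ _ (ω.2.trans ω'.2.symm) h
    · obtain ⟨ω, hω, hω'⟩ := (cmp_surjective_iff hPg).1 h₂.2 x' w (@Subsingleton.elim _ h0.2 _ _)
      exact ⟨⟨ω, hω⟩, hω'⟩
  let n := Module.finrank k ↥(RingHom.ker p.toAlgHom)
  exact ⟨(Equiv.ofBijective _ hl).symm.trans ((Equiv.ofBijective _ hr).trans
    ((Equiv.ofBijective _ (bijective_free h0 hrs.heps n)).trans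
      ((Equiv.piCongrRight fun _ : Fin n => e).trans
        ((TensorProduct.congr (LinearEquiv.refl k T) b.equivFun).trans
          (TensorProduct.piScalarRight k k T (Fin n))).toEquiv.symm)))⟩

end Groth.Agent.Lib.ArtinFun.SemismallFibre
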