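import Groth.Agent.Lib.ArtinFun.CRingBasic
import Groth.Agent.Lib.Excellent.CompletionNoetherian
import Mathlib.RingTheory.AdicCompletion.LocalRing

/-!
# Completion of an augmented noetherian algebra at the augmentation ideal
-/

universe u v

open CategoryTheory ArtFun

set_option linter.style.haveILetI false

namespace Groth.Agent.Lib.ArtinFun

variable {Λ : Type u} {k : Type u} [CommRing Λ] [Field k] [Algebra Λ k]

/-- The completion at the augmentation ideal, with its truncations. -/
theorem exists_completion_strong (B : Type u) [CommRing B] [Algebra Λ B] [IsNoetherianRing B]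
    (resB : B →ₐ[Λ] k) (hB : Function.Surjective resB) :
    ∃ (P : CRing Λ k) (ι : B →ₐ[Λ] P.carrier), P.res.comp ι = resB ∧
      (∀ (x : P.carrier) (n : ℕ), ∃ b, x - ι b ∈ IsLocalRing.maximalIdeal P.carrier ^ n) ∧
      (∀ n, ∃ ρ : P.carrier →ₐ[Λ] B ⧸ RingHom.ker resB ^ n, (∀ b, ρ (ι b) = Ideal.Quotient.mk _ b) ∧
        ∀ x ∈ IsLocalRing.maximalIdeal P.carrier ^ n, ρ x = 0) ∧
      ∀ (A : Art Λ k) (φ : HomSet B resB A),
        ∃! ψ : HomSet P.carrier P.res A, ∀ b, ψ.1 (ι b) = φ.1 b := by
  set M : Ideal B := RingHom.ker resB with hM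
  haveI hMmax : M.IsMaximal := RingHom.ker_isMaximal_of_surjective (resB : B →+* k) hB
  have hfg : M.FG := IsNoetherian.noetherian _
  haveI := AdicCompletion.isMaximal_map_of_le M M le_rfl hfg
  haveI := AdicCompletion.isAdicComplete_self M hfg
  haveI : IsLocalRing (AdicCompletion M B) :=
    isLocalRing_of_isAdicComplete_maximal (M.map (algebraMap B (AdicCompletion M B)))
  have hmax : IsLocalRing.maximalIdeal (AdicCompletion M B) =
      M.map (algebraMap B (AdicCompletion M B)) :=
    (IsLocalRing.eq_maximalIdeal inferInstance).symm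
  haveI : IsScalarTower Λ B (AdicCompletion M B) :=
    IsScalarTower.of_algebraMap_eq fun x => by
      rw [AdicCompletion.algebraMap_apply, AdicCompletion.algebraMap_apply]; rfl
  let ι : B →ₐ[Λ] AdicCompletion M B := IsScalarTower.toAlgHom Λ B (AdicCompletion M B)
  let resP : AdicCompletion M B →ₐ[Λ] k :=
    (Ideal.Quotient.liftₐ M resB fun _ ha => ha).comp
      ((AdicCompletion.evalOneₐ M).restrictScalars Λ)
  have hι : resP.comp ι = resB := by
    apply AlgHom.ext
    intro b
    change Ideal.Quotient.liftₐ M resB (fun _ ha => ha) (AdicCompletion.evalOneₐ M (algebraMap B _ b)) = resB b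
    rw [AlgHom.commutes]
    rfl
  have hresP : Function.Surjective resP := fun c => by
    obtain ⟨b, rfl⟩ := hB c
    exact ⟨ι b, AlgHom.congr_fun hι b⟩
  let P : CRing Λ k :=
    { carrier := AdicCompletion M B
      res := resP
      res_surjective := hresP
      isAdicComplete := by rw [hmax]; infer_instance }
  have happrox : ∀ (x : AdicCompletion M B) (n : ℕ),
      ∃ b, x - ι b ∈ IsLocalRing.maximalIdeal (AdicCompletion M B) ^ n :=
    exists_sub_mem_pow (ι : B →+* AdicCompletion M B) M
      (exists_mem_maximalIdeal_sub resP hresP ι resB hB hι) hmax.symm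
  have htr : ∀ n, ∃ ρ : AdicCompletion M B →ₐ[Λ] B ⧸ M ^ n, (∀ b, ρ (ι b) = Ideal.Quotient.mk _ b) ∧
      ∀ x ∈ IsLocalRing.maximalIdeal (AdicCompletion M B) ^ n, ρ x = 0 :=
    fun n => ⟨(AdicCompletion.evalₐ M n).restrictScalars Λ, fun b => by
      change AdicCompletion.evalₐ M n (algebraMap B _ b) = _
      rw [AlgHom.commutes]
      rfl, fun x hx => by
      rw [hmax, ← Ideal.map_pow] at hx
      have hle : (M ^ n).map (algebraMap B (AdicCompletion M B)) ≤
          RingHom.ker (AdicCompletion.evalₐ M n) := by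
        rw [Ideal.map_le_iff_le_comap]
        intro b hb
        rw [Ideal.mem_comap, RingHom.mem_ker, AlgHom.commutes]
        exact Ideal.Quotient.eq_zero_iff_mem.2 hb
      exact hle hx⟩
  refine ⟨P, ι, hι, happrox, htr, fun A φ => ?_⟩
  obtain ⟨N, hN⟩ := exists_maximalIdeal_pow_eq_bot A
  let ψ : AdicCompletion M B →ₐ[Λ] A :=
    (Ideal.Quotient.liftₐ (M ^ N) φ.1 fun r hr => homSet_pow_le_ker φ hN hr).comp
      ((AdicCompletion.evalₐ M N).restrictScalars Λ)
  have hψι : ∀ b, ψ (ι b) = φ.1 b := fun b => by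
    change Ideal.Quotient.liftₐ (M ^ N) φ.1 (fun r hr => homSet_pow_le_ker φ hN hr) (AdicCompletion.evalₐ M N (algebraMap B _ b)) = _
    rw [AlgHom.commutes]
    rfl
  have hres : A.res.comp ψ = resP := by
    apply AlgHom.ext
    intro x
    obtain ⟨b, hb⟩ := happrox x 1
    rw [pow_one, ← res_eq_zero_iff resP hresP, map_sub, sub_eq_zero] at hb
    have hb' : resP (ι b) = resB b := AlgHom.congr_fun hι b
    rw [hb, hb', ← homSet_res φ b, ← hψι b]
    have hx : A.res (ψ (x - ι b)) = 0 := by
      rw [← Art.mem_maximalIdeal_iff]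
      have hmem : x - ι b ∈ IsLocalRing.maximalIdeal (AdicCompletion M B) := by
        rw [← res_eq_zero_iff resP hresP, map_sub, hb, hb', sub_self]
      rw [hmax] at hmem
      have hle : M.map (algebraMap B (AdicCompletion M B)) ≤
          (IsLocalRing.maximalIdeal A).comap ψ := by
        rw [Ideal.map_le_iff_le_comap]
        intro m hm
        rw [Ideal.mem_comap, Ideal.mem_comap]
        change ψ (ι m) ∈ _
        rw [hψι, Art.mem_maximalIdeal_iff, homSet_res]
        exact hm
      exact hle hmem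
    rw [map_sub, map_sub, sub_eq_zero] at hx
    exact hx
  refine ⟨⟨ψ, hres⟩, hψι, ?_⟩
  rintro ψ' hψ'
  refine homSet_ext' fun x => ?_
  obtain ⟨b, hb⟩ := happrox x N
  have hker : RingHom.ker resP = IsLocalRing.maximalIdeal (AdicCompletion M B) :=
    Ideal.ext fun r => RingHom.mem_ker.trans (res_eq_zero_iff resP hresP r)
  rw [← hker] at hb
  have h1 := homSet_pow_le_ker ψ' hN hb
  have h2 := homSet_pow_le_ker (⟨ψ, hres⟩ : HomSet (AdicCompletion M B) resP A) hN hb
  rw [map_sub, sub_eq_zero] at h1 h2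
  exact h1.trans ((hψ' b).trans ((hψι b).symm.trans h2.symm))

/-- The completion at the augmentation ideal is a coefficient ring with the universal property
for maps to artinian objects. -/
theorem exists_completion (B : Type u) [CommRing B] [Algebra Λ B] [IsNoetherianRing B]
    (resB : B →ₐ[Λ] k) (hB : Function.Surjective resB) :
    ∃ (P : CRing Λ k) (ι : B →ₐ[Λ] P.carrier), P.res.comp ι = resB ∧
      ∀ (A : Art Λ k) (φ : HomSet B resB A),
        ∃! ψ : HomSet P.carrier P.res A, ∀ b, ψ.1 (ι b) = φ.1 b := by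
  obtain ⟨P, ι, h₁, -, -, h₂⟩ := exists_completion_strong B resB hB
  exact ⟨P, ι, h₁, h₂⟩

end Groth.Agent.Lib.ArtinFun
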