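import Groth.Agent.Lib.ArtinFun.LciLocal
import Groth.Agent.Lib.RefHull.DivTwist
import Groth.Agent.Lib.RefHull.LocFree
import Groth.Agent.Lib.DerivedOX.PullbackStalk
import Groth.Agent.Lib.ArtinFun.HomFinite
import Groth.Agent.Lib.LCI5.ConormalFlat

/-!
# The conormal sheaf of a locally complete intersection is locally free
-/

noncomputable section

universe u

open CategoryTheory CategoryTheory.Limits AlgebraicGeometry Opposite TopologicalSpace
open scoped TensorProduct

namespace Groth.Agent.Lib.ArtinFun.ConormalFree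

open Groth.Agent.Lib LiftSplit

/-- `T ⊗ M` is free when `M` is generated by elements with Koszul images generating the kernel of `R → T`. -/
theorem free_tensor {R T M : Type u} [CommRing R] [CommRing T] [Algebra R T] [AddCommGroup M] [Module R M]
    (hT : Function.Surjective (algebraMap R T)) (φ : M →ₗ[R] R) {r : ℕ} (m : Fin r → M)
    (hspan : Submodule.span R (Set.range m) = ⊤)
    (hf : KoszulRel R fun i => φ (m i))
    (hker : RingHom.ker (algebraMap R T) = Ideal.span (Set.range fun i => φ (m i))) :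
    Module.Free T (T ⊗[R] M) := by
  classical
  let I := RingHom.ker (algebraMap R T)
  have hmI : ∀ j, φ (m j) ∈ I := fun j => by
    show φ (m j) ∈ RingHom.ker (algebraMap R T)
    rw [hker]
    exact Ideal.subset_span ⟨j, rfl⟩
  let e : (R ⧸ I) ≃ₐ[R] T := Ideal.quotientKerAlgEquivOfSurjective (f := Algebra.ofId R T) hT
  refine Module.Free.of_basis (Module.Basis.mk (v := fun i => (1 : T) ⊗ₜ[R] m i) ?_ ?_)
  · rw [Fintype.linearIndependent_iff]
    intro l hl i
    choose c hc using fun i => hT (l i)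
    rw [← hc i]
    show c i ∈ I
    have h0 : (1 : T) ⊗ₜ[R] (∑ j, c j • m j) = 0 := by
      rw [TensorProduct.tmul_sum, ← hl]
      refine Finset.sum_congr rfl fun j _ => ?_
      rw [← hc j, algebraMap_smul, TensorProduct.tmul_smul]
    have h1 : (∑ j, c j • m j) ∈ I • (⊤ : Submodule R M) := by
      have h2 : (Submodule.Quotient.mk (∑ j, c j • m j) : M ⧸ I • (⊤ : Submodule R M)) = 0 := by
        have h3 : (1 : R ⧸ I) ⊗ₜ[R] (∑ j, c j • m j) = 0 := by
          have h4 := congrArg (LinearMap.rTensor M e.symm.toLinearMap) h0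
          rwa [LinearMap.rTensor_tmul, map_zero, show e.symm.toLinearMap (1 : T) = 1 from map_one e.symm] at h4
        have h5 := congrArg (TensorProduct.quotTensorEquivQuotSMul M I) h3
        rwa [map_zero, ← (Ideal.Quotient.mk I).map_one, TensorProduct.quotTensorEquivQuotSMul_mk_tmul,
          one_smul] at h5
      exact (Submodule.Quotient.mk_eq_zero _).1 h2
    have h6 : φ (∑ j, c j • m j) ∈ I * I := by
      refine Submodule.smul_induction_on h1 (fun a ha v _ => ?_) fun a b ha hb => ?_
      · rw [map_smul, smul_eq_mul]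
        refine Ideal.mul_mem_mul ha ?_
        show φ v ∈ I
        have hv : v ∈ Submodule.span R (Set.range m) := hspan ▸ Submodule.mem_top
        refine Submodule.span_induction (fun w hw => ?_) ?_ (fun a b _ _ ha hb => ?_) (fun a w _ hw => ?_) hv
        · obtain ⟨j, rfl⟩ := hw
          exact hmI j
        · rw [map_zero]; exact zero_mem _
        · rw [map_add]; exact add_mem ha hb
        · rw [map_smul]; exact Ideal.mul_mem_left _ _ hw
      · rw [map_add]; exact add_mem ha hb
    obtain ⟨ν, hν, hνs⟩ : ∃ ν : Fin r → R, (∀ j, ν j ∈ I) ∧ ∑ j, ν j * φ (m j) = φ (∑ j, c j • m j) := by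
      refine Submodule.mul_induction_on h6 (fun p hp q hq => ?_) ?_
      · replace hq : q ∈ RingHom.ker (algebraMap R T) := hq
        rw [hker] at hq
        obtain ⟨d, rfl⟩ := Ideal.mem_span_range_iff_exists_fun.1 hq
        exact ⟨fun j => p * d j, fun j => Ideal.mul_mem_right _ _ hp, by
          rw [Finset.mul_sum]; exact Finset.sum_congr rfl fun j _ => mul_assoc _ _ _⟩
      · rintro _ _ ⟨d, hd, rfl⟩ ⟨d', hd', rfl⟩
        exact ⟨d + d', fun j => add_mem (hd j) (hd' j), by simp [add_mul, Finset.sum_add_distrib]⟩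
    obtain ⟨C, -, -, hC⟩ := hf (fun j => c j - ν j) (by
      simp [sub_mul, Finset.sum_sub_distrib, hνs, map_sum])
    have h7 : c i - ν i ∈ I := by
      rw [hC i]
      exact Ideal.sum_mem _ fun j _ => Ideal.mul_mem_left _ _ (hmI j)
    simpa using add_mem h7 (hν i)
  · rintro w -
    induction w with
    | zero => exact zero_mem _
    | add a b ha hb => exact add_mem ha hb
    | tmul t v =>
      have hv : v ∈ Submodule.span R (Set.range m) := hspan ▸ Submodule.mem_top
      induction hv using Submodule.span_induction generalizing t with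
      | mem w hw =>
        obtain ⟨j, rfl⟩ := hw
        rw [show t ⊗ₜ[R] m j = t • ((1 : T) ⊗ₜ[R] m j) by rw [TensorProduct.smul_tmul', smul_eq_mul, mul_one]]
        exact Submodule.smul_mem _ _ (Submodule.subset_span ⟨j, rfl⟩)
      | zero => rw [TensorProduct.tmul_zero]; exact zero_mem _
      | add a b _ _ ha hb => rw [TensorProduct.tmul_add]; exact add_mem (ha t) (hb t)
      | smul a w _ hw => rw [← TensorProduct.smul_tmul]; exact hw _

variable {X : Scheme.{u}} (I₀ : X.IdealSheafData)

/-- The stalk of the ideal is generated by local generators. -/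
theorem span_germs {U : X.affineOpens} {r : ℕ} {f : Fin r → Γ(X, U.1)}
    (hU : I₀.ideal U = Ideal.span (Set.range f)) (m : Fin r → Γ(_root_.ClSub.idealMod I₀, U.1))
    (hm : ∀ i, (_root_.ClSub.idealModι I₀).app U.1 (m i) = f i) {y : X} (hy : y ∈ U.1) :
    Submodule.span (X.presheaf.stalk y)
      (Set.range fun i => (_root_.ClSub.idealMod I₀).presheaf.germ U.1 y hy (m i)) = ⊤ := by
  refine eq_top_iff.mpr fun v _ => ?_
  obtain ⟨W₀, hW₀, n₀, rfl⟩ := TopCat.Presheaf.exists_germ_eq (_root_.ClSub.idealMod I₀).presheaf v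
  obtain ⟨W, hW, hyW, hle⟩ := exists_isAffineOpen_mem_and_subset (X := X) (x := y) (U := W₀ ⊓ U.1)
    (Opens.mem_inf.mpr ⟨hW₀, hy⟩)
  have h0 : W ≤ W₀ := fun p hp => (Opens.mem_inf.mp (hle hp)).1
  have h1 : W ≤ U.1 := fun p hp => (Opens.mem_inf.mp (hle hp)).2
  set n := (_root_.ClSub.idealMod I₀).presheaf.map (homOfLE h0).op n₀ with hn₀
  have hmem : (_root_.ClSub.idealModι I₀).app W n ∈ I₀.ideal ⟨W, hW⟩ :=
    (ClSub.Sections.mem_range_idealModι_app_affine_iff I₀ ⟨W, hW⟩ _).mp ⟨n, rfl⟩
  rw [← I₀.map_ideal (U := ⟨W, hW⟩) (V := U) h1, hU, Ideal.map_span, ← Set.range_comp] at hmem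
  obtain ⟨c, hc⟩ := (Ideal.mem_span_range_iff_exists_fun (R := Γ(X, W))).mp hmem
  have hn : ∑ i, c i • (_root_.ClSub.idealMod I₀).presheaf.map (homOfLE h1).op (m i) = n := by
    apply ClSub.Sections.idealModι_app_injective I₀ W
    rw [map_sum]
    refine Eq.trans (Finset.sum_congr rfl fun i _ => ?_) hc
    rw [Scheme.Modules.Hom.app_smul]
    show c i * _ = c i * _
    congr 1
    exact (ConcreteCategory.congr_hom ((_root_.ClSub.idealModι I₀).mapPresheaf.naturality
      (homOfLE h1).op) (m i)).trans (congrArg (X.presheaf.map (homOfLE h1).op) (hm i))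
  have h2 := congrArg ((_root_.ClSub.idealMod I₀).presheaf.germ W y hyW) hn
  rw [hn₀, TopCat.Presheaf.germ_res_apply, map_sum] at h2
  rw [← h2]
  refine Submodule.sum_mem _ fun i _ => ?_
  rw [Mero.germ_smul, TopCat.Presheaf.germ_res_apply]
  exact Submodule.smul_mem _ _ (Submodule.subset_span ⟨i, rfl⟩)

/-- **The conormal sheaf is locally free.** -/
theorem isFinLocFree_conormal [IsLocallyNoetherian X] (h : LciLocal.IsH1Ideal I₀) :
    FlatMod.IsFinLocFree (Omega.conormal I₀.subschemeι) := by
  haveI : IsLocallyNoetherian I₀.subscheme := LocallyOfFiniteType.isLocallyNoetherian I₀.subschemeι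
  refine RefHull.LocFree.isFinLocFree (HomFinite.isCoh_conormal I₀.subschemeι) fun d => ?_
  rw [show Omega.conormal I₀.subschemeι =
      (Scheme.Modules.pullback I₀.subschemeι).obj (ClSub.idealMod I₀) from by
    unfold Omega.conormal
    exact congrArg (fun I => (Scheme.Modules.pullback I₀.subschemeι).obj (ClSub.idealMod I)) I₀.ker_subschemeι]
  have hmem : I₀.subschemeι d ∈ I₀.support := by
    rw [← SetLike.mem_coe, ← Scheme.IdealSheafData.range_subschemeι]
    exact ⟨d, rfl⟩
  obtain ⟨U, hd, r, f, hf, hI⟩ := h _ hmem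
  have hfI : ∀ i, f i ∈ I₀.ideal U := fun i => hI ▸ Ideal.subset_span ⟨i, rfl⟩
  choose m hm using fun i => (ClSub.Sections.mem_range_idealModι_app_affine_iff I₀ U (f i)).mpr (hfI i)
  let q := (I₀.subschemeι.stalkMap d).hom
  letI : Algebra (X.presheaf.stalk (I₀.subschemeι d)) (I₀.subscheme.presheaf.stalk d) := q.toAlgebra
  let e := ((DerivedOX.PullbackStalk.pullbackStalkIso I₀.subschemeι d).app (ClSub.idealMod I₀)).toLinearEquiv
  have hfree : Module.Free (I₀.subscheme.presheaf.stalk d)
      (I₀.subscheme.presheaf.stalk d ⊗[X.presheaf.stalk (I₀.subschemeι d)]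
        (ClSub.idealMod I₀).presheaf.stalk (I₀.subschemeι d)) := by
    refine free_tensor (RefHull.SubStalk.stalkMap_surjective I₀ d) (RefHull.DivTwist.ιs I₀ _)
      (fun i => (ClSub.idealMod I₀).presheaf.germ U.1 (I₀.subschemeι d) hd (m i))
      (span_germs I₀ hI m hm hd) ?_ ?_
    · simp only [RefHull.DivTwist.ιs_germ, hm]
      refine LciLocal.koszulRel_of_h1 (RegImmFlat.h1_map (X.presheaf.germ U.1 (I₀.subschemeι d) hd).hom ?_ f hf)
      letI := TopCat.Presheaf.algebra_section_stalk X.presheaf (⟨I₀.subschemeι d, hd⟩ : U.1)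
      haveI := U.2.isLocalization_stalk ⟨I₀.subschemeι d, hd⟩
      exact IsLocalization.flat (X.presheaf.stalk (I₀.subschemeι d))
        (U.2.primeIdealOf ⟨I₀.subschemeι d, hd⟩).asIdeal.primeCompl
    · simp only [RefHull.DivTwist.ιs_germ, hm]
      exact (RefHull.SubStalk.ker_stalkMap I₀ hI d hd).trans (by rw [← Set.range_comp]; rfl)
  exact Module.Free.of_basis ((@Module.Free.chooseBasis _ _ _ _ _ hfree).map e)

end Groth.Agent.Lib.ArtinFun.ConormalFree
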