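import Groth.Agent.Lib.ArtinFun.Essential
import Groth.Agent.Lib.ArtinFun.FiniteLength
import Mathlib.LinearAlgebra.Dual.Lemmas
import Mathlib.RingTheory.Etale.Field

/-!
# Differentials and essential surjections
-/

universe u v

open CategoryTheory ArtFun
open scoped TensorProduct

set_option linter.style.haveILetI false

namespace Groth.Agent.Lib.ArtinFun

variable {Λ : Type u} {k : Type u} [CommRing Λ] [Field k] [Algebra Λ k]

lemma dual_snd_algebraMap (l : Λ) :
    TrivSqZeroExt.snd (algebraMap Λ (Art.dual Λ k) l) = (0 : k) := by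
  change TrivSqZeroExt.snd (algebraMap Λ (TrivSqZeroExt k k) l) = 0
  rw [TrivSqZeroExt.algebraMap_eq_inl']
  rfl

/-- Surjectivity through differentials. -/
theorem surjective_iff_kaehler {A B : Art Λ k} (f : B ⟶ A) :
    letI : Algebra B A := f.toAlgHom.toRingHom.toAlgebra
    letI : Algebra A k := A.res.toRingHom.toAlgebra
    Function.Surjective f ↔ Subsingleton (k ⊗[A] Ω[A⁄B]) := by
  letI : Algebra B A := f.toAlgHom.toRingHom.toAlgebra
  letI : Algebra A k := A.res.toRingHom.toAlgebra
  constructor
  · intro hf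
    haveI := KaehlerDifferential.subsingleton_of_surjective B A hf
    refine ⟨fun x y => ?_⟩
    have h0 : ∀ z : k ⊗[A] Ω[A⁄B], z = 0 := fun z => by
      induction z using TensorProduct.induction_on with
      | zero => rfl
      | tmul c w => rw [Subsingleton.elim w 0, TensorProduct.tmul_zero]
      | add z w hz hw => rw [hz, hw, add_zero]
    rw [h0 x, h0 y]
  · intro hsub
    refine surjective_of_dual f fun δ hδ a => ?_
    letI : Algebra B k := ((algebraMap A k).comp (algebraMap B A)).toAlgebra
    haveI : IsScalarTower B A k := IsScalarTower.of_algebraMap_eq fun _ => rfl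
    let D : Derivation B A k := Derivation.mk'
      { toFun := fun a => TrivSqZeroExt.snd (δ a)
        map_add' := fun x y => by rw [map_add, dual_snd_add]
        map_smul' := fun b x => by
          rw [Algebra.smul_def b x, map_mul, dual_snd_mul, show algebraMap B A b = f b from rfl, hδ,
            mul_zero, add_zero, fst_app_dual]
          rfl }
      (fun x y => by
        change TrivSqZeroExt.snd (δ (x * y)) = A.res x * TrivSqZeroExt.snd (δ y) + A.res y * TrivSqZeroExt.snd (δ x)
        rw [map_mul, dual_snd_mul, fst_app_dual, fst_app_dual])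
    change D a = 0
    rw [← D.liftKaehlerDifferential_comp_D a, ← LinearMap.liftBaseChange_one_tmul k D.liftKaehlerDifferential,
      Subsingleton.elim (1 ⊗ₜ[A] _ : k ⊗[A] Ω[A⁄B]) 0, map_zero]

section Dual

variable (A : Art Λ k) [Algebra A k] [IsScalarTower Λ A k]

/-- Functionals on `k ⊗ Ω` are derivations. -/
noncomputable def dualEquivDer : Module.Dual k (k ⊗[A] Ω[A⁄Λ]) ≃ₗ[k] Derivation Λ A k where
  toFun L := KaehlerDifferential.linearMapEquivDerivation Λ A ((LinearMap.liftBaseChangeEquiv k).symm L)
  map_add' L M := by simp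
  map_smul' c L := by ext a; rfl
  invFun D := LinearMap.liftBaseChangeEquiv k
    ((KaehlerDifferential.linearMapEquivDerivation Λ A).symm D)
  left_inv L := by simp
  right_inv D := by simp only [LinearEquiv.symm_apply_apply]; exact LinearEquiv.apply_symm_apply _ D

variable [IsNoetherianRing Λ] [Module.Finite Λ k]

lemma finrank_derivation :
    FiniteDimensional k (Derivation Λ A k) ∧
      Module.finrank k (Derivation Λ A k) = Module.finrank k (k ⊗[A] Ω[A⁄Λ]) := by
  haveI := isNoetherian_base A
  haveI : Module.Finite Λ A := Module.IsNoetherian.finite Λ A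
  haveI : Algebra.FiniteType Λ A := inferInstance
  haveI : FiniteDimensional k (k ⊗[A] Ω[A⁄Λ]) := Module.Finite.base_change A k _
  exact ⟨Module.Finite.equiv (dualEquivDer A),
    (dualEquivDer A).finrank_eq.symm.trans Subspace.dual_finrank_eq⟩

end Dual

variable [IsNoetherianRing Λ] [Module.Finite Λ k]

/-- Essential surjections through differentials. -/
theorem isEssential_iff_kaehler {A B : Art Λ k} (f : B ⟶ A) :
    letI : Algebra B A := f.toAlgHom.toRingHom.toAlgebra
    letI : Algebra A k := A.res.toRingHom.toAlgebra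
    letI : Algebra B k := B.res.toRingHom.toAlgebra
    IsEssential f ↔ (Subsingleton (k ⊗[A] Ω[A⁄B]) ∧
      Module.finrank k (k ⊗[B] Ω[B⁄Λ]) = Module.finrank k (k ⊗[A] Ω[A⁄Λ])) := by
  letI : Algebra B A := f.toAlgHom.toRingHom.toAlgebra
  letI : Algebra A k := A.res.toRingHom.toAlgebra
  letI : Algebra B k := B.res.toRingHom.toAlgebra
  haveI : IsScalarTower Λ A k := IsScalarTower.of_algebraMap_eq fun x => (A.res.commutes x).symm
  haveI : IsScalarTower Λ B k := IsScalarTower.of_algebraMap_eq fun x => (B.res.commutes x).symm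
  haveI := (finrank_derivation A).1
  haveI := (finrank_derivation B).1
  let r : Derivation Λ A k →ₗ[k] Derivation Λ B k :=
    { toFun := fun D => Derivation.mk' (D.toLinearMap.comp f.toAlgHom.toLinearMap) fun x y => by
        change D (f (x * y)) = B.res x * D (f y) + B.res y * D (f x)
        rw [map_mul, Derivation.leibniz]
        change A.res (f x) * D (f y) + A.res (f y) * D (f x) = _
        rw [Art.res_app, Art.res_app]
      map_add' := fun D E => rfl
      map_smul' := fun c D => rfl }
  rw [isEssential_iff]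
  refine Iff.trans (and_congr_left' (surjective_iff_kaehler f)) (and_congr_right fun hsub => ?_)
  have hf : Function.Surjective f := (surjective_iff_kaehler f).2 hsub
  have hr : Function.Injective r := fun D E h => Derivation.ext fun a => by
    obtain ⟨b, rfl⟩ := hf a
    exact congrArg (fun Z : Derivation Λ B k => Z b) h
  rw [← (finrank_derivation A).2, ← (finrank_derivation B).2]
  constructor
  · intro h
    refine (LinearEquiv.ofBijective r ⟨hr, fun D => ?_⟩).finrank_eq.symm
    let δ : B ⟶ Art.dual Λ k := dualHomOfDer (fun b => D b)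
      (fun x y => by rw [Derivation.leibniz]; rfl) (map_add D) (fun l => D.map_algebraMap l)
    obtain ⟨s, hs⟩ := exists_hom_of_ker_le (C := A) (D := Art.dual Λ k)
      (⟨f.toAlgHom, f.res_comp⟩ : HomSet B B.res A) hf ⟨δ.toAlgHom, δ.res_comp⟩ (fun x hx => by
        refine TrivSqZeroExt.ext ?_ (h δ x hx)
        change TrivSqZeroExt.fst (δ x) = (0 : k)
        rw [fst_app_dual]
        exact (Art.mem_maximalIdeal_iff _ _).1 (ker_le_maximalIdeal f ((mem_ker f x).2 hx)))
    refine ⟨Derivation.mk'
      { toFun := fun a => TrivSqZeroExt.snd (s a)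
        map_add' := fun x y => by rw [map_add, dual_snd_add]
        map_smul' := fun l x => by
          rw [Algebra.smul_def l x, map_mul, AlgHom.commutes, dual_snd_mul, dual_snd_algebraMap,
            mul_zero, add_zero, Algebra.smul_def]
          congr 1
          }
      (fun x y => by
        change TrivSqZeroExt.snd (s (x * y)) = A.res x * TrivSqZeroExt.snd (s y) + A.res y * TrivSqZeroExt.snd (s x)
        rw [map_mul, dual_snd_mul, fst_app_dual, fst_app_dual]), Derivation.ext fun b => ?_⟩
    exact congrArg TrivSqZeroExt.snd (AlgHom.congr_fun (congrArg Subtype.val hs) b)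
  · intro hdim δ x hx
    obtain ⟨D, hD⟩ := (LinearMap.injective_iff_surjective_of_finrank_eq_finrank hdim.symm).1 hr
      (Derivation.mk'
        { toFun := fun b => TrivSqZeroExt.snd (δ b)
          map_add' := fun a b => by rw [map_add, dual_snd_add]
          map_smul' := fun l b => by
            rw [Algebra.smul_def l b, map_mul, AlgHom.commutes, dual_snd_mul, dual_snd_algebraMap,
              mul_zero, add_zero, Algebra.smul_def]
            congr 1
            }
        (fun a b => by
          change TrivSqZeroExt.snd (δ (a * b)) = B.res a * TrivSqZeroExt.snd (δ b) + B.res b * TrivSqZeroExt.snd (δ a)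
          rw [map_mul, dual_snd_mul, fst_app_dual, fst_app_dual]))
    have := congrArg (fun Z : Derivation Λ B k => Z x) hD
    refine this.symm.trans ?_
    change D (f x) = 0
    rw [hx, map_zero]

/-- The relation with `B / (m_Λ B + m_B ^ 2)`. -/
theorem isEssential_iff_relSq {A B A' B' : Art Λ k} (f : B ⟶ A)
    (qB : B ⟶ B') (hqB : Function.Surjective qB) (hkB : RingHom.ker qB.toAlgHom = relSq B)
    (qA : A ⟶ A') (hqA : Function.Surjective qA) (hkA : RingHom.ker qA.toAlgHom = relSq A)
    (f' : B' ⟶ A') (hf' : qB ≫ f' = f ≫ qA) : IsEssential f ↔ IsEssential f' := by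
  have hA : ∀ {C : Art Λ k} (g : C ⟶ A), Function.Surjective (g ≫ qA) → Function.Surjective g :=
    fun g hg => surjective_of_sub_mem_relSq g fun a => by
      obtain ⟨c, hc⟩ := hg (qA a)
      exact ⟨c, hkA ▸ (mem_ker qA _).2 (by rw [map_sub, ← hc]; exact sub_self _)⟩
  have hB : ∀ {C : Art Λ k} (g : C ⟶ B), Function.Surjective (g ≫ qB) → Function.Surjective g :=
    fun g hg => surjective_of_sub_mem_relSq g fun a => by
      obtain ⟨c, hc⟩ := hg (qB a)
      exact ⟨c, hkB ▸ (mem_ker qB _).2 (by rw [map_sub, ← hc]; exact sub_self _)⟩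
  have hw : ∀ b, f' (qB b) = qA (f b) := fun b => hom_congr_apply hf' b
  constructor
  · rintro ⟨hf, hess⟩
    refine ⟨fun a' => ?_, fun C g hg => ?_⟩
    · obtain ⟨a, rfl⟩ := hqA a'
      obtain ⟨b, rfl⟩ := hf a
      exact ⟨qB b, hw b⟩
    · obtain ⟨C', π₁, π₂, hC⟩ := exists_isFibreProd g qB hqB
      have h₁ : Function.Surjective π₁ := IsFibreProd.surjective_fst hC hqB
      have hs : Function.Surjective ((π₂ ≫ f) ≫ qA) := by
        intro a'
        obtain ⟨c, hc⟩ := hg a'
        obtain ⟨c', rfl⟩ := h₁ c
        exact ⟨c', by rw [← hc, hom_comp_apply, hom_comp_apply, hom_comp_apply, hC.w_apply, hw]⟩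
      intro b'
      obtain ⟨b, rfl⟩ := hqB b'
      obtain ⟨c', rfl⟩ := hess C' π₂ (hA _ hs) b
      exact ⟨π₁ c', hC.w_apply c'⟩
  · rintro ⟨hf, hess⟩
    refine ⟨hA f fun a' => ?_, fun C g hg => hB g (hess C _ fun a' => ?_)⟩
    · obtain ⟨b', rfl⟩ := hf a'
      obtain ⟨b, rfl⟩ := hqB b'
      exact ⟨b, (hw b).symm⟩
    · obtain ⟨a, rfl⟩ := hqA a'
      obtain ⟨c, rfl⟩ := hg a
      exact ⟨c, hw (g c)⟩

end Groth.Agent.Lib.ArtinFun

namespace Groth.Agent.Lib.ArtinFun

variable {Λ : Type u} {k : Type u} [CommRing Λ] [Field k] [Algebra Λ k]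

/-- Over a separable residue field an algebra killed by `m_Λ` contains its residue field. -/
theorem exists_section_of_separable [Module.Finite Λ k]
    [Algebra.IsSeparable (↥(algebraMap Λ k).range) k] (E : Art Λ k)
    (hE : ∀ l : Λ, algebraMap Λ k l = 0 → algebraMap Λ E l = 0) :
    Nonempty (Art.base Λ k ⟶ E) := by
  haveI := isMaximal_ker Λ k
  letI : Field (Λ ⧸ RingHom.ker (algebraMap Λ k)) := Ideal.Quotient.field _
  letI : Algebra (Λ ⧸ RingHom.ker (algebraMap Λ k)) k := (RingHom.kerLift (algebraMap Λ k)).toAlgebra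
  let e₁ := (RingHom.quotientKerEquivRange (algebraMap Λ k)).symm
  haveI : Algebra.IsSeparable (Λ ⧸ RingHom.ker (algebraMap Λ k)) k := by
    refine ⟨fun c => ?_⟩
    have hcomp : (algebraMap (Λ ⧸ RingHom.ker (algebraMap Λ k)) k).comp e₁.toRingHom =
        algebraMap (↥(algebraMap Λ k).range) k := by
      ext x
      obtain ⟨y, rfl⟩ := (RingHom.quotientKerEquivRange (algebraMap Λ k)).surjective x
      obtain ⟨l, rfl⟩ := Ideal.Quotient.mk_surjective y
      change algebraMap _ k (e₁ (RingHom.quotientKerEquivRange (algebraMap Λ k) _)) = _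
      rw [RingEquiv.symm_apply_apply]
      rfl
    refine Polynomial.Separable.of_dvd
      (Polynomial.Separable.map (f := e₁.toRingHom) (Algebra.IsSeparable.isSeparable (↥(algebraMap Λ k).range) c)) ?_
    refine minpoly.dvd _ c ?_
    rw [Polynomial.aeval_def, Polynomial.eval₂_map, hcomp, ← Polynomial.aeval_def, minpoly.aeval]
  haveI : Algebra.FormallyEtale (Λ ⧸ RingHom.ker (algebraMap Λ k)) k :=
    Algebra.FormallyEtale.of_isSeparable _ _
  letI : Algebra (Λ ⧸ RingHom.ker (algebraMap Λ k)) E :=
    (Ideal.Quotient.lift (RingHom.ker (algebraMap Λ k)) (algebraMap Λ E) fun l hl => hE l hl).toAlgebra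
  let g : E →ₐ[Λ ⧸ RingHom.ker (algebraMap Λ k)] k :=
    { E.res.toRingHom with
      commutes' := fun x => by
        obtain ⟨l, rfl⟩ := Ideal.Quotient.mk_surjective x
        exact E.res.commutes l }
  have hker : RingHom.ker (g : E →+* k) = IsLocalRing.maximalIdeal E := by
    ext a; rw [RingHom.mem_ker, Art.mem_maximalIdeal_iff]; rfl
  let s := Algebra.FormallySmooth.liftOfSurjective (AlgHom.id (Λ ⧸ RingHom.ker (algebraMap Λ k)) k) g
    E.res_surjective (by rw [hker]; exact isNilpotent_maximalIdeal E)
  let s₀ : k →ₐ[Λ] E :=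
    { s.toRingHom with
      commutes' := fun l => s.commutes (Ideal.Quotient.mk _ l) }
  refine ⟨Art.homMk (A := Art.base Λ k) s₀ (AlgHom.ext fun c => ?_)⟩
  exact AlgHom.congr_fun (Algebra.FormallySmooth.comp_liftOfSurjective
    (AlgHom.id (Λ ⧸ RingHom.ker (algebraMap Λ k)) k) g E.res_surjective _) c

variable [IsNoetherianRing Λ] [Module.Finite Λ k]

/-- Essential surjections through relative cotangent spaces, separable residue field. -/
theorem isEssential_iff_cotangent [Algebra.IsSeparable (↥(algebraMap Λ k).range) k]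
    {A B : Art Λ k} (f : B ⟶ A) :
    IsEssential f ↔
      (Ideal.map (algebraMap Λ A) (RingHom.ker (algebraMap Λ k)) ⊔ Ideal.map f.toAlgHom (IsLocalRing.maximalIdeal B) ⊔ IsLocalRing.maximalIdeal A ^ 2 =
          IsLocalRing.maximalIdeal A ∧
        ∀ b ∈ IsLocalRing.maximalIdeal B, f b ∈ relSq A → b ∈ relSq B) := by
  have hmapm : Ideal.map f.toAlgHom (IsLocalRing.maximalIdeal B) ≤ IsLocalRing.maximalIdeal A := by
    rw [Ideal.map_le_iff_le_comap]
    intro z hz
    rw [Ideal.mem_comap, Art.mem_maximalIdeal_iff]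
    exact (Art.res_app f z).trans ((Art.mem_maximalIdeal_iff _ _).1 hz)
  have hΛ : Ideal.map (algebraMap Λ A) (RingHom.ker (algebraMap Λ k)) ≤
      Ideal.map f.toAlgHom (IsLocalRing.maximalIdeal B) := by
    rw [Ideal.map_le_iff_le_comap]
    intro l hl
    rw [Ideal.mem_comap, ← f.toAlgHom.commutes l]
    exact Ideal.mem_map_of_mem _ (map_ker_le_maximalIdeal B (Ideal.mem_map_of_mem _ hl))
  constructor
  · intro hess
    obtain ⟨hf, hδ⟩ := (isEssential_iff f).1 hess
    refine ⟨le_antisymm (sup_le (sup_le (map_ker_le_maximalIdeal A) hmapm) (Ideal.pow_le_self two_ne_zero)) ?_, ?_⟩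
    · intro a ha
      obtain ⟨b, rfl⟩ := hf a
      rw [Art.mem_maximalIdeal_iff, Art.res_app, ← Art.mem_maximalIdeal_iff] at ha
      exact Ideal.mem_sup_left (Ideal.mem_sup_right (Ideal.mem_map_of_mem _ ha))
    · intro b hb hfb
      have hlift : ∀ a ∈ relSq A, ∃ i ∈ relSq B, f i = a := by
        intro a ha
        have e : Ideal.map f.toAlgHom (relSq B) = relSq A := by
          rw [relSq, relSq, Ideal.map_sup, Ideal.map_pow]
          congr 1
          · rw [← Ideal.map_coe f.toAlgHom, Ideal.map_map]
            congr 1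
            exact RingHom.ext f.toAlgHom.commutes
          · congr 1
            refine le_antisymm hmapm fun a ha => ?_
            obtain ⟨c, rfl⟩ := hf a
            rw [Art.mem_maximalIdeal_iff, Art.res_app, ← Art.mem_maximalIdeal_iff] at ha
            exact Ideal.mem_map_of_mem _ ha
        rw [← e] at ha
        exact (Ideal.mem_map_iff_of_surjective f.toAlgHom hf).1 ha
      obtain ⟨i, hi, hfi⟩ := hlift _ hfb
      by_contra hnb
      have hnx : b - i ∉ relSq B := fun h => hnb (by rw [← sub_add_cancel b i]; exact add_mem h hi)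
      obtain ⟨σ⟩ := exists_section_of_separable (Art.quot B (relSq B) (relSq_le_maximalIdeal B)) fun l hl => by
        rw [← AlgHom.commutes (Art.quotMk B (relSq B) (relSq_le_maximalIdeal B)).toAlgHom l, quotMk_eq_zero_iff]
        exact Ideal.mem_sup_left (Ideal.mem_map_of_mem _ hl)
      have hE : IsLocalRing.maximalIdeal (Art.quot B (relSq B) (relSq_le_maximalIdeal B)) ^ 2 = ⊥ := by
        rw [← le_bot_iff, pow_two, Ideal.mul_le]
        intro x hx y hy
        obtain ⟨x, rfl⟩ := Art.quotMk_surjective B (relSq B) (relSq_le_maximalIdeal B) x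
        obtain ⟨y, rfl⟩ := Art.quotMk_surjective B (relSq B) (relSq_le_maximalIdeal B) y
        rw [Art.mem_maximalIdeal_iff, Art.res_app, ← Art.mem_maximalIdeal_iff] at hx hy
        rw [Ideal.mem_bot, ← map_mul, quotMk_eq_zero_iff]
        exact Ideal.mem_sup_right (by rw [pow_two]; exact Ideal.mul_mem_mul hx hy)
      have hxm : b - i ∈ IsLocalRing.maximalIdeal B := sub_mem hb (relSq_le_maximalIdeal B hi)
      obtain ⟨δ, -, hδ1⟩ := exists_coord_hom σ hE (K := ⊥) bot_le
        (t := Art.quotMk B (relSq B) (relSq_le_maximalIdeal B) (b - i))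
        (by rwa [Art.mem_maximalIdeal_iff, Art.res_app, ← Art.mem_maximalIdeal_iff])
        (fun hm => hnx ((quotMk_eq_zero_iff _ _).1 (Ideal.mem_bot.1 hm)))
      refine one_ne_zero (α := k) (hδ1.symm.trans
        (hδ (Art.quotMk B (relSq B) (relSq_le_maximalIdeal B) ≫ δ) (b - i) ?_))
      rw [map_sub, hfi, sub_self]
  · rintro ⟨hsurj, hinj⟩
    have hf : Function.Surjective f := surjective_of_map_maximal f
      (hsurj.ge.trans (le_of_eq (by rw [sup_eq_right.2 hΛ])))
    refine ⟨hf, fun C g hg => surjective_of_sub_mem_relSq g fun b => ?_⟩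
    obtain ⟨c, hc⟩ := hg (f b)
    refine ⟨c, hinj _ (ker_le_maximalIdeal f ((mem_ker f _).2 ?_)) ?_⟩
    all_goals rw [map_sub, ← hc]
    · exact sub_self _
    · rw [hom_comp_apply, sub_self]; exact zero_mem _

end Groth.Agent.Lib.ArtinFun
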