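import Groth.Agent.Lib.ArtinFun.Hull
import Groth.Agent.Lib.ArtinFun.Formal
import Groth.Prelude.Def_W4sfdMinVersal

/-!
# Minimal versal families, endomorphisms of coefficient rings
-/

universe u v

open CategoryTheory ArtFun

set_option linter.style.haveILetI false

namespace Groth.Agent.Lib.ArtinFun

variable {Λ : Type u} {k : Type u} [CommRing Λ] [Field k] [Algebra Λ k]

/-- A surjective endomorphism of a noetherian ring is injective. -/
lemma bijective_of_surjective_endo {R : Type u} [CommRing R] [IsNoetherianRing R] [Algebra Λ R]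
    (f : R →ₐ[Λ] R) (hf : Function.Surjective f) : Function.Bijective f := by
  refine ⟨(injective_iff_map_eq_zero f).2 fun x hx => ?_, hf⟩
  have hcomp : ∀ n, RingHom.ker (f ^ n) ≤ RingHom.ker (f ^ (n + 1)) := fun n y hy => by
    rw [RingHom.mem_ker] at hy ⊢
    rw [pow_succ', AlgHom.mul_apply, hy, map_zero]
  obtain ⟨n, hn⟩ := monotone_stabilizes_iff_noetherian.2 (inferInstance : IsNoetherian R R)
    ⟨fun n => RingHom.ker (f ^ n), monotone_nat_of_le_succ hcomp⟩
  have hsurj : ∀ m, Function.Surjective (f ^ m : R →ₐ[Λ] R) := by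
    intro m
    induction m with
    | zero => exact fun y => ⟨y, rfl⟩
    | succ m ih =>
      intro y
      obtain ⟨z, rfl⟩ := hf y
      obtain ⟨w, rfl⟩ := ih z
      exact ⟨w, by rw [pow_succ', AlgHom.mul_apply]⟩
  obtain ⟨y, rfl⟩ := hsurj n x
  have hy : y ∈ RingHom.ker (f ^ (n + 1)) := by
    rw [RingHom.mem_ker, pow_succ', AlgHom.mul_apply, hx]
  have h := hn (n + 1) (Nat.le_succ n)
  simp only [OrderHom.coe_mk] at h
  rw [← h, RingHom.mem_ker] at hy
  exact hy

/-- A map of coefficient rings which reflects maps to `k[ε]` is surjective. -/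
theorem surjective_of_tangent_injective (R' R : CRing Λ k) (f : R'.carrier →ₐ[Λ] R.carrier)
    (hf : R.res.comp f = R'.res)
    (h : ∀ v : HomSet R.carrier R.res (Art.dual Λ k),
      (∀ r', TrivSqZeroExt.snd (v.1 (f r')) = (0 : k)) → ∀ r, TrivSqZeroExt.snd (v.1 r) = (0 : k)) :
    Function.Surjective f := by
  letI : Algebra R.carrier k := R.res.toRingHom.toAlgebra
  haveI : IsScalarTower Λ R.carrier k := IsScalarTower.of_algebraMap_eq fun x => (R.res.commutes x).symm
  haveI : IsPrecomplete (RingHom.ker R'.res) R'.carrier := by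
    rw [ker_res_cRing]
    exact isPrecomplete_cRing R'
  refine surjective_of_map_sup_sq R.res R.res_surjective R'.res R'.res_surjective f hf
    (map_sup_sq_of_derivation_injective (S := R.carrier) R.res_surjective f R'.res R'.res_surjective hf
      fun D hD => ?_)
  let v₀ : R.carrier →ₐ[Λ] DualNumber k :=
    { toFun := fun r => (R.res r, D r)
      map_one' := TrivSqZeroExt.ext (by change R.res 1 = 1; exact map_one _) (by change D 1 = 0; simp)
      map_mul' := fun a b => TrivSqZeroExt.ext (by change R.res (a * b) = R.res a * R.res b; exact map_mul _ _ _) (by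
        change D (a * b) = R.res a • D b + MulOpposite.op (R.res b) • D a
        rw [Derivation.leibniz, op_smul_eq_smul]
        rfl)
      map_zero' := TrivSqZeroExt.ext (by change R.res 0 = 0; exact map_zero _) (by change D 0 = 0; simp)
      map_add' := fun a b => TrivSqZeroExt.ext (by change R.res (a + b) = R.res a + R.res b; exact map_add _ _ _) (by
        change D (a + b) = D a + D b; simp)
      commutes' := fun l => TrivSqZeroExt.ext (R.res.commutes l) (by
        change D (algebraMap Λ R.carrier l) = _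
        rw [Derivation.map_algebraMap, TrivSqZeroExt.algebraMap_eq_inl']
        rfl) }
  exact Derivation.ext fun r => h ⟨v₀, AlgHom.ext fun _ => rfl⟩ hD r

variable {F : Art Λ k ⥤ Type v}

/-- Formal elements commute with transport. -/
lemma toFormalElt_along {R' R : CRing Λ k} (η : Family R'.carrier R'.res F)
    (f : R'.carrier →ₐ[Λ] R.carrier) (hf : R.res.comp f = R'.res) :
    (η.along f hf).toFormalElt = η.toFormalElt.push f hf := by
  apply FormalElt.ext'
  intro n
  exact (congrArg (η.app _) (homSet_ext' fun _ => rfl)).trans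
    (η.natural (CRing.truncMapOfHom f hf n) (R'.truncHom n))

lemma eq_along_of_push {R' R : CRing Λ k} {ξ : Family R.carrier R.res F} (u : FormalElt F R')
    (f : R'.carrier →ₐ[Λ] R.carrier) (hf : R.res.comp f = R'.res)
    (h : u.push f hf = ξ.toFormalElt) : ξ = (familyOfFormalElt u).along f hf :=
  family_ext (by rw [toFormalElt_along, toFormalElt_familyOfFormalElt, h])

lemma push_toFormalElt {R' R : CRing Λ k} {ξ : Family R.carrier R.res F} (η : Family R'.carrier R'.res F)
    (f : R'.carrier →ₐ[Λ] R.carrier) (hf : R.res.comp f = R'.res)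
    (h : (η.along f hf).toFormalElt = ξ.toFormalElt) : η.toFormalElt.push f hf = ξ.toFormalElt := by
  rw [← toFormalElt_along, h]

/-- Minimality criterion: the only maps to `k[ε]` inducing the zero tangent vector come from `k`. -/
theorem isMinimalVersal_of_tangent {R : CRing Λ k} (ξ : Family R.carrier R.res F) (hξ : IsVersal ξ)
    (h : ∀ v : HomSet R.carrier R.res (Art.dual Λ k),
      ξ.app _ v = F.map Art.baseToDual (ξ.app _ (homSetBase _ _)) →
        ∃ σ : Art.base Λ k ⟶ Art.dual Λ k, v = HomSet.map σ (homSetBase _ _)) :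
    ξ.IsMinimalVersal := by
  refine ⟨hξ, fun R' u f hf hu => surjective_of_tangent_injective R' R f hf fun v hv r => ?_⟩
  have hξv : ξ.app _ v = F.map Art.baseToDual (ξ.app _ (homSetBase _ _)) := by
    rw [← ξ.natural, eq_along_of_push u f hf hu]
    exact congrArg ((familyOfFormalElt u).app _) (homSet_ext' fun r' => TrivSqZeroExt.ext
      ((homSet_res (A := Art.dual Λ k) v (f r')).trans rfl) (hv r'))
  obtain ⟨σ, rfl⟩ := h v hξv
  obtain ⟨r', hr'⟩ := R'.res_surjective (R.res r)
  have h' := hv r'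
  change TrivSqZeroExt.snd (σ (R.res (f r'))) = 0 at h'
  rw [CRing.res_comp_apply f hf, hr'] at h'
  exact h'

theorem isMinimalVersal_of_isMiniversal {R : CRing Λ k} (ξ : Family R.carrier R.res F)
    (hξ : IsMiniversal ξ) : ξ.IsMinimalVersal :=
  isMinimalVersal_of_tangent ξ hξ.1 fun v hv =>
    ⟨Art.baseToDual, hξ.2.1 (hv.trans (ξ.natural _ _).symm)⟩

/-- Minimal versal families are unique up to isomorphism. -/
theorem minimalVersal_unique (h0 : H0 F) {R₁ R₂ : CRing Λ k} (ξ₁ : Family R₁.carrier R₁.res F)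
    (ξ₂ : Family R₂.carrier R₂.res F) (h₁ : ξ₁.IsMinimalVersal) (h₂ : ξ₂.IsMinimalVersal) :
    ∃ (e : R₁.carrier ≃ₐ[Λ] R₂.carrier) (he : R₂.res.comp (e : R₁.carrier →ₐ[Λ] R₂.carrier) = R₁.res),
      (ξ₁.along (e : R₁.carrier →ₐ[Λ] R₂.carrier) he).toFormalElt = ξ₂.toFormalElt := by
  obtain ⟨g, hg, hgu⟩ := exists_along_eq R₁ ξ₁ h₁.1 (surjective_base_of_h0 ξ₁ h0) R₂ ξ₂.toFormalElt
  obtain ⟨g', hg', hgu'⟩ := exists_along_eq R₂ ξ₂ h₂.1 (surjective_base_of_h0 ξ₂ h0) R₁ ξ₁.toFormalElt
  have hgs := h₂.2 R₁ ξ₁.toFormalElt g hg (push_toFormalElt ξ₁ g hg hgu)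
  have hgs' := h₁.2 R₂ ξ₂.toFormalElt g' hg' (push_toFormalElt ξ₂ g' hg' hgu')
  have hb := bijective_of_surjective_endo (g'.comp g) (hgs'.comp hgs)
  have hbij : Function.Bijective g := ⟨fun a b hab => hb.1 (congrArg g' hab), hgs⟩
  exact ⟨AlgEquiv.ofBijective g hbij, hg, hgu⟩

/-- An endomorphism of a pro-representable functor bijective on the tangent space is bijective. -/
theorem bijective_app_of_endo {U : Art Λ k ⥤ Type v} (hU : IsProrepresentable U) (φ : U ⟶ U)
    (hd : Function.Injective (TangentSpace.map φ)) (A : Art Λ k) : Function.Bijective (φ.app A) := by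
  obtain ⟨⟨R, ξ, hξ⟩⟩ := hU
  have hver : IsVersal ξ := fun B A μ _ ψ y hy => by
    obtain ⟨χ, rfl⟩ := (hξ B).2 y
    exact ⟨χ, (hξ A).1 (by rw [ξ.natural, hy]), rfl⟩
  obtain ⟨g, hg, hgu⟩ := exists_along_eq R ξ hver (hξ _).2 R (ξ.push φ).toFormalElt
  have hφ : ∀ (A : Art Λ k) (ψ : HomSet R.carrier R.res A),
      φ.app A (ξ.app A ψ) = (ξ.along g hg).app A ψ := fun A ψ => by
    rw [family_ext hgu]; rfl
  have hgs : Function.Surjective g := by
    refine surjective_of_tangent_injective R R g hg fun v hv r => ?_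
    have h0 : ξ.app _ v = ξ.app _ (HomSet.map Art.baseToDual (homSetBase _ _)) := by
      refine hd ?_
      refine (hφ _ v).trans (Eq.trans ?_ (hφ _ _).symm)
      refine congrArg (ξ.app _) (homSet_ext' fun r' => TrivSqZeroExt.ext ?_ (hv r'))
      exact (homSet_res (A := Art.dual Λ k) v (g r')).trans
        (homSet_res (A := Art.dual Λ k) (HomSet.map Art.baseToDual (homSetBase _ _)) (g r')).symm
    rw [(hξ _).1 h0]
    rfl
  have hgb := bijective_of_surjective_endo g hgs
  refine ⟨fun x y hxy => ?_, fun y => ?_⟩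
  · obtain ⟨a, rfl⟩ := (hξ A).2 x
    obtain ⟨b, rfl⟩ := (hξ A).2 y
    rw [hφ, hφ] at hxy
    have e := (hξ A).1 hxy
    refine congrArg _ (homSet_ext' fun r => ?_)
    obtain ⟨r, rfl⟩ := hgb.2 r
    exact AlgHom.congr_fun (congrArg Subtype.val e) r
  · obtain ⟨b, rfl⟩ := (hξ A).2 y
    let e := AlgEquiv.ofBijective g hgb
    have he : ∀ x, g (e.symm x) = x := fun x => e.apply_symm_apply x
    let a : HomSet R.carrier R.res A := ⟨b.1.comp e.symm.toAlgHom, by
      apply AlgHom.ext
      intro r
      obtain ⟨s, rfl⟩ := hgb.2 r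
      change A.res (b.1 (e.symm (g s))) = R.res (g s)
      rw [show e.symm (g s) = s from e.symm_apply_apply s, homSet_res, CRing.res_comp_apply g hg]⟩
    refine ⟨ξ.app A a, ?_⟩
    rw [hφ]
    refine congrArg (ξ.app A) (homSet_ext' fun r => ?_)
    change b.1 (e.symm (g r)) = b.1 r
    rw [show e.symm (g r) = r from e.symm_apply_apply r]

variable [IsNoetherianRing Λ] [Module.Finite Λ k]

/-- A minimal versal family is miniversal when `k` has no derivations over `Λ`. -/
theorem isMiniversal_of_isMinimalVersal (hk : Subsingleton (Art.base Λ k ⟶ Art.dual Λ k)) (h0 : H0 F)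
    (h2 : Heps F) {R : CRing Λ k} (ξ : Family R.carrier R.res F) (hξ : ξ.IsMinimalVersal) :
    IsMiniversal ξ := by
  obtain ⟨T⟩ := nonempty_tangentStr F h0 h2
  have hb := surjective_base_of_h0 ξ h0
  obtain ⟨H⟩ := hasHull_of_schlessinger hk F h0 (hbar_of_isVersal ξ hξ.1 hb) h2
    (hfin_of_surjective_family F ξ (surjective_app_of_isVersal ξ hξ.1 hb _))
  obtain ⟨e, he, heq⟩ := minimalVersal_unique h0 H.family ξ
    (isMinimalVersal_of_isMiniversal _ H.miniversal) hξ
  refine ⟨hξ.1, fun v w hvw => ?_, surjective_app_of_isVersal ξ hξ.1 hb _⟩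
  rw [← family_ext heq] at hvw
  have h := H.miniversal.2.1 hvw
  refine homSet_ext' fun r => ?_
  obtain ⟨r, rfl⟩ := e.surjective r
  exact AlgHom.congr_fun (congrArg Subtype.val h) r

end Groth.Agent.Lib.ArtinFun
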