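import Groth.Agent.Lib.ArtinFun.SmoothMap
import Groth.Agent.Lib.ArtinFun.Minimal
import Groth.Agent.Lib.ArtinFun.Versal
import Groth.Agent.Lib.ArtinFun.FiniteLength
import Mathlib.RingTheory.Artinian.Module

/-!
# Versal families as power series extensions of minimal ones
-/

universe u v

open CategoryTheory ArtFun MvPowerSeries

set_option linter.style.haveILetI false

namespace Groth.Agent.Lib.ArtinFun

variable {Λ : Type u} {k : Type u} [CommRing Λ] [Field k] [Algebra Λ k]

/-- Iterates of an endomorphism. -/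
noncomputable def hpow {A : Art Λ k} (h : A ⟶ A) : ℕ → (A ⟶ A)
  | 0 => 𝟙 A
  | n + 1 => h ≫ hpow h n

lemma hpow_apply {A : Art Λ k} (h : A ⟶ A) : ∀ (n : ℕ) (a : A),
    hpow h n a = (h.toAlgHom.toLinearMap ^ n) a
  | 0, _ => rfl
  | n + 1, a => by
    rw [hpow, hom_comp_apply, hpow_apply h n, pow_succ, Module.End.mul_apply]
    rfl

lemma map_hpow {F : Art Λ k ⥤ Type v} {A : Art Λ k} (h : A ⟶ A) {x : F.obj A} (hx : F.map h x = x) :
    ∀ n, F.map (hpow h n) x = x
  | 0 => by rw [hpow, CategoryTheory.Functor.map_id_apply]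
  | n + 1 => by rw [hpow, ← map_map, hx, map_hpow h hx n]

lemma hpow_comm {A A' : Art Λ k} (h : A ⟶ A) (h' : A' ⟶ A') (G : A ⟶ A') (hG : h ≫ G = G ≫ h') :
    ∀ (n : ℕ) (a : A), G (hpow h n a) = hpow h' n (G a)
  | 0, _ => rfl
  | n + 1, a => by
    rw [hpow, hpow, hom_comp_apply, hom_comp_apply, hpow_comm h h' G hG n, ← hom_comp_apply h G,
      hG, hom_comp_apply]

/-- The Fitting idempotent of an endomorphism. -/
structure FittingIdem {A : Art Λ k} (h : A ⟶ A) where
  /-- The idempotent. -/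
  e : A ⟶ A
  /-- The exponent. -/
  N : ℕ
  pos : 1 ≤ N
  fix : ∀ n, N ≤ n → ∀ a, e (hpow h n a) = hpow h n a
  mem : ∀ n, N ≤ n → ∀ a, (∃ b, hpow h n b = e a) ∧ hpow h n (a - e a) = 0
  kill : ∀ n, N ≤ n → ∀ a, hpow h n a = 0 → e a = 0

variable [IsNoetherianRing Λ] [Module.Finite Λ k]

theorem nonempty_fittingIdem {A : Art Λ k} (h : A ⟶ A) : Nonempty (FittingIdem h) := by
  haveI := isNoetherian_base A
  haveI := isArtinian_base A
  let f : Module.End Λ A := h.toAlgHom.toLinearMap
  obtain ⟨N₀, hN₀⟩ := Filter.eventually_atTop.1 (f.eventually_isCompl_ker_pow_range_pow)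
  let N := N₀ + 1
  have hc : ∀ n, N ≤ n → IsCompl (LinearMap.ker (f ^ n)) (LinearMap.range (f ^ n)) :=
    fun n hn => hN₀ n (by omega)
  -- kernels and ranges are constant from `N` on
  have hker : ∀ n, N ≤ n → LinearMap.ker (f ^ n) = LinearMap.ker (f ^ N) := by
    intro n hn
    refine le_antisymm (fun x hx => ?_) (fun x hx => ?_)
    · obtain ⟨a, ha, b, hb, rfl⟩ := Submodule.mem_sup.1
        ((hc N le_rfl).sup_eq_top.ge (Submodule.mem_top : x ∈ ⊤))
      obtain ⟨c, rfl⟩ := LinearMap.mem_range.1 hb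
      have hfa : (f ^ n) a = 0 := by
        rw [show n = (n - N) + N by omega, pow_add, Module.End.mul_apply, LinearMap.mem_ker.1 ha, map_zero]
      have hfb : (f ^ n) ((f ^ N) c) = 0 := by
        have := LinearMap.mem_ker.1 hx
        rwa [map_add, hfa, zero_add] at this
      have hcn : (f ^ (n + N)) c = 0 := by rw [pow_add, Module.End.mul_apply, hfb]
      have : (f ^ N) c = 0 := by
        by_cases hz : (f ^ n) c = 0
        · -- iterate down using disjointness at level `n`
          have hd := (hc N le_rfl)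
          have h1 : ∀ j, ∀ y, y ∈ LinearMap.range (f ^ N) → (f ^ (j * N)) y = 0 → y = 0 := by
            intro j
            induction j with
            | zero => intro y _ hy; simpa using hy
            | succ j ih =>
              intro y hy hy0
              refine Submodule.disjoint_def.1 hd.disjoint y ?_ hy
              refine LinearMap.mem_ker.2 (ih _ ⟨y, rfl⟩ ?_)
              rwa [← Module.End.mul_apply, ← pow_add, ← add_one_mul]
          refine h1 n _ ⟨c, rfl⟩ ?_
          have hle : n ≤ n * N := Nat.le_mul_of_pos_right n (by omega)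
          rw [show n * N = (n * N - n) + n by omega, pow_add, Module.End.mul_apply, hfb, map_zero]
        · exfalso
          refine hz (Submodule.disjoint_def.1 (hc n hn).disjoint _ (LinearMap.mem_ker.2 ?_) ⟨c, rfl⟩)
          rw [← Module.End.mul_apply, ← pow_add, show n + n = (n - N) + (n + N) by omega, pow_add,
            Module.End.mul_apply, hcn, map_zero]
      rw [this, add_zero]
      exact ha
    · rw [LinearMap.mem_ker, show n = (n - N) + N by omega, pow_add, Module.End.mul_apply,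
        LinearMap.mem_ker.1 hx, map_zero]
  have hrange : ∀ n, N ≤ n → LinearMap.range (f ^ n) = LinearMap.range (f ^ N) := by
    intro n hn
    refine le_antisymm ?_ (fun x hx => ?_)
    · rw [show n = N + (n - N) by omega, pow_add, Module.End.mul_eq_comp]
      exact LinearMap.range_comp_le_range _ _
    · obtain ⟨a, ha, b, hb, rfl⟩ := Submodule.mem_sup.1
        ((hc n hn).sup_eq_top.ge (Submodule.mem_top : x ∈ ⊤))
      rw [hker n hn] at ha
      have hb' : b ∈ LinearMap.range (f ^ N) := by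
        rw [show n = N + (n - N) by omega, pow_add, Module.End.mul_eq_comp] at hb
        exact LinearMap.range_comp_le_range _ _ hb
      have ha' : a ∈ LinearMap.range (f ^ N) := by
        have := sub_mem hx hb'
        rwa [add_sub_cancel_right] at this
      rw [Submodule.disjoint_def.1 (hc N le_rfl).disjoint a ha ha', zero_add]
      exact hb
  have hp : ∀ a : A, ∃ r, r ∈ LinearMap.range (f ^ N) ∧ (f ^ N) (a - r) = 0 := fun a => by
    obtain ⟨x, hx, y, hy, rfl⟩ := Submodule.mem_sup.1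
      ((hc N le_rfl).sup_eq_top.ge (Submodule.mem_top : a ∈ ⊤))
    exact ⟨y, hy, by rw [add_sub_cancel_right]; exact hx⟩
  choose P hP₁ hP₂ using hp
  have huniq : ∀ a r, r ∈ LinearMap.range (f ^ N) → (f ^ N) (a - r) = 0 → P a = r := by
    intro a r hr hr'
    have h1 : P a - r ∈ LinearMap.ker (f ^ N) := by
      rw [LinearMap.mem_ker, show P a - r = (a - r) - (a - P a) by abel, map_sub, hr', hP₂, sub_zero]
    exact sub_eq_zero.1 (Submodule.disjoint_def.1 (hc N le_rfl).disjoint _ h1 (sub_mem (hP₁ a) hr))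
  have hfN : ∀ x y : A, (f ^ N) (x * y) = (f ^ N) x * (f ^ N) y := fun x y => by
    simp only [f, ← hpow_apply, map_mul]
  have hrmul : ∀ x y, x ∈ LinearMap.range (f ^ N) → y ∈ LinearMap.range (f ^ N) →
      x * y ∈ LinearMap.range (f ^ N) := by
    rintro _ _ ⟨x, rfl⟩ ⟨y, rfl⟩
    exact ⟨x * y, hfN x y⟩
  have hralg : ∀ l : Λ, algebraMap Λ A l ∈ LinearMap.range (f ^ N) := fun l =>
    ⟨algebraMap Λ A l, by simp only [f, ← hpow_apply, AlgHom.commutes]⟩
  let e₀ : A →ₐ[Λ] A :=
    { toFun := P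
      map_one' := huniq 1 1 (by simpa using hralg 1) (by simp)
      map_mul' := fun a b => huniq _ _ (hrmul _ _ (hP₁ a) (hP₁ b)) (by
        rw [show a * b - P a * P b = (a - P a) * b + P a * (b - P b) by ring, map_add, hfN, hfN,
          hP₂, hP₂, zero_mul, mul_zero, add_zero])
      map_zero' := huniq 0 0 (zero_mem _) (by simp)
      map_add' := fun a b => huniq _ _ (add_mem (hP₁ a) (hP₁ b)) (by
        rw [show a + b - (P a + P b) = (a - P a) + (b - P b) by abel, map_add, hP₂, hP₂, add_zero])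
      commutes' := fun l => huniq _ _ (hralg l) (by simp) }
  refine ⟨⟨Art.homMk e₀ (AlgHom.ext fun a => ?_), N, by omega, fun n hn a => ?_, fun n hn a => ⟨?_, ?_⟩,
    fun n hn a ha => ?_⟩⟩
  · have h1 : A.res (hpow h N (a - P a)) = 0 := by
      rw [hpow_apply]
      exact (congrArg A.res (hP₂ a)).trans (map_zero _)
    rw [Art.res_app, map_sub, sub_eq_zero] at h1
    exact h1.symm
  · rw [hpow_apply]
    change P ((f ^ n) a) = (f ^ n) a
    exact huniq _ _ (hrange n hn ▸ ⟨a, rfl⟩) (by simp)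
  · obtain ⟨b, hb⟩ : P a ∈ LinearMap.range (f ^ n) := hrange n hn ▸ hP₁ a
    exact ⟨b, by rw [hpow_apply]; exact hb⟩
  · rw [hpow_apply]
    have : a - P a ∈ LinearMap.ker (f ^ n) := hker n hn ▸ hP₂ a
    exact this
  · rw [hpow_apply] at ha
    have : a ∈ LinearMap.ker (f ^ N) := hker n hn ▸ ha
    exact huniq a 0 (zero_mem _) (by rw [sub_zero]; exact this)

namespace FittingIdem

variable {A : Art Λ k} {h : A ⟶ A} (I : FittingIdem h)

omit [IsNoetherianRing Λ] [Module.Finite Λ k] in
lemma idem (a : A) : I.e (I.e a) = I.e a := by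
  obtain ⟨b, hb⟩ := (I.mem I.N le_rfl a).1
  rw [← hb, I.fix I.N le_rfl b]

omit [IsNoetherianRing Λ] [Module.Finite Λ k] in
lemma map_fixed {F : Art Λ k ⥤ Type v} {x : F.obj A} (hx : F.map h x = x) : F.map I.e x = x := by
  conv_lhs => rw [← map_hpow h hx I.N, map_map]
  rw [map_congr (hom_ext_apply (fun a => I.fix I.N le_rfl a) : hpow h I.N ≫ I.e = hpow h I.N),
    map_hpow h hx I.N]

omit [IsNoetherianRing Λ] [Module.Finite Λ k] in
lemma comm {A' : Art Λ k} {h' : A' ⟶ A'} (I' : FittingIdem h') (G : A ⟶ A')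
    (hG : h ≫ G = G ≫ h') (a : A) : G (I.e a) = I'.e (G a) := by
  let n := I.N + I'.N
  obtain ⟨b, hb⟩ := (I.mem n (Nat.le_add_right _ _) a).1
  have h2 := (I.mem n (Nat.le_add_right _ _) a).2
  have h3 : I'.e (G (a - I.e a)) = 0 := by
    refine I'.kill n (Nat.le_add_left _ _) _ ?_
    rw [← hpow_comm h h' G hG, h2, map_zero]
  rw [map_sub, map_sub, sub_eq_zero] at h3
  rw [h3, ← hb, hpow_comm h h' G hG, I'.fix n (Nat.le_add_left _ _)]

omit [IsNoetherianRing Λ] [Module.Finite Λ k] in
lemma surjective_of_eq_id (he : ∀ a, I.e a = a) : Function.Surjective h := by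
  intro a
  obtain ⟨b, hb⟩ := (I.mem I.N le_rfl a).1
  rw [he] at hb
  obtain ⟨m, hm⟩ := Nat.exists_eq_add_of_le I.pos
  have hc := hpow_comm h h h rfl m b
  refine ⟨hpow h m b, ?_⟩
  rw [hc, ← hb, hm, add_comm, hpow, hom_comp_apply]

end FittingIdem

/-- An endomorphism fixing a family produces an idempotent one. -/
theorem exists_idempotent {F : Art Λ k ⥤ Type v} (R : CRing Λ k) (ξ : Family R.carrier R.res F)
    (h : R.carrier →ₐ[Λ] R.carrier) (hh : R.res.comp h = R.res)
    (hξ : (ξ.along h hh).toFormalElt = ξ.toFormalElt) :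
    ∃ (θ : R.carrier →ₐ[Λ] R.carrier) (hθ : R.res.comp θ = R.res),
      (∀ x, θ (θ x) = θ x) ∧ (ξ.along θ hθ).toFormalElt = ξ.toFormalElt ∧
        ((∀ x, θ x = x) → Function.Surjective h) := by
  let H : ∀ n, R.trunc n ⟶ R.trunc n := fun n => CRing.truncMapOfHom h hh n
  have hI := fun n => (nonempty_fittingIdem (H n))
  let I := fun n => (hI n).some
  obtain ⟨θ, hθ, hθe⟩ := exists_algHom_of_trunc R (fun n => HomSet.map (I n).e (R.truncHom n)) fun n => by
    refine homSet_ext' fun r => ?_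
    change R.truncMap n ((I (n + 1)).e _) = _
    rw [(I (n + 1)).comm (I n) (R.truncMap n) (CRing.truncMapOfHom_truncMap h hh n)]
    rfl
  have hfix : ∀ n, F.map (H n) (ξ.toFormalElt.elt n) = ξ.toFormalElt.elt n := fun n => by
    have := congrArg (fun u : FormalElt F R => u.elt n) hξ
    rw [toFormalElt_along] at this
    exact this
  refine ⟨θ, hθ, fun x => ?_, FormalElt.ext' fun n => ?_, fun hid => ?_⟩
  · refine AlgHom.congr_fun (algHom_ext_trunc R (g₁ := θ.comp θ) (g₂ := θ) fun n r => ?_) x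
    rw [AlgHom.comp_apply, hθe, hθe]
    change (I n).e ((R.truncHom n).1 (θ r)) = _
    rw [hθe]
    exact (I n).idem _
  · rw [along_elt ξ θ hθ n (HomSet.map (I n).e (R.truncHom n)) fun r => (hθe n r).symm, ξ.natural]
    exact (I n).map_fixed (hfix n)
  · haveI : IsPrecomplete (RingHom.ker R.res) R.carrier := by
      rw [ker_res_cRing]; exact isPrecomplete_cRing R
    have hs : Function.Surjective (H 1) := (I 1).surjective_of_eq_id fun a => by
      obtain ⟨r, rfl⟩ := truncHom_surjective R 1 a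
      have := hθe 1 r
      rw [hid] at this
      exact this.symm
    refine surjective_of_map_sup_sq R.res R.res_surjective R.res R.res_surjective h hh
      (le_antisymm (sup_le (Ideal.map_le_iff_le_comap.2 ?_) (Ideal.pow_le_self two_ne_zero)) fun r hr => ?_)
    · rw [ker_res_cRing]
      exact CRing.maximalIdeal_le_comap h hh
    · obtain ⟨a, ha⟩ := hs ((R.truncHom 1).1 r)
      obtain ⟨s, rfl⟩ := truncHom_surjective R 1 a
      have hmem : h s - r ∈ IsLocalRing.maximalIdeal R.carrier ^ 2 := Ideal.Quotient.eq.1 ha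
      rw [← sub_sub_cancel (h s) r]
      refine sub_mem (Ideal.mem_sup_left (Ideal.mem_map_of_mem _ ?_)) (Ideal.mem_sup_right hmem)
      rw [RingHom.mem_ker, ← CRing.res_comp_apply h hh s]
      rw [← CRing.mem_maximalIdeal_iff]
      have := add_mem (Ideal.pow_le_self two_ne_zero hmem) hr
      rwa [sub_add_cancel] at this

/-- Every versal family comes with a minimal versal retract. -/
theorem exists_minimal_retract {F : Art Λ k ⥤ Type v} (h0 : H0 F) (R : CRing Λ k)
    (ξ : Family R.carrier R.res F) (hξ : IsVersal ξ) :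
    ∃ (R' : CRing Λ k) (ξ' : Family R'.carrier R'.res F) (p : R.carrier →ₐ[Λ] R'.carrier)
      (i : R'.carrier →ₐ[Λ] R.carrier) (_ : R'.res.comp p = R.res) (hi : R.res.comp i = R'.res),
      (∀ a, p (i a) = a) ∧ ξ'.IsMinimalVersal ∧
        (ξ'.along i hi).toFormalElt = ξ.toFormalElt := by
  let S : Set (Ideal R.carrier) := {K | ∃ (θ : R.carrier →ₐ[Λ] R.carrier) (hθ : R.res.comp θ = R.res),
    (∀ x, θ (θ x) = θ x) ∧ (ξ.along θ hθ).toFormalElt = ξ.toFormalElt ∧ RingHom.ker θ = K}
  obtain ⟨K, ⟨θ, hθ, hidem, hθξ, rfl⟩, hmax⟩ := WellFounded.has_min (wellFounded_gt (α := Ideal R.carrier)) S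
    ⟨_, AlgHom.id Λ R.carrier, AlgHom.comp_id _, fun _ => rfl, FormalElt.ext' fun _ =>
      congrArg (ξ.app _) (homSet_ext' fun _ => rfl), rfl⟩
  obtain ⟨R', p, hp, hps, hpk⟩ := exists_cRing_quotient R (RingHom.ker θ) fun x hx => by
    rw [CRing.mem_maximalIdeal_iff, ← CRing.res_comp_apply θ hθ x, RingHom.mem_ker.1 hx, map_zero]
  let i : R'.carrier →ₐ[Λ] R.carrier :=
    (Ideal.Quotient.liftₐ (RingHom.ker p) θ fun x hx => (hpk x).1 hx).comp
      (Ideal.quotientKerAlgEquivOfSurjective hps).symm.toAlgHom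
  have hip : ∀ x, i (p x) = θ x := fun x => by
    have e : (Ideal.quotientKerAlgEquivOfSurjective hps).symm (p x) = Ideal.Quotient.mk _ x := by
      rw [AlgEquiv.symm_apply_eq]; rfl
    change Ideal.Quotient.liftₐ (RingHom.ker p) θ (fun x hx => (hpk x).1 hx) ((Ideal.quotientKerAlgEquivOfSurjective hps).symm (p x)) = _
    rw [e]
    rfl
  have hpθ : ∀ x, p (θ x) = p x := fun x => by
    rw [← sub_eq_zero, ← map_sub, hpk, RingHom.mem_ker, map_sub, hidem, sub_self]
  have hpi : ∀ a, p (i a) = a := fun a => by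
    obtain ⟨x, rfl⟩ := hps a
    rw [hip, hpθ]
  have hi : R.res.comp i = R'.res := AlgHom.ext fun a => by
    obtain ⟨x, rfl⟩ := hps a
    change R.res (i (p x)) = R'.res (p x)
    rw [hip, CRing.res_comp_apply θ hθ, CRing.res_comp_apply p hp]
  let ξ' := ξ.along p hp
  have hξ' : (ξ'.along i hi).toFormalElt = ξ.toFormalElt := by
    rw [← hθξ]
    exact FormalElt.ext' fun n => congrArg (ξ.app _) (homSet_ext' fun x => congrArg (R.truncHom n).1 (hip x))
  have hver : IsVersal ξ' := by
    intro B A μ hμ φ y hy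
    obtain ⟨ψ, hψ₁, hψ₂⟩ := hξ μ hμ _ y hy
    let ψ' : HomSet R'.carrier R'.res B := ⟨ψ.1.comp i, by rw [← AlgHom.comp_assoc, ψ.2, hi]⟩
    refine ⟨ψ', homSet_ext' fun a => ?_, ?_⟩
    · change μ (ψ.1 (i a)) = φ.1 a
      refine (AlgHom.congr_fun (congrArg Subtype.val hψ₁) (i a)).trans ?_
      exact congrArg φ.1 (hpi a)
    · have e : ∀ w, ξ.app B w = (ξ'.along i hi).app B w := fun w => by rw [family_ext hξ']
      rw [← hψ₂, e]
      rfl
  refine ⟨R', ξ', p, i, hp, hi, hpi, ⟨hver, fun T u f hf hu => ?_⟩, hξ'⟩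
  obtain ⟨g, hg, hgu⟩ := exists_along_eq R' ξ' hver (surjective_base_of_h0 ξ' h0) T u
  let h := f.comp g
  have hh : R'.res.comp h = R'.res := by rw [← AlgHom.comp_assoc, hf, hg]
  by_contra hns
  have hhξ : (ξ'.along h hh).toFormalElt = ξ'.toFormalElt := by
    rw [← hu, ← hgu, ← toFormalElt_along]
    rfl
  obtain ⟨θ', hθ', hidem', hθ'ξ, hid⟩ := exists_idempotent R' ξ' h hh hhξ
  obtain ⟨a, ha⟩ : ∃ a, θ' a ≠ a := by
    by_contra hall
    push Not at hall
    exact hns fun y => by
      obtain ⟨x, hx⟩ := hid hall y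
      exact ⟨g x, hx⟩
  let θ'' := (i.comp θ').comp p
  have hθ'' : R.res.comp θ'' = R.res := by
    rw [← AlgHom.comp_assoc, ← AlgHom.comp_assoc, hi, hθ', hp]
  refine hmax (RingHom.ker θ'') ⟨θ'', hθ'', fun x => ?_, ?_, rfl⟩ ?_
  · change i (θ' (p (i (θ' (p x))))) = _
    rw [hpi, hidem']
    rfl
  · rw [← hξ']
    refine FormalElt.ext' fun n => ?_
    have e2 := congrArg (fun F' : Family R'.carrier R'.res F => F'.along i hi) (family_ext hθ'ξ)
    exact congrArg (fun F' : Family R.carrier R.res F => F'.app (R.trunc n) (R.truncHom n)) e2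
  · refine lt_of_le_of_ne (fun x hx => ?_) fun heq => ?_
    · rw [RingHom.mem_ker]
      change i (θ' (p x)) = 0
      rw [(hpk x).2 hx, map_zero, map_zero]
    · have hmem : i (a - θ' a) ∈ RingHom.ker θ'' := by
        rw [RingHom.mem_ker]
        change i (θ' (p (i (a - θ' a)))) = 0
        rw [hpi, map_sub, hidem', sub_self, map_zero]
      rw [← heq, ← hpk, hpi, sub_eq_zero] at hmem
      exact ha hmem.symm

end Groth.Agent.Lib.ArtinFun
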