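import Groth.Agent.Lib.ArtinFun.DualAut
import Groth.Agent.Lib.ArtinFun.DefRS
import Groth.Agent.Lib.ArtinFun.Torsor

/-!
# Deformations have no automorphisms iff there are no infinitesimal ones
-/

noncomputable section

universe u

open CategoryTheory CategoryTheory.Limits AlgebraicGeometry ArtFun ArtFun.Art

namespace Groth.Agent.Lib.ArtinFun.DefAut

open DefCart DefGlue DefRS

variable {k : Type u} [Field k] {X : Scheme.{u}} {x : X ⟶ specPt k}

/-- The trivial deformation over the dual numbers. -/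
def triv : DefSch X x (Art.dual k k) := (DefSch.self X x inferInstance).baseChange baseToDual

/-- The trivial deformation as a thickening. -/
def trivData : DualThick.Data k X x where
  T := (triv (X := X) (x := x)).total
  q := pullback.fst _ _
  p := pullback.snd _ _
  sq := IsPullback.of_hasPullback x (Spec.map (CommRingCat.ofHom (algebraMap k (DualNumber k))))
  i := (triv (X := X) (x := x)).i
  iq := DefSch.baseChange_i_fst _ _
  ip := DefSch.baseChange_i_f _ _

theorem subsingleton_hom_of_aut [QuasiSeparated x]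
    (h : ∀ e : (triv (X := X) (x := x)).Iso triv, e.iso.hom = 𝟙 _) :
    Subsingleton (Omega.sheaf x ⟶ Coh.structureModule X) := by
  obtain ⟨e, -⟩ := DualThick.exists_equiv_aut (trivData (X := X) (x := x))
  refine ⟨fun α β => e.symm.injective (Subtype.ext (CategoryTheory.Iso.ext ?_))⟩
  have key : ∀ γ, (e.symm γ).1.hom = 𝟙 _ := fun γ => h ⟨(e.symm γ).1, (e.symm γ).2.1, (e.symm γ).2.2⟩
  exact (key α).trans (key β).symm

theorem subsingleton_triv [QuasiSeparated x] [Subsingleton (Omega.sheaf x ⟶ Coh.structureModule X)] :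
    Subsingleton ((triv (X := X) (x := x)).Iso triv) := by
  obtain ⟨e, -⟩ := DualThick.exists_equiv_aut (trivData (X := X) (x := x))
  haveI := e.subsingleton
  refine ⟨fun a b => iso_ext ?_⟩
  exact congrArg CategoryTheory.Iso.hom (congrArg Subtype.val (@Subsingleton.elim
    {φ : (trivData (X := X) (x := x)).T ≅ (trivData (X := X) (x := x)).T //
      φ.hom ≫ (trivData (X := X) (x := x)).p = (trivData (X := X) (x := x)).p ∧
      (trivData (X := X) (x := x)).i ≫ φ.hom = (trivData (X := X) (x := x)).i} _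
    ⟨a.iso, a.hom_f, a.i_hom⟩ ⟨b.iso, b.hom_f, b.i_hom⟩))

theorem isCart_self {A : Art k k} {ξ : DefSch X x A} :
    ∃ u, IsCart (toBase A ≫ baseToDual) (triv (X := X) (x := x)) ξ u := by
  obtain ⟨a⟩ := nonempty_iso_self (ξ.baseChange (toBase A)) (inferInstance : Flat x)
  exact ⟨_, (isCart_baseChange ξ (toBase A)).comp ((isCart_baseChange _ baseToDual).comp_iso a)⟩

/-- **No infinitesimal automorphisms implies no automorphisms of deformations.** -/
theorem subsingleton_iso [QuasiSeparated x] [Subsingleton (Omega.sheaf x ⟶ Coh.structureModule X)] (A : Art k k) :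
    ∀ ξ : DefSch X x A, ∀ Θ : ξ.Iso ξ, Θ.iso.hom = 𝟙 _ := by
  refine obj_induction (fun A => ∀ ξ : DefSch X x A, ∀ Θ : ξ.Iso ξ, Θ.iso.hom = 𝟙 _) ?_ ?_ ?_ A
  · intro A B e he hA ξ Θ
    have hc := isCart_baseChange ξ e
    haveI : IsIso (specMap e) :=
      ⟨specMap (inv e), by rw [← specMap_comp, IsIso.inv_hom_id, specMap_id],
        by rw [← specMap_comp, IsIso.hom_inv_id, specMap_id]⟩
    obtain ⟨θ, hθ⟩ := hc.exists_restrict hc Θ
    rw [hA _ θ, Category.id_comp] at hθ
    exact (cancel_epi (pullback.fst ξ.f (specMap e))).1 (hθ.symm.trans (Category.comp_id _).symm)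
  · exact fun ξ Θ => congrArg (fun e : ξ.Iso ξ => e.iso.hom)
      (@Subsingleton.elim _ (subsingleton_iso_base ξ ξ) Θ (DefSch.Iso.refl ξ))
  intro A B p hp hA ξ Θ
  obtain ⟨t, ht, -, -, -⟩ := IsSmallExt.exists_generator hp
  obtain ⟨S⟩ := nonempty_diffSquare p hp t ht
  have hq := isCart_baseChange ξ p
  let q := pullback.fst ξ.f (specMap p)
  have hΘq : q ≫ Θ.iso.hom = q := by
    obtain ⟨θ, hθ⟩ := hq.exists_restrict hq Θ
    rw [hA _ θ, Category.id_comp] at hθ
    exact hθ.symm
  let ω := ξ.baseChange (diag S.isFibreProd)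
  let π : ω.total ⟶ ξ.total := pullback.fst ξ.f _
  have hω : IsCart (diag S.isFibreProd) ω ξ π := isCart_baseChange ξ _
  have mk : ∀ g₁ : S.P ⟶ B, diag S.isFibreProd ≫ g₁ = 𝟙 B →
      ∃ u, IsCart g₁ ξ ω u ∧ u ≫ π = 𝟙 _ := by
    intro g₁ hg
    have c := hω.comp (isCart_baseChange ω g₁)
    rw [hg] at c
    obtain ⟨a, ha⟩ := (isCart_id ξ).exists_iso c
    exact ⟨_, (isCart_baseChange ω g₁).iso_comp a, by rw [Category.assoc]; exact ha⟩
  obtain ⟨u, hu, huπ⟩ := mk S.p₁ (diag_fst _)
  obtain ⟨v, hv, hvπ⟩ := mk S.p₂ (diag_snd _)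
  have hw : q ≫ u = q ≫ v := by
    refine hω.pb.hom_ext ?_ ?_
    · rw [Category.assoc, Category.assoc, huπ, hvπ]
    · rw [Category.assoc, Category.assoc, hu.pb.w, hv.pb.w, reassoc_of% hq.pb.w, reassoc_of% hq.pb.w,
        ← specMap_comp, ← specMap_comp, S.isFibreProd.w]
  obtain ⟨e, heu, hev⟩ := exists_iso_of_carts S.isFibreProd hp.1 hq hq hu hv hw hu (hv.iso_comp Θ)
    (by rw [reassoc_of% hΘq]; exact hw)
  -- the restriction of `e` to the dual numbers is trivial
  obtain ⟨u₀, hu₀⟩ := isCart_self (X := X) (x := x) (ξ := ξ)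
  have hωg := hω.comp (isCart_baseChange ω S.g)
  rw [S.diag_g] at hωg
  obtain ⟨i, -⟩ := hu₀.exists_iso hωg
  obtain ⟨θg, hθg⟩ := (isCart_baseChange ω S.g).exists_restrict (isCart_baseChange ω S.g) e
  haveI := subsingleton_triv (X := X) (x := x)
  have hθ1 : θg.iso.hom = 𝟙 _ := by
    have h1 := congrArg (fun e : (triv (X := X) (x := x)).Iso triv => i.iso.inv ≫ e.iso.hom ≫ i.iso.hom)
      (Subsingleton.elim ((i.trans θg).trans i.symm) (DefSch.Iso.refl _))
    simpa [DefSch.Iso.trans, DefSch.Iso.symm, DefSch.Iso.refl] using h1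
  rw [hθ1, Category.id_comp] at hθg
  -- so `e` is trivial
  have hf₂ : Function.Surjective (toBase (Art.dual k k)) := toBase_surjective _
  have h₁ := isCart_baseChange ξ (toBase B)
  have c1 : IsCart (S.g ≫ toBase (Art.dual k k)) (ξ.baseChange (toBase B)) ω
      (pullback.fst ξ.f (specMap (toBase B)) ≫ u) :=
    S.isFibreProd_dual.w ▸ hu.comp h₁
  have hg' := isCart_baseChange ω S.g
  have h₂' := isCart_baseChange (ω.baseChange S.g) (toBase (Art.dual k k))
  obtain ⟨a, ha⟩ := c1.exists_iso (hg'.comp h₂')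
  have hP := isPushout_of_carts S.isFibreProd_dual hf₂ h₁ (h₂'.iso_comp a) hu hg'
    (by rw [Category.assoc]; exact ha.symm)
  have he : e.iso.hom = 𝟙 _ :=
    hP.hom_ext (hθg.symm.trans (Category.comp_id _).symm) (heu.trans (Category.comp_id _).symm)
  rw [he, Category.comp_id] at hev
  have := congrArg (· ≫ π) hev
  simp only [Category.assoc, hvπ, Category.comp_id] at this
  exact this.symm

end Groth.Agent.Lib.ArtinFun.DefAut
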