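import Groth.Prelude.Def_ArtFun4
import Mathlib.AlgebraicGeometry.Morphisms.Affine
import Mathlib.AlgebraicGeometry.Morphisms.ClosedImmersion
import Mathlib.RingTheory.Artinian.Module

/-!
# Cartesian morphisms of deformations
-/

noncomputable section

universe u

open CategoryTheory CategoryTheory.Limits AlgebraicGeometry ArtFun ArtFun.Art

namespace Groth.Agent.Lib.ArtinFun.DefCart

variable {Λ k : Type u} [CommRing Λ] [Field k] [Algebra Λ k] {X : Scheme.{u}} {x : X ⟶ specPt k}
  {A B C : Art Λ k}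

instance surjective_specMap (g : A ⟶ B) : Surjective (specMap g) := by
  refine ⟨fun p => ?_⟩
  haveI : Nontrivial B := IsLocalRing.toNontrivial
  obtain ⟨q⟩ : Nonempty (PrimeSpectrum B) := inferInstance
  refine ⟨q, ?_⟩
  haveI : Subsingleton (PrimeSpectrum A) :=
    ⟨fun a b => PrimeSpectrum.ext (((IsArtinianRing.isMaximal_of_isPrime a.asIdeal) |> IsLocalRing.eq_maximalIdeal).trans
      ((IsArtinianRing.isMaximal_of_isPrime b.asIdeal) |> IsLocalRing.eq_maximalIdeal).symm)⟩
  exact Subsingleton.elim (α := PrimeSpectrum A) _ _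

lemma isClosedImmersion_specMap {g : A ⟶ B} (hg : Function.Surjective g) : IsClosedImmersion (specMap g) :=
  IsClosedImmersion.spec_of_surjective _ hg

/-- Isomorphisms of deformations are equal when their total maps are. -/
lemma iso_ext {ξ ξ' : DefSch X x A} {e e' : ξ.Iso ξ'} (h : e.iso.hom = e'.iso.hom) : e = e' := by
  have h' : e.iso = e'.iso := CategoryTheory.Iso.ext h
  cases e
  cases e'
  cases h'
  rfl

/-- `q` exhibits `η` as the base change of `ξ` along `g`. -/
structure IsCart (g : A ⟶ B) (η : DefSch X x B) (ξ : DefSch X x A) (q : η.total ⟶ ξ.total) : Prop where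
  pb : IsPullback q η.f ξ.f (specMap g)
  iq : η.i ≫ q = ξ.i

theorem isCart_baseChange (ξ : DefSch X x A) (g : A ⟶ B) :
    IsCart g (ξ.baseChange g) ξ (pullback.fst ξ.f (specMap g)) :=
  ⟨IsPullback.of_hasPullback _ _, ξ.baseChange_i_fst g⟩

theorem isCart_id (ξ : DefSch X x A) : IsCart (𝟙 A) ξ ξ (𝟙 _) :=
  haveI : IsIso (specMap (𝟙 A)) := by rw [specMap_id]; infer_instance
  ⟨IsPullback.of_horiz_isIso ⟨by rw [specMap_id, Category.id_comp, Category.comp_id]⟩, Category.comp_id _⟩

namespace IsCart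

variable {g : A ⟶ B} {η η' : DefSch X x B} {ξ ξ' : DefSch X x A} {q q' : η.total ⟶ ξ.total}

theorem isAffineHom (h : IsCart g η ξ q) : IsAffineHom q :=
  MorphismProperty.of_isPullback h.pb.flip inferInstance

theorem surjective (h : IsCart g η ξ q) : Surjective q :=
  MorphismProperty.of_isPullback h.pb.flip inferInstance

theorem isClosedImmersion (h : IsCart g η ξ q) (hg : Function.Surjective g) : IsClosedImmersion q :=
  MorphismProperty.of_isPullback h.pb.flip (isClosedImmersion_specMap hg)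

theorem comp (h : IsCart g η ξ q) {h₁ : B ⟶ C} {ζ : DefSch X x C} {r : ζ.total ⟶ η.total}
    (h' : IsCart h₁ ζ η r) : IsCart (g ≫ h₁) ζ ξ (r ≫ q) :=
  ⟨by rw [specMap_comp]; exact h'.pb.paste_horiz h.pb, by rw [← Category.assoc, h'.iq, h.iq]⟩

/-- Two base changes are isomorphic, compatibly. -/
theorem exists_iso (h : IsCart g η ξ q) {q' : η'.total ⟶ ξ.total} (h' : IsCart g η' ξ q') :
    ∃ e : η.Iso η', e.iso.hom ≫ q' = q :=
  ⟨⟨h.pb.isoIsPullback _ _ h'.pb, IsPullback.isoIsPullback_hom_snd _ _ _ _, h'.pb.hom_ext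
      (by rw [Category.assoc, IsPullback.isoIsPullback_hom_fst, h.iq, h'.iq])
      (by rw [Category.assoc, IsPullback.isoIsPullback_hom_snd, η.i_f, η'.i_f])⟩,
    IsPullback.isoIsPullback_hom_fst _ _ _ _⟩

theorem cl_eq (h : IsCart g η ξ q) : (defFunctor X x).map g ξ.cl = η.cl := by
  rw [defFunctor_map_cl]
  obtain ⟨e, -⟩ := (isCart_baseChange ξ g).exists_iso h
  exact Quotient.sound ⟨e⟩

theorem iso_comp (h : IsCart g η ξ q) (e : η'.Iso η) : IsCart g η' ξ (e.iso.hom ≫ q) :=
  ⟨IsPullback.of_iso h.pb e.iso.symm (CategoryTheory.Iso.refl _) (CategoryTheory.Iso.refl _) (CategoryTheory.Iso.refl _)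
    (by simp) (by simp [← e.hom_f]) (by simp) (by simp), by rw [← Category.assoc, e.i_hom, h.iq]⟩

theorem comp_iso (h : IsCart g η ξ q) (e : ξ.Iso ξ') : IsCart g η ξ' (q ≫ e.iso.hom) :=
  ⟨IsPullback.of_iso h.pb (CategoryTheory.Iso.refl _) e.iso (CategoryTheory.Iso.refl _) (CategoryTheory.Iso.refl _)
    (by simp) (by simp) (by simp [e.hom_f]) (by simp), by rw [← Category.assoc, h.iq, e.i_hom]⟩

theorem iso_cancel (h : IsCart g η ξ q) {e e' : η'.Iso η}
    (he : e.iso.hom ≫ q = e'.iso.hom ≫ q) : e = e' :=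
  iso_ext (h.pb.hom_ext he (e.hom_f.trans e'.hom_f.symm))

/-- Restriction of an isomorphism. -/
theorem exists_restrict (h : IsCart g η ξ q) {q' : η'.total ⟶ ξ'.total} (h' : IsCart g η' ξ' q')
    (e : ξ.Iso ξ') : ∃ θ : η.Iso η', θ.iso.hom ≫ q' = q ≫ e.iso.hom :=
  (h.comp_iso e).exists_iso h'

end IsCart

/-- A class restricting to a given one has a cartesian morphism. -/
theorem exists_isCart_of_map_eq {g : A ⟶ B} (ξ : DefSch X x A) (η : DefSch X x B)
    (h : (defFunctor X x).map g ξ.cl = η.cl) : ∃ q, IsCart g η ξ q := by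
  rw [defFunctor_map_cl] at h
  obtain ⟨e⟩ := Quotient.exact h
  exact ⟨_, (isCart_baseChange ξ g).iso_comp e.symm⟩

/-- Deformations over `k` have no automorphisms. -/
theorem subsingleton_iso_base (η η' : DefSch X x (base Λ k)) : Subsingleton (η.Iso η') := by
  haveI : IsIso η.i := (MorphismProperty.isomorphisms.iff _).1
    (MorphismProperty.of_isPullback (P := MorphismProperty.isomorphisms Scheme.{u}) η.isPullback.flip
      (inferInstanceAs (IsIso (specRes (base Λ k)))))
  exact ⟨fun e e' => iso_ext ((cancel_epi η.i).1 (e.i_hom.trans e'.i_hom.symm))⟩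

theorem nonempty_iso_self (η : DefSch X x (base Λ k)) (hx : Flat x) : Nonempty ((DefSch.self X x hx).Iso η) := by
  haveI : IsIso η.i := (MorphismProperty.isomorphisms.iff _).1
    (MorphismProperty.of_isPullback (P := MorphismProperty.isomorphisms Scheme.{u}) η.isPullback.flip
      (inferInstanceAs (IsIso (specRes (base Λ k)))))
  let e : X ≅ η.total := asIso η.i
  exact ⟨⟨e, by
    show η.i ≫ η.f = x
    rw [η.i_f, comp_specRes_base], Category.id_comp _⟩⟩

end Groth.Agent.Lib.ArtinFun.DefCart
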