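import Groth.Agent.Lib.ArtinFun.FiniteLength
import Mathlib.RingTheory.LocalRing.Pullback
import Mathlib.Algebra.Algebra.Subalgebra.Basic

/-!
# Fibre products of artinian local algebras with fixed residue field
-/

universe u v

open CategoryTheory ArtFun

set_option linter.style.haveILetI false

namespace Groth.Agent.Lib.ArtinFun

variable {Λ : Type u} {k : Type u} [CommRing Λ] [Field k] [Algebra Λ k]

section Construct

variable [IsNoetherianRing Λ] [Module.Finite Λ k]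

/-- An injective algebra map from a subalgebra-like source: a `Λ`-algebra embedded in a finite
length `Λ`-module is artinian. -/
lemma isArtinianRing_of_injective {S M : Type u} [CommRing S] [Algebra Λ S] [AddCommGroup M]
    [Module Λ M] [IsArtinian Λ M] (f : S →ₗ[Λ] M) (hf : Function.Injective f) : IsArtinianRing S :=
  isArtinian_of_tower Λ (isArtinian_of_injective f hf)

theorem exists_isFibreProd_of_residue {A A₁ A₂ : Art Λ k} (f₁ : A₁ ⟶ A) (f₂ : A₂ ⟶ A)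
    (hres : ∀ c : k, ∃ a₁ a₂, f₁ a₁ = f₂ a₂ ∧ A₁.res a₁ = c) :
    ∃ (B : Art Λ k) (p₁ : B ⟶ A₁) (p₂ : B ⟶ A₂), Art.IsFibreProd p₁ p₂ f₁ f₂ := by
  let S : Subalgebra Λ (A₁ × A₂) := AlgHom.pullback f₁.toAlgHom f₂.toAlgHom
  haveI : IsLocalHom f₂.toAlgHom := Art.isLocalHom f₂
  haveI : IsLocalRing S := AlgHom.isLocalRing_pullback f₁.toAlgHom f₂.toAlgHom
  haveI := isArtinian_base A₁
  haveI := isArtinian_base A₂
  haveI : IsArtinian Λ (A₁ × A₂) := inferInstance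
  haveI : IsArtinianRing S :=
    isArtinianRing_of_injective S.val.toLinearMap Subtype.val_injective
  let r : S →ₐ[Λ] k := A₁.res.comp (AlgHom.pullbackFst f₁.toAlgHom f₂.toAlgHom)
  have hr : Function.Surjective r := by
    intro c
    obtain ⟨a₁, a₂, h, rfl⟩ := hres c
    exact ⟨⟨(a₁, a₂), h⟩, rfl⟩
  refine ⟨Art.of S r hr, Art.homMk (AlgHom.pullbackFst f₁.toAlgHom f₂.toAlgHom) rfl,
    Art.homMk (AlgHom.pullbackSnd f₁.toAlgHom f₂.toAlgHom) ?_, ⟨?_, ?_, ?_⟩⟩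
  · apply AlgHom.ext
    intro x
    change A₂.res x.1.2 = A₁.res x.1.1
    rw [← Art.res_app f₂ x.1.2, ← Art.res_app f₁ x.1.1]
    exact congrArg A.res x.2.symm
  · exact hom_ext_apply fun x => x.2
  · intro b₁ b₂ h₁ h₂
    exact Subtype.ext (Prod.ext h₁ h₂)
  · intro a₁ a₂ h
    exact ⟨⟨(a₁, a₂), h⟩, rfl, rfl⟩

/-- Fibre products along a surjection exist. -/
theorem exists_isFibreProd {A A₁ A₂ : Art Λ k} (f₁ : A₁ ⟶ A) (f₂ : A₂ ⟶ A)
    (hf₂ : Function.Surjective f₂) :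
    ∃ (B : Art Λ k) (p₁ : B ⟶ A₁) (p₂ : B ⟶ A₂), Art.IsFibreProd p₁ p₂ f₁ f₂ :=
  exists_isFibreProd_of_residue f₁ f₂ fun c => by
    obtain ⟨a₁, ha₁⟩ := A₁.res_surjective c
    obtain ⟨a₂, ha₂⟩ := hf₂ (f₁ a₁)
    exact ⟨a₁, a₂, ha₂.symm, ha₁⟩

end Construct

namespace IsFibreProd

variable {B A A' A'' : Art Λ k} {p' : B ⟶ A'} {p'' : B ⟶ A''} {f' : A' ⟶ A} {f'' : A'' ⟶ A}

lemma surjective_fst (h : Art.IsFibreProd p' p'' f' f'') (hf : Function.Surjective f'') :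
    Function.Surjective p' := fun a' => by
  obtain ⟨a'', ha''⟩ := hf (f' a')
  obtain ⟨b, hb, -⟩ := h.surj a' a'' ha''.symm
  exact ⟨b, hb⟩

lemma bijective_fst (h : Art.IsFibreProd p' p'' f' f'') (hf : Function.Bijective f'') :
    Function.Bijective p' := by
  refine ⟨fun b₁ b₂ hb => h.inj b₁ b₂ hb (hf.1 ?_), surjective_fst h hf.2⟩
  rw [← h.w_apply b₁, ← h.w_apply b₂, hb]

lemma symm (h : Art.IsFibreProd p' p'' f' f'') : Art.IsFibreProd p'' p' f'' f' :=
  ⟨h.w.symm, fun b₁ b₂ h₁ h₂ => h.inj b₁ b₂ h₂ h₁,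
    fun a'' a' e => (h.surj a' a'' e.symm).imp fun _ hb => ⟨hb.2, hb.1⟩⟩

section Lift

variable {R : Type u} [CommRing R] [Algebra Λ R]

/-- The algebra map into a fibre product given by a compatible pair. -/
noncomputable def liftAlgHom (h : Art.IsFibreProd p' p'' f' f'') (φ' : R →ₐ[Λ] A')
    (φ'' : R →ₐ[Λ] A'') (hc : ∀ r, f' (φ' r) = f'' (φ'' r)) : R →ₐ[Λ] B :=
  have hsp : ∀ r, p' (h.surj (φ' r) (φ'' r) (hc r)).choose = φ' r ∧
      p'' (h.surj (φ' r) (φ'' r) (hc r)).choose = φ'' r :=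
    fun r => (h.surj (φ' r) (φ'' r) (hc r)).choose_spec
  { toFun := fun r => (h.surj (φ' r) (φ'' r) (hc r)).choose
    map_one' := h.inj _ _ (by rw [(hsp 1).1, map_one, map_one]) (by rw [(hsp 1).2, map_one, map_one])
    map_mul' := fun x y => h.inj _ _
      (by rw [(hsp _).1, map_mul, map_mul, (hsp x).1, (hsp y).1])
      (by rw [(hsp _).2, map_mul, map_mul, (hsp x).2, (hsp y).2])
    map_zero' := h.inj _ _ (by rw [(hsp 0).1, map_zero, map_zero])
      (by rw [(hsp 0).2, map_zero, map_zero])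
    map_add' := fun x y => h.inj _ _
      (by rw [(hsp _).1, map_add, map_add, (hsp x).1, (hsp y).1])
      (by rw [(hsp _).2, map_add, map_add, (hsp x).2, (hsp y).2])
    commutes' := fun c => h.inj _ _
      (by rw [(hsp _).1, AlgHom.commutes, AlgHom.commutes])
      (by rw [(hsp _).2, AlgHom.commutes, AlgHom.commutes]) }

lemma fst_liftAlgHom (h : Art.IsFibreProd p' p'' f' f'') (φ' : R →ₐ[Λ] A') (φ'' : R →ₐ[Λ] A'')
    (hc : ∀ r, f' (φ' r) = f'' (φ'' r)) (r : R) : p' (liftAlgHom h φ' φ'' hc r) = φ' r :=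
  (h.surj (φ' r) (φ'' r) (hc r)).choose_spec.1

lemma snd_liftAlgHom (h : Art.IsFibreProd p' p'' f' f'') (φ' : R →ₐ[Λ] A') (φ'' : R →ₐ[Λ] A'')
    (hc : ∀ r, f' (φ' r) = f'' (φ'' r)) (r : R) : p'' (liftAlgHom h φ' φ'' hc r) = φ'' r :=
  (h.surj (φ' r) (φ'' r) (hc r)).choose_spec.2

end Lift

/-- The morphism into a fibre product given by a compatible pair. -/
noncomputable def lift (h : Art.IsFibreProd p' p'' f' f'') {T : Art Λ k} (g' : T ⟶ A')
    (g'' : T ⟶ A'') (hc : g' ≫ f' = g'' ≫ f'') : T ⟶ B :=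
  ⟨liftAlgHom h g'.toAlgHom g''.toAlgHom (hom_congr_apply hc), by
    apply AlgHom.ext
    intro t
    exact ((Art.res_app p' _).symm.trans (congrArg A'.res
      (fst_liftAlgHom h g'.toAlgHom g''.toAlgHom (hom_congr_apply hc) t))).trans (Art.res_app g' t)⟩

lemma lift_fst (h : Art.IsFibreProd p' p'' f' f'') {T : Art Λ k} (g' : T ⟶ A') (g'' : T ⟶ A'')
    (hc : g' ≫ f' = g'' ≫ f'') : lift h g' g'' hc ≫ p' = g' :=
  hom_ext_apply fun t => fst_liftAlgHom h g'.toAlgHom g''.toAlgHom (hom_congr_apply hc) t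

lemma lift_snd (h : Art.IsFibreProd p' p'' f' f'') {T : Art Λ k} (g' : T ⟶ A') (g'' : T ⟶ A'')
    (hc : g' ≫ f' = g'' ≫ f'') : lift h g' g'' hc ≫ p'' = g'' :=
  hom_ext_apply fun t => snd_liftAlgHom h g'.toAlgHom g''.toAlgHom (hom_congr_apply hc) t

lemma lift_fst_apply (h : Art.IsFibreProd p' p'' f' f'') {T : Art Λ k} (g' : T ⟶ A') (g'' : T ⟶ A'')
    (hc : g' ≫ f' = g'' ≫ f'') (t : T) : p' (lift h g' g'' hc t) = g' t :=
  hom_congr_apply (lift_fst h g' g'' hc) t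

lemma lift_snd_apply (h : Art.IsFibreProd p' p'' f' f'') {T : Art Λ k} (g' : T ⟶ A') (g'' : T ⟶ A'')
    (hc : g' ≫ f' = g'' ≫ f'') (t : T) : p'' (lift h g' g'' hc t) = g'' t :=
  hom_congr_apply (lift_snd h g' g'' hc) t

lemma hom_ext (h : Art.IsFibreProd p' p'' f' f'') {T : Art Λ k} {g₁ g₂ : T ⟶ B}
    (h₁ : g₁ ≫ p' = g₂ ≫ p') (h₂ : g₁ ≫ p'' = g₂ ≫ p'') : g₁ = g₂ :=
  hom_ext_apply fun t => h.inj _ _ (hom_congr_apply h₁ t) (hom_congr_apply h₂ t)

/-- Compatible elements of `h_R` glue along a fibre-product square. -/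
lemma exists_homSet {R : Type u} [CommRing R] [Algebra Λ R] {resR : R →ₐ[Λ] k}
    (h : Art.IsFibreProd p' p'' f' f'') (φ' : HomSet R resR A') (φ'' : HomSet R resR A'')
    (hc : HomSet.map f' φ' = HomSet.map f'' φ'') :
    ∃ ψ : HomSet R resR B, HomSet.map p' ψ = φ' ∧ HomSet.map p'' ψ = φ'' := by
  have hc' : ∀ r, f' (φ'.1 r) = f'' (φ''.1 r) := fun r => AlgHom.congr_fun (congrArg Subtype.val hc) r
  refine ⟨⟨liftAlgHom h φ'.1 φ''.1 hc', ?_⟩, ?_, ?_⟩
  · apply AlgHom.ext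
    intro r
    exact ((Art.res_app p' _).symm.trans (congrArg A'.res (fst_liftAlgHom h φ'.1 φ''.1 hc' r))).trans
      (AlgHom.congr_fun φ'.2 r)
  · exact Subtype.ext (AlgHom.ext fun r => fst_liftAlgHom h φ'.1 φ''.1 hc' r)
  · exact Subtype.ext (AlgHom.ext fun r => snd_liftAlgHom h φ'.1 φ''.1 hc' r)

lemma homSet_ext {R : Type u} [CommRing R] [Algebra Λ R] {resR : R →ₐ[Λ] k}
    (h : Art.IsFibreProd p' p'' f' f'') {ψ₁ ψ₂ : HomSet R resR B}
    (h₁ : HomSet.map p' ψ₁ = HomSet.map p' ψ₂) (h₂ : HomSet.map p'' ψ₁ = HomSet.map p'' ψ₂) :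
    ψ₁ = ψ₂ :=
  Subtype.ext (AlgHom.ext fun r => h.inj _ _ (AlgHom.congr_fun (congrArg Subtype.val h₁) r)
    (AlgHom.congr_fun (congrArg Subtype.val h₂) r))

/-- The projection of a fibre product along a small extension is a small extension. -/
lemma isSmallExt_fst (h : Art.IsFibreProd p' p'' f' f'') (hf : Art.IsSmallExt f'') :
    Art.IsSmallExt p' := by
  obtain ⟨t, ht, ht0, hft, hm⟩ := IsSmallExt.exists_generator hf
  obtain ⟨s, hs', hs''⟩ := h.surj 0 t (by rw [map_zero, hft])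
  refine isSmallExt_of_generator p' (surjective_fst h hf.1) s ?_ ?_ ?_
  · apply le_antisymm
    · intro x hx
      rw [mem_ker] at hx
      have hx'' : f'' (p'' x) = 0 := by rw [← h.w_apply x, hx, map_zero]
      obtain ⟨c, hc⟩ := Ideal.mem_span_singleton'.1 (show p'' x ∈ Ideal.span {t} by
        rw [← ht]; exact (mem_ker _ _).2 hx'')
      obtain ⟨a', ha'⟩ := A'.res_surjective (A''.res c)
      obtain ⟨b, hb⟩ := surjective_fst h hf.1 a'
      refine Ideal.mem_span_singleton'.2 ⟨b, h.inj _ _ ?_ ?_⟩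
      · rw [map_mul, hs', mul_zero, hx]
      · rw [map_mul, hs'', ← hc, ← sub_eq_zero, ← sub_mul]
        refine hm _ ?_
        rw [Art.mem_maximalIdeal_iff, map_sub, Art.res_app, ← Art.res_app p' b, hb, ha', sub_self]
    · rw [Ideal.span_singleton_le_iff_mem, mem_ker, hs']
  · rintro rfl
    exact ht0 (by rw [← hs'', map_zero])
  · intro b hb
    refine h.inj _ _ (by rw [map_mul, hs', mul_zero, map_zero]) ?_
    rw [map_mul, hs'', map_zero]
    refine hm _ ?_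
    rw [Art.mem_maximalIdeal_iff, Art.res_app, ← Art.mem_maximalIdeal_iff]
    exact hb

end IsFibreProd

end Groth.Agent.Lib.ArtinFun
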