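import Groth.Agent.Lib.ArtinFun.DefCart
import Groth.Agent.Lib.ArtinFun.FibProd
import Groth.Agent.Lib.AffThick.Pushout.Glue
import Groth.Agent.Lib.AffThick.Pushout.Sq
import Groth.Agent.Lib.Ferrand.Cartesian
import Groth.Agent.Lib.Ferrand.Spec

/-!
# Gluing deformations along a fibre product of coefficient rings
-/

noncomputable section

universe u

open CategoryTheory CategoryTheory.Limits AlgebraicGeometry ArtFun ArtFun.Art

namespace Groth.Agent.Lib.ArtinFun.DefGlue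

open DefCart

variable {Λ k : Type u} [CommRing Λ] [Field k] [Algebra Λ k] {X : Scheme.{u}} {x : X ⟶ specPt k}
  {B A A' A'' : Art Λ k} {p' : B ⟶ A'} {p'' : B ⟶ A''} {f' : A' ⟶ A} {f'' : A'' ⟶ A}

theorem affSq_base (h : IsFibreProd p' p'' f' f'') (hf : Function.Surjective f'') :
    Ferrand.AffSq (specMap f'') (specMap f') (specMap p'') (specMap p') :=
  Ferrand.affSq_Spec (CommRingCat.hom_ext (RingHom.ext fun b => h.w_apply b))
    ⟨fun b => h.w_apply b, hf, fun b₁ b₂ => h.inj b₁ b₂, fun a a' e => h.surj a a' e⟩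

theorem gluedBy_base (h : IsFibreProd p' p'' f' f'') (hf : Function.Surjective f'') :
    haveI := isClosedImmersion_specMap hf
    Ferrand.GluedBy (specMap f'') (specMap f') (specMap p'') (specMap p') :=
  haveI := isClosedImmersion_specMap hf
  Ferrand.GluedBy.of_isPushout (AffThick.Pushout.exists_pair _ _) (affSq_base h hf).isPushout

variable {η : DefSch X x A} {ξ' : DefSch X x A'} {ξ'' : DefSch X x A''}
  {q₁ : η.total ⟶ ξ'.total} {q₂ : η.total ⟶ ξ''.total}

/-- **Deformations glue.** -/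
theorem exists_glue (h : IsFibreProd p' p'' f' f'') (hf : Function.Surjective f'')
    (h₁ : IsCart f' η ξ' q₁) (h₂ : IsCart f'' η ξ'' q₂) :
    ∃ (ζ : DefSch X x B) (u : ξ'.total ⟶ ζ.total) (v : ξ''.total ⟶ ζ.total),
      IsCart p' ξ' ζ u ∧ IsCart p'' ξ'' ζ v ∧ q₁ ≫ u = q₂ ≫ v := by
  haveI := h₂.isClosedImmersion hf
  haveI := h₂.surjective
  haveI := h₁.isAffineHom
  haveI := isClosedImmersion_specMap hf
  obtain ⟨P, v, u, hP⟩ := Ferrand.exists_gluedBy (AffThick.Pushout.exists_pair q₂ q₁)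
  have hwb : specMap f'' ≫ specMap p'' = specMap f' ≫ specMap p' := by
    rw [← specMap_comp, ← specMap_comp, h.w]
  obtain ⟨π, hπv, hπu⟩ := hP.isPushout.exists_desc (ξ''.f ≫ specMap p'') (ξ'.f ≫ specMap p') (by
    rw [reassoc_of% h₂.pb.w, reassoc_of% h₁.pb.w, hwb])
  obtain ⟨hv, hu, -⟩ := (gluedBy_base h hf).cartesian hP h₂.pb.flip h₁.pb.flip hπv hπu
  have hflat : Flat π := by
    let S := spec B
    let Z₀ : Over S := Over.mk (specMap f'' ≫ specMap p'')
    let X₀ : Over S := Over.mk (specMap p'')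
    let Y₀ : Over S := Over.mk (specMap p')
    let P₀ : Over S := Over.mk (𝟙 S)
    let t : Z₀ ⟶ X₀ := Over.homMk (specMap f'') rfl
    let a : Z₀ ⟶ Y₀ := Over.homMk (specMap f') hwb.symm
    let a' : X₀ ⟶ P₀ := Over.homMk (specMap p'') (Category.comp_id _)
    let b : Y₀ ⟶ P₀ := Over.homMk (specMap p') (Category.comp_id _)
    have hS : AffThick.Pushout.Sq t a a' b :=
      ⟨‹_›, (surjective_specMap f''), inferInstanceAs (IsAffineHom (specMap f')),
        IsPushout.of_map (Over.forget S) (Over.OverMorphism.ext hwb) (affSq_base h hf).isPushout⟩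
    let P₁ : Over S := Over.mk π
    let X₁ : Over S := Over.mk (ξ''.f ≫ specMap p'')
    let Y₁ : Over S := Over.mk (ξ'.f ≫ specMap p')
    let k₁ : P₁ ⟶ P₀ := Over.homMk π (Category.comp_id _)
    let n : X₁ ⟶ X₀ := Over.homMk ξ''.f rfl
    let m : Y₁ ⟶ Y₀ := Over.homMk ξ'.f rfl
    let v₁ : X₁ ⟶ P₁ := Over.homMk v hπv
    let u₁ : Y₁ ⟶ P₁ := Over.homMk u hπu
    have pa : IsPullback n v₁ a' k₁ := IsPullback.of_map_of_faithful (Over.forget S) hv
    have pb : IsPullback m u₁ b k₁ := IsPullback.of_map_of_faithful (Over.forget S) hu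
    exact (hS.glue pa pb).1 ξ''.flat ξ'.flat
  let ζ : DefSch X x B :=
    { total := P
      f := π
      flat := hflat
      i := ξ'.i ≫ u
      isPullback := by
        rw [← specRes_comp p']
        exact ξ'.isPullback.paste_horiz hu.flip }
  refine ⟨ζ, u, v, ⟨hu.flip, rfl⟩, ⟨hv.flip, ?_⟩, hP.isPushout.w.symm⟩
  show ξ''.i ≫ v = ξ'.i ≫ u
  rw [← h₂.iq, ← h₁.iq, Category.assoc, Category.assoc, hP.isPushout.w]

/-- **A deformation over the fibre product is the pushout of its restrictions.** -/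
theorem isPushout_of_carts (h : IsFibreProd p' p'' f' f'') (hf : Function.Surjective f'')
    (h₁ : IsCart f' η ξ' q₁) (h₂ : IsCart f'' η ξ'' q₂) {ω : DefSch X x B} {u : ξ'.total ⟶ ω.total}
    {v : ξ''.total ⟶ ω.total} (hu : IsCart p' ξ' ω u) (hv : IsCart p'' ξ'' ω v) (hw : q₁ ≫ u = q₂ ≫ v) :
    IsPushout q₂ q₁ v u := by
  haveI := isClosedImmersion_specMap hf
  exact (gluedBy_base h hf).baseChange (𝟙 _) ω.f (IsPullback.of_vert_isIso ⟨by simp⟩ :
      IsPullback ω.f (𝟙 ω.total) (𝟙 (spec B)) ω.f) hv.pb.flip hu.pb.flip h₂.pb.flip h₁.pb.w.symm.symm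
    hw.symm (Or.inl ω.flat)

/-- **Uniqueness of the glued deformation.** -/
theorem exists_iso_of_carts (h : IsFibreProd p' p'' f' f'') (hf : Function.Surjective f'')
    (h₁ : IsCart f' η ξ' q₁) (h₂ : IsCart f'' η ξ'' q₂) {ω ω' : DefSch X x B} {u : ξ'.total ⟶ ω.total}
    {v : ξ''.total ⟶ ω.total} {u' : ξ'.total ⟶ ω'.total} {v' : ξ''.total ⟶ ω'.total}
    (hu : IsCart p' ξ' ω u) (hv : IsCart p'' ξ'' ω v) (hw : q₁ ≫ u = q₂ ≫ v)
    (hu' : IsCart p' ξ' ω' u') (hv' : IsCart p'' ξ'' ω' v') (hw' : q₁ ≫ u' = q₂ ≫ v') :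
    ∃ e : ω.Iso ω', u ≫ e.iso.hom = u' ∧ v ≫ e.iso.hom = v' := by
  have hP := isPushout_of_carts h hf h₁ h₂ hu hv hw
  have hP' := isPushout_of_carts h hf h₁ h₂ hu' hv' hw'
  have ev := hP.inl_isoIsPushout_hom _ _ hP'
  have eu := hP.inr_isoIsPushout_hom _ _ hP'
  refine ⟨⟨hP.isoIsPushout _ _ hP', ?_, ?_⟩, eu, ev⟩
  · exact hP.hom_ext (by rw [reassoc_of% ev, hv'.pb.w, hv.pb.w]) (by rw [reassoc_of% eu, hu'.pb.w, hu.pb.w])
  · rw [← hu.iq, Category.assoc, eu, hu'.iq]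

end Groth.Agent.Lib.ArtinFun.DefGlue
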