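import Groth.Agent.Lib.ArtinFun.DualThick
import Groth.Agent.Lib.Kaehler.DOmega

/-!
# Infinitesimal automorphisms of the trivial first order thickening are derivations
-/

noncomputable section

universe u

open CategoryTheory CategoryTheory.Limits AlgebraicGeometry Opposite TopologicalSpace

namespace Groth.Agent.Lib.ArtinFun.DualThick

open OmegaSh Groth.Agent.Lib.Kaehler.Basic

variable {k : Type u} [Field k] {X : Scheme.{u}} {x : X ⟶ Spec (CommRingCat.of k)} (D : Data k X x)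

lemma appLE_self {Y : Scheme.{u}} (f : Y ⟶ Y) (hf : f = 𝟙 Y) (U : Y.Opens) (e : U ≤ f ⁻¹ᵁ U) :
    f.appLE U U e = 𝟙 _ := by
  subst hf
  simp [Scheme.Hom.appLE]
  exact Y.presheaf.map_id _

lemma qs_res {U W : X.Opens} (h : W ≤ U) (a : Γ(X, U)) :
    (D.T.presheaf.map (homOfLE (D.q.preimage_mono h)).op).hom (qs D U a) =
      qs D W ((X.presheaf.map (homOfLE h).op).hom a) :=
  (congr($(D.q.naturality (homOfLE h).op) a)).symm

lemma is_res {U W : X.Opens} (h : W ≤ U) (s : Γ(D.T, D.q ⁻¹ᵁ U)) :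
    is' D W ((D.T.presheaf.map (homOfLE (D.q.preimage_mono h)).op).hom s) =
      (X.presheaf.map (homOfLE h).op).hom (is' D U s) := by
  show ((D.T.presheaf.map (homOfLE (D.q.preimage_mono h)).op) ≫ D.i.appLE _ W (i_preimage D W)).hom s =
    (D.i.appLE _ U (i_preimage D U) ≫ X.presheaf.map (homOfLE h).op).hom s
  rw [Scheme.Hom.map_appLE, Scheme.Hom.appLE_map]

lemma le_iSup_affine (U : X.Opens) :
    U ≤ ⨆ W : {W : X.Opens // IsAffineOpen W ∧ W ≤ U}, W.1 := fun y hy => by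
  obtain ⟨W, hW, hyW, hWU⟩ := Opens.isBasis_iff_nbhd.mp X.isBasis_affineOpens hy
  exact Opens.mem_iSup.2 ⟨⟨W, hW, hWU⟩, hyW⟩

theorem eq_zero_of_eps_mul {U : X.Opens} {b : Γ(X, U)} (hb : eps D _ * qs D U b = 0) : b = 0 := by
  refine X.sheaf.eq_of_locally_eq' (fun W : {W : X.Opens // IsAffineOpen W ∧ W ≤ U} => W.1) U
    (fun W => homOfLE W.2.2) (le_iSup_affine U) b 0 fun W => ?_
  show (X.presheaf.map (homOfLE W.2.2).op).hom b = (X.presheaf.map (homOfLE W.2.2).op).hom 0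
  rw [map_zero]
  obtain ⟨τ, hτq, hτe, -⟩ := exists_tau D W.2.1
  have e := congrArg (fun s => τ ((D.T.presheaf.map (homOfLE (D.q.preimage_mono W.2.2)).op).hom s)) hb
  simp only [map_mul, map_zero] at e
  rw [qs_res, eps_res, hτq, hτe] at e
  simpa using congrArg TrivSqZeroExt.snd e

theorem eps_mul_inj {U : X.Opens} {b b' : Γ(X, U)}
    (h : eps D _ * qs D U b = eps D _ * qs D U b') : b = b' :=
  sub_eq_zero.1 (eq_zero_of_eps_mul D (by rw [map_sub, mul_sub, h, sub_self]))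

theorem exists_eps_mul {U : X.Opens} {s : Γ(D.T, D.q ⁻¹ᵁ U)} (hs : is' D U s = 0) :
    ∃ b, s = eps D _ * qs D U b := by
  classical
  have loc : ∀ W : {W : X.Opens // IsAffineOpen W ∧ W ≤ U}, ∃ b,
      (D.T.presheaf.map (homOfLE (D.q.preimage_mono W.2.2)).op).hom s = eps D _ * qs D W.1 b := by
    intro W
    obtain ⟨τ, -, -, hτ⟩ := exists_tau D W.2.1
    let s' := (D.T.presheaf.map (homOfLE (D.q.preimage_mono W.2.2)).op).hom s
    have h1 : is' D W.1 s' = 0 := by rw [is_res D W.2.2, hs, map_zero]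
    have h2 := (hτ s').2
    rw [h2, map_add, map_mul, is_qs, is_eps, zero_mul, add_zero] at h1
    rw [h1, map_zero, zero_add] at h2
    exact ⟨_, h2⟩
  choose b hb using loc
  obtain ⟨β, hβ, -⟩ := X.sheaf.existsUnique_gluing'
    (fun W : {W : X.Opens // IsAffineOpen W ∧ W ≤ U} => W.1) U
    (fun W => homOfLE W.2.2) (le_iSup_affine U) b (fun W W' => by
      apply eps_mul_inj D
      show eps D _ * qs D (W.1 ⊓ W'.1) ((X.presheaf.map (homOfLE inf_le_left).op).hom (b W)) =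
        eps D _ * qs D (W.1 ⊓ W'.1) ((X.presheaf.map (homOfLE inf_le_right).op).hom (b W'))
      rw [← qs_res D inf_le_left, ← qs_res D inf_le_right]
      rw [← eps_res D (D.q.preimage_mono (inf_le_left : W.1 ⊓ W'.1 ≤ W.1))]
      conv_rhs => rw [eps_res D (D.q.preimage_mono (inf_le_left : W.1 ⊓ W'.1 ≤ W.1)),
        ← eps_res D (D.q.preimage_mono (inf_le_right : W.1 ⊓ W'.1 ≤ W'.1))]
      rw [← map_mul, ← map_mul, ← hb, ← hb, ← CommRingCat.comp_apply, ← CommRingCat.comp_apply,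
        ← Functor.map_comp, ← Functor.map_comp]
      rfl)
  refine ⟨β, D.T.sheaf.eq_of_locally_eq'
    (fun W : {W : X.Opens // IsAffineOpen W ∧ W ≤ U} => D.q ⁻¹ᵁ W.1) (D.q ⁻¹ᵁ U)
    (fun W => homOfLE (D.q.preimage_mono W.2.2)) ?_ _ _ fun W => ?_⟩
  · intro t ht
    obtain ⟨W, hW⟩ := Opens.mem_iSup.1 (le_iSup_affine U ht)
    exact Opens.mem_iSup.2 ⟨W, hW⟩
  · show (D.T.presheaf.map _).hom s = (D.T.presheaf.map _).hom (eps D _ * qs D U β)
    rw [hb, map_mul, eps_res, qs_res D W.2.2]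
    exact congrArg (fun z => eps D _ * qs D W.1 z) (hβ W).symm

/-! ### Morphisms from derivations -/

variable (δ : Der x (Coh.structureModule X))

/-- The value of a derivation into the structure sheaf, as a function. -/
def dfn (U : X.Opens) : Γ(X, U) →+ Γ(X, U) := (fnSect X U).comp (δ.app U)

lemma dfn_mul (U : X.Opens) (a b : Γ(X, U)) : dfn δ U (a * b) = a * dfn δ U b + b * dfn δ U a := by
  show fnSect X U (δ.app U (a * b)) = _
  rw [der_app_mul, map_add]
  rfl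

lemma dfn_one (U : X.Opens) : dfn δ U 1 = 0 := by
  show fnSect X U (δ.app U 1) = _
  rw [der_app_one, map_zero]

lemma dfn_res {U W : X.Opens} (h : W ≤ U) (a : Γ(X, U)) :
    dfn δ W ((X.presheaf.map (homOfLE h).op).hom a) = (X.presheaf.map (homOfLE h).op).hom (dfn δ U a) := by
  show fnSect X W (δ.app W _) = _
  erw [der_app_map]
  rfl

/-- `a ↦ a + ε δ a`. -/
def ofDerRing (U : X.Opens) : Γ(X, U) →+* Γ(D.T, D.q ⁻¹ᵁ U) where
  toFun a := qs D U a + eps D _ * qs D U (dfn δ U a)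
  map_one' := by rw [dfn_one, map_zero, mul_zero, add_zero, map_one]
  map_zero' := by simp
  map_add' a b := by rw [map_add, map_add, map_add]; ring
  map_mul' a b := by
    rw [dfn_mul, map_add, map_mul, map_mul, map_mul]
    linear_combination (-(qs D U (dfn δ U a) * qs D U (dfn δ U b))) * eps_mul_eps D (D.q ⁻¹ᵁ U)

lemma ofDerRing_apply (U : X.Opens) (a : Γ(X, U)) :
    ofDerRing D δ U a = qs D U a + eps D _ * qs D U (dfn δ U a) := rfl

lemma ofDerRing_res {U W : X.Opens} (h : W ≤ U) (a : Γ(X, U)) :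
    (D.T.presheaf.map (homOfLE (D.q.preimage_mono h)).op).hom (ofDerRing D δ U a) =
      ofDerRing D δ W ((X.presheaf.map (homOfLE h).op).hom a) := by
  rw [ofDerRing_apply, map_add, map_mul, eps_res, qs_res, qs_res, ofDerRing_apply, dfn_res]

/-- The underlying map of ringed spaces. -/
def ofDerC : X.presheaf ⟶ (TopCat.Presheaf.pushforward CommRingCat D.q.base).obj D.T.presheaf where
  app U := CommRingCat.ofHom (ofDerRing D δ U.unop)
  naturality U W h := by
    ext a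
    exact (ofDerRing_res D δ h.unop.le a).symm

/-- The morphism `a ↦ a + ε δ a`. -/
def ofDer : D.T ⟶ X :=
  ⟨⟨⟨D.q.base, ofDerC D δ⟩, fun t => ⟨fun a ha => by
    obtain ⟨U, hU, s, rfl⟩ := X.presheaf.exists_germ_eq a
    have hn : IsNilpotent ((D.T.presheaf.germ (D.q ⁻¹ᵁ U) t hU).hom (eps D _ * qs D U (dfn δ U s))) :=
      IsNilpotent.map ⟨2, by linear_combination (qs D U (dfn δ U s) ^ 2) * eps_mul_eps D (D.q ⁻¹ᵁ U)⟩ _
    erw [PresheafedSpace.stalkMap_germ_apply] at ha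
    have h2 : IsUnit ((D.T.presheaf.germ (D.q ⁻¹ᵁ U) t hU).hom (qs D U s)) := by
      have h3 := hn.neg.isUnit_add_right_of_commute
        (u := (D.T.presheaf.germ (D.q ⁻¹ᵁ U) t hU).hom (ofDerRing D δ U s)) ha (Commute.all _ _)
      rwa [ofDerRing_apply, map_add, add_comm, add_neg_cancel_right] at h3
    have h4 : IsUnit ((D.q.stalkMap t).hom ((X.presheaf.germ U (D.q t) hU).hom s)) := by
      rw [Scheme.Hom.germ_stalkMap_apply]
      exact h2
    exact isUnit_of_map_unit (D.q.stalkMap t).hom _ h4⟩⟩⟩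

lemma ofDer_appLE (U : X.Opens) (e : D.q ⁻¹ᵁ U ≤ ofDer D δ ⁻¹ᵁ U) (a : Γ(X, U)) :
    ((ofDer D δ).appLE U (D.q ⁻¹ᵁ U) e).hom a = ofDerRing D δ U a :=
  show (D.T.presheaf.map (𝟙 _)).hom (ofDerRing D δ U a) = _ by rw [D.T.presheaf.map_id]; rfl

theorem eq_ofDer (g : D.T ⟶ X) (hg : D.i ≫ g = 𝟙 X)
    (h : ∀ U (e : D.q ⁻¹ᵁ U ≤ g ⁻¹ᵁ U) (a : Γ(X, U)),
      (g.appLE U (D.q ⁻¹ᵁ U) e).hom a = ofDerRing D δ U a) :
    g = ofDer D δ := by
  refine Scheme.Hom.ext (TopCat.hom_ext (ContinuousMap.ext fun t =>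
    base_eq D (g := g) (g' := D.q) (by rw [hg, D.iq]) t)) fun U => ?_
  ext a
  exact h U _ a

theorem ofDer_x : ofDer D δ ≫ x = D.q ≫ x := by
  refine ext_of_isAffine ?_
  ext c
  show ofDerRing D δ (x ⁻¹ᵁ ⊤) ((x.app ⊤).hom c) = qs D (x ⁻¹ᵁ ⊤) ((x.app ⊤).hom c)
  rw [ofDerRing_apply, show dfn δ (x ⁻¹ᵁ ⊤) ((x.app ⊤).hom c) = 0 from
    (congrArg (fnSect X _) (der_app_app δ ⊤ c)).trans (map_zero _), map_zero, mul_zero, add_zero]

theorem i_ofDer : D.i ≫ ofDer D δ = 𝟙 X := by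
  refine Scheme.Hom.ext (?hb : (D.i ≫ ofDer D δ).base = _) fun U => ?_
  case hb =>
    show (D.i ≫ D.q).base = _
    rw [D.iq]
  ext a
  show is' D U (ofDerRing D δ U a) = a
  rw [ofDerRing_apply, map_add, map_mul, is_qs, is_eps, zero_mul, add_zero]

/-- The derivation of a morphism retracting the closed fibre. -/
theorem exists_der (g : D.T ⟶ X) (hgi : D.i ≫ g = 𝟙 X) (hgx : g ≫ x = D.q ≫ x) :
    ∃ δ : Der x (Coh.structureModule X), g = ofDer D δ := by
  classical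
  have hpre : ∀ U : X.Opens, D.q ⁻¹ᵁ U ≤ g ⁻¹ᵁ U := fun U t ht => by
    show g t ∈ U
    rw [base_eq D (g := g) (g' := D.q) (by rw [hgi, D.iq]) t]
    exact ht
  have hk : ∀ U (a : Γ(X, U)),
      is' D U ((g.appLE U (D.q ⁻¹ᵁ U) (hpre U)).hom a - qs D U a) = 0 := fun U a => by
    rw [map_sub, is_qs, sub_eq_zero]
    show (g.appLE U _ (hpre U) ≫ D.i.appLE _ U (i_preimage D U)).hom a = a
    rw [Scheme.Hom.appLE_comp_appLE, appLE_self _ hgi]
    rfl
  choose d hd using fun U a => exists_eps_mul D (hk U a)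
  have hd' : ∀ U a, (g.appLE U (D.q ⁻¹ᵁ U) (hpre U)).hom a = qs D U a + eps D _ * qs D U (d U a) :=
    fun U a => by rw [← hd]; ring
  let dA : ∀ U : X.Opens, Γ(X, U) →+ Γ(Coh.structureModule X, U) := fun U =>
    (strSect X U).comp (AddMonoidHom.mk' (d U) fun a b => eps_mul_inj D (by
      rw [← hd, map_add, map_add, map_add, mul_add, ← hd, ← hd]; ring))
  have hmul : ∀ U a b, d U (a * b) = a * d U b + b * d U a := fun U a b => eps_mul_inj D (by
    rw [← hd, map_mul, map_mul, map_add, map_mul, map_mul, hd', hd']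
    linear_combination (qs D U (d U a) * qs D U (d U b)) * eps_mul_eps D (D.q ⁻¹ᵁ U))
  have hres : ∀ U W (e : W ≤ U) (a : Γ(X, U)),
      d W ((X.presheaf.map (homOfLE e).op).hom a) = (X.presheaf.map (homOfLE e).op).hom (d U a) :=
    fun U W e a => eps_mul_inj D (by
      rw [← hd, ← qs_res D e, ← qs_res D e, ← eps_res D (D.q.preimage_mono e), ← map_mul, ← hd, map_sub]
      congr 1
      rw [← CommRingCat.comp_apply, ← CommRingCat.comp_apply, Scheme.Hom.map_appLE, Scheme.Hom.appLE_map])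
  have hbase : ∀ V c, d (x ⁻¹ᵁ V) ((x.app V).hom c) = 0 := fun V c => eq_zero_of_eps_mul D (by
    rw [← hd, sub_eq_zero]
    show (x.app V ≫ g.appLE _ _ (hpre _)).hom c = (x.app V ≫ D.q.app _).hom c
    rw [Scheme.Hom.app_eq_appLE, Scheme.Hom.app_eq_appLE, Scheme.Hom.appLE_comp_appLE,
      Scheme.Hom.appLE_comp_appLE]
    simp only [hgx])
  exact ⟨derMk dA hmul hres hbase, eq_ofDer D _ g hgi fun U _ a => hd' U a⟩

theorem ofDer_inj {δ δ' : Der x (Coh.structureModule X)} (h : ofDer D δ = ofDer D δ') : δ = δ' := by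
  refine der_ext fun U s => ?_
  have e : ∀ g g' : D.T ⟶ X, g = g' → ∀ e e', (g.appLE U (D.q ⁻¹ᵁ U) e).hom s =
      (g'.appLE U (D.q ⁻¹ᵁ U) e').hom s := by rintro g _ rfl _ _; rfl
  have := e _ _ h le_rfl le_rfl
  rw [ofDer_appLE, ofDer_appLE, ofDerRing_apply, ofDerRing_apply, add_right_inj] at this
  exact eps_mul_inj D this

/-! ### Automorphisms -/

/-- The endomorphism of the thickening attached to a derivation. -/
def autOf : D.T ⟶ D.T := D.sq.lift (ofDer D δ) D.p ((ofDer_x D δ).trans D.sq.w)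

@[reassoc (attr := simp)] lemma autOf_q : autOf D δ ≫ D.q = ofDer D δ := D.sq.lift_fst _ _ _

@[reassoc (attr := simp)] lemma autOf_p : autOf D δ ≫ D.p = D.p := D.sq.lift_snd _ _ _

lemma i_autOf : D.i ≫ autOf D δ = D.i := by
  refine D.sq.hom_ext ?_ ?_
  · rw [Category.assoc, autOf_q, i_ofDer, D.iq]
  · rw [Category.assoc, autOf_p]

theorem autOf_eq_id (h : ∀ U a, dfn δ U a = 0) : autOf D δ = 𝟙 _ := by
  refine D.sq.hom_ext ?_ (by simp)
  rw [autOf_q, Category.id_comp]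
  refine (eq_ofDer D δ D.q D.iq fun U e a => ?_).symm
  rw [ofDerRing_apply, h, map_zero, mul_zero, add_zero, Scheme.Hom.appLE_eq_app]
  rfl

theorem autOf_comp {δ δ' δ'' : Der x (Coh.structureModule X)}
    (h : ∀ U a, dfn δ'' U a = dfn δ U a + dfn δ' U a) :
    autOf D δ ≫ autOf D δ' = autOf D δ'' := by
  refine D.sq.hom_ext ?_ (by simp)
  rw [Category.assoc, autOf_q, autOf_q]
  refine eq_ofDer D δ'' _ (by rw [reassoc_of% (i_autOf D δ), i_ofDer]) fun U e a => ?_
  have hpre : D.q ⁻¹ᵁ U ≤ autOf D δ ⁻¹ᵁ (D.q ⁻¹ᵁ U) := fun t ht => by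
    show D.q (autOf D δ t) ∈ U
    rw [base_eq D (g := autOf D δ) (g' := 𝟙 _) (by rw [i_autOf, Category.comp_id]) t]
    exact ht
  rw [← Scheme.Hom.appLE_comp_appLE (autOf D δ) (ofDer D δ') U (D.q ⁻¹ᵁ U) _ le_rfl hpre,
    CommRingCat.comp_apply, ofDer_appLE]
  let φ := ((autOf D δ).appLE (D.q ⁻¹ᵁ U) (D.q ⁻¹ᵁ U) hpre).hom
  show φ _ = _
  have he : φ (eps D _) = eps D _ := by
    show (D.p.appLE ⊤ _ _ ≫ (autOf D δ).appLE _ _ hpre).hom _ = _
    rw [Scheme.Hom.appLE_comp_appLE]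
    simp only [autOf_p]
    rfl
  have hq : ∀ b, φ (qs D U b) = ofDerRing D δ U b := fun b => by
    show (D.q.app U ≫ (autOf D δ).appLE _ _ hpre).hom b = _
    rw [Scheme.Hom.app_eq_appLE, Scheme.Hom.appLE_comp_appLE]
    simp only [autOf_q]
    exact ofDer_appLE D δ U _ b
  rw [ofDerRing_apply, map_add, map_mul, he, hq, hq, ofDerRing_apply, ofDerRing_apply, ofDerRing_apply, h,
    map_add]
  linear_combination (qs D U (dfn δ U (dfn δ' U a))) * eps_mul_eps D (D.q ⁻¹ᵁ U)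

lemma hom_app_add {M N : X.Modules} (φ ψ : M ⟶ N) (U : X.Opens) (m : Γ(M, U)) :
    (φ + ψ).app U m = φ.app U m + ψ.app U m := rfl

/-- The derivation of a section of the dual of `Ω`. -/
abbrev derOfHom [QuasiSeparated x] (α : Omega.sheaf x ⟶ Coh.structureModule X) :
    Der x (Coh.structureModule X) :=
  derComp (dOmega x) α

lemma dfn_derOfHom [QuasiSeparated x] (α : Omega.sheaf x ⟶ Coh.structureModule X) (U : X.Opens)
    (a : Γ(X, U)) : dfn (derOfHom α) U a = fnSect X U (α.app U ((dOmega x).app U a)) := rfl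

/-- The automorphism attached to a section of the dual of `Ω`. -/
def autIso [QuasiSeparated x] (α : Omega.sheaf x ⟶ Coh.structureModule X) : D.T ≅ D.T where
  hom := autOf D (derOfHom α)
  inv := autOf D (derOfHom (-α))
  hom_inv_id := by
    rw [autOf_comp D (δ'' := derOfHom 0) (fun U a => ?_), autOf_eq_id D _ fun U a => ?_]
    · rfl
    · rw [dfn_derOfHom, dfn_derOfHom, dfn_derOfHom, ← map_add]
      refine congrArg (fnSect X U) ?_
      first
      | rw [← hom_app_add, add_neg_cancel]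
      | rw [← hom_app_add, neg_add_cancel]
  inv_hom_id := by
    rw [autOf_comp D (δ'' := derOfHom 0) (fun U a => ?_), autOf_eq_id D _ fun U a => ?_]
    · rfl
    · rw [dfn_derOfHom, dfn_derOfHom, dfn_derOfHom, ← map_add]
      refine congrArg (fnSect X U) ?_
      first
      | rw [← hom_app_add, add_neg_cancel]
      | rw [← hom_app_add, neg_add_cancel]

/-- Infinitesimal automorphisms are sections of the dual of `Ω`, additively. -/
theorem exists_equiv_aut [QuasiSeparated x] :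
    ∃ e : {φ : D.T ≅ D.T // φ.hom ≫ D.p = D.p ∧ D.i ≫ φ.hom = D.i} ≃
        (Omega.sheaf x ⟶ Coh.structureModule X),
      ∀ φ ψ χ : {φ : D.T ≅ D.T // φ.hom ≫ D.p = D.p ∧ D.i ≫ φ.hom = D.i},
        φ.1 ≪≫ ψ.1 = χ.1 → e χ = e φ + e ψ := by
  let F : (Omega.sheaf x ⟶ Coh.structureModule X) →
      {φ : D.T ≅ D.T // φ.hom ≫ D.p = D.p ∧ D.i ≫ φ.hom = D.i} :=
    fun α => ⟨autIso D α, autOf_p D _, i_autOf D _⟩
  have hu := (isUniversal_iff (dOmega x)).1 (Groth.Agent.Lib.Kaehler.DOmega.isUniversal_dOmega x)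
    (Coh.structureModule X)
  have hinj : Function.Injective F := fun α β h => by
    refine hu.1 (ofDer_inj D ?_)
    have := congrArg (fun φ : {φ : D.T ≅ D.T // φ.hom ≫ D.p = D.p ∧ D.i ≫ φ.hom = D.i} => φ.1.hom ≫ D.q) h
    simpa [F, autIso] using this
  have hsurj : Function.Surjective F := fun φ => by
    obtain ⟨δ, hδ⟩ := exists_der D (φ.1.hom ≫ D.q) (by rw [reassoc_of% φ.2.2, D.iq])
      (by rw [Category.assoc, D.sq.w, reassoc_of% φ.2.1])
    obtain ⟨α, rfl⟩ := hu.2 δ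
    refine ⟨α, Subtype.ext (Iso.ext (D.sq.hom_ext ?_ ?_))⟩
    · exact (autOf_q D _).trans hδ.symm
    · exact (autOf_p D _).trans φ.2.1.symm
  refine ⟨(Equiv.ofBijective F ⟨hinj, hsurj⟩).symm, fun φ ψ χ h => ?_⟩
  obtain ⟨α, rfl⟩ := hsurj φ
  obtain ⟨β, rfl⟩ := hsurj ψ
  obtain ⟨γ, rfl⟩ := hsurj χ
  simp only [Equiv.ofBijective_symm_apply_apply]
  refine hinj (Subtype.ext (Iso.ext ?_))
  rw [← h]
  refine autOf_comp D fun U a => ?_
  rw [dfn_derOfHom, dfn_derOfHom, dfn_derOfHom, ← map_add]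
  refine congrArg (fnSect X U) ?_
  simp

end Groth.Agent.Lib.ArtinFun.DualThick
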