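import Groth.Agent.Lib.ArtinFun.FlatIdealFP
import Mathlib.Algebra.TrivSqZeroExt.Basic

/-!
# Flat ideals over the dual numbers
-/

noncomputable section

universe u

open CategoryTheory ArtFun IsLocalRing
open scoped TensorProduct

namespace Groth.Agent.Lib.ArtinFun.DualIdeal

open FlatIdealFP

variable {k : Type u} [Field k] (C : Type u) [CommRing C] [Algebra k C]

/-- The coefficient of `ε`, on the dual numbers. -/
def sndLin : Art.dual k k →ₗ[k] k where
  toFun a := TrivSqZeroExt.snd a
  map_add' _ _ := rfl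
  map_smul' _ _ := rfl

/-- The element `ε`. -/
def epsEl : Art.dual k k := (TrivSqZeroExt.inr (1 : k) : DualNumber k)

/-- The coefficient of `ε`. -/
def snd0 : (Art.dual k k) ⊗[k] C →ₗ[k] C :=
  (TensorProduct.lid k C).toLinearMap ∘ₗ sndLin.rTensor C

lemma snd0_tmul (a : Art.dual k k) (c : C) : snd0 C (a ⊗ₜ c) = TrivSqZeroExt.snd a • c := rfl

lemma res_mul_snd (a b : Art.dual k k) :
    TrivSqZeroExt.snd (a * b) = (Art.dual k k).res a * TrivSqZeroExt.snd b +
      TrivSqZeroExt.snd a * (Art.dual k k).res b := by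
  show TrivSqZeroExt.snd ((a : DualNumber k) * b) =
    TrivSqZeroExt.fst (a : DualNumber k) * TrivSqZeroExt.snd (b : DualNumber k) +
      TrivSqZeroExt.snd (a : DualNumber k) * TrivSqZeroExt.fst (b : DualNumber k)
  exact DualNumber.snd_mul a b

lemma snd0_mul (z w : (Art.dual k k) ⊗[k] C) :
    snd0 C (z * w) = res0 C _ z * snd0 C w + snd0 C z * res0 C _ w := by
  induction z with
  | zero => simp
  | add x y hx hy => rw [add_mul, map_add, map_add, map_add, hx, hy]; ring
  | tmul a c =>
    induction w with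
    | zero => simp
    | add x y hx hy => rw [mul_add, map_add, map_add, map_add, hx, hy]; ring
    | tmul b d =>
      rw [Algebra.TensorProduct.tmul_mul_tmul, snd0_tmul, snd0_tmul, snd0_tmul, res0_tmul, res0_tmul,
        res_mul_snd, add_smul, smul_mul_smul_comm, smul_mul_smul_comm]

lemma decompose (z : (Art.dual k k) ⊗[k] C) :
    z = (1 : Art.dual k k) ⊗ₜ res0 C _ z + epsEl ⊗ₜ snd0 C z := by
  induction z with
  | zero => simp
  | add x y hx hy =>
    rw [map_add, map_add, TensorProduct.tmul_add, TensorProduct.tmul_add, add_add_add_comm, ← hx, ← hy]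
  | tmul a c =>
    rw [res0_tmul, snd0_tmul, TensorProduct.tmul_smul, TensorProduct.tmul_smul,
      TensorProduct.smul_tmul', TensorProduct.smul_tmul', ← TensorProduct.add_tmul]
    congr 1
    show (a : DualNumber k) = (Art.dual k k).res a • (1 : DualNumber k) +
      TrivSqZeroExt.snd (a : DualNumber k) • (TrivSqZeroExt.inr (1 : k) : DualNumber k)
    refine TrivSqZeroExt.ext ?_ ?_
    · show TrivSqZeroExt.fst (a : DualNumber k) =
        TrivSqZeroExt.fst (a : DualNumber k) * 1 + TrivSqZeroExt.snd (a : DualNumber k) * 0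
      ring
    · show TrivSqZeroExt.snd (a : DualNumber k) =
        TrivSqZeroExt.fst (a : DualNumber k) * 0 + TrivSqZeroExt.snd (a : DualNumber k) * 1
      ring

@[simp] lemma res0_one_tmul (A : Art k k) (c : C) : res0 C A ((1 : A) ⊗ₜ c) = c := by
  rw [res0_tmul, map_one, one_smul]

@[simp] lemma snd0_one_tmul (c : C) : snd0 C ((1 : Art.dual k k) ⊗ₜ c) = 0 :=
  zero_smul k c

@[simp] lemma res0_eps_tmul (c : C) : res0 C (Art.dual k k) (epsEl ⊗ₜ c) = 0 := by
  rw [res0_tmul]
  exact zero_smul k c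

@[simp] lemma snd0_eps_tmul (c : C) : snd0 C ((epsEl : Art.dual k k) ⊗ₜ c) = c := one_smul k c

lemma snd0_liftsRep {ι : Type u} (c : ι → C) (a : ι →₀ Art.dual k k) :
    snd0 C (liftsRep C c a) = Finsupp.linearCombination k c (a.mapRange sndLin (map_zero sndLin)) := by
  rw [liftsRep, Finsupp.linearCombination_apply, Finsupp.linearCombination_apply,
    Finsupp.sum_mapRange_index (by simp), Finsupp.sum, Finsupp.sum, map_sum]
  refine Finset.sum_congr rfl fun i _ => ?_
  rw [TensorProduct.smul_tmul', smul_eq_mul, mul_one, snd0_tmul]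
  rfl

variable {C}

/-- An ideal containing `ε c` only for `c` in its closed fibre has flat quotient. -/
theorem flat_of_eps (J : Ideal ((Art.dual k k) ⊗[k] C))
    (hJ : ∀ c, epsEl ⊗ₜ c ∈ J → c ∈ J.map (res0 C _)) :
    Module.Flat (Art.dual k k) (((Art.dual k k) ⊗[k] C) ⧸ J) := by
  obtain ⟨ι, c, hs, hi⟩ := exists_spans_indep (k := k) C (J.map (res0 C (Art.dual k k)))
  have hinj : Function.Injective (lifts C c J) := by
    rw [injective_iff_map_eq_zero]
    intro a ha
    rw [lifts_eq, Ideal.Quotient.eq_zero_iff_mem] at ha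
    have h1 := Ideal.mem_map_of_mem (res0 C (Art.dual k k)) ha
    rw [res0_liftsRep] at h1
    have h2 := hi _ h1
    have h3 : res0 C _ (liftsRep C c a) = 0 := by rw [res0_liftsRep, h2, map_zero]
    have h4 := decompose C (liftsRep C c a)
    rw [h3, TensorProduct.tmul_zero, zero_add] at h4
    rw [h4] at ha
    have h5 := hJ _ ha
    rw [snd0_liftsRep] at h5
    have h6 := hi _ h5
    refine Finsupp.ext fun i => TrivSqZeroExt.ext ?_ ?_
    · exact Finsupp.ext_iff.1 h2 i
    · exact Finsupp.ext_iff.1 h6 i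
  exact Module.Flat.of_linearEquiv
    (LinearEquiv.ofBijective _ ⟨hinj, lifts_surjective C c J hs⟩).symm

/-- In an ideal with flat quotient, `ε c` occurs only for `c` in the closed fibre. -/
theorem eps_mem_imp (J : Ideal ((Art.dual k k) ⊗[k] C))
    [Module.Flat (Art.dual k k) (((Art.dual k k) ⊗[k] C) ⧸ J)] {c : C} (hc : epsEl ⊗ₜ c ∈ J) :
    c ∈ J.map (res0 C _) := by
  obtain ⟨ι, b, hs, hi⟩ := exists_spans_indep (k := k) C (J.map (res0 C (Art.dual k k)))
  obtain ⟨l, hl⟩ := hs c
  obtain ⟨w, hw, hw'⟩ := (Ideal.mem_map_iff_of_surjective _ (res0_surjective C _)).1 hl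
  let a : ι →₀ Art.dual k k := l.mapRange (fun t => t • epsEl) (zero_smul k epsEl)
  have hr : a.mapRange (Art.dual k k).res (map_zero _) = 0 := Finsupp.ext fun i => by
    show TrivSqZeroExt.fst (l i • (TrivSqZeroExt.inr (1 : k) : DualNumber k)) = 0
    simp
  have hsn : a.mapRange sndLin (map_zero sndLin) = l := Finsupp.ext fun i => by
    show TrivSqZeroExt.snd (l i • (TrivSqZeroExt.inr (1 : k) : DualNumber k)) = l i
    simp
  have h1 : liftsRep C b a = epsEl ⊗ₜ Finsupp.linearCombination k b l := by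
    have h2 := decompose C (liftsRep C b a)
    rwa [res0_liftsRep, hr, map_zero, TensorProduct.tmul_zero, zero_add, snd0_liftsRep, hsn] at h2
  have h3 : a = 0 := by
    refine lifts_injective C b J hi ?_
    rw [map_zero, lifts_eq, Ideal.Quotient.eq_zero_iff_mem, h1]
    have h4 : (epsEl : Art.dual k k) ⊗ₜ[k] (c - Finsupp.linearCombination k b l) ∈ J := by
      have h5 := J.mul_mem_left ((epsEl : Art.dual k k) ⊗ₜ[k] (1 : C)) hw
      have h6 : ((epsEl : Art.dual k k) ⊗ₜ[k] (1 : C)) * w = epsEl ⊗ₜ res0 C _ w := by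
        have h7 := decompose C (((epsEl : Art.dual k k) ⊗ₜ[k] (1 : C)) * w)
        rw [map_mul, res0_eps_tmul, zero_mul, TensorProduct.tmul_zero, zero_add, snd0_mul,
          res0_eps_tmul, zero_mul, zero_add, snd0_eps_tmul, one_mul] at h7
        exact h7
      rw [h6, hw'] at h5
      exact h5
    rw [TensorProduct.tmul_sub] at h4
    have h8 := sub_mem hc h4
    rwa [sub_sub_cancel] at h8
  rw [h3, map_zero] at h1
  have h9 : snd0 C ((epsEl : Art.dual k k) ⊗ₜ Finsupp.linearCombination k b l) = 0 := by rw [← h1, map_zero]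
  rw [snd0_eps_tmul] at h9
  rw [h9, sub_zero] at hw'
  rw [← hw']
  exact Ideal.mem_map_of_mem _ hw

/-- Elements with the same closed fibre differ by an `ε`-multiple of the closed fibre. -/
theorem snd0_mem (J : Ideal ((Art.dual k k) ⊗[k] C))
    [Module.Flat (Art.dual k k) (((Art.dual k k) ⊗[k] C) ⧸ J)] {z : (Art.dual k k) ⊗[k] C}
    (hz : z ∈ J) (h0 : res0 C _ z = 0) : snd0 C z ∈ J.map (res0 C _) := by
  refine eps_mem_imp J ?_
  have h := decompose C z
  rw [h0, TensorProduct.tmul_zero, zero_add] at h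
  rwa [← h]

end Groth.Agent.Lib.ArtinFun.DualIdeal
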