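import Groth.Agent.Lib.ClSub.Basis
import Mathlib.Algebra.DualNumber
import Mathlib.RingTheory.DualNumber
import Mathlib.AlgebraicGeometry.AffineScheme
import Mathlib.AlgebraicGeometry.Morphisms.ClosedImmersion
import Mathlib.AlgebraicGeometry.Modules.Sheaf
import Mathlib.RingTheory.Artinian.Module
import Groth.Prelude.Def_ArtFun

/-!
# The trivial first order thickening `X ×_k Spec k[ε]`
-/

noncomputable section

universe u

open CategoryTheory CategoryTheory.Limits AlgebraicGeometry Opposite TopologicalSpace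

namespace Groth.Agent.Lib.ArtinFun.DualThick

/-- The data `X ×_k Spec k[ε]` with its section. -/
structure Data (k : Type u) [Field k] (X : Scheme.{u}) (x : X ⟶ Spec (CommRingCat.of k)) where
  /-- the thickening -/
  T : Scheme.{u}
  /-- the retraction -/
  q : T ⟶ X
  /-- the projection -/
  p : T ⟶ Spec (CommRingCat.of (DualNumber k))
  sq : IsPullback q p x (Spec.map (CommRingCat.ofHom (algebraMap k (DualNumber k))))
  /-- the section -/
  i : X ⟶ T
  iq : i ≫ q = 𝟙 X
  ip : i ≫ p = x ≫ Spec.map (CommRingCat.ofHom (TrivSqZeroExt.fstHom k k k).toRingHom)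

variable {k : Type u} [Field k] {X : Scheme.{u}} {x : X ⟶ Spec (CommRingCat.of k)} (D : Data k X x)

lemma specMap_fst_inl : Spec.map (CommRingCat.ofHom (TrivSqZeroExt.fstHom k k k).toRingHom) ≫
    Spec.map (CommRingCat.ofHom (algebraMap k (DualNumber k))) = 𝟙 _ := by
  rw [← Spec.map_comp, ← CommRingCat.ofHom_comp,
    show (TrivSqZeroExt.fstHom k k k).toRingHom.comp (algebraMap k (DualNumber k)) = RingHom.id k from
      RingHom.ext fun c => rfl, CommRingCat.ofHom_id]
  exact Spec.map_id _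

instance isClosedImmersion_fst :
    IsClosedImmersion (Spec.map (CommRingCat.ofHom (TrivSqZeroExt.fstHom k k k).toRingHom)) :=
  IsClosedImmersion.spec_of_surjective _ fun c => ⟨TrivSqZeroExt.inl c, rfl⟩

instance surjective_fst : Surjective (Spec.map (CommRingCat.ofHom (TrivSqZeroExt.fstHom k k k).toRingHom)) := by
  refine ⟨fun a => ⟨(IsLocalRing.closedPoint k : PrimeSpectrum k), ?_⟩⟩
  haveI : IsArtinianRing (DualNumber k) := ArtFun.Art.isArtinianRing_tsze k k
  haveI : IsLocalRing (DualNumber k) := inferInstance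
  haveI : Subsingleton (PrimeSpectrum (DualNumber k)) :=
    ⟨fun a b => PrimeSpectrum.ext ((IsLocalRing.eq_maximalIdeal (IsArtinianRing.isMaximal_of_isPrime a.asIdeal)).trans
      (IsLocalRing.eq_maximalIdeal (IsArtinianRing.isMaximal_of_isPrime b.asIdeal)).symm)⟩
  exact Subsingleton.elim (α := PrimeSpectrum (DualNumber k)) _ _

theorem isPullback_i : IsPullback D.i x D.p (Spec.map (CommRingCat.ofHom (TrivSqZeroExt.fstHom k k k).toRingHom)) := by
  refine IsPullback.of_right ?_ D.ip D.sq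
  rw [D.iq, specMap_fst_inl]
  exact IsPullback.of_horiz_isIso ⟨by rw [Category.id_comp, Category.comp_id]⟩

theorem surjective_i : Surjective D.i := MorphismProperty.of_isPullback (isPullback_i D).flip inferInstance

lemma i_q_apply (y : X) : D.q (D.i y) = y := by rw [← Scheme.Hom.comp_apply, D.iq]; rfl

lemma i_preimage (U : X.Opens) : U ≤ D.i ⁻¹ᵁ (D.q ⁻¹ᵁ U) := fun y hy => by
  show D.q (D.i y) ∈ U
  rwa [i_q_apply]

/-- Maps agreeing on the closed fibre agree on points. -/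
lemma base_eq {Y : Scheme.{u}} {g g' : D.T ⟶ Y} (h : D.i ≫ g = D.i ≫ g') (t : D.T) : g t = g' t := by
  obtain ⟨y, rfl⟩ := (surjective_i D).1 t
  rw [← Scheme.Hom.comp_apply, h]
  rfl

/-- The function `ε`. -/
def eps (V : D.T.Opens) : Γ(D.T, V) :=
  (D.p.appLE ⊤ V (fun _ _ => trivial)).hom ((Scheme.ΓSpecIso (CommRingCat.of (DualNumber k))).inv.hom
    (DualNumber.eps : DualNumber k))

lemma eps_mul_eps (V : D.T.Opens) : eps D V * eps D V = 0 := by
  rw [eps, ← map_mul, ← map_mul, DualNumber.eps_mul_eps, map_zero, map_zero]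

lemma eps_res {V V' : D.T.Opens} (h : V' ≤ V) : (D.T.presheaf.map (homOfLE h).op).hom (eps D V) = eps D V' := by
  rw [eps, eps, ← ConcreteCategory.comp_apply (D.p.appLE _ _ _), Scheme.Hom.appLE_map]

/-- The pulled back function. -/
def qs (U : X.Opens) : Γ(X, U) →+* Γ(D.T, D.q ⁻¹ᵁ U) := (D.q.app U).hom

/-- Restriction to the closed fibre. -/
def is' (U : X.Opens) : Γ(D.T, D.q ⁻¹ᵁ U) →+* Γ(X, U) :=
  (D.i.appLE (D.q ⁻¹ᵁ U) U (i_preimage D U)).hom

lemma is_qs (U : X.Opens) (a : Γ(X, U)) : is' D U (qs D U a) = a := by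
  show ((D.q.app U) ≫ D.i.appLE _ _ (i_preimage D U)).hom a = a
  rw [← Scheme.Hom.comp_appLE _ _ _ _ (by rw [D.iq]; exact le_rfl)]
  have : (D.i ≫ D.q).appLE U U (by rw [D.iq]; exact le_rfl) = 𝟙 _ := by
    simp only [D.iq]
    simp [Scheme.Hom.appLE]
    exact X.presheaf.map_id _
  rw [this]
  rfl

lemma is_eps (U : X.Opens) : is' D U (eps D (D.q ⁻¹ᵁ U)) = 0 := by
  show ((D.p.appLE ⊤ (D.q ⁻¹ᵁ U) (fun _ _ => trivial)) ≫ D.i.appLE _ _ (i_preimage D U)).hom _ = 0
  rw [Scheme.Hom.appLE_comp_appLE]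
  simp only [D.ip]
  rw [← Scheme.Hom.appLE_comp_appLE x (Spec.map (CommRingCat.ofHom (TrivSqZeroExt.fstHom k k k).toRingHom))
    ⊤ ⊤ U le_top le_top,
    show (Spec.map (CommRingCat.ofHom (TrivSqZeroExt.fstHom k k k).toRingHom)).appLE ⊤ ⊤ le_top =
      (Spec.map (CommRingCat.ofHom (TrivSqZeroExt.fstHom k k k).toRingHom)).app ⊤ from Scheme.Hom.appLE_eq_app _,
    CommRingCat.comp_apply]
  have e := congr(($((Scheme.ΓSpecIso_inv_naturality
    (CommRingCat.ofHom (TrivSqZeroExt.fstHom k k k).toRingHom)).symm)).hom (DualNumber.eps : DualNumber k))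
  simp only [CommRingCat.hom_comp, RingHom.comp_apply, CommRingCat.hom_ofHom] at e
  refine (congrArg (x.appLE ⊤ U le_top).hom e).trans ?_
  simp

section Affine

variable {U : X.Opens} (hU : IsAffineOpen U)

instance : IsAffineHom D.q := MorphismProperty.of_isPullback D.sq.flip inferInstance

include hU in
/-- Coordinates on an affine open. -/
theorem exists_tau : ∃ τ : Γ(D.T, D.q ⁻¹ᵁ U) →+* DualNumber Γ(X, U),
    (∀ a, τ (qs D U a) = TrivSqZeroExt.inl a) ∧ τ (eps D (D.q ⁻¹ᵁ U)) = DualNumber.eps ∧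
    ∀ s, τ s = TrivSqZeroExt.inl (TrivSqZeroExt.fst (τ s)) + DualNumber.eps * TrivSqZeroExt.inl (TrivSqZeroExt.snd (τ s)) ∧
      s = qs D U (TrivSqZeroExt.fst (τ s)) + eps D _ * qs D U (TrivSqZeroExt.snd (τ s)) := by
  classical
  have hV : IsAffineOpen (D.q ⁻¹ᵁ U) := hU.preimage D.q
  let V := D.q ⁻¹ᵁ U
  let cU : k →+* Γ(X, U) := (Spec.preimage (hU.fromSpec ≫ x)).hom
  letI : Algebra k Γ(X, U) := cU.toAlgebra
  let mε : DualNumber k →+* DualNumber Γ(X, U) :=
    (DualNumber.lift ⟨((IsScalarTower.toAlgHom k Γ(X, U) (DualNumber Γ(X, U))).comp (Algebra.ofId k Γ(X, U)),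
      DualNumber.eps), ⟨DualNumber.eps_mul_eps, fun a => Commute.all _ _⟩⟩).toRingHom
  have hmε : mε.comp (algebraMap k (DualNumber k)) = (TrivSqZeroExt.inlHom Γ(X, U) Γ(X, U)).comp cU := by
    refine RingHom.ext fun c => ?_
    simp [mε, TrivSqZeroExt.algebraMap_eq_inl', cU, RingHom.algebraMap_toAlgebra]
  let SU : CommRingCat.{u} := CommRingCat.of (DualNumber Γ(X, U))
  let tq : Spec SU ⟶ X := Spec.map (CommRingCat.ofHom (TrivSqZeroExt.inlHom Γ(X, U) Γ(X, U))) ≫ hU.fromSpec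
  let tp : Spec SU ⟶ Spec (CommRingCat.of (DualNumber k)) := Spec.map (CommRingCat.ofHom mε)
  let t : Spec SU ⟶ D.T := D.sq.lift tq tp (by
    show (_ ≫ hU.fromSpec) ≫ x = Spec.map _ ≫ Spec.map _
    rw [Category.assoc, ← Spec.map_preimage (hU.fromSpec ≫ x), ← Spec.map_comp, ← Spec.map_comp,
      ← CommRingCat.ofHom_comp, hmε, CommRingCat.ofHom_comp]
    rfl)
  have ht : Set.range t ⊆ Set.range hV.fromSpec := by
    rintro _ ⟨z, rfl⟩
    rw [hV.range_fromSpec]
    show D.q (t z) ∈ U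
    rw [← Scheme.Hom.comp_apply, D.sq.lift_fst, ← SetLike.mem_coe, ← hU.range_fromSpec]
    exact ⟨_, rfl⟩
  let τ' : Γ(D.T, V) ⟶ SU := Spec.preimage (IsOpenImmersion.lift hV.fromSpec t ht)
  have hτ : Spec.map τ' ≫ hV.fromSpec = t := by
    rw [Spec.map_preimage, IsOpenImmersion.lift_fac]
  have hq' : D.q.appLE U V le_rfl ≫ τ' = CommRingCat.ofHom (TrivSqZeroExt.inlHom Γ(X, U) Γ(X, U)) := by
    apply Spec.map_injective
    rw [← cancel_mono hU.fromSpec, Spec.map_comp, Category.assoc, IsAffineOpen.SpecMap_appLE_fromSpec D.q hU hV,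
      reassoc_of% hτ, D.sq.lift_fst]
  let pk : CommRingCat.of (DualNumber k) ⟶ Γ(D.T, V) :=
    (Scheme.ΓSpecIso (CommRingCat.of (DualNumber k))).inv ≫ D.p.appLE ⊤ V (fun _ _ => trivial)
  have hpk : Spec.map pk = hV.fromSpec ≫ D.p := by
    rw [← IsAffineOpen.SpecMap_appLE_fromSpec D.p (isAffineOpen_top _) hV (fun _ _ => trivial), Spec.map_comp,
      IsAffineOpen.fromSpec_top, Scheme.isoSpec_Spec_inv]
  have hp' : pk ≫ τ' = CommRingCat.ofHom mε := by
    apply Spec.map_injective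
    rw [Spec.map_comp, hpk, reassoc_of% hτ, D.sq.lift_snd]
  let ψ : DualNumber Γ(X, U) →+* Γ(D.T, V) :=
    letI : Algebra Γ(X, U) Γ(D.T, V) := (qs D U).toAlgebra
    (DualNumber.lift ⟨(Algebra.ofId Γ(X, U) Γ(D.T, V), eps D V), ⟨eps_mul_eps D V, fun a => Commute.all _ _⟩⟩).toRingHom
  have hψ : ∀ d, ψ d = qs D U (TrivSqZeroExt.fst d) + eps D V * qs D U (TrivSqZeroExt.snd d) := fun d => by
    simp [ψ, DualNumber.lift_apply_apply, RingHom.algebraMap_toAlgebra, mul_comm]
  have hψε : ψ.comp mε = pk.hom := by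
    refine RingHom.ext fun d => ?_
    rw [RingHom.comp_apply, hψ]
    have hc : ∀ c : k, pk.hom (TrivSqZeroExt.inl c) = qs D U (cU c) := fun c => by
      have e : CommRingCat.ofHom (algebraMap k (DualNumber k)) ≫ pk =
          Spec.preimage (hU.fromSpec ≫ x) ≫ D.q.appLE U V le_rfl := by
        apply Spec.map_injective
        rw [Spec.map_comp _ pk, Spec.map_comp (Spec.preimage (hU.fromSpec ≫ x)), hpk, Spec.map_preimage, IsAffineOpen.SpecMap_appLE_fromSpec_assoc D.q hU hV,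
          Category.assoc, D.sq.w]
      have e' := congrArg (fun f => f.hom c) e
      rw [← Scheme.Hom.app_eq_appLE] at e'
      exact e'
    have hd : d = TrivSqZeroExt.inl (TrivSqZeroExt.fst d) +
        TrivSqZeroExt.inl (TrivSqZeroExt.snd d) * DualNumber.eps := by
      ext <;> simp
    conv_rhs => rw [hd, map_add, map_mul, hc, hc]
    have he : pk.hom DualNumber.eps = eps D V := rfl
    rw [he]
    simp [mε, DualNumber.lift_apply_apply, TrivSqZeroExt.algebraMap_eq_inl', mul_comm]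
    rfl
  have hid : τ' ≫ CommRingCat.ofHom ψ = 𝟙 _ := by
    apply Spec.map_injective
    rw [← cancel_mono hV.fromSpec, Spec.map_comp, Category.assoc, hτ, Spec.map_id]
    refine Eq.trans ?_ (Category.id_comp hV.fromSpec).symm
    refine D.sq.hom_ext ?_ ?_
    · rw [Category.assoc, D.sq.lift_fst, ← IsAffineOpen.SpecMap_appLE_fromSpec D.q hU hV le_rfl]
      show Spec.map _ ≫ Spec.map _ ≫ hU.fromSpec = _
      rw [← Category.assoc, ← Spec.map_comp]
      congr 2
      ext a
      show ψ (TrivSqZeroExt.inl a) = (D.q.appLE U V le_rfl).hom a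
      rw [hψ, ← Scheme.Hom.app_eq_appLE]
      simp [qs]
    · rw [Category.assoc, D.sq.lift_snd, ← hpk]
      show Spec.map _ ≫ Spec.map _ = _
      rw [← Spec.map_comp, ← CommRingCat.ofHom_comp, hψε]
      rfl
  refine ⟨τ'.hom, fun a => ?_, ?_, fun s => ⟨?_, ?_⟩⟩
  · have e := congrArg (fun f => f.hom a) hq'
    rw [← Scheme.Hom.app_eq_appLE] at e
    exact e
  · refine (congrArg (fun f => f.hom (DualNumber.eps : DualNumber k)) hp').trans ?_
    simp [mε]
  · ext <;> simp
  · exact ((congrArg (fun f => f.hom s) hid).symm.trans (hψ _))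

end Affine

end Groth.Agent.Lib.ArtinFun.DualThick
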