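import Groth.Agent.Lib.ArtinFun.SqZeroTensor
import Mathlib.RingTheory.Ideal.Quotient.Operations
import Mathlib.RingTheory.Artinian.Ring
import Mathlib.RingTheory.LocalRing.MaximalIdeal.Basic
import Mathlib.Tactic.LinearCombination

/-!
# Flat lifts of ideals along a square-zero thickening
-/

universe u

open TensorProduct

namespace Groth.Agent.Lib.ArtinFun

set_option maxHeartbeats 400000

variable {C : Type u} [CommRing C] {J : Ideal C} {A : Type u} [CommRing A] [Algebra C A]
  {I : Ideal (A ⧸ J.map (algebraMap C A))}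
  {B : Type u} [AddCommGroup B] [Module A B] [Module C B] [IsScalarTower C A B]
  {π : A →ₗ[A] B}

/-- The reduction `A ⊗ J → B ⊗ J` along `π : A → B`. -/
noncomputable def redMap (π : A →ₗ[A] B) : A ⊗[C] ↥J →ₗ[A] B ⊗[C] ↥J :=
  AlgebraTensorModule.map π (LinearMap.id : ↥J →ₗ[C] ↥J)

theorem redMap_tmul (π : A →ₗ[A] B) (m : A) (j : J) :
    redMap π (m ⊗ₜ[C] j) = π m ⊗ₜ[C] j := AlgebraTensorModule.map_tmul π _ m j

theorem redMap_eq_rTensor (π : A →ₗ[A] B) (z : A ⊗[C] ↥J) :
    redMap π z = LinearMap.rTensor ↥J (π.restrictScalars C) z := by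
  induction z using TensorProduct.induction_on with
  | zero => rw [map_zero, map_zero]
  | add x y hx hy => rw [map_add, map_add, hx, hy]
  | tmul m j => rw [redMap_tmul, LinearMap.rTensor_tmul, LinearMap.restrictScalars_apply]

theorem redMap_surjective (hπ : Function.Surjective π) :
    Function.Surjective (redMap (J := J) π) := fun t => by
  induction t using TensorProduct.induction_on with
  | zero => exact ⟨0, map_zero _⟩
  | add x y hx hy =>
    obtain ⟨a, ha⟩ := hx
    obtain ⟨b, hb⟩ := hy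
    exact ⟨a + b, by rw [map_add, ha, hb]⟩
  | tmul b j =>
    obtain ⟨m, rfl⟩ := hπ b
    exact ⟨m ⊗ₜ[C] j, redMap_tmul π m j⟩

theorem exists_mulMap_eq_of_mk_eq {x y : A}
    (h : Ideal.Quotient.mk (J.map (algebraMap C A)) x = Ideal.Quotient.mk _ y) :
    ∃ z : A ⊗[C] ↥J, mulMap J A A z = x - y := by
  have hx := Ideal.Quotient.eq.1 h
  have hr := range_mulMap (C := C) (A := A) (M := A) J
  have : x - y ∈ LinearMap.range (mulMap J A A) := by
    rw [hr, smul_eq_mul, Ideal.mul_top]
    exact hx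
  exact this

/-- An element whose reduction lies in the image of `I'` is an element of `I'` plus one of `J A`. -/
theorem exists_mem_of_mk_mem {I' : Ideal A}
    (hI' : I'.map (Ideal.Quotient.mk (J.map (algebraMap C A))) = I) {m : A}
    (hm : Ideal.Quotient.mk _ m ∈ I) : ∃ y ∈ I', ∃ v : A ⊗[C] ↥J, m = y + mulMap J A A v := by
  rw [← hI'] at hm
  obtain ⟨y, hy, hye⟩ := (Ideal.mem_map_iff_of_surjective _ Ideal.Quotient.mk_surjective).1 hm
  obtain ⟨v, hv⟩ := exists_mulMap_eq_of_mk_eq hye.symm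
  exact ⟨y, hy, v, by rw [hv]; ring⟩

/-- Flatness of `A ⧸ I'` makes the reduction of `J A ∩ I'` vanish in `B ⊗ J`. -/
theorem redMap_eq_zero (hker : ∀ m, π m = 0 ↔ Ideal.Quotient.mk (J.map (algebraMap C A)) m ∈ I)
    {I' : Ideal A} [Module.Flat C (A ⧸ I')]
    (hI' : I'.map (Ideal.Quotient.mk (J.map (algebraMap C A))) ≤ I) {z : A ⊗[C] ↥J}
    (hz : mulMap J A A z ∈ I') : redMap π z = 0 := by
  have h0 : LinearMap.rTensor ↥J ((Submodule.mkQ I').restrictScalars C) z = 0 := by
    apply mulMap_injective (A := A) (M := A ⧸ I') J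
    rw [map_zero]
    refine (mulMap_naturality J (Submodule.mkQ I') z).trans ?_
    exact (Submodule.Quotient.mk_eq_zero _).2 hz
  obtain ⟨w, rfl⟩ := exists_tmul_of_rTensor_eq_zero J (Submodule.mkQ I') (Submodule.mkQ_surjective _) h0
  clear hz h0
  induction w using TensorProduct.induction_on with
  | zero => rw [map_zero, map_zero]
  | add x y hx hy => rw [map_add, map_add, hx, hy, add_zero]
  | tmul m j =>
    rw [LinearMap.rTensor_tmul, redMap_tmul, Submodule.subtype_apply]
    have hm : (m : A) ∈ I' := (Submodule.Quotient.mk_eq_zero _).1 m.2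
    rw [(hker _).2 (hI' (Ideal.mem_map_of_mem _ hm)), zero_tmul]

/-- Conversely the kernel of the reduction is contained in every lift of `I`. -/
theorem mulMap_mem_of_redMap_eq_zero (hπ : Function.Surjective π)
    (hker : ∀ m, π m = 0 ↔ Ideal.Quotient.mk (J.map (algebraMap C A)) m ∈ I)
    (hJ2 : J * J = ⊥) {I' : Ideal A}
    (hI' : I'.map (Ideal.Quotient.mk (J.map (algebraMap C A))) = I) {z : A ⊗[C] ↥J}
    (hz : redMap π z = 0) : mulMap J A A z ∈ I' := by
  rw [redMap_eq_rTensor] at hz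
  refine mulMap_mem_of_rTensor_eq_zero J π hπ I' ?_ hz
  intro m hm j hj
  obtain ⟨y, hy, v, rfl⟩ := exists_mem_of_mk_mem hI' ((hker m).1 hm)
  rw [smul_add, smul_mulMap J hJ2 j hj v, add_zero]
  exact Submodule.smul_of_tower_mem I' j hy

theorem mulMap_tmul_eq_zero (hJ2 : J * J = ⊥) (v : A ⊗[C] ↥J) (j : J) :
    mulMap J A A v ⊗ₜ[C] j = (0 : A ⊗[C] ↥J) := by
  induction v using TensorProduct.induction_on with
  | zero => rw [map_zero, zero_tmul]
  | add x y hx hy => rw [map_add, add_tmul, hx, hy, add_zero]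
  | tmul a c =>
    have h : (c : C) * (j : C) ∈ J * J := Ideal.mul_mem_mul c.2 j.2
    rw [hJ2, Ideal.mem_bot] at h
    have h0 : (c : C) • j = 0 := Subtype.ext h
    rw [mulMap_tmul, smul_tmul, h0, tmul_zero]

/-- The difference homomorphism of two flat lifts. -/
theorem exists_diff (hker : ∀ m, π m = 0 ↔ Ideal.Quotient.mk (J.map (algebraMap C A)) m ∈ I)
    {I' I'' : Ideal A} [Module.Flat C (A ⧸ I')] [Module.Flat C (A ⧸ I'')]
    (hI' : I'.map (Ideal.Quotient.mk (J.map (algebraMap C A))) = I)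
    (hI'' : I''.map (Ideal.Quotient.mk (J.map (algebraMap C A))) = I) :
    ∃! φ : ↥I →ₗ[A] (B ⊗[C] ↥J),
      ∀ (x : A ⧸ J.map (algebraMap C A)) (hx : x ∈ I) (x' x'' : A), x' ∈ I' → x'' ∈ I'' →
        Ideal.Quotient.mk _ x' = x → Ideal.Quotient.mk _ x'' = x →
        ∀ z : A ⊗[C] ↥J, mulMap J A A z = x'' - x' → redMap π z = φ ⟨x, hx⟩ := by
  have sur := Ideal.Quotient.mk_surjective (I := J.map (algebraMap C A))
  have hex : ∀ x : I, ∃ x' ∈ I', ∃ x'' ∈ I'', ∃ z, Ideal.Quotient.mk _ x' = x.1 ∧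
      Ideal.Quotient.mk _ x'' = x.1 ∧ mulMap J A A z = x'' - x' := fun x => by
    have m1 : x.1 ∈ I'.map (Ideal.Quotient.mk (J.map (algebraMap C A))) := by rw [hI']; exact x.2
    have m2 : x.1 ∈ I''.map (Ideal.Quotient.mk (J.map (algebraMap C A))) := by rw [hI'']; exact x.2
    obtain ⟨x', h', e'⟩ := (Ideal.mem_map_iff_of_surjective _ sur).1 m1
    obtain ⟨x'', h'', e''⟩ := (Ideal.mem_map_iff_of_surjective _ sur).1 m2
    obtain ⟨z, hz⟩ := exists_mulMap_eq_of_mk_eq (e''.trans e'.symm)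
    exact ⟨x', h', x'', h'', z, e', e'', hz⟩
  choose a ha b hb z hea heb hz using hex
  have key : ∀ (x : I) (x' x'' : A), x' ∈ I' → x'' ∈ I'' → Ideal.Quotient.mk _ x' = x.1 →
      Ideal.Quotient.mk _ x'' = x.1 → ∀ w : A ⊗[C] ↥J, mulMap J A A w = x'' - x' →
      redMap π w = redMap π (z x) := by
    intro x x' x'' h' h'' e' e'' w hw
    obtain ⟨u, hu⟩ := exists_mulMap_eq_of_mk_eq (e'.trans (hea x).symm)
    obtain ⟨v, hv⟩ := exists_mulMap_eq_of_mk_eq (e''.trans (heb x).symm)
    have h1 : redMap π u = 0 := redMap_eq_zero hker hI'.le (by rw [hu]; exact sub_mem h' (ha x))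
    have h2 : redMap π v = 0 := redMap_eq_zero hker hI''.le (by rw [hv]; exact sub_mem h'' (hb x))
    have h3 : redMap π (w - z x - v + u) = 0 := by
      refine redMap_eq_zero hker hI'.le ?_
      rw [map_add, map_sub, map_sub, hw, hz, hu, hv]
      have : x'' - x' - (b x - a x) - (x'' - b x) + (x' - a x) = 0 := by ring
      rw [this]
      exact zero_mem _
    rw [map_add, map_sub, map_sub, h1, h2, add_zero, sub_zero, sub_eq_zero] at h3
    exact h3
  let φ : ↥I →ₗ[A] (B ⊗[C] ↥J) :=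
    { toFun := fun x => redMap π (z x)
      map_add' := fun x y => by
        show redMap π (z (x + y)) = _
        rw [← map_add, key (x + y) (a x + a y) (b x + b y) (add_mem (ha x) (ha y))
          (add_mem (hb x) (hb y)) (by rw [map_add, hea, hea]; rfl) (by rw [map_add, heb, heb]; rfl)
          (z x + z y) (by rw [map_add, hz, hz]; ring)]
      map_smul' := fun r x => by
        show redMap π (z (r • x)) = r • redMap π (z x)
        rw [← map_smul, key (r • x) (r * a x) (r * b x) (I'.mul_mem_left r (ha x))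
          (I''.mul_mem_left r (hb x)) (by rw [map_mul, hea]; rfl) (by rw [map_mul, heb]; rfl)
          (r • z x) (by rw [map_smul, hz, smul_eq_mul]; ring)] }
  refine ⟨φ, fun x hx x' x'' h' h'' e' e'' w hw => key ⟨x, hx⟩ x' x'' h' h'' e' e'' w hw, ?_⟩
  intro ψ hψ
  ext x
  exact (hψ x.1 x.2 (a x) (b x) (ha x) (hb x) (hea x) (heb x) (z x) (hz x)).symm

theorem flat_of_surjective (hπ : Function.Surjective π)
    (hker : ∀ m, π m = 0 ↔ Ideal.Quotient.mk (J.map (algebraMap C A)) m ∈ I)
    (hJ2 : J * J = ⊥) [Module (C ⧸ J) B] [IsScalarTower C (C ⧸ J) B] [Module.Flat (C ⧸ J) B]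
    {L : Ideal A} (hLI : L.map (Ideal.Quotient.mk (J.map (algebraMap C A))) = I)
    (hker0 : ∀ z : A ⊗[C] ↥J, mulMap J A A z ∈ L → redMap π z = 0)
    {N : Type u} [AddCommGroup N] [Module A N] [Module C N] [IsScalarTower C A N]
    (g : A →ₗ[A] N) (hg : Function.Surjective g) (hgker : ∀ m, g m = 0 ↔ m ∈ L) :
    Module.Flat C N := by
  have hinj : Function.Injective (mulMap J A N) := by
    rw [injective_iff_map_eq_zero]
    intro t ht
    obtain ⟨w, rfl⟩ := LinearMap.rTensor_surjective ↥J (g := g.restrictScalars C) hg t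
    rw [mulMap_naturality, hgker] at ht
    obtain ⟨v, rfl⟩ := exists_tmul_of_rTensor_eq_zero J π hπ
      ((redMap_eq_rTensor π w).symm.trans (hker0 w ht))
    clear ht
    induction v using TensorProduct.induction_on with
    | zero => rw [map_zero, map_zero]
    | add x y hx hy => rw [map_add, map_add, hx, hy, add_zero]
    | tmul m j =>
      obtain ⟨y, hy, v, hm⟩ := exists_mem_of_mk_mem hLI ((hker _).1 m.2)
      rw [LinearMap.rTensor_tmul, Submodule.subtype_apply, hm, add_tmul, mulMap_tmul_eq_zero hJ2,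
        add_zero, LinearMap.rTensor_tmul, LinearMap.restrictScalars_apply, (hgker y).2 hy, zero_tmul]
  have hle : LinearMap.ker g ≤ LinearMap.ker π := fun y hy =>
    LinearMap.mem_ker.2 ((hker y).2 (hLI ▸ Ideal.mem_map_of_mem _ ((hgker y).1 hy)))
  let f' : N →ₗ[A] B :=
    (LinearMap.ker g).liftQ π hle ∘ₗ (g.quotKerEquivOfSurjective hg).symm.toLinearMap
  have hf' : ∀ m, f' (g m) = π m := fun m => by
    have : (g.quotKerEquivOfSurjective hg).symm (g m) = Submodule.Quotient.mk m := by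
      rw [LinearEquiv.symm_apply_eq]; rfl
    show (LinearMap.ker g).liftQ π hle ((g.quotKerEquivOfSurjective hg).symm (g m)) = π m
    rw [this]
    rfl
  let f : N →ₗ[C] B := f'.restrictScalars C
  have hf : Function.Surjective f := fun b => by
    obtain ⟨m, rfl⟩ := hπ b
    exact ⟨g m, hf' m⟩
  have hfker : LinearMap.ker f = J • (⊤ : Submodule C N) := by
    apply le_antisymm
    · intro t ht
      obtain ⟨m, rfl⟩ := hg t
      have h0 : π m = 0 := (hf' m).symm.trans (LinearMap.mem_ker.1 ht)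
      obtain ⟨y, hy, v, rfl⟩ := exists_mem_of_mk_mem hLI ((hker m).1 h0)
      rw [map_add, (hgker y).2 hy, zero_add, ← mulMap_naturality]
      generalize LinearMap.rTensor ↥J (g.restrictScalars C) v = s
      induction s using TensorProduct.induction_on with
      | zero => rw [map_zero]; exact zero_mem _
      | add x y hx hy => rw [map_add]; exact add_mem hx hy
      | tmul a c => rw [mulMap_tmul]; exact Submodule.smul_mem_smul c.2 Submodule.mem_top
    · rw [Submodule.smul_le]
      intro c hc t _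
      rw [LinearMap.mem_ker, map_smul, ← algebraMap_smul (C ⧸ J) c, Ideal.Quotient.algebraMap_eq,
        Ideal.Quotient.eq_zero_iff_mem.2 hc, zero_smul]
  let e : (C ⧸ J) ⊗[C] N ≃ₗ[C] B :=
    (TensorProduct.quotTensorEquivQuotSMul N J).trans
      ((Submodule.quotEquivOfEq _ _ hfker.symm).trans (f.quotKerEquivOfSurjective hf))
  have : Module.Flat (C ⧸ J) ((C ⧸ J) ⊗[C] N) :=
    Module.Flat.of_linearEquiv (LinearEquiv.extendScalarsOfSurjective
      (R := C) (S := C ⧸ J) Ideal.Quotient.mk_surjective e)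
  refine flat_of_nilpotent_of_injective J (n := 2) (by rw [sq, hJ2]) ?_
  intro p q h
  apply hinj
  rw [mulMap_eq, mulMap_eq, h]

/-- Translating a flat lift by a homomorphism `I → B ⊗ J`. -/
theorem exists_translate (hπ : Function.Surjective π)
    (hker : ∀ m, π m = 0 ↔ Ideal.Quotient.mk (J.map (algebraMap C A)) m ∈ I)
    (hJ2 : J * J = ⊥) [Module (C ⧸ J) B] [IsScalarTower C (C ⧸ J) B] [Module.Flat (C ⧸ J) B]
    (I' : Ideal A) [Module.Flat C (A ⧸ I')]
    (hI' : I'.map (Ideal.Quotient.mk (J.map (algebraMap C A))) = I)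
    (φ : ↥I →ₗ[A] (B ⊗[C] ↥J)) :
    ∃! I'' : Ideal A, Module.Flat C (A ⧸ I'') ∧
      I''.map (Ideal.Quotient.mk (J.map (algebraMap C A))) = I ∧
      ∀ (x : A ⧸ J.map (algebraMap C A)) (hx : x ∈ I) (x' x'' : A), x' ∈ I' → x'' ∈ I'' →
        Ideal.Quotient.mk _ x' = x → Ideal.Quotient.mk _ x'' = x →
        ∀ z : A ⊗[C] ↥J, mulMap J A A z = x'' - x' → redMap π z = φ ⟨x, hx⟩ := by
  have sur := Ideal.Quotient.mk_surjective (I := J.map (algebraMap C A))
  have hmem : ∀ {x'}, x' ∈ I' → Ideal.Quotient.mk (J.map (algebraMap C A)) x' ∈ I := fun h =>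
    hI' ▸ Ideal.mem_map_of_mem _ h
  have mk_mul : ∀ w, Ideal.Quotient.mk (J.map (algebraMap C A)) (mulMap J A A w) = 0 := fun w => by
    rw [Ideal.Quotient.eq_zero_iff_mem]
    have : mulMap J A A w ∈ LinearMap.range (mulMap J A A) := ⟨w, rfl⟩
    rw [range_mulMap, smul_eq_mul, Ideal.mul_top] at this
    exact this
  let L : Ideal A :=
    { carrier := {y | ∃ (x' : A) (h : x' ∈ I') (z : A ⊗[C] ↥J), y = x' + mulMap J A A z ∧
        redMap π z = φ ⟨_, hmem h⟩}
      zero_mem' := ⟨0, zero_mem _, 0, by rw [map_zero, add_zero], by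
        rw [map_zero]
        exact (φ.map_zero.symm.trans (congrArg φ (Subtype.ext (map_zero _).symm)))⟩
      add_mem' := by
        rintro _ _ ⟨x, hx, z, rfl, hz⟩ ⟨y, hy, w, rfl, hw⟩
        refine ⟨x + y, add_mem hx hy, z + w, by rw [map_add]; ring, ?_⟩
        rw [map_add, hz, hw, ← map_add]
        exact congrArg φ (Subtype.ext (map_add _ _ _).symm)
      smul_mem' := by
        rintro r _ ⟨x, hx, z, rfl, hz⟩
        refine ⟨r * x, I'.mul_mem_left r hx, r • z, by rw [map_smul, smul_eq_mul, smul_eq_mul]; ring, ?_⟩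
        rw [map_smul, hz, ← map_smul]
        refine congrArg φ (Subtype.ext ?_)
        show r • Ideal.Quotient.mk (J.map (algebraMap C A)) x = Ideal.Quotient.mk _ (r * x)
        rw [map_mul]
        rfl }
  have hLI : L.map (Ideal.Quotient.mk (J.map (algebraMap C A))) = I := by
    apply le_antisymm
    · rw [Ideal.map_le_iff_le_comap]
      rintro _ ⟨x, hx, z, rfl, -⟩
      rw [Ideal.mem_comap, map_add, mk_mul, add_zero]
      exact hmem hx
    · intro x hx
      obtain ⟨x', h', rfl⟩ := (Ideal.mem_map_iff_of_surjective _ sur).1 (hI'.symm ▸ hx)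
      obtain ⟨z, hz⟩ := redMap_surjective hπ (φ ⟨_, hmem h'⟩)
      refine (Ideal.mem_map_iff_of_surjective _ sur).2 ⟨x' + mulMap J A A z, ⟨x', h', z, rfl, hz⟩, ?_⟩
      rw [map_add, mk_mul, add_zero]
  have hchar : ∀ (x' : A) (h' : x' ∈ I') (z : A ⊗[C] ↥J), x' + mulMap J A A z ∈ L →
      redMap π z = φ ⟨_, hmem h'⟩ := by
    rintro x' h' z ⟨y', hy', w, he, hw⟩
    have hmk : Ideal.Quotient.mk (J.map (algebraMap C A)) x' = Ideal.Quotient.mk _ y' := by
      have := congrArg (Ideal.Quotient.mk (J.map (algebraMap C A))) he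
      rwa [map_add, map_add, mk_mul, mk_mul, add_zero, add_zero] at this
    have h0 : redMap π (z - w) = 0 := redMap_eq_zero hker hI'.le (by
      rw [map_sub]
      have : mulMap J A A z - mulMap J A A w = y' - x' := by linear_combination he
      rw [this]
      exact sub_mem hy' h')
    rw [map_sub, sub_eq_zero] at h0
    rw [h0, hw]
    exact congrArg φ (Subtype.ext hmk.symm)
  have hprop : ∀ (x : A ⧸ J.map (algebraMap C A)) (hx : x ∈ I) (x' x'' : A), x' ∈ I' → x'' ∈ L →
      Ideal.Quotient.mk _ x' = x → Ideal.Quotient.mk _ x'' = x →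
      ∀ z : A ⊗[C] ↥J, mulMap J A A z = x'' - x' → redMap π z = φ ⟨x, hx⟩ := by
    intro x hx x' x'' h' h'' e' _ z hz
    subst e'
    exact hchar x' h' z (by rw [hz]; simpa using h'')
  have hker0 : ∀ z, mulMap J A A z ∈ L → redMap π z = 0 := fun z hz => by
    have := hchar 0 (zero_mem _) z (by rwa [zero_add])
    rw [this]
    exact (congrArg φ (Subtype.ext (map_zero _))).trans φ.map_zero
  refine ⟨L, ⟨?_, hLI, hprop⟩, ?_⟩
  · exact flat_of_surjective hπ hker hJ2 hLI hker0 (Submodule.mkQ L) (Submodule.mkQ_surjective L)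
      fun m => Submodule.Quotient.mk_eq_zero L
  · rintro L' ⟨hflat, hL', hprop'⟩
    have hmk : ∀ {y}, y ∈ L' → Ideal.Quotient.mk (J.map (algebraMap C A)) y ∈ I := fun h =>
      hL' ▸ Ideal.mem_map_of_mem _ h
    apply le_antisymm
    · intro y hy
      obtain ⟨x', h', e'⟩ := (Ideal.mem_map_iff_of_surjective _ sur).1 (hI'.symm ▸ hmk hy)
      obtain ⟨z, hz⟩ := exists_mulMap_eq_of_mk_eq e'.symm
      refine ⟨x', h', z, by rw [hz]; ring, ?_⟩
      rw [hprop' _ (hmk hy) x' y h' hy e' rfl z hz]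
      exact congrArg φ (Subtype.ext e'.symm)
    · rintro _ ⟨x', h', z, rfl, hz⟩
      obtain ⟨y, hy, ey⟩ := (Ideal.mem_map_iff_of_surjective _ sur).1 (hL'.symm ▸ hmem h')
      obtain ⟨w, hw⟩ := exists_mulMap_eq_of_mk_eq ey
      have h1 := hprop' _ (hmem h') x' y h' hy rfl ey w hw
      have h2 : mulMap J A A (z - w) ∈ L' :=
        mulMap_mem_of_redMap_eq_zero hπ hker hJ2 hL' (by rw [map_sub, hz, h1, sub_self])
      have : x' + mulMap J A A z = y + mulMap J A A (z - w) := by rw [map_sub, hw]; ring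
      rw [this]
      exact add_mem hy h2

end Groth.Agent.Lib.ArtinFun
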