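import Groth.Agent.Lib.ArtinFun.SqZero
import Groth.Agent.Lib.ArtinFun.Versal
import Mathlib.RingTheory.Kaehler.Basic
import Mathlib.RingTheory.Kaehler.TensorProduct

/-!
# Essential surjections of artinian local algebras
-/

universe u v

open CategoryTheory ArtFun

set_option linter.style.haveILetI false

namespace Groth.Agent.Lib.ArtinFun

variable {Λ : Type u} {k : Type u} [CommRing Λ] [Field k] [Algebra Λ k]

/-- An essential surjection. -/
def IsEssential {A B : Art Λ k} (f : B ⟶ A) : Prop :=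
  Function.Surjective f ∧
    ∀ (C : Art Λ k) (g : C ⟶ B), Function.Surjective (g ≫ f) → Function.Surjective g

/-- The ideal `m_Λ A + m_A ^ 2`. -/
def relSq (A : Art Λ k) : Ideal A :=
  Ideal.map (algebraMap Λ A) (RingHom.ker (algebraMap Λ k)) ⊔ IsLocalRing.maximalIdeal A ^ 2

lemma map_ker_le_maximalIdeal (A : Art Λ k) :
    Ideal.map (algebraMap Λ A) (RingHom.ker (algebraMap Λ k)) ≤ IsLocalRing.maximalIdeal A := by
  rw [Ideal.map_le_iff_le_comap]
  intro l hl
  rw [Ideal.mem_comap, Art.mem_maximalIdeal_iff, AlgHom.commutes]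
  exact hl

lemma relSq_le_maximalIdeal (A : Art Λ k) : relSq A ≤ IsLocalRing.maximalIdeal A :=
  sup_le (map_ker_le_maximalIdeal A) (Ideal.pow_le_self two_ne_zero)

lemma exists_same_res {C A : Art Λ k} (f : C ⟶ A) (a : A) :
    ∃ c, a - f c ∈ IsLocalRing.maximalIdeal A := by
  obtain ⟨c, hc⟩ := C.res_surjective (A.res a)
  exact ⟨c, by rw [Art.mem_maximalIdeal_iff, map_sub, Art.res_app, hc, sub_self]⟩

/-- Nakayama: a map onto `A / m ^ 2` is surjective. -/
lemma surjective_of_sub_mem_sq {C A : Art Λ k} (f : C ⟶ A)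
    (h : ∀ a, ∃ c, a - f c ∈ IsLocalRing.maximalIdeal A ^ 2) : Function.Surjective f := by
  set m := IsLocalRing.maximalIdeal A
  let T : ℕ → Prop := fun n => ∀ a ∈ m ^ n, ∃ c, a - f c ∈ m ^ (n + 1)
  have h1 : ∀ a ∈ m, ∃ c, f c ∈ m ∧ a - f c ∈ m ^ 2 := fun a ha => by
    obtain ⟨c, hc⟩ := h a
    refine ⟨c, ?_, hc⟩
    have := sub_mem ha (Ideal.pow_le_self (I := m) two_ne_zero hc)
    rwa [sub_sub_cancel] at this
  have hstep : ∀ n, ∀ a ∈ m ^ (n + 1), ∃ c, f c ∈ m ^ (n + 1) ∧ a - f c ∈ m ^ (n + 2) := by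
    intro n
    induction n with
    | zero => simpa using h1
    | succ n ih =>
      intro a ha
      rw [pow_succ] at ha
      refine Submodule.mul_induction_on ha ?_ ?_
      · intro x hx y hy
        obtain ⟨c, hc, hc'⟩ := ih x hx
        obtain ⟨d, hd, hd'⟩ := h1 y hy
        refine ⟨c * d, by rw [map_mul, pow_succ]; exact Ideal.mul_mem_mul hc hd, ?_⟩
        rw [map_mul, show x * y - f c * f d = (x - f c) * y + f c * (y - f d) by ring]
        refine add_mem ?_ ?_
        · rw [pow_succ]; exact Ideal.mul_mem_mul hc' hy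
        · rw [show n + 1 + 2 = (n + 1) + 2 from rfl, pow_add]; exact Ideal.mul_mem_mul hc hd'
      · rintro x y ⟨c, hc, hc'⟩ ⟨d, hd, hd'⟩
        refine ⟨c + d, by rw [map_add]; exact add_mem hc hd, ?_⟩
        rw [map_add, show x + y - (f c + f d) = (x - f c) + (y - f d) by ring]
        exact add_mem hc' hd'
  have hall : ∀ n a, ∃ c, a - f c ∈ m ^ (n + 1) := by
    intro n
    induction n with
    | zero => intro a; simpa [m] using exists_same_res f a
    | succ n ih =>
      intro a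
      obtain ⟨c, hc⟩ := ih a
      obtain ⟨d, -, hd⟩ := hstep n _ hc
      exact ⟨c + d, by rw [map_add, ← sub_sub]; exact hd⟩
  obtain ⟨N, hN⟩ := exists_maximalIdeal_pow_eq_bot A
  intro a
  obtain ⟨c, hc⟩ := hall N a
  exact ⟨c, (sub_eq_zero.1 (Ideal.mem_bot.1 (hN ▸ Ideal.pow_le_pow_right (Nat.le_succ N) hc))).symm⟩

/-- Nakayama: `m_A ≤ f(m_C) A + m_A ^ 2` forces surjectivity. -/
lemma surjective_of_map_maximal {C A : Art Λ k} (f : C ⟶ A)
    (h : IsLocalRing.maximalIdeal A ≤
      Ideal.map f.toAlgHom (IsLocalRing.maximalIdeal C) ⊔ IsLocalRing.maximalIdeal A ^ 2) :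
    Function.Surjective f := by
  refine surjective_of_sub_mem_sq f fun a => ?_
  obtain ⟨c, hc⟩ := exists_same_res f a
  have key : ∀ x ∈ Ideal.map f.toAlgHom (IsLocalRing.maximalIdeal C),
      ∃ d, x - f d ∈ IsLocalRing.maximalIdeal A ^ 2 := by
    intro x hx
    rw [Ideal.map] at hx
    induction hx using Submodule.span_induction with
    | mem x hx =>
      obtain ⟨d, -, rfl⟩ := hx
      exact ⟨d, by simp⟩
    | zero => exact ⟨0, by simp⟩
    | add x y _ _ hx hy =>
      obtain ⟨d, hd⟩ := hx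
      obtain ⟨e, he⟩ := hy
      exact ⟨d + e, by rw [map_add, show x + y - (f d + f e) = (x - f d) + (y - f e) by ring]; exact add_mem hd he⟩
    | smul r x hx' hx =>
      obtain ⟨d, hd⟩ := hx
      obtain ⟨e, he⟩ := exists_same_res f r
      refine ⟨e * d, ?_⟩
      rw [map_mul, smul_eq_mul, show r * x - f e * f d = (r - f e) * x + f e * (x - f d) by ring]
      refine add_mem ?_ (Ideal.mul_mem_left _ _ hd)
      rw [pow_two]
      refine Ideal.mul_mem_mul he ?_
      refine (Ideal.map_le_iff_le_comap.2 fun z hz => ?_) hx'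
      rw [Ideal.mem_comap, Art.mem_maximalIdeal_iff]
      exact (Art.res_app f z).trans ((Art.mem_maximalIdeal_iff _ _).1 hz)
  obtain ⟨x, hx, y, hy, hxy⟩ := Submodule.mem_sup.1 (h hc)
  obtain ⟨d, hd⟩ := key x hx
  refine ⟨c + d, ?_⟩
  rw [map_add, show a - (f c + f d) = (x - f d) + y by linear_combination -hxy]
  exact add_mem hd hy

/-- Nakayama: a map onto `A / (m_Λ A + m ^ 2)` is surjective. -/
lemma surjective_of_sub_mem_relSq {C A : Art Λ k} (f : C ⟶ A)
    (h : ∀ a, ∃ c, a - f c ∈ relSq A) : Function.Surjective f := by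
  refine surjective_of_map_maximal f fun a ha => ?_
  have hle : Ideal.map (algebraMap Λ A) (RingHom.ker (algebraMap Λ k)) ≤
      Ideal.map f.toAlgHom (IsLocalRing.maximalIdeal C) := by
    rw [Ideal.map_le_iff_le_comap]
    intro l hl
    rw [Ideal.mem_comap, ← f.toAlgHom.commutes l]
    exact Ideal.mem_map_of_mem _ (map_ker_le_maximalIdeal C (Ideal.mem_map_of_mem _ hl))
  obtain ⟨c, hc⟩ := h a
  have hcm : c ∈ IsLocalRing.maximalIdeal C := by
    rw [Art.mem_maximalIdeal_iff, ← Art.res_app f c]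
    have := relSq_le_maximalIdeal A hc
    rw [Art.mem_maximalIdeal_iff, map_sub, (Art.mem_maximalIdeal_iff _ _).1 ha, zero_sub, neg_eq_zero] at this
    exact this
  have := Submodule.add_mem_sup (Ideal.mem_map_of_mem f.toAlgHom hcm) (zero_mem (IsLocalRing.maximalIdeal A ^ 2))
  rw [← sub_add_cancel a (f c)]
  refine add_mem ((sup_le_sup_right hle _) hc) ?_
  exact Ideal.mem_sup_left (Ideal.mem_map_of_mem _ hcm)

lemma map_relSq_le {C A : Art Λ k} (f : C ⟶ A) {c : C} (hc : c ∈ relSq C) : f c ∈ relSq A := by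
  have h : Ideal.map f.toAlgHom (relSq C) ≤ relSq A := by
    rw [relSq, Ideal.map_sup, Ideal.map_pow]
    refine sup_le_sup (le_of_eq ?_) (Ideal.pow_right_mono ?_ 2)
    · rw [← Ideal.map_coe f.toAlgHom, Ideal.map_map]
      congr 1
      exact RingHom.ext f.toAlgHom.commutes
    · rw [Ideal.map_le_iff_le_comap]
      intro z hz
      rw [Ideal.mem_comap, Art.mem_maximalIdeal_iff]
      exact (Art.res_app f z).trans ((Art.mem_maximalIdeal_iff _ _).1 hz)
  exact h (Ideal.mem_map_of_mem _ hc)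

lemma dual_res (x : Art.dual Λ k) : (Art.dual Λ k).res x = TrivSqZeroExt.fst x := rfl

lemma fst_app_dual {A : Art Λ k} (δ : A ⟶ Art.dual Λ k) (a : A) :
    TrivSqZeroExt.fst (δ a) = A.res a :=
  (dual_res _).symm.trans (Art.res_app δ a)

/-- Surjectivity is detected by maps to the dual numbers. -/
theorem surjective_of_dual {C A : Art Λ k} (f : C ⟶ A)
    (h : ∀ δ : A ⟶ Art.dual Λ k, (∀ c, TrivSqZeroExt.snd (δ (f c)) = 0) →
      ∀ a, TrivSqZeroExt.snd (δ a) = 0) : Function.Surjective f := by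
  refine surjective_of_map_maximal f fun a ha => ?_
  by_contra hna
  let J := Ideal.map f.toAlgHom (IsLocalRing.maximalIdeal C) ⊔ IsLocalRing.maximalIdeal A ^ 2
  have hJ : J ≤ IsLocalRing.maximalIdeal A := by
    refine sup_le (Ideal.map_le_iff_le_comap.2 fun z hz => ?_) (Ideal.pow_le_self two_ne_zero)
    rw [Ideal.mem_comap, Art.mem_maximalIdeal_iff]
    exact (Art.res_app f z).trans ((Art.mem_maximalIdeal_iff _ _).1 hz)
  let q := f ≫ Art.quotMk A J hJ
  obtain ⟨σ, hσ⟩ := exists_hom_of_ker_le (C := Art.base Λ k) (D := Art.quot A J hJ)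
    (⟨C.res, AlgHom.id_comp _⟩ : HomSet C C.res (Art.base Λ k)) C.res_surjective
    ⟨q.toAlgHom, q.res_comp⟩ (fun c hc => by
      change q c = 0
      rw [show q c = Art.quotMk A J hJ (f c) from rfl, quotMk_eq_zero_iff]
      exact Ideal.mem_sup_left (Ideal.mem_map_of_mem _ ((Art.mem_maximalIdeal_iff _ _).2 hc)))
  have hσc : ∀ c, σ (C.res c) = q c := fun c => AlgHom.congr_fun (congrArg Subtype.val hσ) c
  have hE : IsLocalRing.maximalIdeal (Art.quot A J hJ) ^ 2 = ⊥ := by
    rw [← le_bot_iff, pow_two, Ideal.mul_le]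
    intro x hx y hy
    obtain ⟨x, rfl⟩ := Art.quotMk_surjective A J hJ x
    obtain ⟨y, rfl⟩ := Art.quotMk_surjective A J hJ y
    rw [Art.mem_maximalIdeal_iff, Art.res_app, ← Art.mem_maximalIdeal_iff] at hx hy
    rw [Ideal.mem_bot, ← map_mul, quotMk_eq_zero_iff]
    exact Ideal.mem_sup_right (by rw [pow_two]; exact Ideal.mul_mem_mul hx hy)
  obtain ⟨δ, -, hδ, hδσ⟩ := exists_coord_hom_section σ hE (K := ⊥) bot_le (t := Art.quotMk A J hJ a)
    (by rwa [Art.mem_maximalIdeal_iff, Art.res_app, ← Art.mem_maximalIdeal_iff])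
    (fun hm => hna ((quotMk_eq_zero_iff hJ a).1 (Ideal.mem_bot.1 hm)))
  refine one_ne_zero (α := k) (hδ.symm.trans (h (Art.quotMk A J hJ ≫ δ) (fun c => ?_) a))
  change TrivSqZeroExt.snd (δ (q c)) = 0
  rw [← hσc]
  exact hδσ _

/-- A map to the dual numbers given by a derivation. -/
def dualHomOfDer {A : Art Λ k} (d : A → k) (hmul : ∀ a b, d (a * b) = A.res a * d b + A.res b * d a)
    (hadd : ∀ a b, d (a + b) = d a + d b) (halg : ∀ l : Λ, d (algebraMap Λ A l) = 0) :
    A ⟶ Art.dual Λ k :=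
  Art.homMk (B := Art.dual Λ k)
    ({
      toFun := fun a => (A.res a, d a)
      map_one' := TrivSqZeroExt.ext (map_one A.res) (by
        change d 1 = 0
        rw [← map_one (algebraMap Λ A), halg])
      map_mul' := fun a b => TrivSqZeroExt.ext (map_mul A.res a b) (by
        change d (a * b) = A.res a • d b + MulOpposite.op (A.res b) • d a
        rw [hmul, smul_eq_mul, op_smul_eq_mul, mul_comm (d a)])
      map_zero' := TrivSqZeroExt.ext (map_zero A.res) (by
        change d 0 = 0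
        rw [← map_zero (algebraMap Λ A), halg])
      map_add' := fun a b => TrivSqZeroExt.ext (map_add A.res a b) (hadd a b)
      commutes' := fun l => TrivSqZeroExt.ext (A.res.commutes l) (by
        change d (algebraMap Λ A l) = _
        rw [halg, TrivSqZeroExt.algebraMap_eq_inl']
        rfl) } : A →ₐ[Λ] DualNumber k)
    (AlgHom.ext fun _ => rfl)

lemma snd_dualHomOfDer {A : Art Λ k} (d : A → k) (hmul hadd halg) (a : A) :
    TrivSqZeroExt.snd (dualHomOfDer (Λ := Λ) d hmul hadd halg a) = d a := rfl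

variable [IsNoetherianRing Λ] [Module.Finite Λ k]

/-- Essential surjections are the surjections whose kernel is killed by all maps to `k[ε]`. -/
theorem isEssential_iff {A B : Art Λ k} (f : B ⟶ A) :
    IsEssential f ↔ Function.Surjective f ∧
      ∀ (δ : B ⟶ Art.dual Λ k) (x : B), f x = 0 → TrivSqZeroExt.snd (δ x) = 0 := by
  constructor
  · rintro ⟨hf, hess⟩
    refine ⟨hf, fun δ x hfx => by_contra fun hx => ?_⟩
    have hxm : x ∈ IsLocalRing.maximalIdeal B := ker_le_maximalIdeal f ((mem_ker f x).2 hfx)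
    have hx0 : B.res x = 0 := (Art.mem_maximalIdeal_iff _ _).1 hxm
    have hδ : Function.Surjective δ := by
      intro w
      obtain ⟨b, hb⟩ := B.res_surjective (TrivSqZeroExt.fst w)
      obtain ⟨e, he⟩ := B.res_surjective
        ((TrivSqZeroExt.snd w - TrivSqZeroExt.snd (δ b)) / TrivSqZeroExt.snd (δ x))
      refine ⟨b + e * x, ?_⟩
      rw [map_add, map_mul]
      refine TrivSqZeroExt.ext ?_ ?_
      · rw [dual_fst_add, dual_fst_mul, fst_app_dual δ x, hx0, mul_zero, add_zero, fst_app_dual, hb]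
      · rw [dual_snd_add, dual_snd_mul, fst_app_dual δ x, hx0, zero_mul, add_zero, fst_app_dual, he,
          div_mul_cancel₀ _ hx, add_sub_cancel]
    obtain ⟨C, p₁, p₂, hC⟩ := exists_isFibreProd Art.baseToDual δ hδ
    have hsnd : ∀ c, TrivSqZeroExt.snd (δ (p₂ c)) = 0 := fun c => by
      rw [← hC.w_apply c]
      rfl
    have hsurj : Function.Surjective (p₂ ≫ f) := by
      intro a
      obtain ⟨b, rfl⟩ := hf a
      obtain ⟨e, he⟩ := B.res_surjective (TrivSqZeroExt.snd (δ b) / TrivSqZeroExt.snd (δ x))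
      obtain ⟨c, -, hc⟩ := hC.surj (B.res b) (b - e * x) (by
        refine TrivSqZeroExt.ext ?_ ?_
        · rw [fst_app_dual δ, map_sub, map_mul, hx0, mul_zero, sub_zero]
          rfl
        · have h1 : TrivSqZeroExt.snd (δ (b - e * x) + δ e * δ x) = TrivSqZeroExt.snd (δ b) := by
            rw [← map_mul, ← map_add, sub_add_cancel]
          rw [dual_snd_add, dual_snd_mul, fst_app_dual δ x, hx0, zero_mul, add_zero, fst_app_dual, he,
            div_mul_cancel₀ _ hx, add_eq_right] at h1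
          rw [h1]
          rfl)
      exact ⟨c, by rw [hom_comp_apply, hc, map_sub, map_mul, hfx, mul_zero, sub_zero]⟩
    obtain ⟨c, hc⟩ := hess C p₂ hsurj x
    exact hx (hc ▸ hsnd c)
  · rintro ⟨hf, h⟩
    refine ⟨hf, fun C g hg => surjective_of_dual g fun δ hδ b => ?_⟩
    obtain ⟨c, hc⟩ := hg (f b)
    have h1 := h δ (b - g c) (by rw [map_sub, ← hc]; exact sub_self _)
    have h2 : TrivSqZeroExt.snd (δ (b - g c) + δ (g c)) = TrivSqZeroExt.snd (δ b) := by
      rw [← map_add, sub_add_cancel]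
    rw [dual_snd_add, h1, hδ, add_zero] at h2
    exact h2.symm

end Groth.Agent.Lib.ArtinFun
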