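import Groth.Prelude.Def_Exal
import Mathlib.RingTheory.LocalRing.ResidueField.Basic
import Mathlib.RingTheory.Artinian.Ring
import Mathlib.RingTheory.Filtration
import Mathlib.RingTheory.Ideal.Quotient.Operations
import Mathlib.RingTheory.Nilpotent.Basic
import Mathlib.RingTheory.KrullDimension.Zero
import Mathlib.RingTheory.Finiteness.Basic
import Groth.Agent.Lib.ArtinFun.FiniteLength

/-!
# Extensions by the residue field and small extensions
-/

universe u v

namespace Groth.Agent.Lib.ArtinFun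

open IsLocalRing

/-- If every extension by the residue field is trivial, maps lift along small extensions. -/
theorem exists_lift_of_forall_isTrivial {Λ : Type u} [CommRing Λ] {R : Type v} [CommRing R] [Algebra Λ R]
    [IsLocalRing R] (hX : ∀ X : Exal.Ext Λ R (ResidueField R), X.IsTrivial)
    {B : Type v} [CommRing B] [Algebra Λ B] [IsLocalRing B] (t : B)
    (htm : ∀ b ∈ maximalIdeal B, b * t = 0)
    (φ : R →ₐ[Λ] B ⧸ Ideal.span {t})
    (hloc : ∀ (r : R) (b : B), Ideal.Quotient.mk (Ideal.span {t}) b = φ r → (b ∈ maximalIdeal B ↔ r ∈ maximalIdeal R))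
    (hres : ∀ b : B, ∃ r : R, ∀ b' : B, Ideal.Quotient.mk (Ideal.span {t}) b' = φ r → b - b' ∈ maximalIdeal B) :
    ∃ φ' : R →ₐ[Λ] B, (Ideal.Quotient.mkₐ Λ (Ideal.span {t})).comp φ' = φ := by
  by_cases ht0 : t = 0
  · subst ht0
    have hbij : Function.Bijective (Ideal.Quotient.mkₐ Λ (Ideal.span {(0 : B)})) := by
      refine ⟨(injective_iff_map_eq_zero _).2 fun a ha => ?_, Ideal.Quotient.mkₐ_surjective _ _⟩
      rw [Ideal.Quotient.mkₐ_eq_mk, Ideal.Quotient.eq_zero_iff_mem, Ideal.span_singleton_eq_bot.2 rfl] at ha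
      exact ha
    exact ⟨(AlgEquiv.ofBijective _ hbij).symm.toAlgHom.comp φ,
      AlgHom.ext fun r => (AlgEquiv.ofBijective _ hbij).apply_symm_apply (φ r)⟩
  let g : (B ⧸ Ideal.span {t}) →ₗ[B] B :=
    Submodule.liftQ (Ideal.span {t}) (LinearMap.toSpanSingleton B B t) (by
      rw [Ideal.span_le, Set.singleton_subset_iff, SetLike.mem_coe, LinearMap.mem_ker,
        LinearMap.toSpanSingleton_apply, smul_eq_mul]
      by_cases ht : t ∈ maximalIdeal B
      · exact htm t ht
      · have hu : IsUnit t := IsLocalRing.notMem_maximalIdeal.1 ht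
        exfalso
        obtain ⟨b, hb⟩ := Ideal.Quotient.mk_surjective (φ 1)
        have h1 : (1 : B) ∈ Ideal.span {t} := by
          rw [Ideal.span_singleton_eq_top.2 hu]; trivial
        have h2 := (hloc 1 0 (by
          rw [map_zero, map_one]
          exact (Ideal.Quotient.eq_zero_iff_mem.2 h1).symm)).1 (zero_mem _)
        exact (maximalIdeal.isMaximal R).ne_top ((Ideal.eq_top_iff_one _).2 h2))
  have hg : ∀ b, g (Ideal.Quotient.mk _ b) = b * t := fun b => rfl
  let κ₀ : R →+ B := g.toAddMonoidHom.comp φ.toRingHom.toAddMonoidHom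
  have hκ₀ : ∀ r b, Ideal.Quotient.mk (Ideal.span {t}) b = φ r → κ₀ r = b * t := fun r b h => by
    show g (φ r) = b * t
    rw [← h, hg]
  have hκker : ∀ r ∈ maximalIdeal R, κ₀ r = 0 := fun r hr => by
    obtain ⟨b, hb⟩ := Ideal.Quotient.mk_surjective (φ r)
    rw [hκ₀ r b hb]
    exact htm b ((hloc r b hb).2 hr)
  let κ : ResidueField R →+ B :=
    QuotientAddGroup.lift (maximalIdeal R).toAddSubgroup κ₀ (fun r hr => hκker r hr)
  have hκ : ∀ r, κ (residue R r) = κ₀ r := fun r => rfl
  have hκinj : Function.Injective κ := by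
    rw [injective_iff_map_eq_zero]
    intro z hz
    obtain ⟨r, rfl⟩ := residue_surjective z
    rw [residue_eq_zero_iff]
    obtain ⟨b, hb⟩ := Ideal.Quotient.mk_surjective (φ r)
    rw [hκ, hκ₀ r b hb] at hz
    refine (hloc r b hb).1 ?_
    by_contra hbm
    exact ht0 ((IsLocalRing.notMem_maximalIdeal.1 hbm).mul_right_eq_zero.1 hz)
  have hκrange : ∀ b, Ideal.Quotient.mk (Ideal.span {t}) b = 0 ↔ b ∈ Set.range κ := by
    intro b
    constructor
    · intro hb
      obtain ⟨c, rfl⟩ := Ideal.mem_span_singleton'.1 (Ideal.Quotient.eq_zero_iff_mem.1 hb)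
      obtain ⟨r, hr⟩ := hres c
      obtain ⟨b', hb'⟩ := Ideal.Quotient.mk_surjective (φ r)
      refine ⟨residue R r, ?_⟩
      rw [hκ, hκ₀ r b' hb', ← sub_eq_zero, ← sub_mul]
      refine htm _ ?_
      rw [← neg_sub]
      exact neg_mem (hr b' hb')
    · rintro ⟨z, rfl⟩
      obtain ⟨r, rfl⟩ := residue_surjective z
      obtain ⟨b', hb'⟩ := Ideal.Quotient.mk_surjective (φ r)
      rw [hκ, hκ₀ r b' hb', Ideal.Quotient.eq_zero_iff_mem]
      exact Ideal.mem_span_singleton'.2 ⟨b', rfl⟩
  let E : Subalgebra Λ (R × B) :=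
    AlgHom.equalizer (φ.comp (AlgHom.fst Λ R B))
      ((Ideal.Quotient.mkₐ Λ (Ideal.span {t})).comp (AlgHom.snd Λ R B))
  have hE : ∀ x : R × B, x ∈ E ↔ φ x.1 = Ideal.Quotient.mk _ x.2 := fun x => Iff.rfl
  let incl : ResidueField R →+ E :=
    { toFun := fun z => ⟨(0, κ z), by
        rw [hE, map_zero, eq_comm, hκrange]; exact ⟨z, rfl⟩⟩
      map_zero' := Subtype.ext (Prod.ext rfl κ.map_zero)
      map_add' := fun a b => Subtype.ext (Prod.ext (add_zero 0).symm (κ.map_add a b)) }
  let X : Exal.Ext Λ R (ResidueField R) :=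
    { E := E
      proj := (AlgHom.fst Λ R B).comp E.val
      incl := incl
      isExtension :=
        { proj_surjective := fun r => by
            obtain ⟨b, hb⟩ := Ideal.Quotient.mk_surjective (φ r)
            exact ⟨⟨(r, b), (hE _).2 hb.symm⟩, rfl⟩
          incl_injective := fun a b h => hκinj (congrArg (fun e : E => e.1.2) h)
          exact := fun x => by
            constructor
            · intro hx
              have h := (hE _).1 x.2
              have hx1 : x.1.1 = 0 := hx
              rw [hx1, map_zero, eq_comm, hκrange] at h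
              obtain ⟨z, hz⟩ := h
              exact ⟨z, Subtype.ext (Prod.ext hx1.symm hz)⟩
            · rintro ⟨z, rfl⟩
              rfl
          mul_incl := fun x z => by
            obtain ⟨r', rfl⟩ := residue_surjective z
            refine Subtype.ext (Prod.ext (mul_zero _) ?_)
            show x.1.2 * κ (residue R r') = κ (x.1.1 • residue R r')
            obtain ⟨b', hb'⟩ := Ideal.Quotient.mk_surjective (φ r')
            rw [show x.1.1 • residue R r' = residue R (x.1.1 * r') from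
              (Algebra.smul_def _ _).trans (map_mul (residue R) _ _).symm, hκ, hκ, hκ₀ r' b' hb',
              hκ₀ (x.1.1 * r') (x.1.2 * b') (by rw [map_mul, map_mul, (hE _).1 x.2, hb']), mul_assoc] } }
  obtain ⟨s, hs⟩ := hX X
  let s' : R →ₐ[Λ] E := s
  refine ⟨((AlgHom.snd Λ R B).comp E.val).comp s', AlgHom.ext fun r => ?_⟩
  refine Eq.trans ((hE _).1 (s' r).2).symm ?_
  exact congrArg φ (hs r)

/-- An extension of a Noetherian local ring by its residue field is captured at a finite level. -/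
theorem exists_artinian_level {Λ : Type u} [CommRing Λ] {R : Type v} [CommRing R] [Algebra Λ R]
    [IsLocalRing R] [IsNoetherianRing R] (X : Exal.Ext Λ R (ResidueField R)) :
    IsLocalRing X.E ∧ IsNoetherianRing X.E ∧
      (∀ e, e ∈ nonunits X.E ↔ X.proj e ∈ maximalIdeal R) ∧
      ∃ (M : Ideal X.E) (n : ℕ), (∀ e, e ∈ M ↔ X.proj e ∈ maximalIdeal R) ∧
        ∀ z, X.incl z ∈ M ^ (n + 1) → z = 0 := by
  have hnil : ∀ z z', X.incl z * X.incl z' = 0 := fun z z' => by
    rw [X.isExtension.mul_incl, (X.isExtension.exact (X.incl z)).2 ⟨z, rfl⟩, zero_smul, map_zero]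
  have hunit : ∀ e, X.proj e ∉ maximalIdeal R → IsUnit e := fun e he => by
    obtain ⟨u, hu⟩ := IsLocalRing.notMem_maximalIdeal.1 he
    obtain ⟨f, hf⟩ := X.isExtension.proj_surjective (↑u⁻¹ : R)
    have h0 : X.proj (1 - e * f) = 0 := by rw [map_sub, map_one, map_mul, hf, ← hu, Units.mul_inv, sub_self]
    obtain ⟨z, hz⟩ := (X.isExtension.exact _).1 h0
    have h1 : IsUnit (e * f) := by
      rw [show e * f = 1 - X.incl z by rw [hz]; ring]
      exact IsNilpotent.isUnit_one_sub ⟨2, by rw [pow_two, hnil]⟩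
    exact isUnit_of_mul_isUnit_left h1
  have hnu : ∀ e, e ∈ nonunits X.E ↔ X.proj e ∈ maximalIdeal R := fun e =>
    ⟨fun h => by_contra fun hc => h (hunit e hc), fun h hu => h (hu.map X.proj)⟩
  haveI : Nontrivial X.E := X.proj.toRingHom.domain_nontrivial
  have hloc : IsLocalRing X.E := IsLocalRing.of_nonunits_add fun a b ha hb => by
    rw [hnu] at ha hb ⊢
    rw [map_add]
    exact add_mem ha hb
  let M : Ideal X.E := (maximalIdeal R).comap X.proj
  let jl : ResidueField R →+ X.E := X.incl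
  have hN : IsNoetherianRing X.E := by
    rw [isNoetherianRing_iff_ideal_fg]
    intro I
    classical
    obtain ⟨s, hs⟩ := IsNoetherian.noetherian (I.map X.proj)
    have hsmem : ∀ r ∈ s, ∃ e ∈ I, X.proj e = r := fun r hr =>
      (Ideal.mem_map_iff_of_surjective _ X.isExtension.proj_surjective).1 (hs ▸ Submodule.subset_span hr)
    choose l hlI hl using hsmem
    let L : Ideal X.E := Ideal.span (Set.range fun r : s => l r.1 r.2)
    have hLI : L ≤ I := Ideal.span_le.2 (Set.range_subset_iff.2 fun r => hlI _ _)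
    have hsplit : I = L ⊔ (I ⊓ RingHom.ker X.proj) := by
      refine le_antisymm (fun x hx => ?_) (sup_le hLI inf_le_left)
      have h1 : X.proj x ∈ L.map X.proj := by
        have hle : I.map X.proj ≤ L.map X.proj := by
          rw [← hs, Submodule.span_le]
          intro r hr
          rw [← hl r hr]
          exact Ideal.mem_map_of_mem _ (Ideal.subset_span ⟨⟨r, hr⟩, rfl⟩)
        exact hle (Ideal.mem_map_of_mem _ hx)
      obtain ⟨y, hy, hyx⟩ := (Ideal.mem_map_iff_of_surjective _ X.isExtension.proj_surjective).1 h1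
      rw [← add_sub_cancel y x]
      exact Submodule.add_mem_sup hy ⟨sub_mem hx (hLI hy), RingHom.mem_ker.2 (by rw [map_sub, hyx, sub_self])⟩
    rw [hsplit]
    refine Submodule.FG.sup (Submodule.fg_span (Set.finite_range _)) ?_
    by_cases hI : ∃ z, z ≠ 0 ∧ X.incl z ∈ I
    · obtain ⟨z, hz, hzI⟩ := hI
      refine ⟨{X.incl z}, le_antisymm ?_ ?_⟩
      · rw [Submodule.span_le, Finset.coe_singleton, Set.singleton_subset_iff]
        exact ⟨hzI, (X.isExtension.exact _).2 ⟨z, rfl⟩⟩
      · rintro x ⟨-, hx⟩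
        obtain ⟨w, rfl⟩ := (X.isExtension.exact x).1 hx
        obtain ⟨a, ha⟩ := residue_surjective (w * z⁻¹)
        obtain ⟨e, rfl⟩ := X.isExtension.proj_surjective a
        rw [Finset.coe_singleton]
        refine Submodule.mem_span_singleton.2 ⟨e, ?_⟩
        rw [smul_eq_mul, X.isExtension.mul_incl, Algebra.smul_def,
          show algebraMap R (ResidueField R) (X.proj e) = residue R (X.proj e) from rfl, ha,
          mul_assoc, inv_mul_cancel₀ hz, mul_one]
    · have hbot : I ⊓ RingHom.ker X.proj = ⊥ := le_bot_iff.1 fun x hx => by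
        obtain ⟨hxI, hx⟩ := hx
        obtain ⟨w, rfl⟩ := (X.isExtension.exact x).1 hx
        rw [Submodule.mem_bot]
        by_cases hw : w = 0
        · rw [hw, map_zero]
        · exact absurd ⟨w, hw, hxI⟩ hI
      rw [hbot]
      exact Submodule.fg_bot
  refine ⟨hloc, hN, hnu, M, ?_⟩
  have hM : M ≠ ⊤ := Ideal.comap_ne_top _ (maximalIdeal.isMaximal R).ne_top
  obtain ⟨n, hn⟩ : ∃ n, X.incl 1 ∉ M ^ (n + 1) := by
    by_contra! h
    have h1 : X.incl 1 ∈ (⨅ n, M ^ n : Ideal X.E) := Ideal.mem_iInf.2 fun n =>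
      Ideal.pow_le_pow_right (Nat.le_succ n) (h n)
    rw [Ideal.iInf_pow_eq_bot_of_isLocalRing M hM, Ideal.mem_bot] at h1
    exact one_ne_zero (X.isExtension.incl_injective (h1.trans X.incl.map_zero.symm))
  refine ⟨n, fun e => Iff.rfl, fun z hz => ?_⟩
  by_contra hz0
  refine hn ?_
  obtain ⟨a, ha⟩ := residue_surjective z⁻¹
  obtain ⟨e, rfl⟩ := X.isExtension.proj_surjective a
  have h2 := Ideal.mul_mem_left (M ^ (n + 1)) e hz
  rwa [X.isExtension.mul_incl, Algebra.smul_def,
    show algebraMap R (ResidueField R) (X.proj e) = residue R (X.proj e) from rfl, ha,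
    inv_mul_cancel₀ hz0] at h2

/-- If maps lift along small extensions of artinian rings, every extension by the residue field is trivial. -/
theorem isTrivial_of_lift {Λ : Type u} [CommRing Λ] {R : Type v} [CommRing R] [Algebra Λ R]
    [IsLocalRing R] [IsNoetherianRing R]
    (H : ∀ (B : Type v) [CommRing B] [Algebra Λ B] [IsLocalRing B] [IsArtinianRing B] (q : R →ₐ[Λ] ResidueField R)
      (p : B →ₐ[Λ] ResidueField R), Function.Surjective p → ∀ t ∈ maximalIdeal B,
        (∀ b ∈ maximalIdeal B, b * t = 0) → ∀ φ : R →ₐ[Λ] B ⧸ Ideal.span {t},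
          ∃ φ' : R →ₐ[Λ] B, (Ideal.Quotient.mkₐ Λ (Ideal.span {t})).comp φ' = φ)
    (X : Exal.Ext Λ R (ResidueField R)) : X.IsTrivial := by
  obtain ⟨hloc, hN, hnu, M, n, hM, hMn⟩ := exists_artinian_level X
  have hMmax : M = maximalIdeal X.E := Ideal.ext fun e => (hM e).trans (hnu e).symm
  let B := X.E ⧸ M ^ (n + 1)
  have hne : M ^ (n + 1) ≠ ⊤ := fun h => (maximalIdeal.isMaximal X.E).ne_top
    (top_le_iff.1 (h.symm.trans_le ((Ideal.pow_le_self (Nat.succ_ne_zero n)).trans hMmax.le)))
  haveI : Nontrivial B := Ideal.Quotient.nontrivial_iff.2 hne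
  haveI : IsLocalRing B := IsLocalRing.of_surjective' (Ideal.Quotient.mk _) Ideal.Quotient.mk_surjective
  have hBmax : maximalIdeal B = M.map (Ideal.Quotient.mk (M ^ (n + 1))) := by
    exact (IsLocalRing.map_maximalIdeal_of_surjective _ Ideal.Quotient.mk_surjective).symm.trans
      (congrArg (Ideal.map (Ideal.Quotient.mk (M ^ (n + 1)))) hMmax.symm)
  haveI : IsArtinianRing B := by
    rw [isArtinianRing_iff_isNilpotent_maximalIdeal]
    refine ⟨n + 1, ?_⟩
    rw [hBmax, ← Ideal.map_pow, Ideal.map_quotient_self, Ideal.zero_eq_bot]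
  let t : B := Ideal.Quotient.mk _ (X.incl 1)
  have ht : t ∈ maximalIdeal B := by
    rw [hBmax]
    exact Ideal.mem_map_of_mem _ ((hM _).2 (by rw [(X.isExtension.exact _).2 ⟨1, rfl⟩]; exact zero_mem _))
  have htm : ∀ b ∈ maximalIdeal B, b * t = 0 := fun b hb => by
    rw [hBmax] at hb
    obtain ⟨e, he, rfl⟩ := (Ideal.mem_map_iff_of_surjective _ Ideal.Quotient.mk_surjective).1 hb
    rw [← map_mul, X.isExtension.mul_incl, Algebra.smul_def, mul_one,
      show algebraMap R (ResidueField R) (X.proj e) = residue R (X.proj e) from rfl,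
      (residue_eq_zero_iff _).2 ((hM e).1 he), map_zero, map_zero]
  let π : X.E →ₐ[Λ] B ⧸ Ideal.span {t} :=
    (Ideal.Quotient.mkₐ Λ (Ideal.span {t})).comp (Ideal.Quotient.mkₐ Λ (M ^ (n + 1)))
  let ψ : R →ₐ[Λ] B ⧸ Ideal.span {t} :=
    (Ideal.Quotient.liftₐ (RingHom.ker X.proj) π (fun a ha => by
      obtain ⟨z, rfl⟩ := (X.isExtension.exact a).1 ha
      obtain ⟨r, rfl⟩ := residue_surjective z
      obtain ⟨e, rfl⟩ := X.isExtension.proj_surjective r
      have : X.incl (residue R (X.proj e)) = e * X.incl 1 := by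
        rw [X.isExtension.mul_incl, Algebra.smul_def, mul_one]
        rfl
      rw [this]
      exact Ideal.Quotient.eq_zero_iff_mem.2 (Ideal.mem_span_singleton'.2 ⟨_, (map_mul _ _ _).symm⟩))).comp
      (Ideal.quotientKerAlgEquivOfSurjective (f := X.proj) X.isExtension.proj_surjective).symm.toAlgHom
  have hψ : ∀ e, ψ (X.proj e) = π e := fun e => by
    have h : (Ideal.quotientKerAlgEquivOfSurjective (f := X.proj) X.isExtension.proj_surjective).symm (X.proj e) =
        Ideal.Quotient.mk _ e := by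
      rw [AlgEquiv.symm_apply_eq]
      rfl
    simp only [ψ, AlgHom.comp_apply]
    erw [h]
    rfl
  let q : R →ₐ[Λ] ResidueField R := IsScalarTower.toAlgHom Λ R (ResidueField R)
  let p : B →ₐ[Λ] ResidueField R := Ideal.Quotient.liftₐ (M ^ (n + 1)) (q.comp X.proj) fun a ha =>
    (residue_eq_zero_iff _).2 ((hM a).1 (Ideal.pow_le_self (Nat.succ_ne_zero n) ha))
  have hp : Function.Surjective p := fun z => by
    obtain ⟨r, rfl⟩ := residue_surjective z
    obtain ⟨e, rfl⟩ := X.isExtension.proj_surjective r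
    exact ⟨Ideal.Quotient.mk _ e, rfl⟩
  obtain ⟨φ', hφ'⟩ := H B q p hp t ht htm ψ
  -- combine with the projection
  have hex : ∀ r, ∃ e, X.proj e = r ∧ Ideal.Quotient.mk (M ^ (n + 1)) e = φ' r := fun r => by
    obtain ⟨e, rfl⟩ := X.isExtension.proj_surjective r
    have h : Ideal.Quotient.mk (Ideal.span {t}) (φ' (X.proj e)) =
        Ideal.Quotient.mk (Ideal.span {t}) (Ideal.Quotient.mk (M ^ (n + 1)) e) :=
      (AlgHom.congr_fun hφ' (X.proj e)).trans (hψ e)
    obtain ⟨c, hc⟩ := Ideal.mem_span_singleton'.1 (Ideal.Quotient.eq.1 h)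
    obtain ⟨c', rfl⟩ := Ideal.Quotient.mk_surjective c
    refine ⟨e + c' * X.incl 1, ?_, ?_⟩
    · rw [map_add, map_mul, (X.isExtension.exact (X.incl 1)).2 ⟨1, rfl⟩, mul_zero, add_zero]
    · rw [map_add, map_mul, hc, add_sub_cancel]
  have huniq : ∀ e e', X.proj e = X.proj e' →
      Ideal.Quotient.mk (M ^ (n + 1)) e = Ideal.Quotient.mk (M ^ (n + 1)) e' → e = e' := fun e e' h h' => by
    obtain ⟨z, hz⟩ := (X.isExtension.exact (e - e')).1 (by rw [map_sub, h, sub_self])
    have := hMn z (hz ▸ Ideal.Quotient.eq.1 h')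
    rw [this, map_zero] at hz
    exact sub_eq_zero.1 hz.symm
  choose s hs₁ hs₂ using hex
  refine ⟨{ toFun := s, map_one' := ?_, map_mul' := ?_, map_zero' := ?_, map_add' := ?_, commutes' := ?_ }, hs₁⟩
  · exact huniq _ _ (by rw [hs₁, map_one]) (by rw [hs₂, map_one, map_one])
  · exact fun a b => huniq _ _ (by rw [hs₁, map_mul, hs₁, hs₁]) (by rw [hs₂, map_mul, map_mul, hs₂, hs₂])
  · exact huniq _ _ (by rw [hs₁, map_zero]) (by rw [hs₂, map_zero, map_zero])
  · exact fun a b => huniq _ _ (by rw [hs₁, map_add, hs₁, hs₁]) (by rw [hs₂, map_add, map_add, hs₂, hs₂])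
  · exact fun c => huniq _ _ (by rw [hs₁, AlgHom.commutes]) (by
      rw [hs₂, AlgHom.commutes]
      rfl)

end Groth.Agent.Lib.ArtinFun
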