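import Groth.Agent.Lib.ArtinFun.HilbertBurch
import Groth.Agent.Lib.ArtinFun.FibProd
import Mathlib.RingTheory.TensorProduct.Free
import Mathlib.RingTheory.Flat.Stability

/-!
# Flat ideals along fibre products of artinian rings

For a `k`-algebra `C` and a fibre product `B = A' ×_A A''` of artinian local `k`-algebras with
`A'' → A` surjective, flat quotients of `B ⊗ C` are the compatible pairs of flat quotients of
`A' ⊗ C` and `A'' ⊗ C`.
-/

noncomputable section

universe u

open CategoryTheory ArtFun IsLocalRing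
open scoped TensorProduct

namespace Groth.Agent.Lib.ArtinFun.FlatIdealFP

variable {k : Type u} [Field k] (C : Type u) [CommRing C] [Algebra k C]
variable {A A' A'' B : Art k k}

/-- Base change of a morphism of artinian algebras to `C`. -/
def tmap (g : A ⟶ B) : A ⊗[k] C →+* B ⊗[k] C :=
  (Algebra.TensorProduct.map g.toAlgHom (AlgHom.id k C)).toRingHom

lemma tmap_tmul (g : A ⟶ B) (a : A) (c : C) : tmap C g (a ⊗ₜ c) = g a ⊗ₜ c := rfl

lemma tmap_smul (g : A ⟶ B) (a : A) (z : A ⊗[k] C) : tmap C g (a • z) = g a • tmap C g z := by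
  rw [Algebra.smul_def, Algebra.smul_def, map_mul, Algebra.TensorProduct.algebraMap_apply,
    Algebra.TensorProduct.algebraMap_apply, Algebra.algebraMap_self, RingHom.id_apply, tmap_tmul]
  rfl

lemma tmap_tmap {D : Art k k} (g : A ⟶ B) (h : B ⟶ D) (z : A ⊗[k] C) :
    tmap C h (tmap C g z) = tmap C (g ≫ h) z := by
  induction z with
  | zero => simp
  | tmul a c => rfl
  | add x y hx hy => simp only [map_add, hx, hy]

/-- The restriction to the closed fibre. -/
def res0 (A : Art k k) : A ⊗[k] C →+* C :=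
  (Algebra.TensorProduct.lift ((Algebra.ofId k C).comp A.res) (AlgHom.id k C)
    fun _ _ => Commute.all _ _).toRingHom

lemma res0_tmul (a : A) (c : C) : res0 C A (a ⊗ₜ c) = A.res a • c := by
  simp [res0, Algebra.smul_def, Algebra.ofId_apply]

lemma res0_tmap (g : A ⟶ B) (z : A ⊗[k] C) : res0 C B (tmap C g z) = res0 C A z := by
  induction z with
  | zero => simp
  | tmul a c => rw [tmap_tmul, res0_tmul, res0_tmul, Art.res_app]
  | add x y hx hy => simp only [map_add, hx, hy]

lemma map_res0_tmap (g : A ⟶ B) (I : Ideal (A ⊗[k] C)) :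
    (I.map (tmap C g)).map (res0 C B) = I.map (res0 C A) := by
  rw [Ideal.map_map]
  congr 1
  exact RingHom.ext (res0_tmap C g)

lemma res0_surjective (A : Art k k) : Function.Surjective (res0 C A) :=
  fun c => ⟨1 ⊗ₜ c, by rw [res0_tmul, map_one, one_smul]⟩

/-- The kernel of the restriction to the closed fibre. -/
lemma res0_sub_mem (A : Art k k) (z : A ⊗[k] C) :
    z - (1 : A) ⊗ₜ res0 C A z ∈ maximalIdeal A • (⊤ : Submodule A (A ⊗[k] C)) := by
  induction z with
  | zero => simp
  | add x y hx hy =>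
    rw [map_add, TensorProduct.tmul_add, add_sub_add_comm]
    exact add_mem hx hy
  | tmul a c =>
    have h1 : a ⊗ₜ[k] c - (1 : A) ⊗ₜ res0 C A (a ⊗ₜ[k] c) =
        (a - algebraMap k A (A.res a)) • ((1 : A) ⊗ₜ[k] c) := by
      rw [res0_tmul, TensorProduct.smul_tmul', smul_eq_mul, mul_one, TensorProduct.sub_tmul,
        TensorProduct.tmul_smul, TensorProduct.smul_tmul', Algebra.algebraMap_eq_smul_one]
    rw [h1]
    refine Submodule.smul_mem_smul ?_ Submodule.mem_top
    rw [Art.mem_maximalIdeal_iff, map_sub, A.res.commutes]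
    exact sub_self _

section Surj

variable {f : A ⟶ B}

lemma tmap_surjective (hf : Function.Surjective f) : Function.Surjective (tmap C f) := by
  intro z
  induction z with
  | zero => exact ⟨0, map_zero _⟩
  | tmul b c =>
    obtain ⟨a, rfl⟩ := hf b
    exact ⟨a ⊗ₜ c, rfl⟩
  | add x y hx hy =>
    obtain ⟨u, rfl⟩ := hx
    obtain ⟨v, rfl⟩ := hy
    exact ⟨u + v, map_add _ _ _⟩

end Surj

/-- A basis of `C` over `k`. -/
def basisC := Module.Basis.ofVectorSpace k C

lemma repr_tmap (g : A ⟶ B) (z : A ⊗[k] C) (i) :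
    (Algebra.TensorProduct.basis B (basisC C)).repr (tmap C g z) i =
      g ((Algebra.TensorProduct.basis A (basisC C)).repr z i) := by
  induction z with
  | zero => simp
  | tmul a c =>
    rw [tmap_tmul, Algebra.TensorProduct.basis_repr_tmul, Algebra.TensorProduct.basis_repr_tmul,
      Finsupp.smul_apply, Finsupp.smul_apply, Finsupp.mapRange_apply, Finsupp.mapRange_apply,
      smul_eq_mul, smul_eq_mul]
    show _ = g.toAlgHom (a * _)
    rw [map_mul, AlgHom.commutes]
  | add x y hx hy => simp only [map_add, Finsupp.add_apply, hx, hy]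

variable {p' : B ⟶ A'} {p'' : B ⟶ A''} {f' : A' ⟶ A} {f'' : A'' ⟶ A}

lemma tmap_inj (h : Art.IsFibreProd p' p'' f' f'') {z w : B ⊗[k] C}
    (h₁ : tmap C p' z = tmap C p' w) (h₂ : tmap C p'' z = tmap C p'' w) : z = w := by
  refine (Algebra.TensorProduct.basis B (basisC C)).ext_elem fun i => h.inj _ _ ?_ ?_
  · rw [← repr_tmap, ← repr_tmap, h₁]
  · rw [← repr_tmap, ← repr_tmap, h₂]

lemma tmap_glue (h : Art.IsFibreProd p' p'' f' f'') (z' : A' ⊗[k] C) (z'' : A'' ⊗[k] C)
    (hz : tmap C f' z' = tmap C f'' z'') :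
    ∃ z : B ⊗[k] C, tmap C p' z = z' ∧ tmap C p'' z = z'' := by
  classical
  let β := basisC (k := k) C
  let r' := (Algebra.TensorProduct.basis A' β).repr z'
  let r'' := (Algebra.TensorProduct.basis A'' β).repr z''
  have hc : ∀ i, f' (r' i) = f'' (r'' i) := fun i => by
    rw [← repr_tmap, ← repr_tmap, hz]
  choose r hr' hr'' using fun i => h.surj (r' i) (r'' i) (hc i)
  let s := r'.support ∪ r''.support
  refine ⟨∑ i ∈ s, r i ⊗ₜ β i, ?_, ?_⟩
  · rw [map_sum]
    refine Eq.trans ?_ ((Algebra.TensorProduct.basis A' β).linearCombination_repr z')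
    rw [Finsupp.linearCombination_apply]
    refine Eq.trans ?_ (Finsupp.sum_of_support_subset r' (show r'.support ⊆ s from Finset.subset_union_left)
      (fun i r => r • (Algebra.TensorProduct.basis _ β) i) fun i _ => zero_smul _ _).symm
    refine Finset.sum_congr rfl fun i _ => ?_
    rw [tmap_tmul, hr', Algebra.TensorProduct.basis_apply, TensorProduct.smul_tmul', smul_eq_mul, mul_one]
  · rw [map_sum]
    refine Eq.trans ?_ ((Algebra.TensorProduct.basis A'' β).linearCombination_repr z'')
    rw [Finsupp.linearCombination_apply]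
    refine Eq.trans ?_ (Finsupp.sum_of_support_subset r'' (show r''.support ⊆ s from Finset.subset_union_right)
      (fun i r => r • (Algebra.TensorProduct.basis _ β) i) fun i _ => zero_smul _ _).symm
    refine Finset.sum_congr rfl fun i _ => ?_
    rw [tmap_tmul, hr'', Algebra.TensorProduct.basis_apply, TensorProduct.smul_tmul', smul_eq_mul, mul_one]

lemma surjective_fst' (h : Art.IsFibreProd p' p'' f' f'') (hf : Function.Surjective f'') :
    Function.Surjective (tmap C p') := fun z' => by
  obtain ⟨z'', hz''⟩ := tmap_surjective C hf (tmap C f' z')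
  obtain ⟨z, hz, -⟩ := tmap_glue C h z' z'' hz''.symm
  exact ⟨z, hz⟩

section Lift

variable {ι : Type u} (c : ι → C) (I : Ideal (A ⊗[k] C))

/-- The map given by lifts of elements of the closed fibre. -/
def lifts : (ι →₀ A) →ₗ[A] (A ⊗[k] C) ⧸ I :=
  Finsupp.linearCombination A fun i => Ideal.Quotient.mk I ((1 : A) ⊗ₜ c i)

/-- The value on representatives. -/
def liftsRep : (ι →₀ A) →ₗ[A] A ⊗[k] C :=
  Finsupp.linearCombination A fun i => (1 : A) ⊗ₜ c i

lemma lifts_eq (a : ι →₀ A) : lifts C c I a = Ideal.Quotient.mk I (liftsRep C c a) := by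
  simp only [lifts, liftsRep, Finsupp.linearCombination_apply, Finsupp.sum, map_sum]
  rfl

lemma res0_liftsRep (a : ι →₀ A) :
    res0 C A (liftsRep C c a) =
      Finsupp.linearCombination k c (a.mapRange A.res (map_zero _)) := by
  rw [liftsRep, Finsupp.linearCombination_apply, Finsupp.linearCombination_apply,
    Finsupp.sum_mapRange_index (by simp), Finsupp.sum, Finsupp.sum, map_sum]
  refine Finset.sum_congr rfl fun i _ => ?_
  rw [TensorProduct.smul_tmul', smul_eq_mul, mul_one, res0_tmul]

lemma tmap_liftsRep {D : Art k k} (g : A ⟶ D) (a : ι →₀ A) :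
    tmap C g (liftsRep C c a) = liftsRep C c (a.mapRange g (map_zero g.toAlgHom)) := by
  rw [liftsRep, liftsRep, Finsupp.linearCombination_apply, Finsupp.linearCombination_apply,
    Finsupp.sum_mapRange_index (by simp), Finsupp.sum, Finsupp.sum, map_sum]
  exact Finset.sum_congr rfl fun i _ => by
    rw [TensorProduct.smul_tmul', smul_eq_mul, mul_one, tmap_tmul, TensorProduct.smul_tmul',
      smul_eq_mul, mul_one]

variable (k) in
/-- `c` spans the closed fibre modulo the image of `I`. -/
def Spans (I₀ : Ideal C) : Prop := ∀ y : C, ∃ a : ι →₀ k, y - Finsupp.linearCombination k c a ∈ I₀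

variable (k) in
/-- `c` is independent modulo `I₀`. -/
def Indep (I₀ : Ideal C) : Prop :=
  ∀ a : ι →₀ k, Finsupp.linearCombination k c a ∈ I₀ → a = 0

lemma lifts_surjective (hc : Spans k C c (I.map (res0 C A))) : Function.Surjective (lifts C c I) := by
  classical
  let P : Submodule A ((A ⊗[k] C) ⧸ I) := LinearMap.range (lifts C c I)
  have step : ∀ y, ∃ p ∈ P, y - p ∈ maximalIdeal A • (⊤ : Submodule A ((A ⊗[k] C) ⧸ I)) := by
    intro y
    obtain ⟨z, rfl⟩ := Ideal.Quotient.mk_surjective y
    obtain ⟨a, ha⟩ := hc (res0 C A z)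
    obtain ⟨w, hw, hw'⟩ := (Ideal.mem_map_iff_of_surjective _ (res0_surjective C A)).1 ha
    let b : ι →₀ A := a.mapRange (algebraMap k A) (map_zero _)
    refine ⟨_, ⟨b, rfl⟩, ?_⟩
    have hb : b.mapRange A.res (map_zero _) = a := Finsupp.ext fun i => by
      simp only [b, Finsupp.mapRange_apply]
      exact A.res.commutes _
    have h1 := res0_sub_mem C A (z - liftsRep C c b - w)
    rw [map_sub, map_sub, res0_liftsRep, hb, hw', sub_self, TensorProduct.tmul_zero, sub_zero] at h1
    have h2 := Submodule.mem_map_of_mem (f := (Ideal.Quotient.mkₐ A I).toLinearMap) h1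
    rw [Submodule.map_smul''] at h2
    have h3 := Submodule.smul_mono le_rfl le_top h2
    rwa [AlgHom.toLinearMap_apply, map_sub, map_sub, Ideal.Quotient.mkₐ_eq_mk,
      Ideal.Quotient.eq_zero_iff_mem.2 hw, sub_zero, ← lifts_eq] at h3
  have iter : ∀ n : ℕ, (⊤ : Submodule A ((A ⊗[k] C) ⧸ I)) ≤ P ⊔ maximalIdeal A ^ n • ⊤ := by
    intro n
    induction n with
    | zero => rw [pow_zero, one_smul]; exact le_sup_right
    | succ n ih =>
      refine ih.trans (sup_le le_sup_left (Submodule.smul_le.2 fun r hr y _ => ?_))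
      obtain ⟨p, hp, hy⟩ := step y
      rw [← add_sub_cancel p y, smul_add]
      refine add_mem (Submodule.mem_sup_left (P.smul_mem r hp)) (Submodule.mem_sup_right ?_)
      rw [pow_succ, mul_smul]
      exact Submodule.smul_mem_smul hr hy
  obtain ⟨n, hn⟩ := IsArtinianRing.isNilpotent_jacobson_bot (R := A)
  rw [IsLocalRing.jacobson_eq_maximalIdeal ⊥ bot_ne_top] at hn
  have h1 := iter n
  rw [hn, Ideal.zero_eq_bot, Submodule.bot_smul, sup_bot_eq] at h1
  exact fun y => h1 Submodule.mem_top

lemma lifts_injective [Module.Flat A ((A ⊗[k] C) ⧸ I)] (hc : Indep k C c (I.map (res0 C A))) :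
    Function.Injective (lifts C c I) := by
  refine (HB.injective_flat_coker (lifts C c I) fun a ha => ?_).1
  have key : ∀ y ∈ maximalIdeal A • (⊤ : Submodule A ((A ⊗[k] C) ⧸ I)),
      ∀ z, Ideal.Quotient.mk I z = y → res0 C A z ∈ I.map (res0 C A) := by
    intro y hy
    refine Submodule.smul_induction_on hy (fun r hr y _ z hz => ?_) fun x y hx hy z hz => ?_
    · obtain ⟨w, rfl⟩ := Ideal.Quotient.mk_surjective y
      have h1 : z - r • w ∈ I := by
        rw [← Ideal.Quotient.eq_zero_iff_mem, map_sub, hz]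
        exact sub_self _
      have h2 := Ideal.mem_map_of_mem (res0 C A) h1
      rw [map_sub, Algebra.smul_def, map_mul, Algebra.TensorProduct.algebraMap_apply,
        Algebra.algebraMap_self, RingHom.id_apply, res0_tmul, (Art.mem_maximalIdeal_iff A r).1 hr,
        zero_smul, zero_mul, sub_zero] at h2
      exact h2
    · obtain ⟨x', hx'⟩ := Ideal.Quotient.mk_surjective x
      obtain ⟨y', hy'⟩ := Ideal.Quotient.mk_surjective y
      have h1 : z - (x' + y') ∈ I := by
        rw [← Ideal.Quotient.eq_zero_iff_mem, map_sub, map_add, hz, hx', hy', sub_self]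
      have h2 := add_mem (add_mem (hx x' hx') (hy y' hy')) (Ideal.mem_map_of_mem (res0 C A) h1)
      rwa [← map_add, ← map_add, add_sub_cancel] at h2
  have h0 := key _ ha _ (lifts_eq C c I a).symm
  rw [res0_liftsRep] at h0
  have h1 := hc _ h0
  have h2 : ∀ i, a i ∈ maximalIdeal A := fun i => by
    rw [Art.mem_maximalIdeal_iff, ← Finsupp.mapRange_apply (hf := map_zero A.res), h1, Finsupp.zero_apply]
  rw [← a.sum_single]
  refine Submodule.sum_mem _ fun i _ => ?_
  rw [← mul_one (a i), ← smul_eq_mul, ← Finsupp.smul_single]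
  exact Submodule.smul_mem_smul (h2 i) Submodule.mem_top

end Lift

lemma exists_spans_indep (I₀ : Ideal C) :
    ∃ (ι : Type u) (c : ι → C), Spans k C c I₀ ∧ Indep k C c I₀ := by
  let β := Module.Basis.ofVectorSpace k (C ⧸ I₀)
  choose c hc using fun i => Ideal.Quotient.mk_surjective (β i)
  have h : ∀ a, Ideal.Quotient.mk I₀ (Finsupp.linearCombination k c a) =
      Finsupp.linearCombination k β a := fun a => by
    simp only [Finsupp.linearCombination_apply, Finsupp.sum, map_sum]
    refine Finset.sum_congr rfl fun i _ => ?_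
    rw [← hc i]
    rfl
  refine ⟨_, c, fun y => ⟨β.repr (Ideal.Quotient.mk I₀ y), ?_⟩, fun a ha => ?_⟩
  · rw [← Ideal.Quotient.eq_zero_iff_mem, map_sub, h, β.linearCombination_repr, sub_self]
  · have h1 := h a
    rw [Ideal.Quotient.eq_zero_iff_mem.2 ha] at h1
    rw [← β.repr_linearCombination a, ← h1, map_zero]

/-- Flat ideals with the same closed fibre are not nested. -/
theorem eq_of_le {J K : Ideal (A ⊗[k] C)} [Module.Flat A ((A ⊗[k] C) ⧸ K)] (hle : J ≤ K)
    (hres : K.map (res0 C A) ≤ J.map (res0 C A)) : J = K := by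
  refine le_antisymm hle fun z hz => ?_
  have he : J.map (res0 C A) = K.map (res0 C A) := le_antisymm (Ideal.map_mono hle) hres
  obtain ⟨ι, c, hs, hi⟩ := exists_spans_indep (k := k) C (K.map (res0 C A))
  obtain ⟨a, ha⟩ := lifts_surjective C c J (by rw [he]; exact hs) (Ideal.Quotient.mk J z)
  rw [lifts_eq, Ideal.Quotient.eq] at ha
  have h1 : lifts C c K a = 0 := by
    rw [lifts_eq, Ideal.Quotient.eq_zero_iff_mem, ← sub_add_cancel (liftsRep C c a) z]
    exact add_mem (hle ha) hz
  have h2 : a = 0 := lifts_injective C c K hi (h1.trans (map_zero _).symm)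
  rw [h2, map_zero, zero_sub] at ha
  exact neg_mem_iff.1 ha

variable (p' p'') in
/-- The glued ideal. -/
def glue (J' : Ideal (A' ⊗[k] C)) (J'' : Ideal (A'' ⊗[k] C)) : Ideal (B ⊗[k] C) :=
  J'.comap (tmap C p') ⊓ J''.comap (tmap C p'')

variable (h : Art.IsFibreProd p' p'' f' f'') (hf : Function.Surjective f'')
  {J' : Ideal (A' ⊗[k] C)} {J'' : Ideal (A'' ⊗[k] C)}
  (hJ : J'.map (tmap C f') = J''.map (tmap C f''))

include h hf hJ

theorem map_glue_fst : (glue C p' p'' J' J'').map (tmap C p') = J' := by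
  refine le_antisymm (Ideal.map_le_iff_le_comap.2 inf_le_left) fun j' hj' => ?_
  have h1 : tmap C f' j' ∈ J''.map (tmap C f'') := hJ ▸ Ideal.mem_map_of_mem _ hj'
  obtain ⟨j'', hj'', h2⟩ := (Ideal.mem_map_iff_of_surjective _ (tmap_surjective C hf)).1 h1
  obtain ⟨z, hz', hz''⟩ := tmap_glue C h j' j'' h2.symm
  rw [← hz']
  exact Ideal.mem_map_of_mem _ ⟨show _ ∈ J' by rw [hz']; exact hj', show _ ∈ J'' by rw [hz'']; exact hj''⟩

theorem map_glue_snd : (glue C p' p'' J' J'').map (tmap C p'') = J'' := by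
  refine le_antisymm (Ideal.map_le_iff_le_comap.2 inf_le_right) fun j'' hj'' => ?_
  have h1 : tmap C f'' j'' ∈ ((glue C p' p'' J' J'').map (tmap C p'')).map (tmap C f'') := by
    have hw : (tmap C f').comp (tmap C p') = (tmap C f'').comp (tmap C p'') :=
      RingHom.ext fun z => by
        simp only [RingHom.comp_apply, tmap_tmap, h.w]
    rw [Ideal.map_map, ← hw, ← Ideal.map_map, map_glue_fst C h hf hJ, hJ]
    exact Ideal.mem_map_of_mem _ hj''
  obtain ⟨y, hy, hy'⟩ := (Ideal.mem_map_iff_of_surjective _ (tmap_surjective C hf)).1 h1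
  have hyJ : y ∈ J'' := Ideal.map_le_iff_le_comap.2 inf_le_right hy
  obtain ⟨v, hv', hv''⟩ := tmap_glue C h 0 (j'' - y) (by rw [map_zero, map_sub, hy', sub_self])
  have hv : v ∈ glue C p' p'' J' J'' :=
    ⟨show _ ∈ J' by rw [hv']; exact zero_mem _, show _ ∈ J'' by rw [hv'']; exact sub_mem hj'' hyJ⟩
  rw [← sub_add_cancel j'' y, ← hv'']
  exact add_mem (Ideal.mem_map_of_mem _ hv) hy

/-- The glued ideal has flat quotient. -/
theorem flat_glue [Module.Flat A' ((A' ⊗[k] C) ⧸ J')] [Module.Flat A'' ((A'' ⊗[k] C) ⧸ J'')]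
    [Module.Flat A ((A ⊗[k] C) ⧸ J'.map (tmap C f'))] :
    Module.Flat B ((B ⊗[k] C) ⧸ glue C p' p'' J' J'') := by
  classical
  obtain ⟨ι, c, hs, hi⟩ := exists_spans_indep (k := k) C (J'.map (res0 C A'))
  have he : J''.map (res0 C A'') = J'.map (res0 C A') := by
    rw [← map_res0_tmap C f', hJ, map_res0_tmap]
  let Φ := lifts C c (glue C p' p'' J' J'')
  have hinj : Function.Injective Φ := by
    rw [injective_iff_map_eq_zero]
    intro a ha
    rw [lifts_eq, Ideal.Quotient.eq_zero_iff_mem] at ha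
    have h1 : a.mapRange p' (map_zero p'.toAlgHom) = 0 := by
      refine lifts_injective C c J' hi ?_
      rw [map_zero, lifts_eq, Ideal.Quotient.eq_zero_iff_mem, ← tmap_liftsRep]
      exact ha.1
    have h2 : a.mapRange p'' (map_zero p''.toAlgHom) = 0 := by
      refine lifts_injective C c J'' (by rw [he]; exact hi) ?_
      rw [map_zero, lifts_eq, Ideal.Quotient.eq_zero_iff_mem, ← tmap_liftsRep]
      exact ha.2
    refine Finsupp.ext fun i => h.inj _ _ ?_ ?_
    · exact (Finsupp.ext_iff.1 h1 i).trans (map_zero p'.toAlgHom).symm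
    · exact (Finsupp.ext_iff.1 h2 i).trans (map_zero p''.toAlgHom).symm
  have hsurj : Function.Surjective Φ := by
    intro y
    obtain ⟨z, rfl⟩ := Ideal.Quotient.mk_surjective y
    obtain ⟨a', ha'⟩ := lifts_surjective C c J' hs (Ideal.Quotient.mk J' (tmap C p' z))
    obtain ⟨a'', ha''⟩ := lifts_surjective C c J'' (by rw [he]; exact hs)
      (Ideal.Quotient.mk J'' (tmap C p'' z))
    rw [lifts_eq, Ideal.Quotient.eq] at ha' ha''
    have hw : tmap C f' (tmap C p' z) = tmap C f'' (tmap C p'' z) := by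
      rw [tmap_tmap, tmap_tmap, h.w]
    have h1 : a'.mapRange f' (map_zero f'.toAlgHom) = a''.mapRange f'' (map_zero f''.toAlgHom) := by
      refine lifts_injective C c (J'.map (tmap C f')) (by rw [map_res0_tmap]; exact hi) ?_
      rw [lifts_eq, lifts_eq, Ideal.Quotient.eq, ← tmap_liftsRep, ← tmap_liftsRep]
      have h2 := Ideal.mem_map_of_mem (tmap C f') ha'
      have h3 := Ideal.mem_map_of_mem (tmap C f'') ha''
      rw [← hJ, map_sub, ← hw] at h3
      rw [map_sub] at h2
      have h4 := sub_mem h2 h3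
      rwa [sub_sub_sub_cancel_right] at h4
    choose r hr' hr'' using fun i => h.surj (a' i) (a'' i) (Finsupp.ext_iff.1 h1 i)
    let a : ι →₀ B := Finsupp.onFinset (a'.support ∪ a''.support) r fun i hi => by
      by_contra hni
      rw [Finset.mem_union, not_or, Finsupp.notMem_support_iff, Finsupp.notMem_support_iff] at hni
      refine hi (h.inj _ _ ?_ ?_)
      · rw [hr', hni.1]; exact (map_zero p'.toAlgHom).symm
      · rw [hr'', hni.2]; exact (map_zero p''.toAlgHom).symm
    have ha1 : a.mapRange p' (map_zero p'.toAlgHom) = a' := Finsupp.ext fun i => hr' i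
    have ha2 : a.mapRange p'' (map_zero p''.toAlgHom) = a'' := Finsupp.ext fun i => hr'' i
    refine ⟨a, ?_⟩
    rw [lifts_eq, Ideal.Quotient.eq]
    exact ⟨show _ ∈ J' by rw [map_sub, tmap_liftsRep, ha1]; exact ha',
      show _ ∈ J'' by rw [map_sub, tmap_liftsRep, ha2]; exact ha''⟩
  exact Module.Flat.of_linearEquiv (LinearEquiv.ofBijective Φ ⟨hinj, hsurj⟩).symm

omit hJ in
/-- A flat ideal over the fibre product is glued from its two images. -/
theorem eq_glue (J : Ideal (B ⊗[k] C))
    [Module.Flat A' ((A' ⊗[k] C) ⧸ J.map (tmap C p'))]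
    [Module.Flat A'' ((A'' ⊗[k] C) ⧸ J.map (tmap C p''))]
    [Module.Flat A ((A ⊗[k] C) ⧸ (J.map (tmap C p')).map (tmap C f'))] :
    J = glue C p' p'' (J.map (tmap C p')) (J.map (tmap C p'')) := by
  have hJ : (J.map (tmap C p')).map (tmap C f') = (J.map (tmap C p'')).map (tmap C f'') := by
    rw [Ideal.map_map, Ideal.map_map]
    congr 1
    exact RingHom.ext fun z => by simp only [RingHom.comp_apply, tmap_tmap, h.w]
  haveI := flat_glue C h hf hJ
  refine eq_of_le C (le_inf Ideal.le_comap_map Ideal.le_comap_map) ?_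
  rw [← map_res0_tmap C p' (glue _ _ _ _ _), map_glue_fst C h hf hJ, map_res0_tmap]

end Groth.Agent.Lib.ArtinFun.FlatIdealFP
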