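import Groth.Agent.H22.GrFlat
import Groth.Agent.Lib.QDepth.FlatFibre
import Mathlib.RingTheory.Regular.RegularSequence
import Mathlib.RingTheory.Noetherian.OfPrime

/-!
# Regular sequences in flat families over Artinian local rings
-/

noncomputable section

universe u

open IsLocalRing TensorProduct RingTheory.Sequence Pointwise

namespace Groth.Agent.Lib.ArtinFun.FlatReg

/-- Submodules with flat quotient are pure. -/
theorem mem_smul_ker_of_flat {C : Type u} [CommRing C] {M N : Type u} [AddCommGroup M] [Module C M] [AddCommGroup N]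
    [Module C N] [Module.Flat C N] (f : M →ₗ[C] N) (hf : Function.Surjective f) (J : Ideal C) {z : M}
    (hz : z ∈ J • (⊤ : Submodule C M)) (hz0 : f z = 0) : z ∈ J • LinearMap.ker f := by
  let μ : (J : Ideal C) ⊗[C] M →ₗ[C] M := (TensorProduct.lid C M).toLinearMap ∘ₗ (Submodule.subtype J).rTensor M
  obtain ⟨w, hw⟩ : ∃ w, μ w = z := by
    refine Submodule.smul_induction_on hz (fun j hj x _ => ⟨⟨j, hj⟩ ⊗ₜ x, by simp [μ]⟩) fun a b ha hb => ?_
    obtain ⟨u, hu⟩ := ha
    obtain ⟨v, hv⟩ := hb
    exact ⟨u + v, by rw [map_add, hu, hv]⟩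
  have hsq : ∀ w, TensorProduct.lid C N ((Submodule.subtype J).rTensor N (f.lTensor J w)) = f (μ w) := fun w => by
    induction w with
    | zero => simp
    | tmul j x => simp [μ]
    | add a b ha hb => simp only [map_add, ha, hb]
  have h0 : f.lTensor J w = 0 :=
    Module.Flat.rTensor_preserves_injective_linearMap (M := N) _ J.subtype_injective
      ((TensorProduct.lid C N).injective (by rw [hsq, hw, hz0, map_zero, map_zero]))
  obtain ⟨v, rfl⟩ := (lTensor_exact J (f := (LinearMap.ker f).subtype) (g := f)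
    (LinearMap.exact_iff.2 (Submodule.range_subtype _).symm) hf w).1 h0
  rw [← hw]
  clear hw h0
  induction v with
  | zero => rw [map_zero, map_zero]; exact zero_mem _
  | tmul j x =>
    simp only [LinearMap.lTensor_tmul, μ, LinearMap.comp_apply, LinearEquiv.coe_coe, LinearMap.rTensor_tmul,
      TensorProduct.lid_tmul, Submodule.coe_subtype]
    exact Submodule.smul_mem_smul j.2 x.2
  | add a b ha hb => rw [map_add, map_add]; exact add_mem ha hb

variable {C A : Type u} [CommRing C] [CommRing A] [Algebra C A]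

/-- Exchanging two quotients. -/
theorem nonempty_quotSMulTop_quotient (J : Ideal A) (r : A) (M : Type u) [AddCommGroup M] [Module A M] :
    Nonempty (QuotSMulTop r (M ⧸ J • (⊤ : Submodule A M)) ≃ₗ[A]
      QuotSMulTop r M ⧸ J • (⊤ : Submodule A (QuotSMulTop r M))) := by
  let f : M →ₗ[A] QuotSMulTop r (M ⧸ J • (⊤ : Submodule A M)) := (Submodule.mkQ _) ∘ₗ (Submodule.mkQ _)
  let g : M →ₗ[A] QuotSMulTop r M ⧸ J • (⊤ : Submodule A (QuotSMulTop r M)) := (Submodule.mkQ _) ∘ₗ (Submodule.mkQ _)
  have hf : Function.Surjective f := (Submodule.mkQ_surjective _).comp (Submodule.mkQ_surjective _)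
  have hg : Function.Surjective g := (Submodule.mkQ_surjective _).comp (Submodule.mkQ_surjective _)
  have h1 : LinearMap.ker f = r • (⊤ : Submodule A M) ⊔ J • ⊤ := by
    rw [LinearMap.ker_comp, Submodule.ker_mkQ]
    conv_lhs => rw [show (⊤ : Submodule A (M ⧸ J • (⊤ : Submodule A M))) = Submodule.map (Submodule.mkQ _) ⊤ by
      rw [Submodule.map_top, Submodule.range_mkQ], ← Submodule.map_pointwise_smul]
    rw [Submodule.comap_map_eq, Submodule.ker_mkQ]
  have h2 : LinearMap.ker g = r • (⊤ : Submodule A M) ⊔ J • ⊤ := by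
    rw [LinearMap.ker_comp, Submodule.ker_mkQ]
    conv_lhs => rw [show (⊤ : Submodule A (QuotSMulTop r M)) = Submodule.map (Submodule.mkQ _) ⊤ by
      rw [Submodule.map_top, Submodule.range_mkQ], ← Submodule.map_smul'']
    rw [Submodule.comap_map_eq, Submodule.ker_mkQ, sup_comm]
  exact ⟨(f.quotKerEquivOfSurjective hf).symm.trans
    ((Submodule.quotEquivOfEq _ _ (h1.trans h2.symm)).trans (g.quotKerEquivOfSurjective hg))⟩

variable [IsLocalRing C] [IsArtinianRing C]

/-- The fibre ideal is nilpotent, so an algebra with Noetherian fibre is Noetherian. -/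
theorem isNoetherianRing_of_fibre
    [IsNoetherianRing (A ⧸ (maximalIdeal C).map (algebraMap C A))] : IsNoetherianRing A := by
  obtain ⟨n, hn⟩ : IsNilpotent ((maximalIdeal C).map (algebraMap C A)) := by
    obtain ⟨n, hn⟩ := IsArtinianRing.isNilpotent_jacobson_bot (R := C)
    rw [IsLocalRing.jacobson_eq_maximalIdeal ⊥ bot_ne_top] at hn
    exact ⟨n, by rw [← Ideal.map_pow, hn]; exact Ideal.map_bot⟩
  refine IsNoetherianRing.of_prime fun P hP => ?_
  let J := (maximalIdeal C).map (algebraMap C A)
  have hJP : J ≤ P := by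
    rcases Nat.eq_zero_or_pos n with rfl | hn0
    · exact absurd (eq_bot_iff.1 (by rwa [pow_zero, Ideal.one_eq_top] at hn) : (⊤ : Ideal A) ≤ ⊥)
        (fun h => hP.ne_top (top_le_iff.1 (h.trans bot_le)))
    · exact (Ideal.IsPrime.pow_le_iff (by omega)).1 (hn.le.trans bot_le)
  obtain ⟨T, hT⟩ := IsNoetherian.noetherian (P.map (Ideal.Quotient.mk J))
  refine Submodule.fg_of_fg_map_of_fg_inf_ker (Ideal.Quotient.mkₐ A J).toLinearMap ?_ ?_
  · have h1 : Submodule.map (Ideal.Quotient.mkₐ A J).toLinearMap P = (P.map (Ideal.Quotient.mk J)).restrictScalars A := by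
      ext x
      constructor
      · rintro ⟨y, hy, rfl⟩
        exact Ideal.mem_map_of_mem _ hy
      · intro hx
        obtain ⟨y, hy, rfl⟩ := (Ideal.mem_map_iff_of_surjective _ Ideal.Quotient.mk_surjective).1 hx
        exact ⟨y, hy, rfl⟩
    rw [h1]
    exact Submodule.FG.restrictScalars_of_surjective (IsNoetherian.noetherian (P.map (Ideal.Quotient.mk J))) (show Function.Surjective (algebraMap A (A ⧸ J)) from Ideal.Quotient.mk_surjective)
  · have h2 : P ⊓ LinearMap.ker (Ideal.Quotient.mkₐ A J).toLinearMap = J := by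
      refine le_antisymm (inf_le_right.trans fun x hx => Ideal.Quotient.eq_zero_iff_mem.1 hx) (le_inf hJP fun x hx => ?_)
      exact Ideal.Quotient.eq_zero_iff_mem.2 hx
    rw [h2]
    exact Ideal.FG.map (IsNoetherian.noetherian (maximalIdeal C)) _

variable [IsNoetherianRing A] [IsLocalRing A] [IsLocalHom (algebraMap C A)]

/-- A regular sequence with flat quotient stays regular on the closed fibre. -/
theorem regular_fibre_of_flat_quotient : ∀ (rs : List A), (∀ r ∈ rs, r ∈ maximalIdeal A) →
    ∀ (M : Type u) [AddCommGroup M] [Module A M] [Module C M] [IsScalarTower C A M] [Module.Finite A M],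
      IsWeaklyRegular M rs → Module.Flat C (M ⧸ Ideal.ofList rs • (⊤ : Submodule A M)) →
      Module.Flat C M ∧
        IsWeaklyRegular (M ⧸ (maximalIdeal C).map (algebraMap C A) • (⊤ : Submodule A M)) rs := by
  intro rs
  induction rs with
  | nil =>
    intro _ M _ _ _ _ _ _ hflat
    refine ⟨?_, IsWeaklyRegular.nil A _⟩
    have h0 : Ideal.ofList ([] : List A) • (⊤ : Submodule A M) = ⊥ := by rw [Ideal.ofList_nil, Submodule.bot_smul]
    exact Module.Flat.of_linearEquiv (((Submodule.quotEquivOfEqBot _ h0).restrictScalars C).symm)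
  | cons r rs ih =>
    intro hmem M _ _ _ _ _ hreg hflat
    obtain ⟨h1, h2⟩ := (isWeaklyRegular_cons_iff M r rs).1 hreg
    haveI := hflat
    obtain ⟨hN, hNreg⟩ := ih (fun x hx => hmem x (List.mem_cons_of_mem _ hx)) (QuotSMulTop r M) h2
      (Module.Flat.of_linearEquiv ((Submodule.quotOfListConsSMulTopEquivQuotSMulTopInner M r rs).symm.restrictScalars C))
    haveI := hN
    haveI hM : Module.Flat C M := by
      have h3 : Module.Flat C (M ⧸ (Ideal.span {r} • (⊤ : Submodule A M))) :=
        Module.Flat.of_linearEquiv ((Submodule.quotEquivOfEq _ _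
          (Submodule.ideal_span_singleton_smul r (⊤ : Submodule A M))).restrictScalars C)
      exact Groth.Agent.H22.GrFlat.flat_of_flat_mod_regular r
        (by rw [IsLocalRing.jacobson_eq_maximalIdeal ⊥ bot_ne_top]; exact hmem r List.mem_cons_self) h1 h3
    refine ⟨hM, (isWeaklyRegular_cons_iff _ r rs).2 ⟨?_, ?_⟩⟩
    · rw [isSMulRegular_quotient_iff_mem_of_smul_mem]
      intro z hz
      rw [← Submodule.restrictScalars_mem C, Groth.Agent.Lib.QDepth.restrictScalars_smul_top] at hz ⊢
      let f : M →ₗ[C] QuotSMulTop r M := ((r • (⊤ : Submodule A M)).mkQ).restrictScalars C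
      have h4 := mem_smul_ker_of_flat f (Submodule.mkQ_surjective _) _ hz
        ((Submodule.Quotient.mk_eq_zero _).2 (Submodule.smul_mem_pointwise_smul z r _ Submodule.mem_top))
      have h5 : ∃ w ∈ maximalIdeal C • (⊤ : Submodule C M), r • z = r • w := by
        refine Submodule.smul_induction_on (p := fun y => ∃ w ∈ maximalIdeal C • (⊤ : Submodule C M), y = r • w) h4
          (fun c hc x hx => ?_) fun a b ha hb => ?_
        · obtain ⟨v, -, rfl⟩ := (Submodule.Quotient.mk_eq_zero _).1 (LinearMap.mem_ker.1 hx)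
          exact ⟨c • v, Submodule.smul_mem_smul hc Submodule.mem_top, (smul_comm r c v).symm⟩
        · obtain ⟨wa, hwa, rfl⟩ := ha
          obtain ⟨wb, hwb, rfl⟩ := hb
          exact ⟨wa + wb, add_mem hwa hwb, (smul_add r wa wb).symm⟩
      obtain ⟨w, hw, hzw⟩ := h5
      rwa [h1 hzw]
    · obtain ⟨e⟩ := nonempty_quotSMulTop_quotient ((maximalIdeal C).map (algebraMap C A)) r M
      exact (e.isWeaklyRegular_congr rs).2 hNreg

/-- A regular sequence on the closed fibre of a flat module is regular with flat quotient. -/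
theorem regular_of_regular_fibre : ∀ (rs : List A),
    ∀ (M : Type u) [AddCommGroup M] [Module A M] [Module C M] [IsScalarTower C A M] [Module.Finite A M]
      [Module.Flat C M],
      IsWeaklyRegular (M ⧸ (maximalIdeal C).map (algebraMap C A) • (⊤ : Submodule A M)) rs →
      IsWeaklyRegular M rs ∧ Module.Flat C (M ⧸ Ideal.ofList rs • (⊤ : Submodule A M)) := by
  intro rs
  induction rs with
  | nil =>
    intro M _ _ _ _ _ _ _
    refine ⟨IsWeaklyRegular.nil A M, ?_⟩
    have h0 : Ideal.ofList ([] : List A) • (⊤ : Submodule A M) = ⊥ := by rw [Ideal.ofList_nil, Submodule.bot_smul]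
    exact Module.Flat.of_linearEquiv ((Submodule.quotEquivOfEqBot _ h0).restrictScalars C)
  | cons r rs ih =>
    intro M _ _ _ _ _ _ hreg
    obtain ⟨h1, h2⟩ := (isWeaklyRegular_cons_iff _ r rs).1 hreg
    rw [isSMulRegular_quotient_iff_mem_of_smul_mem] at h1
    obtain ⟨hr, hflat⟩ := Groth.Agent.Lib.QDepth.regular_of_fibre (A := C) r h1
    haveI := hflat
    obtain ⟨e⟩ := nonempty_quotSMulTop_quotient ((maximalIdeal C).map (algebraMap C A)) r M
    obtain ⟨hN, hNflat⟩ := ih (QuotSMulTop r M) ((e.isWeaklyRegular_congr rs).1 h2)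
    haveI := hNflat
    exact ⟨(isWeaklyRegular_cons_iff M r rs).2 ⟨hr, hN⟩,
      Module.Flat.of_linearEquiv ((Submodule.quotOfListConsSMulTopEquivQuotSMulTopInner M r rs).restrictScalars C)⟩

end Groth.Agent.Lib.ArtinFun.FlatReg
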