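import Groth.Agent.Lib.ArtinFun.FlatRegSeq
import Groth.Prelude.Def_CAlg

/-!
# Lifting regular sequences along small extensions of Artinian rings
-/

noncomputable section

universe u

open IsLocalRing RingTheory.Sequence Pointwise

namespace Groth.Agent.Lib.ArtinFun.FlatReg

variable {C A : Type u} [CommRing C] [IsLocalRing C] [IsArtinianRing C] [CommRing A] [Algebra C A]

/-- An algebra with local fibre is local. -/
theorem isLocal_of_fibre [IsLocalRing (A ⧸ (maximalIdeal C).map (algebraMap C A))] :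
    IsLocalRing A ∧ IsLocalHom (algebraMap C A) := by
  let J := (maximalIdeal C).map (algebraMap C A)
  have hnil : ∀ x ∈ J, IsNilpotent x := fun x hx => by
    obtain ⟨n, hn⟩ := IsArtinianRing.isNilpotent_jacobson_bot (R := C)
    rw [IsLocalRing.jacobson_eq_maximalIdeal ⊥ bot_ne_top] at hn
    refine ⟨n, ?_⟩
    have h1 : x ^ n ∈ J ^ n := Ideal.pow_mem_pow hx n
    rw [← Ideal.map_pow, hn, Ideal.zero_eq_bot, Ideal.map_bot] at h1
    exact h1
  have hu : ∀ x : A, IsUnit (Ideal.Quotient.mk J x) → IsUnit x := fun x hx => by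
    obtain ⟨y, hy⟩ := Ideal.Quotient.mk_surjective (hx.unit⁻¹ : (A ⧸ J)ˣ).1
    have h1 : x * y - 1 ∈ J := by
      rw [← Ideal.Quotient.eq_zero_iff_mem, map_sub, map_mul, hy, IsUnit.mul_val_inv, map_one, sub_self]
    have h2 := (hnil _ h1).isUnit_add_one
    rw [sub_add_cancel] at h2
    exact isUnit_of_mul_isUnit_left h2
  haveI : Nontrivial A := (Ideal.Quotient.mk J).domain_nontrivial
  refine ⟨IsLocalRing.of_isUnit_or_isUnit_one_sub_self fun a => ?_, ⟨fun c hc => ?_⟩⟩
  · rcases IsLocalRing.isUnit_or_isUnit_one_sub_self (Ideal.Quotient.mk J a) with h | h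
    · exact Or.inl (hu a h)
    · exact Or.inr (hu _ (by rwa [map_sub, map_one]))
  · by_contra hc'
    have h1 := hnil _ (Ideal.mem_map_of_mem (algebraMap C A) ((IsLocalRing.mem_maximalIdeal c).2 hc'))
    exact h1.not_isUnit hc

/-- The ideal cut out by lifts of generators modulo a nilpotent ideal of the base. -/
theorem eq_span_of_generators [IsNoetherianRing A] [IsLocalRing A] (I : Ideal A) [Module.Flat C (A ⧸ I)]
    (J : Ideal C) (hJ : J.map (algebraMap C A) ≤ maximalIdeal A) {ι : Type*} (a : ι → A) (ha : ∀ i, a i ∈ I)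
    (hI : I.map (Ideal.Quotient.mk (J.map (algebraMap C A))) ≤
      Ideal.span (Set.range fun i => Ideal.Quotient.mk (J.map (algebraMap C A)) (a i))) :
    I = Ideal.span (Set.range a) := by
  let N := J.map (algebraMap C A)
  have hle : Ideal.span (Set.range a) ≤ I := Ideal.span_le.2 (by rintro _ ⟨i, rfl⟩; exact ha i)
  refine le_antisymm (Submodule.le_of_le_smul_of_le_jacobson_bot (I := N) (IsNoetherian.noetherian I)
    (hJ.trans (IsLocalRing.jacobson_eq_maximalIdeal ⊥ bot_ne_top).ge) fun z hz => ?_) hle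
  have h1 := hI (Ideal.mem_map_of_mem _ hz)
  rw [← Function.comp_def, Set.range_comp, ← Ideal.map_span] at h1
  obtain ⟨s, hs, hs'⟩ := (Ideal.mem_map_iff_of_surjective _ Ideal.Quotient.mk_surjective).1 h1
  have h2 : z - s ∈ N := Ideal.Quotient.eq.1 hs'.symm
  let f : A →ₗ[C] A ⧸ I := (Ideal.Quotient.mkₐ C I).toLinearMap
  have h3 : z - s ∈ J • (⊤ : Submodule C A) := by
    rw [Ideal.smul_top_eq_map]
    exact h2
  have h4 := mem_smul_ker_of_flat f Ideal.Quotient.mk_surjective J h3
    (Ideal.Quotient.eq_zero_iff_mem.2 (I.sub_mem hz (hle hs)))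
  refine Submodule.mem_sup.2 ⟨s, hs, z - s, ?_, add_sub_cancel _ _⟩
  refine Submodule.smul_induction_on h4 (fun c hc x hx => ?_) fun x y hx hy => add_mem hx hy
  show c • x ∈ N * I
  rw [Algebra.smul_def]
  exact Ideal.mul_mem_mul (Ideal.mem_map_of_mem (algebraMap C A) hc) (Ideal.Quotient.eq_zero_iff_mem.1 hx)

lemma ofList_ofFn {R : Type u} [CommRing R] {r : ℕ} (a : Fin r → R) :
    Ideal.ofList (List.ofFn a) = Ideal.span (Set.range a) := by
  refine congrArg Ideal.span (Set.ext fun x => ?_)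
  simp [List.mem_ofFn, Set.mem_range]

/-- A regular sequence on the fibre lifts to a regular sequence with flat quotient. -/
theorem isRegular_and_flat [IsNoetherianRing A] [IsLocalRing A] [IsLocalHom (algebraMap C A)] [Module.Flat C A]
    {r : ℕ} (a : Fin r → A) (hm : ∀ i, a i ∈ maximalIdeal A)
    (h : IsWeaklyRegular (A ⧸ (maximalIdeal C).map (algebraMap C A) • (⊤ : Submodule A A)) (List.ofFn a)) :
    IsRegular A (List.ofFn a) ∧ Module.Flat C (A ⧸ Ideal.span (Set.range a)) := by
  obtain ⟨h1, h2⟩ := regular_of_regular_fibre (C := C) _ A h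
  haveI := h2
  refine ⟨(IsLocalRing.isRegular_iff_isWeaklyRegular_of_subset_maximalIdeal fun x hx => ?_).2 h1,
    Module.Flat.of_linearEquiv ((Submodule.quotEquivOfEq (Ideal.span (Set.range a))
      (Ideal.ofList (List.ofFn a) • (⊤ : Submodule A A))
      (by rw [ofList_ofFn, smul_eq_mul, Ideal.mul_top])).restrictScalars C)⟩
  obtain ⟨i, rfl⟩ := List.mem_ofFn.1 hx
  exact hm i

omit [IsArtinianRing C] in
/-- Regularity on the fibre ring is regularity on the fibre module. -/
theorem weaklyRegular_fibre_iff {r : ℕ} (a : Fin r → A) (N : Ideal A) :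
    IsWeaklyRegular (A ⧸ N • (⊤ : Submodule A A)) (List.ofFn a) ↔
      IsWeaklyRegular (A ⧸ N) (List.ofFn fun i => Ideal.Quotient.mk N (a i)) := by
  rw [(Submodule.quotEquivOfEq (N • (⊤ : Submodule A A)) N (by rw [smul_eq_mul, Ideal.mul_top])).isWeaklyRegular_congr,
    ← isWeaklyRegular_map_algebraMap_iff (A ⧸ N) (A ⧸ N), List.map_ofFn]
  rfl

/-- Regular sequences lift along quotients of the base. -/
theorem isRegular_lift (J : Ideal C) (hJne : J ≠ ⊤) [Module.Flat C A]
    [IsLocalRing (A ⧸ (maximalIdeal C).map (algebraMap C A))]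
    [IsNoetherianRing (A ⧸ (maximalIdeal C).map (algebraMap C A))]
    {r : ℕ} (a : Fin r → A)
    (hreg : IsRegular (A ⧸ J.map (algebraMap C A)) (List.ofFn fun i => Ideal.Quotient.mk (J.map (algebraMap C A)) (a i)))
    (hflat : Module.Flat (C ⧸ J) ((A ⧸ J.map (algebraMap C A)) ⧸
      Ideal.span (Set.range fun i => Ideal.Quotient.mk (J.map (algebraMap C A)) (a i)))) :
    IsRegular A (List.ofFn a) ∧ Module.Flat C (A ⧸ Ideal.span (Set.range a)) := by
  obtain ⟨hlA, hlh⟩ := isLocal_of_fibre (C := C) (A := A)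
  haveI := isNoetherianRing_of_fibre (C := C) (A := A)
  have hJm : J ≤ maximalIdeal C := IsLocalRing.le_maximalIdeal hJne
  let N := J.map (algebraMap C A)
  have hNm : N ≤ maximalIdeal A := (Ideal.map_mono hJm).trans (((IsLocalRing.local_hom_TFAE _).out 0 2).1 hlh)
  haveI : Nontrivial (C ⧸ J) := Ideal.Quotient.nontrivial_iff.2 hJne
  haveI : IsLocalRing (C ⧸ J) := IsLocalRing.of_surjective' (Ideal.Quotient.mk J) Ideal.Quotient.mk_surjective
  haveI : Nontrivial (A ⧸ N) := Ideal.Quotient.nontrivial_iff.2 fun h =>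
    (maximalIdeal.isMaximal A).ne_top (top_le_iff.1 (h ▸ hNm))
  haveI : IsLocalRing (A ⧸ N) := IsLocalRing.of_surjective' (Ideal.Quotient.mk N) Ideal.Quotient.mk_surjective
  haveI : IsLocalHom (algebraMap (C ⧸ J) (A ⧸ N)) := ⟨fun c hc => by
    obtain ⟨c, rfl⟩ := Ideal.Quotient.mk_surjective c
    refine IsUnit.map (Ideal.Quotient.mk J) (isUnit_of_map_unit (algebraMap C A) c ?_)
    haveI : IsLocalHom (Ideal.Quotient.mk N) := IsLocalHom.of_surjective _ Ideal.Quotient.mk_surjective
    exact isUnit_of_map_unit (Ideal.Quotient.mk N) _ hc⟩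
  have hspan : ∀ i, Ideal.Quotient.mk N (a i) ∈ maximalIdeal (A ⧸ N) := fun i => by
    refine fun hu => hreg.top_ne_smul (Eq.symm ?_)
    rw [smul_eq_mul, Ideal.mul_top]
    exact Ideal.eq_top_of_isUnit_mem _ (Ideal.subset_span (List.mem_ofFn.2 ⟨i, rfl⟩)) hu
  haveI hflat' : Module.Flat (C ⧸ J) ((A ⧸ N) ⧸ Ideal.ofList (List.ofFn fun i => Ideal.Quotient.mk N (a i)) • (⊤ : Submodule (A ⧸ N) (A ⧸ N))) := by
    haveI := hflat
    exact Module.Flat.of_linearEquiv ((Submodule.quotEquivOfEq _ _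
      (by rw [ofList_ofFn, smul_eq_mul, Ideal.mul_top])).restrictScalars (C ⧸ J))
  obtain ⟨-, h1⟩ := regular_fibre_of_flat_quotient (C := C ⧸ J) (A := A ⧸ N) _
    (fun x hx => by obtain ⟨i, rfl⟩ := List.mem_ofFn.1 hx; exact hspan i) (A ⧸ N) hreg.toIsWeaklyRegular hflat'
  refine isRegular_and_flat a (fun i => ?_) ?_
  · intro hu
    exact hspan i (hu.map _)
  · have h2 : IsWeaklyRegular ((A ⧸ N) ⧸ (maximalIdeal (C ⧸ J)).map (algebraMap (C ⧸ J) (A ⧸ N)) •
        (⊤ : Submodule (A ⧸ N) (A ⧸ N))) (List.ofFn a) := by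
      rw [← isWeaklyRegular_map_algebraMap_iff (A ⧸ N)]
      rw [List.map_ofFn]
      exact h1
    let g : A →ₗ[A] (A ⧸ N) ⧸ (maximalIdeal (C ⧸ J)).map (algebraMap (C ⧸ J) (A ⧸ N)) • (⊤ : Submodule (A ⧸ N) (A ⧸ N)) :=
      ((Submodule.mkQ _).restrictScalars A) ∘ₗ (Ideal.Quotient.mkₐ A N).toLinearMap
    have hg : Function.Surjective g := (Submodule.mkQ_surjective _).comp Ideal.Quotient.mk_surjective
    have hmax : maximalIdeal (C ⧸ J) = (maximalIdeal C).map (Ideal.Quotient.mk J) := by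
      refine le_antisymm (fun x hx => ?_) (Ideal.map_le_iff_le_comap.2 fun c hc => ?_)
      · obtain ⟨c, rfl⟩ := Ideal.Quotient.mk_surjective x
        exact Ideal.mem_map_of_mem _ fun hu => hx (hu.map _)
      · haveI : IsLocalHom (Ideal.Quotient.mk J) := IsLocalHom.of_surjective _ Ideal.Quotient.mk_surjective
        exact fun hu => hc (isUnit_of_map_unit (Ideal.Quotient.mk J) c hu)
    have hker : LinearMap.ker g = (maximalIdeal C).map (algebraMap C A) • (⊤ : Submodule A A) := by
      have hmapeq : (maximalIdeal (C ⧸ J)).map (algebraMap (C ⧸ J) (A ⧸ N)) =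
          ((maximalIdeal C).map (algebraMap C A)).map (Ideal.Quotient.mk N) := by
        rw [hmax, Ideal.map_map, Ideal.map_map]
        rfl
      ext x
      rw [LinearMap.mem_ker]
      show Submodule.Quotient.mk (Ideal.Quotient.mk N x) = 0 ↔ _
      rw [Submodule.Quotient.mk_eq_zero, smul_eq_mul, smul_eq_mul, Ideal.mul_top, Ideal.mul_top, hmapeq,
        ← Ideal.mem_comap, Ideal.comap_map_of_surjective _ Ideal.Quotient.mk_surjective, ← RingHom.ker_eq_comap_bot,
        Ideal.mk_ker, sup_eq_left.2 (Ideal.map_mono hJm)]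
    exact (((Submodule.quotEquivOfEq _ _ hker.symm).trans (g.quotKerEquivOfSurjective hg)).isWeaklyRegular_congr _).2 h2

/-- A flat deformation of a complete intersection is one. -/
theorem exists_generators_regular [Module.Flat C A] [IsLocalRing (A ⧸ (maximalIdeal C).map (algebraMap C A))]
    [IsNoetherianRing (A ⧸ (maximalIdeal C).map (algebraMap C A))]
    (I : Ideal A) [Module.Flat C (A ⧸ I)] (r : ℕ) (b : Fin r → A ⧸ (maximalIdeal C).map (algebraMap C A))
    (hb : IsRegular (A ⧸ (maximalIdeal C).map (algebraMap C A)) (List.ofFn b))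
    (hI : I.map (Ideal.Quotient.mk ((maximalIdeal C).map (algebraMap C A))) = Ideal.span (Set.range b)) :
    ∃ a : Fin r → A, IsRegular A (List.ofFn a) ∧ I = Ideal.span (Set.range a) := by
  obtain ⟨hlA, hlh⟩ := isLocal_of_fibre (C := C) (A := A)
  haveI := isNoetherianRing_of_fibre (C := C) (A := A)
  let N := (maximalIdeal C).map (algebraMap C A)
  have hex : ∀ i, ∃ a ∈ I, Ideal.Quotient.mk N a = b i := fun i =>
    (Ideal.mem_map_iff_of_surjective _ Ideal.Quotient.mk_surjective).1 (hI.ge (Ideal.subset_span ⟨i, rfl⟩))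
  choose a ha hab using hex
  have hba : b = fun i => Ideal.Quotient.mk N (a i) := funext fun i => (hab i).symm
  refine ⟨a, (isRegular_and_flat (C := C) a (fun i hu => hb.top_ne_smul (Eq.symm ?_)) ?_).1,
    eq_span_of_generators I (maximalIdeal C) (((IsLocalRing.local_hom_TFAE _).out 0 2).1 hlh) a ha ?_⟩
  · rw [smul_eq_mul, Ideal.mul_top]
    exact Ideal.eq_top_of_isUnit_mem _ (Ideal.subset_span (List.mem_ofFn.2 ⟨i, rfl⟩)) (hab i ▸ hu.map _)
  · rw [weaklyRegular_fibre_iff, ← hba]
    exact hb.toIsWeaklyRegular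
  · rw [hI, hba]

/-- Flat lifts of an ideal are generated by lifts of generators. -/
theorem exists_generators_lift (J : Ideal C) (hJne : J ≠ ⊤)
    [IsLocalRing (A ⧸ (maximalIdeal C).map (algebraMap C A))]
    [IsNoetherianRing (A ⧸ (maximalIdeal C).map (algebraMap C A))]
    (r : ℕ) (a : Fin r → A ⧸ J.map (algebraMap C A)) (I : Ideal A) [Module.Flat C (A ⧸ I)]
    (hI : I.map (Ideal.Quotient.mk (J.map (algebraMap C A))) = Ideal.span (Set.range a)) :
    ∃ a' : Fin r → A, (∀ i, Ideal.Quotient.mk (J.map (algebraMap C A)) (a' i) = a i) ∧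
      I = Ideal.span (Set.range a') := by
  obtain ⟨hlA, hlh⟩ := isLocal_of_fibre (C := C) (A := A)
  haveI := isNoetherianRing_of_fibre (C := C) (A := A)
  have hex : ∀ i, ∃ x ∈ I, Ideal.Quotient.mk (J.map (algebraMap C A)) x = a i := fun i =>
    (Ideal.mem_map_iff_of_surjective _ Ideal.Quotient.mk_surjective).1 (hI.ge (Ideal.subset_span ⟨i, rfl⟩))
  choose a' ha hab using hex
  refine ⟨a', hab, eq_span_of_generators I J ((Ideal.map_mono (IsLocalRing.le_maximalIdeal hJne)).trans
    (((IsLocalRing.local_hom_TFAE _).out 0 2).1 hlh)) a' ha ?_⟩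
  rw [hI, show a = fun i => Ideal.Quotient.mk (J.map (algebraMap C A)) (a' i) from funext fun i => (hab i).symm]

end Groth.Agent.Lib.ArtinFun.FlatReg
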