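import Mathlib.RingTheory.Flat.Basic
import Mathlib.RingTheory.Smooth.Basic
import Mathlib.LinearAlgebra.TensorProduct.RightExactness
import Mathlib.RingTheory.Ideal.Quotient.Operations
import Mathlib.Algebra.Algebra.Subalgebra.Basic

/-!
# Flat with formally smooth closed fibre over a nilpotent ideal
-/

universe u

open scoped TensorProduct

namespace Groth.Agent.Lib.ArtinFun

variable {k A B : Type u} [CommRing k] [CommRing A] [Algebra k A] [CommRing B] [Algebra A B]
  [Algebra k B] [IsScalarTower k A B]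

/-- An element of `M E` killed by the map to a flat module vanishes if `M` kills the kernel. -/
theorem eq_zero_of_mem_map_of_flat [Module.Flat A B] (M : Ideal A) {E : Type u} [CommRing E] [Algebra A E]
    (p : E →ₐ[A] B) (hp : Function.Surjective p) (hM : ∀ a ∈ M, ∀ e, p e = 0 → a • e = 0)
    {x : E} (hx : x ∈ M.map (algebraMap A E)) (hpx : p x = 0) : x = 0 := by
  let μE : M ⊗[A] E →ₗ[A] E := TensorProduct.lift ((LinearMap.lsmul A E).comp M.subtype)
  have hμ : ∀ (a : M) e, μE (a ⊗ₜ e) = (a : A) • e := fun a e => rfl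
  have hx' : x ∈ (M • ⊤ : Submodule A E) := by
    rw [Ideal.smul_top_eq_map]; exact hx
  obtain ⟨ξ, rfl⟩ : x ∈ LinearMap.range μE := by
    refine Submodule.smul_induction_on hx' (fun a ha e _ => ⟨⟨a, ha⟩ ⊗ₜ e, rfl⟩) fun y z hy hz => add_mem hy hz
  let μB : M ⊗[A] B →ₗ[A] B := TensorProduct.lift ((LinearMap.lsmul A B).comp M.subtype)
  have hcomm : μB ∘ₗ p.toLinearMap.lTensor M = p.toLinearMap ∘ₗ μE :=
    TensorProduct.ext' fun a e => (map_smul p.toLinearMap (a : A) e).symm
  have h1 : μB (p.toLinearMap.lTensor M ξ) = 0 := (LinearMap.congr_fun hcomm ξ).trans hpx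
  have hinj : Function.Injective μB := by
    have : μB = (TensorProduct.lid A B).toLinearMap ∘ₗ M.subtype.rTensor B :=
      TensorProduct.ext' fun a b => rfl
    rw [this]
    exact (TensorProduct.lid A B).injective.comp
      (Module.Flat.rTensor_preserves_injective_linearMap _ M.injective_subtype)
  have h2 : p.toLinearMap.lTensor M ξ = 0 := hinj (h1.trans (map_zero _).symm)
  obtain ⟨η, rfl⟩ := ((lTensor_exact M (LinearMap.exact_subtype_ker_map p.toLinearMap) hp) ξ).1 h2
  have h0 : μE ∘ₗ (LinearMap.ker p.toLinearMap).subtype.lTensor M = 0 :=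
    TensorProduct.ext' fun a e => hM a a.2 e e.2
  exact LinearMap.congr_fun h0 η

/-- A surjection onto `B` with square-zero kernel killed by `M` has a section. -/
theorem exists_section_of_flat [Module.Flat A B] (M : Ideal A) (hres : ∀ a : A, ∃ c : k, a - algebraMap k A c ∈ M)
    [Algebra.FormallySmooth k (B ⧸ M.map (algebraMap A B))]
    {E : Type u} [CommRing E] [Algebra A E] [Algebra k E] [IsScalarTower k A E] (p : E →ₐ[A] B)
    (hp : Function.Surjective p) (hME : ∀ a ∈ M, ∀ e, p e = 0 → a • e = 0)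
    (hsq : ∀ n n', p n = 0 → p n' = 0 → n * n' = 0) :
    ∃ G : B →ₐ[A] E, ∀ b, p (G b) = b := by
  let IE : Ideal E := M.map (algebraMap A E)
  let IB : Ideal B := M.map (algebraMap A B)
  have hcomp : p.toRingHom.comp (algebraMap A E) = algebraMap A B := RingHom.ext p.commutes
  have hmapE : IE.map p = IB := by
    show (M.map (algebraMap A E)).map p.toRingHom = _
    rw [Ideal.map_map, hcomp]
  have hle : IE ≤ IB.comap p := Ideal.map_le_iff_le_comap.1 hmapE.le
  let pbar : (E ⧸ IE) →ₐ[k] (B ⧸ IB) := Ideal.quotientMapₐ IB (p.restrictScalars k) hle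
  have hpbar : Function.Surjective pbar := fun z => by
    obtain ⟨b, rfl⟩ := Ideal.Quotient.mk_surjective z
    obtain ⟨e, rfl⟩ := hp b
    exact ⟨Ideal.Quotient.mk _ e, rfl⟩
  have hkerbar : ∀ z, pbar z = 0 → ∃ n, p n = 0 ∧ Ideal.Quotient.mk IE n = z := fun z hz => by
    obtain ⟨e, rfl⟩ := Ideal.Quotient.mk_surjective z
    have h1 : p e ∈ IB := Ideal.Quotient.eq_zero_iff_mem.1 hz
    rw [← hmapE] at h1
    obtain ⟨y, hy, hye⟩ := (Ideal.mem_map_iff_of_surjective _ hp).1 h1
    refine ⟨e - y, by rw [map_sub, hye, sub_self], ?_⟩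
    rw [map_sub, Ideal.Quotient.eq_zero_iff_mem.2 hy, sub_zero]
  have hnil : IsNilpotent (RingHom.ker (pbar : (E ⧸ IE) →+* B ⧸ IB)) := by
    refine ⟨2, le_bot_iff.1 ?_⟩
    rw [Submodule.pow_succ, Submodule.pow_one, Ideal.mul_le]
    intro z hz z' hz'
    obtain ⟨n, hn, rfl⟩ := hkerbar z hz
    obtain ⟨n', hn', rfl⟩ := hkerbar z' hz'
    rw [Ideal.mem_bot, ← map_mul, hsq n n' hn hn', map_zero]
  let s := Algebra.FormallySmooth.liftOfSurjective (AlgHom.id k (B ⧸ IB)) pbar hpbar hnil
  have hs : ∀ z, pbar (s z) = z := fun z =>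
    AlgHom.congr_fun (Algebra.FormallySmooth.comp_liftOfSurjective (AlgHom.id k (B ⧸ IB)) pbar hpbar hnil) z
  have hex : ∀ b, ∃ e, p e = b ∧ Ideal.Quotient.mk IE e = s (Ideal.Quotient.mk IB b) := fun b => by
    obtain ⟨e, rfl⟩ := hp b
    obtain ⟨n, hn, hn'⟩ := hkerbar (s (Ideal.Quotient.mk IB (p e)) - Ideal.Quotient.mk IE e) (by
      rw [map_sub, hs]; exact sub_self _)
    exact ⟨e + n, by rw [map_add, hn, add_zero], by rw [map_add, hn', add_sub_cancel]⟩
  have huniq : ∀ e e', p e = p e' → Ideal.Quotient.mk IE e = Ideal.Quotient.mk IE e' → e = e' :=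
    fun e e' h h' => sub_eq_zero.1 (eq_zero_of_mem_map_of_flat M p hp hME (Ideal.Quotient.eq.1 h')
      (by rw [map_sub, h, sub_self]))
  choose g hg₁ hg₂ using hex
  refine ⟨{ toFun := g
            map_one' := huniq _ _ (by rw [hg₁, map_one]) (by rw [hg₂]; simp)
            map_mul' := fun a b => huniq _ _ (by rw [hg₁, map_mul, hg₁, hg₁]) (by
              rw [hg₂, map_mul, map_mul, map_mul, hg₂, hg₂])
            map_zero' := huniq _ _ (by rw [hg₁, map_zero]) (by rw [hg₂]; simp)
            map_add' := fun a b => huniq _ _ (by rw [hg₁, map_add, hg₁, hg₁]) (by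
              rw [hg₂, map_add, map_add, map_add, hg₂, hg₂])
            commutes' := fun a => ?_ }, hg₁⟩
  refine huniq _ _ (by rw [hg₁, AlgHom.commutes]) ?_
  rw [hg₂]
  obtain ⟨c, hc⟩ := hres a
  have hB' : Ideal.Quotient.mk IB (algebraMap A B a) = algebraMap k (B ⧸ IB) c := by
    rw [IsScalarTower.algebraMap_apply k B (B ⧸ IB), Ideal.Quotient.algebraMap_eq,
      IsScalarTower.algebraMap_apply k A B, Ideal.Quotient.eq, ← map_sub]
    exact Ideal.mem_map_of_mem _ hc
  have hE' : Ideal.Quotient.mk IE (algebraMap A E a) = algebraMap k (E ⧸ IE) c := by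
    rw [IsScalarTower.algebraMap_apply k E (E ⧸ IE), Ideal.Quotient.algebraMap_eq,
      IsScalarTower.algebraMap_apply k A E, Ideal.Quotient.eq, ← map_sub]
    exact Ideal.mem_map_of_mem _ hc
  rw [hB', AlgHom.commutes]
  exact hE'.symm

/-- Lifting along a surjection whose square-zero kernel is killed by `M`. -/
theorem exists_lift_of_flat_of_formallySmooth [Module.Flat A B] (M : Ideal A)
    (hres : ∀ a : A, ∃ c : k, a - algebraMap k A c ∈ M)
    [Algebra.FormallySmooth k (B ⧸ M.map (algebraMap A B))]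
    {C C' : Type u} [CommRing C] [Algebra A C] [CommRing C'] [Algebra A C'] (π : C →ₐ[A] C')
    (hπ : Function.Surjective π) (hsq : ∀ x y, π x = 0 → π y = 0 → x * y = 0)
    (hM : ∀ a ∈ M, ∀ x, π x = 0 → a • x = 0) (φ : B →ₐ[A] C') :
    ∃ ψ : B →ₐ[A] C, π.comp ψ = φ := by
  let E : Subalgebra A (B × C) :=
    AlgHom.equalizer (φ.comp (AlgHom.fst A B C)) (π.comp (AlgHom.snd A B C))
  have hE : ∀ x : B × C, x ∈ E ↔ φ x.1 = π x.2 := fun x => Iff.rfl
  let p : E →ₐ[A] B := (AlgHom.fst A B C).comp E.val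
  have hp : Function.Surjective p := fun b => by
    obtain ⟨c, hc⟩ := hπ (φ b)
    exact ⟨⟨(b, c), (hE _).2 hc.symm⟩, rfl⟩
  have hker : ∀ e : E, p e = 0 → π e.1.2 = 0 := fun e he => by
    have he' : e.1.1 = 0 := he
    rw [← (hE _).1 e.2, he', map_zero]
  letI : Algebra k E := ((algebraMap A E).comp (algebraMap k A)).toAlgebra
  haveI : IsScalarTower k A E := IsScalarTower.of_algebraMap_eq' rfl
  obtain ⟨G, hG⟩ := exists_section_of_flat M hres p hp
    (fun a ha e he => by
      refine Subtype.ext (Prod.ext ?_ ?_)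
      · show a • e.1.1 = 0
        rw [show e.1.1 = 0 from he, smul_zero]
      · exact hM a ha _ (hker e he))
    (fun n n' hn hn' => Subtype.ext (Prod.ext
      (by show n.1.1 * n'.1.1 = 0; rw [show n.1.1 = 0 from hn, zero_mul])
      (hsq _ _ (hker n hn) (hker n' hn'))))
  refine ⟨((AlgHom.snd A B C).comp E.val).comp G, AlgHom.ext fun b => ?_⟩
  refine Eq.trans ((hE _).1 (G b).2).symm ?_
  exact congrArg φ (hG b)

set_option maxHeartbeats 600000 in
/-- A flat algebra with formally smooth closed fibre over a nilpotent ideal is formally smooth. -/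
theorem formallySmooth_of_flat_of_closedFibre [Module.Flat A B] (M : Ideal A) (hMnil : IsNilpotent M)
    (hres : ∀ a : A, ∃ c : k, a - algebraMap k A c ∈ M)
    [Algebra.FormallySmooth k (B ⧸ M.map (algebraMap A B))] : Algebra.FormallySmooth A B := by
  refine Algebra.FormallySmooth.of_comp_surjective fun C _ _ N hN φ => ?_
  obtain ⟨n, hn⟩ := hMnil
  obtain ⟨J, hJ⟩ : ∃ J : ℕ → Ideal C, ∀ i, J i = (M ^ i).map (algebraMap A C) * N := ⟨_, fun i => rfl⟩
  have hJ0 : J 0 = N := by simp [hJ, Ideal.map_top]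
  have hJn : J n = ⊥ := by simp [hJ, hn]
  have hmono : ∀ i, J (i + 1) ≤ J i := fun i => by
    rw [hJ, hJ]; exact Ideal.mul_mono_left (Ideal.map_mono (Ideal.pow_le_pow_right i.le_succ))
  have hJN : ∀ i, J i ≤ N := fun i => by rw [hJ]; exact Ideal.mul_le.2 fun a _ b hb => N.mul_mem_left a hb
  have key : ∀ i, ∃ ψ : B →ₐ[A] C ⧸ J i, (Ideal.Quotient.factorₐ A (hJN i)).comp ψ = φ := by
    intro i
    induction i with
    | zero =>
      refine ⟨(Ideal.Quotient.factorₐ A hJ0.ge).comp φ, AlgHom.ext fun b => ?_⟩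
      obtain ⟨c, hc⟩ := Ideal.Quotient.mk_surjective (φ b)
      simp only [AlgHom.comp_apply, ← hc]
      rfl
    | succ i ih =>
      obtain ⟨ψ, hψ⟩ := ih
      obtain ⟨ψ', hψ'⟩ := exists_lift_of_flat_of_formallySmooth M hres
        (Ideal.Quotient.factorₐ A (hmono i)) (Ideal.Quotient.factor_surjective (hmono i))
        (fun x y hx hy => by
          obtain ⟨x, rfl⟩ := Ideal.Quotient.mk_surjective x
          obtain ⟨y, rfl⟩ := Ideal.Quotient.mk_surjective y
          have h := Ideal.mul_mem_mul (hJN i (Ideal.Quotient.eq_zero_iff_mem.1 hx))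
            (hJN i (Ideal.Quotient.eq_zero_iff_mem.1 hy))
          rw [← pow_two, hN, Ideal.mem_bot] at h
          rw [← map_mul, h, map_zero])
        (fun a ha x hx => by
          obtain ⟨x, rfl⟩ := Ideal.Quotient.mk_surjective x
          rw [Algebra.smul_def, ← Ideal.Quotient.mk_algebraMap, ← map_mul, Ideal.Quotient.eq_zero_iff_mem]
          rw [hJ]
          rw [pow_succ', Ideal.map_mul, mul_assoc]
          exact Ideal.mul_mem_mul (Ideal.mem_map_of_mem _ ha) ((hJ i).le (Ideal.Quotient.eq_zero_iff_mem.1 hx)))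
        ψ
      refine ⟨ψ', AlgHom.ext fun b => ?_⟩
      rw [← hψ, ← hψ']
      obtain ⟨c, hc⟩ := Ideal.Quotient.mk_surjective (ψ' b)
      simp only [AlgHom.comp_apply, ← hc]
      rfl
  obtain ⟨ψ, hψ⟩ := key n
  let e : (C ⧸ J n) ≃ₐ[A] C := (Ideal.quotientEquivAlgOfEq A hJn).trans (AlgEquiv.quotientBot A C)
  refine ⟨e.toAlgHom.comp ψ, AlgHom.ext fun b => ?_⟩
  rw [← hψ]
  obtain ⟨c, hc⟩ := Ideal.Quotient.mk_surjective (ψ b)
  simp only [AlgHom.comp_apply, ← hc]
  rfl

/-- An algebra endomorphism congruent to the identity modulo a multiple of `t` killed squared is bijective. -/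
theorem bijective_of_sub_mem_span {B' : Type u} [CommRing B'] [Algebra A B'] (t : A) (ht : t * t = 0)
    (e : B' →ₐ[A] B') (he : ∀ b, e b - b ∈ Ideal.span {algebraMap A B' t}) : Function.Bijective e := by
  have h2 : ∀ b, e (e b - b) = e b - b := fun b => by
    obtain ⟨c, hc⟩ := Ideal.mem_span_singleton'.1 (he b)
    obtain ⟨d, hd⟩ := Ideal.mem_span_singleton'.1 (he c)
    rw [← hc, map_mul, AlgHom.commutes, ← sub_eq_zero, ← sub_mul, ← hd, mul_assoc, ← map_mul, ht,
      map_zero, mul_zero]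
  refine ⟨(injective_iff_map_eq_zero e).2 fun b hb => ?_, fun b => ⟨b - (e b - b), ?_⟩⟩
  · have := h2 b
    rw [hb, zero_sub, map_neg, hb, neg_zero] at this
    exact neg_eq_zero.1 this.symm
  · rw [map_sub, h2]; abel

end Groth.Agent.Lib.ArtinFun
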