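import Groth.Agent.Lib.ArtinFun.LocalHilbRS
import Groth.Agent.Lib.ArtinFun.CompletionLocal
import Groth.Prelude.Def_FGA
import Mathlib.AlgebraicGeometry.Stalk
import Mathlib.AlgebraicGeometry.Morphisms.Proper

/-!
# The local ring of the Hilbert scheme at a point prorepresents the local Hilbert functor
-/

noncomputable section

universe u

open CategoryTheory CategoryTheory.Limits AlgebraicGeometry ArtFun ArtFun.Art

namespace Groth.Agent.Lib.ArtinFun.HilbBridge

variable {k : Type u} [Field k]

section Pointed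

variable {H : Over (Spec (CommRingCat.of k))} (h : Over.mk (𝟙 (Spec (CommRingCat.of k))) ⟶ H)

/-- The point. -/
def pt : H.left := h.left (IsLocalRing.closedPoint k)

/-- The local ring at the point. -/
def Stalk : Type u := H.left.presheaf.stalk (pt h)

instance : CommRing (Stalk h) := inferInstanceAs (CommRing (H.left.presheaf.stalk (pt h)))
instance : IsLocalRing (Stalk h) := inferInstanceAs (IsLocalRing (H.left.presheaf.stalk (pt h)))

/-- The structure map of the local ring. -/
def structMap : CommRingCat.of k ⟶ H.left.presheaf.stalk (pt h) :=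
  (Scheme.ΓSpecIso (CommRingCat.of k)).inv ≫ H.hom.appTop ≫ H.left.presheaf.germ ⊤ (pt h) trivial

instance : Algebra k (Stalk h) := (structMap h).hom.toAlgebra

lemma fromSpecStalk_hom :
    H.left.fromSpecStalk (pt h) ≫ H.hom = Spec.map (structMap h) := by
  have h1 : (H.left.fromSpecStalk (pt h) ≫ H.hom) ≫ (Spec (CommRingCat.of k)).toSpecΓ =
      Spec.map (structMap h) ≫ (Spec (CommRingCat.of k)).toSpecΓ := by
    rw [Category.assoc, Scheme.toSpecΓ_naturality, ← Category.assoc, Scheme.fromSpecStalk_toSpecΓ,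
      ← SpecMap_ΓSpecIso_hom (CommRingCat.of k), ← Spec.map_comp, ← Spec.map_comp, structMap]
    congr 1
    rw [Iso.hom_inv_id_assoc]
  haveI : IsIso (Spec (CommRingCat.of k)).toSpecΓ := inferInstance
  exact (cancel_mono _).1 h1

/-- The augmentation as a morphism. -/
def resHom : H.left.presheaf.stalk (pt h) ⟶ CommRingCat.of k :=
  Scheme.stalkClosedPointTo (R := CommRingCat.of k) h.left

lemma map_resHom : Spec.map (resHom h) ≫ H.left.fromSpecStalk (pt h) = h.left :=
  Scheme.Spec_stalkClosedPointTo_fromSpecStalk (R := CommRingCat.of k) h.left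

lemma structMap_resHom : structMap h ≫ resHom h = 𝟙 _ := by
  apply Spec.map_injective
  rw [Spec.map_comp, Spec.map_id, ← fromSpecStalk_hom, ← Category.assoc, map_resHom]
  exact Over.w h

/-- The augmentation. -/
def resR : Stalk h →ₐ[k] k where
  toRingHom := (resHom h).hom
  commutes' c := congr($(structMap_resHom h) c)

variable {h} {A B : Art k k}

/-- The underlying morphism of an algebra map. -/
def toHom (φ : HomSet (Stalk h) (resR h) A) : H.left.presheaf.stalk (pt h) ⟶ CommRingCat.of A :=
  CommRingCat.ofHom (φ.1.toRingHom)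

/-- The morphism `Spec A ⟶ H` of an algebra map. -/
def gOf (φ : HomSet (Stalk h) (resR h) A) : Over.mk (specOver A) ⟶ H :=
  Over.homMk (Spec.map (toHom φ) ≫ H.left.fromSpecStalk (pt h)) (by
    show (Spec.map (toHom φ) ≫ H.left.fromSpecStalk (pt h)) ≫ H.hom = specOver A
    rw [Category.assoc, fromSpecStalk_hom, ← Spec.map_comp]
    show _ = Spec.map _
    congr 1
    exact CommRingCat.hom_ext (RingHom.ext fun c => φ.1.commutes c))

lemma gOf_map (f : A ⟶ B) (φ : HomSet (Stalk h) (resR h) A) :
    gOf (HomSet.map f φ) = Over.homMk (specMap f) (specOver_comp f) ≫ gOf φ := by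
  apply Over.OverMorphism.ext
  show Spec.map (toHom (HomSet.map f φ)) ≫ _ = Spec.map _ ≫ Spec.map (toHom φ) ≫ _
  rw [← Spec.map_comp_assoc]
  rfl

lemma specRes_gOf (φ : HomSet (Stalk h) (resR h) A) : specRes A ≫ (gOf φ).left = h.left := by
  show Spec.map _ ≫ Spec.map (toHom φ) ≫ _ = _
  rw [← Spec.map_comp_assoc]
  refine Eq.trans ?_ (map_resHom h)
  congr 2
  exact CommRingCat.hom_ext (RingHom.ext fun r => AlgHom.congr_fun φ.2 r)

lemma gOf_injective : Function.Injective (gOf (h := h) (A := A)) := by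
  intro φ ψ e
  have e1 : Spec.map (toHom φ) ≫ H.left.fromSpecStalk (pt h) =
      Spec.map (toHom ψ) ≫ H.left.fromSpecStalk (pt h) := congrArg CommaMorphism.left e
  have e2 : toHom φ = toHom ψ := Spec.map_injective ((cancel_mono _).1 e1)
  exact Subtype.ext (AlgHom.ext fun r => congr($e2 r))

lemma exists_gOf_eq (g : Over.mk (specOver A) ⟶ H) (hg : specRes A ≫ g.left = h.left) :
    ∃ φ : HomSet (Stalk h) (resR h) A, gOf φ = g := by
  have hp : (show spec A ⟶ H.left from g.left) (IsLocalRing.closedPoint A) = pt h := by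
    haveI : Subsingleton (spec A) := inferInstanceAs (Subsingleton (PrimeSpectrum A))
    unfold pt
    rw [← hg]
    exact congrArg (fun t => (show spec A ⟶ H.left from g.left) t) (Subsingleton.elim _ _)
  have key : ∀ q : H.left, q = pt h → (∃ ψ : H.left.presheaf.stalk q ⟶ CommRingCat.of A,
      Spec.map ψ ≫ H.left.fromSpecStalk q = g.left) →
      ∃ ψ : H.left.presheaf.stalk (pt h) ⟶ CommRingCat.of A,
        Spec.map ψ ≫ H.left.fromSpecStalk (pt h) = g.left := by
    rintro q rfl e
    exact e
  obtain ⟨ψ, hψ⟩ := key _ hp ⟨Scheme.stalkClosedPointTo (R := CommRingCat.of A) g.left,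
    Scheme.Spec_stalkClosedPointTo_fromSpecStalk (R := CommRingCat.of A) g.left⟩
  have halg : structMap h ≫ ψ = CommRingCat.ofHom (ofBase A).toAlgHom.toRingHom := by
    apply Spec.map_injective
    rw [Spec.map_comp, ← fromSpecStalk_hom, ← Category.assoc, hψ]
    exact Over.w g
  have hres : ψ ≫ CommRingCat.ofHom A.res.toRingHom = resHom h := by
    apply Spec.map_injective
    rw [← cancel_mono (H.left.fromSpecStalk (pt h)), Spec.map_comp, Category.assoc, hψ, map_resHom]
    exact hg
  exact ⟨⟨{ toRingHom := ψ.hom, commutes' := fun c => congr($halg c) },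
    AlgHom.ext fun r => congr($hres r)⟩, Over.OverMorphism.ext hψ⟩

end Pointed

section Hilb

variable {Y : Scheme.{u}} (y : Y ⟶ Spec (CommRingCat.of k))

lemma ker_iso_comp {X' X'' Z : Scheme.{u}} (e : X' ≅ X'') (f : X'' ⟶ Z) : (e.hom ≫ f).ker = f.ker :=
  le_antisymm (by
    have := Scheme.Hom.le_ker_comp e.inv (e.hom ≫ f)
    rwa [Iso.inv_hom_id_assoc] at this) (Scheme.Hom.le_ker_comp e.hom f)

/-- Pulling back closed subschemes is taking the inverse image ideal. -/
lemma hilbPull_eq {T T' : Over (Spec (CommRingCat.of k))} (g : T' ⟶ T)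
    (I : (PicF.XT y T).IdealSheafData) : FGA.hilbPull y g I = I.comap (PicF.XTmap y g) := by
  show (pullback.snd I.subschemeι (PicF.XTmap y g)).ker = (pullback.fst (PicF.XTmap y g) I.subschemeι).ker
  rw [← pullbackSymmetry_hom_comp_fst I.subschemeι (PicF.XTmap y g)]
  exact ker_iso_comp _ _

lemma XTmap_fst {T T' : Over (Spec (CommRingCat.of k))} (g : T' ⟶ T) :
    PicF.XTmap y g ≫ pullback.fst y T.hom = pullback.fst y T'.hom :=
  (pullback.lift_fst _ _ _).trans (Category.comp_id _)

lemma XTmap_snd {T T' : Over (Spec (CommRingCat.of k))} (g : T' ⟶ T) :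
    PicF.XTmap y g ≫ pullback.snd y T.hom = pullback.snd y T'.hom ≫ g.left :=
  pullback.lift_snd _ _ _

lemma XTmap_comp {T T' T'' : Over (Spec (CommRingCat.of k))} (g : T'' ⟶ T') (g' : T' ⟶ T) :
    PicF.XTmap y (g ≫ g') = PicF.XTmap y g ≫ PicF.XTmap y g' := by
  apply pullback.hom_ext
  · rw [Category.assoc, XTmap_fst, XTmap_fst, XTmap_fst]
  · rw [Category.assoc, XTmap_snd, XTmap_snd, ← Category.assoc, XTmap_snd, Category.assoc, Over.comp_left]

lemma isPullback_XTmap {T T' : Over (Spec (CommRingCat.of k))} (g : T' ⟶ T) :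
    IsPullback (PicF.XTmap y g) (PicF.XTproj y T') (PicF.XTproj y T) g.left := by
  refine IsPullback.of_right ?_ (pullback.lift_snd _ _ _) (IsPullback.of_hasPullback y T.hom)
  rw [show PicF.XTmap y g ≫ pullback.fst y T.hom = pullback.fst y T'.hom from
    (pullback.lift_fst _ _ _).trans (Category.comp_id _), Over.w g]
  exact IsPullback.of_hasPullback y T'.hom

lemma flat_hilbPull {T T' : Over (Spec (CommRingCat.of k))} (g : T' ⟶ T)
    (I : (PicF.XT y T).IdealSheafData) (hI : Flat (I.subschemeι ≫ PicF.XTproj y T)) :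
    Flat ((FGA.hilbPull y g I).subschemeι ≫ PicF.XTproj y T') := by
  rw [hilbPull_eq]
  have sq : IsPullback (pullback.snd (PicF.XTmap y g) I.subschemeι)
      (pullback.fst (PicF.XTmap y g) I.subschemeι ≫ PicF.XTproj y T')
      (I.subschemeι ≫ PicF.XTproj y T) g.left :=
    IsPullback.paste_vert (IsPullback.of_hasPullback (PicF.XTmap y g) I.subschemeι).flip (isPullback_XTmap y g)
  have hfl : Flat (pullback.fst (PicF.XTmap y g) I.subschemeι ≫ PicF.XTproj y T') :=
    MorphismProperty.of_isPullback (P := @Flat) sq hI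
  rw [← Scheme.IdealSheafData.comapIso_hom_fst, Category.assoc]
  exact (MorphismProperty.cancel_left_of_respectsIso @Flat (I.comapIso (PicF.XTmap y g)).hom _).2 hfl

variable [IsProper y] {H : Over (Spec (CommRingCat.of k))} (Z : FGA.HilbSet y H)
  (h : Over.mk (𝟙 (Spec (CommRingCat.of k))) ⟶ H) (I₀ : Y.IdealSheafData)
  (hh : FGA.hilbPull y h Z.1 = I₀.comap (pullback.fst y (Over.mk (𝟙 (Spec (CommRingCat.of k)))).hom))

/-- The closed fibre as a pull-back along the point. -/
def pointIncl : Y ⟶ PicF.XT y (Over.mk (𝟙 (Spec (CommRingCat.of k)))) :=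
  pullback.lift (𝟙 Y) y ((Category.id_comp y).trans (Category.comp_id y).symm)

omit [IsProper y] in
lemma XAincl_XTmap {A : Art k k} (g : Over.mk (specOver A) ⟶ H) (hg : specRes A ≫ g.left = h.left) :
    XAincl y A ≫ PicF.XTmap y g = pointIncl y ≫ PicF.XTmap y h := by
  apply pullback.hom_ext
  · rw [Category.assoc, Category.assoc, XTmap_fst, XTmap_fst]
    exact (pullback.lift_fst _ _ _).trans (pullback.lift_fst _ _ _).symm
  · rw [Category.assoc, Category.assoc, XTmap_snd, XTmap_snd, ← Category.assoc, ← Category.assoc]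
    erw [pullback.lift_snd, pullback.lift_snd]
    rw [Category.assoc, hg]

include hh in
omit [IsProper y] in
lemma comap_pointIncl : (Z.1.comap (PicF.XTmap y h)).comap (pointIncl y) = I₀ := by
  rw [← hilbPull_eq, hh, ← Scheme.IdealSheafData.comap_comp,
    show pointIncl y ≫ pullback.fst y (Over.mk (𝟙 (Spec (CommRingCat.of k)))).hom = 𝟙 Y from
      pullback.lift_fst _ _ _, Scheme.IdealSheafData.comap_id]

include hh in
/-- **The stalk prorepresents the local Hilbert functor.** -/
theorem exists_universal_family (hH : FGA.HilbRepresentedBy y H Z) :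
    ∃ ξ : Family (Stalk h) (resR h) (localHilb Y y I₀), IsUniversal ξ := by
  have hfib : ∀ {A : Art k k} (g : Over.mk (specOver A) ⟶ H), specRes A ≫ g.left = h.left →
      (FGA.hilbPull y g Z.1).comap (XAincl y A) = I₀ := fun {A} g hg => by
    rw [hilbPull_eq, ← Scheme.IdealSheafData.comap_comp, XAincl_XTmap y h g hg,
      Scheme.IdealSheafData.comap_comp, comap_pointIncl y Z h I₀ hh]
  let ξ : Family (Stalk h) (resR h) (localHilb Y y I₀) :=
    { app := fun A φ => ⟨FGA.hilbPull y (gOf φ) Z.1, flat_hilbPull y _ _ Z.2.2,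
        hfib _ (specRes_gOf φ)⟩
      natural := fun {A B} f φ => Subtype.ext (by
        show FGA.hilbPull y (gOf (HomSet.map f φ)) Z.1 = (FGA.hilbPull y (gOf φ) Z.1).comap (XAmap y f)
        rw [hilbPull_eq, hilbPull_eq, gOf_map, XTmap_comp, Scheme.IdealSheafData.comap_comp]
        rfl) }
  refine ⟨ξ, fun A => ?_⟩
  haveI : IsNoetherianRing A := inferInstance
  haveI : IsLocallyNoetherian (Over.mk (specOver A)).left := inferInstanceAs (IsLocallyNoetherian (spec A))
  have hprop : ∀ J : (XA y A).IdealSheafData, IsProper (J.subschemeι ≫ XApr y A) := fun J => by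
    haveI : IsProper (XApr y A) := inferInstanceAs (IsProper (pullback.snd y (specOver A)))
    infer_instance
  refine ⟨fun φ ψ e => gOf_injective ?_, fun J => ?_⟩
  · obtain ⟨g, -, huniq⟩ := hH.2 (Over.mk (specOver A))
      ⟨FGA.hilbPull y (gOf φ) Z.1, hprop _, flat_hilbPull y _ _ Z.2.2⟩
    exact (huniq _ rfl).trans (huniq _ (congrArg Subtype.val e).symm).symm
  · obtain ⟨g, hg, -⟩ := hH.2 (Over.mk (specOver A)) ⟨J.1, hprop _, J.2.1⟩
    let gk : Over.mk (𝟙 (Spec (CommRingCat.of k))) ⟶ Over.mk (specOver A) :=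
      Over.homMk (specRes A) (by
        show specRes A ≫ specMap (ofBase A) = 𝟙 _
        rw [← Category.id_comp (specRes A ≫ _), specRes_comp]
        exact comp_specRes_base (𝟙 _))
    haveI : IsLocallyNoetherian (Over.mk (𝟙 (Spec (CommRingCat.of k)))).left :=
      inferInstanceAs (IsLocallyNoetherian (Spec (CommRingCat.of k)))
    have hk : gk ≫ g = h := by
      have hpk : IsProper ((FGA.hilbPull y h Z.1).subschemeι ≫
          PicF.XTproj y (Over.mk (𝟙 (Spec (CommRingCat.of k))))) := by
        haveI : IsProper (PicF.XTproj y (Over.mk (𝟙 (Spec (CommRingCat.of k))))) :=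
          inferInstanceAs (IsProper (pullback.snd y (Over.mk (𝟙 (Spec (CommRingCat.of k)))).hom))
        infer_instance
      obtain ⟨g₀, -, huniq⟩ := hH.2 (Over.mk (𝟙 (Spec (CommRingCat.of k))))
        ⟨FGA.hilbPull y h Z.1, hpk, flat_hilbPull y _ _ Z.2.2⟩
      refine (huniq _ ?_).trans (huniq _ rfl).symm
      show FGA.hilbPull y (gk ≫ g) Z.1 = FGA.hilbPull y h Z.1
      rw [hilbPull_eq, XTmap_comp, Scheme.IdealSheafData.comap_comp, ← hilbPull_eq y g, hg, hh]
      have hfst : pullback.fst y (Over.mk (𝟙 (Spec (CommRingCat.of k)))).hom ≫ XAincl y A =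
          PicF.XTmap y gk := by
        apply pullback.hom_ext
        · refine Eq.trans ?_ (XTmap_fst y gk).symm
          rw [Category.assoc]
          erw [pullback.lift_fst, Category.comp_id]
        · refine Eq.trans ?_ (XTmap_snd y gk).symm
          rw [Category.assoc]
          erw [pullback.lift_snd]
          rw [← Category.assoc, pullback.condition]
          simp [gk]
      rw [← hfst, Scheme.IdealSheafData.comap_comp]
      show (Scheme.IdealSheafData.comap (Subtype.val J) (XAincl y A)).comap _ = _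
      exact congrArg (fun I : Y.IdealSheafData => I.comap (pullback.fst y (Over.mk (𝟙 (Spec (CommRingCat.of k)))).hom)) J.2.2
    obtain ⟨φ, hφ⟩ := exists_gOf_eq g (congrArg CommaMorphism.left hk)
    refine ⟨φ, Subtype.ext ?_⟩
    show FGA.hilbPull y (gOf φ) Z.1 = J.1
    rw [hφ]
    exact hg

end Hilb

end Groth.Agent.Lib.ArtinFun.HilbBridge
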