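import Groth.Agent.Lib.ArtinFun.Obstruction
import Groth.Agent.Lib.ArtinFun.SqZero
import Groth.Agent.Lib.ArtinFun.SmoothAdic
import Groth.Agent.Lib.Regular.Quotient
import Groth.Agent.H24.PowerSeries
import Mathlib.RingTheory.RegularLocalRing.Polynomial
import Mathlib.RingTheory.EssentialFiniteness

/-!
# Presentations by smooth regular algebras
-/

universe u v

open CategoryTheory ArtFun

set_option linter.style.haveILetI false

namespace Groth.Agent.Lib.ArtinFun

variable {k : Type u} [Field k]

/-- A class outside the square of the maximal ideal is seen by a map to the dual numbers. -/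
theorem exists_dual_of_notMem_sq {P : Type u} [CommRing P] [IsLocalRing P] [IsNoetherianRing P]
    [Algebra k P] (resP : P →ₐ[k] k) {y : P} (hy : y ∈ IsLocalRing.maximalIdeal P)
    (hy2 : y ∉ IsLocalRing.maximalIdeal P ^ 2) :
    ∃ v : HomSet P resP (Art.dual k k), TrivSqZeroExt.snd (v.1 y) = (1 : k) := by
  obtain ⟨C, π, hπs, hπk⟩ := exists_art_quot resP (IsLocalRing.maximalIdeal P ^ 2)
    (Ideal.pow_le_self two_ne_zero) (N := 2) le_rfl
  have hE : IsLocalRing.maximalIdeal C ^ 2 = ⊥ := by
    rw [← le_bot_iff, pow_two, Ideal.mul_le]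
    intro a ha b hb
    obtain ⟨a, rfl⟩ := hπs a
    obtain ⟨b, rfl⟩ := hπs b
    rw [Art.mem_maximalIdeal_iff, homSet_res, res_eq_zero_iff_mem] at ha hb
    rw [Ideal.mem_bot, ← map_mul, hπk, pow_two]
    exact Ideal.mul_mem_mul ha hb
  obtain ⟨δ, -, hδ⟩ := exists_coord_hom (ofBaseHom C) hE (K := ⊥) bot_le (t := π.1 y)
    (homSet_mem_maximalIdeal resP π hy) (fun h => hy2 ((hπk y).1 (Ideal.mem_bot.1 h)))
  exact ⟨HomSet.map δ π, hδ⟩

/-- A quotient of a smooth algebra by an element outside the square of the maximal ideal is smooth. -/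
theorem isSmoothFunctor_quot {P : Type u} [CommRing P] [IsLocalRing P] [IsNoetherianRing P]
    [Algebra k P] (resP : P →ₐ[k] k) (hlift : IsSmoothFunctor (hR P resP)) {P₁ : Type u} [CommRing P₁]
    [Algebra k P₁] (resP₁ : P₁ →ₐ[k] k) (g : P →ₐ[k] P₁) (hg : Function.Surjective g)
    (hgres : resP₁.comp g = resP) {y : P} (hy : y ∈ IsLocalRing.maximalIdeal P)
    (hy2 : y ∉ IsLocalRing.maximalIdeal P ^ 2) (hker : RingHom.ker g = Ideal.span {y}) :
    IsSmoothFunctor (hR P₁ resP₁) := by
  obtain ⟨v, hv⟩ := exists_dual_of_notMem_sq resP hy hy2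
  let D : P → k := fun x => TrivSqZeroExt.snd (v.1 x)
  have hDmul : ∀ a b, D (a * b) = resP a * D b + resP b * D a := fun a b => by
    change TrivSqZeroExt.snd (v.1 (a * b)) = _
    rw [map_mul, dual_snd_mul,
      show TrivSqZeroExt.fst (v.1 a) = resP a from homSet_res (A := Art.dual k k) v a,
      show TrivSqZeroExt.fst (v.1 b) = resP b from homSet_res (A := Art.dual k k) v b]
  have hDadd : ∀ a b, D (a + b) = D a + D b := fun a b => by
    change TrivSqZeroExt.snd (v.1 (a + b)) = _
    rw [map_add, dual_snd_add]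
  have hDalg : ∀ c : k, D (algebraMap k P c) = 0 := fun c => by
    change TrivSqZeroExt.snd (v.1 (algebraMap k P c)) = _
    rw [AlgHom.commutes]
    change TrivSqZeroExt.snd (algebraMap k (TrivSqZeroExt k k) c) = 0
    rw [TrivSqZeroExt.algebraMap_eq_inl']
    rfl
  intro B A μ hμ
  refine surjective_induction (fun A B (μ : B ⟶ A) => Function.Surjective ((hR P₁ resP₁).map μ))
    ?_ ?_ ?_ μ hμ
  · exact fun A B e he => (bijective_map_of_isIso _ e).2
  · intro A B μ hμ φ
    change HomSet P₁ resP₁ A at φ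
    obtain ⟨ψ₀, hψ⟩ := hlift μ hμ.1 (⟨φ.1.comp g, by rw [← AlgHom.comp_assoc, φ.2, hgres]⟩ : HomSet P resP A)
    let ψ : HomSet P resP B := ψ₀
    have hψμ : ∀ x, μ (ψ.1 x) = φ.1 (g x) := fun x => AlgHom.congr_fun (congrArg Subtype.val hψ) x
    set w := ψ.1 y
    have hw : μ w = 0 := by
      rw [hψμ, RingHom.mem_ker.1 (hker.symm ▸ Ideal.mem_span_singleton_self y : y ∈ RingHom.ker g), map_zero]
    have hsm : ∀ a : B, a * w = B.res a • w := fun a => by
      have h0 : (a - algebraMap k B (B.res a)) * w = 0 :=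
        IsSemismallExt.mul_eq_zero hμ.isSemismallExt
          (by rw [Art.mem_maximalIdeal_iff, map_sub, AlgHom.commutes]; simp) hw
      rw [Algebra.smul_def, ← sub_eq_zero, ← sub_mul, h0]
    have hww : w * w = 0 :=
      IsSemismallExt.mul_eq_zero hμ.isSemismallExt (ker_le_maximalIdeal μ ((mem_ker μ w).2 hw)) hw
    let ψ₁ : P →ₐ[k] B :=
      { toFun := fun x => ψ.1 x - D x • w
        map_one' := by
          rw [map_one, show D 1 = 0 from (map_one (algebraMap k P)) ▸ hDalg 1, zero_smul, sub_zero]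
        map_mul' := fun a b => by
          rw [map_mul, hDmul, add_smul, mul_smul, mul_smul]
          have e1 : ψ.1 a * (D b • w) = resP a • (D b • w) := by
            rw [mul_smul_comm, hsm, homSet_res, smul_comm]
          have e2 : (D a • w) * ψ.1 b = resP b • (D a • w) := by
            rw [smul_mul_assoc, mul_comm, hsm, homSet_res, smul_comm]
          have e3 : (D a • w) * (D b • w) = 0 := by rw [smul_mul_smul_comm, hww, smul_zero]
          linear_combination e1 + e2 - e3
        map_zero' := by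
          rw [map_zero, show D 0 = 0 from (map_zero (algebraMap k P)) ▸ hDalg 0, zero_smul, sub_zero]
        map_add' := fun a b => by rw [map_add, hDadd, add_smul]; abel
        commutes' := fun c => by rw [AlgHom.commutes, hDalg, zero_smul, sub_zero] }
    have hψ₁y : ψ₁ y = 0 := by
      change ψ.1 y - D y • w = 0
      rw [show D y = 1 from hv, one_smul, sub_self]
    obtain ⟨χ, hχ⟩ := comp_lift_eq g hg ψ₁ fun x hx => by
      obtain ⟨c, rfl⟩ := Ideal.mem_span_singleton'.1 (hker ▸ RingHom.mem_ker.2 hx)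
      rw [map_mul, hψ₁y, mul_zero]
    have hμw : ∀ c : k, μ (c • w) = 0 := fun c => by rw [map_smul, hw, smul_zero]
    refine ⟨⟨χ, AlgHom.ext fun r => ?_⟩, homSet_ext' fun r => ?_⟩
    · obtain ⟨x, rfl⟩ := hg r
      rw [AlgHom.comp_apply, hχ, ← Art.res_app μ]
      change A.res (μ (ψ.1 x - D x • w)) = _
      rw [map_sub, hμw, sub_zero, hψμ, homSet_res]
    · obtain ⟨x, rfl⟩ := hg r
      change μ (χ (g x)) = _
      rw [hχ]
      change μ (ψ.1 x - D x • w) = _
      rw [map_sub, hμw, sub_zero, hψμ]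
  · intro A A₁ A₂ p q h₁ h₂ φ
    obtain ⟨ψ, rfl⟩ := h₂ φ
    obtain ⟨χ, rfl⟩ := h₁ ψ
    exact ⟨χ, rfl⟩

/-- A presentation by a smooth regular algebra with relations in the square of the maximal ideal. -/
theorem exists_reduced_presentation {R : Type u} [CommRing R] [Algebra k R] (resR : R →ₐ[k] k) :
    ∀ (n : ℕ) (P : Type u) [CommRing P] [Algebra k P] [IsRegularLocalRing P] (resP : P →ₐ[k] k)
      (q : P →ₐ[k] R), (IsLocalRing.maximalIdeal P).spanFinrank = n →
      IsSmoothFunctor (hR P resP) → Function.Surjective q → resR.comp q = resP →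
      ∃ (P₀ : Type u) (_ : CommRing P₀) (_ : Algebra k P₀) (_ : IsRegularLocalRing P₀)
        (resP₀ : P₀ →ₐ[k] k) (q₀ : P₀ →ₐ[k] R), IsSmoothFunctor (hR P₀ resP₀) ∧
        Function.Surjective q₀ ∧ resR.comp q₀ = resP₀ ∧
        RingHom.ker q₀ ≤ IsLocalRing.maximalIdeal P₀ ^ 2 := by
  intro n
  induction n using Nat.strong_induction_on with
  | _ n ih =>
    intro P _ _ _ resP q hn hlift hq hqres
    by_cases hJ : RingHom.ker q ≤ IsLocalRing.maximalIdeal P ^ 2
    · exact ⟨P, inferInstance, inferInstance, inferInstance, resP, q, hlift, hq, hqres, hJ⟩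
    obtain ⟨y, hy, hy2⟩ := SetLike.not_le_iff_exists.1 hJ
    have hym : y ∈ IsLocalRing.maximalIdeal P := by
      rw [← res_eq_zero_iff_mem resP, ← hqres, AlgHom.comp_apply, RingHom.mem_ker.1 hy, map_zero]
    obtain ⟨hreg, hdim, -⟩ := Groth.Agent.Lib.Regular.Quotient.quotient_singleton hym hy2
    haveI := hreg
    let g : P →ₐ[k] P ⧸ Ideal.span {y} := Ideal.Quotient.mkₐ k _
    have hle : Ideal.span {y} ≤ RingHom.ker q := by rwa [Ideal.span_singleton_le_iff_mem]
    let q₁ : P ⧸ Ideal.span {y} →ₐ[k] R := Ideal.Quotient.liftₐ _ q fun a ha => hle ha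
    let resP₁ : P ⧸ Ideal.span {y} →ₐ[k] k := resR.comp q₁
    have hgres : resP₁.comp g = resP := by
      rw [← hqres]; exact AlgHom.ext fun _ => rfl
    have hsm := isSmoothFunctor_quot resP hlift resP₁ g Ideal.Quotient.mk_surjective hgres hym hy2
      (Ideal.Quotient.mkₐ_ker k _)
    refine ih _ ?_ (P ⧸ Ideal.span {y}) resP₁ q₁ rfl hsm (fun r => ?_) rfl
    · rw [← IsRegularLocalRing.spanFinrank_maximalIdeal (R := P),
        ← IsRegularLocalRing.spanFinrank_maximalIdeal (R := P ⧸ Ideal.span {y}), hn] at hdim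
      have h : (IsLocalRing.maximalIdeal (P ⧸ Ideal.span {y})).spanFinrank + 1 = n := by exact_mod_cast hdim
      omega
    · obtain ⟨x, rfl⟩ := hq r
      exact ⟨g x, rfl⟩

/-- Power series rings over a field are smooth. -/
theorem exists_powerSeries_presentation (R : CRing k k) :
    ∃ (d : ℕ) (res : MvPowerSeries (Fin d) k →ₐ[k] k) (q : MvPowerSeries (Fin d) k →ₐ[k] R.carrier),
      IsSmoothFunctor (hR (MvPowerSeries (Fin d) k) res) ∧ Function.Surjective q ∧ R.res.comp q = res := by
  haveI : IsAdicComplete (IsLocalRing.maximalIdeal k) k := by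
    rw [IsLocalRing.maximalIdeal_eq_bot]
    infer_instance
  have hk : Function.Surjective (algebraMap k k) := fun c => ⟨c, rfl⟩
  obtain ⟨d, x, hx⟩ := Submodule.fg_iff_exists_fin_generating_family.1 (fg_maximalIdeal R)
  have hxres : ∀ i, R.res (x i) = 0 := fun i => (CRing.mem_maximalIdeal_iff R _).1
    (hx ▸ Submodule.subset_span ⟨i, rfl⟩)
  let i₀ : (baseCRing (Λ := k) hk).carrier →ₐ[k] R.carrier := Algebra.ofId k R.carrier
  have hi₀ : R.res.comp i₀ = (baseCRing (Λ := k) hk).res := AlgHom.ext fun c => R.res.commutes c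
  obtain ⟨q, hq, hqC, hqX⟩ := exists_algHom_ps (baseCRing (Λ := k) hk) R i₀ hi₀ x hxres
  let P := psCRing (baseCRing (Λ := k) hk) d
  haveI : IsPrecomplete (RingHom.ker P.res) P.carrier := by
    rw [ker_res_cRing]; exact isPrecomplete_cRing P
  refine ⟨d, psRes (baseCRing (Λ := k) hk) d, q, ?_,
    surjective_of_map_sup_sq R.res R.res_surjective P.res P.res_surjective (q : P.carrier →ₐ[k] R.carrier) hq
      (le_antisymm (sup_le ?_ (Ideal.pow_le_self two_ne_zero)) ?_), hq⟩
  · exact (isSmoothFunctor_iff_powerSeries (Λ := k) hk P).2 ⟨d, ⟨AlgEquiv.refl⟩⟩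
  · exact Ideal.map_le_iff_le_comap.2 fun f hf =>
      (CRing.mem_maximalIdeal_iff R _).2 ((AlgHom.congr_fun hq f).trans hf)
  · refine le_trans ?_ le_sup_left
    rw [← hx, Submodule.span_le]
    rintro _ ⟨i, rfl⟩
    rw [← hqX]
    exact Ideal.mem_map_of_mem _ (RingHom.mem_ker.2 (by
      change psRes (baseCRing (Λ := k) hk) d (MvPowerSeries.X i) = 0
      rw [psRes_apply, MvPowerSeries.constantCoeff_X, map_zero]))

/-- Local algebras essentially of finite type with rational residue field are presented by localised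
polynomial rings. -/
theorem exists_localized_presentation (R : Type u) [CommRing R] [IsLocalRing R] [Algebra k R]
    [Algebra.EssFiniteType k R] (res : R →ₐ[k] k) :
    ∃ (P : Type u) (_ : CommRing P) (_ : Algebra k P) (_ : IsRegularLocalRing P) (resP : P →ₐ[k] k)
      (q : P →ₐ[k] R), IsSmoothFunctor (hR P resP) ∧ Function.Surjective q ∧ res.comp q = resP := by
  classical
  let s := Algebra.EssFiniteType.finset k R
  let m := s.card
  let x : Fin m → R := fun i => (s.equivFin.symm i : R)
  let c : Fin m → k := fun i => res (x i)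
  let ev : MvPolynomial (Fin m) k →ₐ[k] k := MvPolynomial.aeval c
  let M : Ideal (MvPolynomial (Fin m) k) := RingHom.ker ev
  haveI hMmax : M.IsMaximal :=
    RingHom.ker_isMaximal_of_surjective ev.toRingHom fun a => ⟨MvPolynomial.C a, by simp [ev]⟩
  haveI : IsRegularLocalRing (Localization.AtPrime M) :=
    (isRegularRing_iff (R := MvPolynomial (Fin m) k)).1 inferInstance M
  have hunit : ∀ y, res y ≠ 0 → IsUnit y := fun y hy => by
    by_contra h
    exact hy ((res_eq_zero_iff res (fun a => ⟨algebraMap k R a, res.commutes a⟩) y).2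
      ((IsLocalRing.mem_maximalIdeal _).2 h))
  have hev : ∀ p, res (MvPolynomial.aeval x p) = ev p := fun p =>
    AlgHom.congr_fun (MvPolynomial.algHom_ext (f := res.comp (MvPolynomial.aeval x)) (g := ev) fun i => by
      simp [ev, c]) p
  let resP : Localization.AtPrime M →ₐ[k] k :=
    IsLocalization.liftAlgHom (M := M.primeCompl) (f := ev) fun p => isUnit_iff_ne_zero.2 fun h => p.2 h
  have hresP : ∀ p, resP (algebraMap _ _ p) = ev p := fun p => IsLocalization.lift_eq _ p
  let q : Localization.AtPrime M →ₐ[k] R :=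
    IsLocalization.liftAlgHom (M := M.primeCompl) (f := MvPolynomial.aeval x) fun p =>
      hunit _ (by rw [hev]; exact fun h => p.2 h)
  have hq : ∀ p, q (algebraMap _ _ p) = MvPolynomial.aeval x p := fun p => IsLocalization.lift_eq _ p
  have hqres : res.comp q = resP := IsLocalization.algHom_ext M.primeCompl (MvPolynomial.algHom_ext fun i => by
    change res (q (algebraMap _ _ _)) = resP (algebraMap _ _ _)
    rw [hq, hresP, hev])
  refine ⟨Localization.AtPrime M, inferInstance, inferInstance, inferInstance, resP, q, ?_, ?_, hqres⟩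
  · intro B A μ hμ φ
    change HomSet (Localization.AtPrime M) resP A at φ
    choose b hb using fun i : Fin m =>
      hμ (φ.1 (algebraMap (MvPolynomial (Fin m) k) (Localization.AtPrime M) (MvPolynomial.X i)))
    let f : MvPolynomial (Fin m) k →ₐ[k] B := MvPolynomial.aeval b
    have hfres : ∀ p : MvPolynomial (Fin m) k, B.res (f p) = ev p := fun p =>
      AlgHom.congr_fun (MvPolynomial.algHom_ext (f := B.res.comp f) (g := ev) fun i => by
        change B.res (f (MvPolynomial.X i)) = ev (MvPolynomial.X i)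
        rw [show f (MvPolynomial.X i) = b i from MvPolynomial.aeval_X _ _, ← Art.res_app μ, hb, homSet_res,
          hresP]) p
    let χ : Localization.AtPrime M →ₐ[k] B :=
      IsLocalization.liftAlgHom (M := M.primeCompl) (f := f) fun p =>
        (isUnit_iff_res _).2 (by rw [hfres]; exact fun h => p.2 h)
    have hχ : ∀ p, χ (algebraMap _ _ p) = f p := fun p => IsLocalization.lift_eq _ p
    refine ⟨⟨χ, IsLocalization.algHom_ext M.primeCompl (MvPolynomial.algHom_ext fun i => ?_)⟩,
      Subtype.ext (IsLocalization.algHom_ext M.primeCompl (MvPolynomial.algHom_ext fun i => ?_))⟩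
    · change B.res (χ (algebraMap _ _ _)) = resP (algebraMap _ _ _)
      rw [hχ, hfres, hresP]
    · change μ (χ (algebraMap _ _ _)) = φ.1 (algebraMap _ _ _)
      rw [hχ, show f (MvPolynomial.X i) = b i from MvPolynomial.aeval_X _ _, hb]
  · have hsub : ∀ a : Algebra.EssFiniteType.subalgebra k R,
        ∃ p : MvPolynomial (Fin m) k, MvPolynomial.aeval x p = (a : R) := by
      rintro ⟨a, ha⟩
      have hle : Algebra.EssFiniteType.subalgebra k R ≤ (MvPolynomial.aeval x).range := by
        refine Algebra.adjoin_le fun y hy => ?_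
        exact ⟨MvPolynomial.X (s.equivFin ⟨y, hy⟩), by simp [x]⟩
      exact hle ha
    intro r
    obtain ⟨⟨a, t⟩, hat⟩ := IsLocalization.surj (Algebra.EssFiniteType.submonoid k R) r
    obtain ⟨p, hp⟩ := hsub a
    obtain ⟨p', hp'⟩ := hsub t.1
    have ht : IsUnit ((t.1 : Algebra.EssFiniteType.subalgebra k R) : R) :=
      IsLocalization.map_units (M := Algebra.EssFiniteType.submonoid k R) R t
    have hp'M : p' ∈ M.primeCompl := fun h => by
      have hmem : (t.1 : R) ∈ IsLocalRing.maximalIdeal R :=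
        (res_eq_zero_iff res (fun a => ⟨algebraMap k R a, res.commutes a⟩) _).1 (by rw [← hp', hev]; exact h)
      exact (IsLocalRing.mem_maximalIdeal _).1 hmem ht
    refine ⟨IsLocalization.mk' _ p ⟨p', hp'M⟩, ht.mul_left_injective ?_⟩
    change q (IsLocalization.mk' _ p ⟨p', hp'M⟩) * (t.1 : R) = r * (t.1 : R)
    rw [← hp', ← hq p', ← map_mul, IsLocalization.mk'_spec (Localization.AtPrime M) p ⟨p', hp'M⟩, hq, hq, hp, hp']
    exact hat.symm

end Groth.Agent.Lib.ArtinFun
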