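import Groth.Agent.Lib.ArtinFun.LocalHilbGlue
import Groth.Agent.Lib.ArtinFun.DualIdeal
import Groth.Agent.Lib.ArtinFun.HomAffine
import Groth.Agent.Lib.ClSub.Sections
import Groth.Agent.Lib.ArtinFun.Tangent
import Groth.Prelude.Def_KLin

/-!
# The tangent space of the local Hilbert functor is `Hom(I, O/I)`
-/

noncomputable section

universe u

open CategoryTheory CategoryTheory.Limits AlgebraicGeometry ArtFun ArtFun.Art
open scoped TensorProduct

namespace Groth.Agent.Lib.ArtinFun.LocalHilbTangent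

open FlatIdealFP LocalHilbAffine LocalHilbGlue DualIdeal

variable {k : Type u} [Field k] {X : Scheme.{u}} (x : X ⟶ specPt k) (I₀ : X.IdealSheafData)

/-- The inclusion of the closed fibre on a chart. -/
def imap (A : Art k k) (U : X.affineOpens) : Γ(XA x A, (VA x U A).1) →+* Sec x U :=
  ((XAincl x A).appLE (VA x U A).1 U.1 (by
    show U.1 ≤ (XAincl x A ≫ pullback.fst x (specOver A)) ⁻¹ᵁ U.1
    rw [XAincl_fst]
    exact le_rfl)).hom

lemma imap_chart (A : Art k k) (U : X.affineOpens) (z : A ⊗[k] Sec x U) :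
    imap x A U (chart x U A z) = res0 (Sec x U) A z := by
  induction z with
  | zero => simp
  | add y z hy hz => simp only [map_add, hy, hz]
  | tmul a c =>
    rw [chart_tmul, map_mul, res0_tmul, Algebra.smul_def]
    refine congrArg₂ (· * ·) ?_ ?_
    · show ((Scheme.ΓSpecIso (CommRingCat.of A)).inv ≫ (XApr x A).appLE ⊤ (VA x U A).1 le_top ≫
        (XAincl x A).appLE (VA x U A).1 U.1 _).hom a =
          (CommRingCat.ofHom A.res.toRingHom ≫ (Scheme.ΓSpecIso (CommRingCat.of k)).inv ≫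
            x.appLE ⊤ U.1 le_top).hom a
      rw [Scheme.Hom.appLE_comp_appLE]
      simp only [XAincl_snd]
      rw [Scheme.ΓSpecIso_inv_naturality_assoc, Scheme.Hom.comp_appLE]
      rfl
    · show ((pullback.fst x (specOver A)).appLE U.1 (VA x U A).1 le_rfl ≫
        (XAincl x A).appLE (VA x U A).1 U.1 _).hom c = c
      rw [Scheme.Hom.appLE_comp_appLE]
      simp only [XAincl_fst]
      simp only [Scheme.Hom.appLE, Scheme.Hom.id_app]
      exact congr($(X.presheaf.map_id (Opposite.op U.1)) c)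

/-- The ideal of `I₀` over `U`. -/
def I0 (U : X.affineOpens) : Ideal (Sec x U) := I₀.ideal U

lemma ideal_comap_incl (A : Art k k) (U : X.affineOpens) (I : (XA x A).IdealSheafData) :
    I0 x (I.comap (XAincl x A)) U = (cI x U A I).map (res0 (Sec x U) A) := by
  have h1 : I.ideal (VA x U A) = (cI x U A I).map (chart x U A).toRingHom :=
    (Ideal.map_comap_of_surjective _ (chart x U A).surjective _).symm
  have h2 : (imap x A U).comp (chart x U A).toRingHom = res0 (Sec x U) A :=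
    RingHom.ext (imap_chart x A U)
  show (I.comap (XAincl x A)).ideal U = _
  rw [Groth.Agent.Lib.Ideal.Comap.ideal_comap (XAincl x A) I (VA x U A) U (by
    show U.1 ≤ (XAincl x A ≫ pullback.fst x (specOver A)) ⁻¹ᵁ U.1
    rw [XAincl_fst]
    exact le_rfl), h1, Ideal.map_map]
  exact congrArg (fun f => Ideal.map f (cI x U A I)) h2

/-- The projection to the sections of `O/I`. -/
def toSub (U : X.affineOpens) : Sec x U →+ Γ(ClSub.quotMod I₀, U.1) :=
  ((ClSub.toSubscheme I₀).app U.1).hom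

lemma toSub_eq_zero_iff (U : X.affineOpens) (c : Sec x U) : toSub x I₀ U c = 0 ↔ c ∈ I0 x I₀ U := by
  show (I₀.subschemeι.app U.1).hom c = 0 ↔ c ∈ I₀.ideal U
  rw [← RingHom.mem_ker, I₀.ker_subschemeι_app U]
  rfl

lemma toSub_mul (U : X.affineOpens) (r : Γ(X, U.1)) (c : Sec x U) :
    toSub x I₀ U (((show Sec x U from r) * c)) = r • toSub x I₀ U c :=
  Scheme.Modules.Hom.app_smul (ClSub.toSubscheme I₀) r (show Γ(X, U.1) from c)

/-- The value of the inclusion of the ideal. -/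
def incl (U : X.affineOpens) : Γ(ClSub.idealMod I₀, U.1) →+ Sec x U :=
  ((ClSub.idealModι I₀).app U.1).hom

lemma incl_mem (U : X.affineOpens) (s : Γ(ClSub.idealMod I₀, U.1)) : incl x I₀ U s ∈ I0 x I₀ U :=
  (ClSub.Sections.mem_range_idealModι_app_affine_iff I₀ U _).1 ⟨s, rfl⟩

lemma exists_incl_eq (U : X.affineOpens) {c : Sec x U} (hc : c ∈ I0 x I₀ U) :
    ∃ s, incl x I₀ U s = c :=
  (ClSub.Sections.mem_range_idealModι_app_affine_iff I₀ U _).2 hc

lemma incl_injective (U : X.affineOpens) : Function.Injective (incl x I₀ U) :=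
  ClSub.Sections.idealModι_app_injective I₀ U.1

lemma incl_smul (U : X.affineOpens) (r : Γ(X, U.1)) (s : Γ(ClSub.idealMod I₀, U.1)) :
    incl x I₀ U (r • s) = (show Sec x U from r) * incl x I₀ U s :=
  Scheme.Modules.Hom.app_smul (ClSub.idealModι I₀) r s

variable (φ : ClSub.idealMod I₀ ⟶ ClSub.quotMod I₀)

/-- The ideal of the first order deformation attached to `φ`, on a chart. -/
def jIdeal (U : X.affineOpens) : Ideal ((Art.dual k k) ⊗[k] Sec x U) where
  carrier := {z | ∃ s, incl x I₀ U s = res0 (Sec x U) _ z ∧ φ.app U.1 s = toSub x I₀ U (snd0 (Sec x U) z)}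
  add_mem' := by
    rintro z w ⟨s, hs, hs'⟩ ⟨t, ht, ht'⟩
    exact ⟨s + t, by rw [map_add, map_add, hs, ht],
      by rw [map_add, map_add, map_add, hs', ht']⟩
  zero_mem' := ⟨0, by rw [map_zero, map_zero], by rw [map_zero, map_zero, map_zero]⟩
  smul_mem' := by
    rintro w z ⟨s, hs, hs'⟩
    refine ⟨(show Γ(X, U.1) from res0 (Sec x U) _ w) • s, ?_, ?_⟩
    · rw [incl_smul, smul_eq_mul, map_mul, hs]
    · have h0 : toSub x I₀ U (snd0 (Sec x U) w * res0 (Sec x U) _ z) = 0 := by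
        rw [toSub_eq_zero_iff, ← hs]
        exact Ideal.mul_mem_left _ _ (incl_mem x I₀ U s)
      rw [smul_eq_mul, snd0_mul, map_add, h0, add_zero, Scheme.Modules.Hom.app_smul, hs']
      exact (toSub_mul x I₀ U _ _).symm

lemma res0_jIdeal (U : X.affineOpens) : (jIdeal x I₀ φ U).map (res0 (Sec x U) _) = I0 x I₀ U := by
  refine le_antisymm (Ideal.map_le_iff_le_comap.2 ?_) fun c hc => ?_
  · rintro z ⟨s, hs, -⟩
    show res0 (Sec x U) _ z ∈ I0 x I₀ U
    rw [← hs]
    exact incl_mem x I₀ U s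
  · obtain ⟨s, hs⟩ := exists_incl_eq x I₀ U hc
    obtain ⟨t, ht⟩ : ∃ t : Sec x U, toSub x I₀ U t = φ.app U.1 s :=
      ClSub.Sections.toSubscheme_app_surjective I₀ U _
    let z : (Art.dual k k) ⊗[k] Sec x U := (1 : Art.dual k k) ⊗ₜ c + epsEl ⊗ₜ t
    have hz : z ∈ jIdeal x I₀ φ U := ⟨s, by simp [z, hs], by simp [z]; exact ht.symm⟩
    have h1 := Ideal.mem_map_of_mem (res0 (Sec x U) _) hz
    simpa [z] using h1

instance flat_jIdeal (U : X.affineOpens) :
    Module.Flat (Art.dual k k) (((Art.dual k k) ⊗[k] Sec x U) ⧸ jIdeal x I₀ φ U) := by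
  refine flat_of_eps _ fun c ⟨s, hs, hs'⟩ => ?_
  rw [res0_eps_tmul, ← map_zero (incl x I₀ U)] at hs
  rw [incl_injective x I₀ U hs, map_zero, snd0_eps_tmul] at hs'
  rw [res0_jIdeal]
  exact (toSub_eq_zero_iff x I₀ U c).1 hs'.symm

lemma snd0_rmap {U V : X.affineOpens} (h : V.1 ≤ U.1) (z : (Art.dual k k) ⊗[k] Sec x U) :
    snd0 (Sec x V) (rmap x _ h z) = rU x h (snd0 (Sec x U) z) := by
  induction z with
  | zero => simp
  | tmul a c => rw [rmap_tmul, snd0_tmul, snd0_tmul, map_smul]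
  | add y z hy hz => simp only [map_add, hy, hz]

lemma map_rmap_jIdeal (U V : X.affineOpens) (h : V.1 ≤ U.1) :
    (jIdeal x I₀ φ U).map (rmap x _ h) = jIdeal x I₀ φ V := by
  refine eq_of_le (Sec x V) (Ideal.map_le_iff_le_comap.2 ?_) ?_
  · rintro z ⟨s, hs, hs'⟩
    refine ⟨(ClSub.idealMod I₀).presheaf.map (homOfLE h).op s, ?_, ?_⟩
    · rw [res0_rmap, ← hs]
      exact HomAffine.app_map (ClSub.idealModι I₀) h s
    · rw [snd0_rmap, HomAffine.app_map, hs']
      exact (HomAffine.app_map (ClSub.toSubscheme I₀) h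
        (show Γ(X, U.1) from snd0 (Sec x U) z)).symm
  · rw [res0_jIdeal, Ideal.map_map,
      show (res0 (Sec x V) (Art.dual k k)).comp (rmap x _ h) =
        (rU x h).toRingHom.comp (res0 (Sec x U) _) from RingHom.ext (res0_rmap x _ h),
      ← Ideal.map_map, res0_jIdeal]
    exact le_of_eq (I₀.map_ideal (U := V) (V := U) h).symm

/-- **The tangent space of the local Hilbert functor**, as a set. -/
theorem exists_psi :
    ∃ Ψ : (ClSub.idealMod I₀ ⟶ ClSub.quotMod I₀) → (localHilb X x I₀).obj (Art.dual k k),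
      Function.Bijective Ψ ∧ ∀ ψ U, cI x U _ (Ψ ψ).1 = jIdeal x I₀ ψ U := by
  choose K hK using fun ψ => exists_glue x (Art.dual k k) (jIdeal x I₀ ψ) (map_rmap_jIdeal x I₀ ψ)
  have hflat : ∀ ψ, FlatOver X x _ (K ψ) := fun ψ => by
    rw [flatOver_iff]
    intro U
    rw [hK ψ U]
    infer_instance
  have hres : ∀ ψ, (K ψ).comap (XAincl x _) = I₀ := fun ψ => by
    refine Scheme.IdealSheafData.ext (funext fun U => ?_)
    show I0 x _ U = I0 x I₀ U
    rw [ideal_comap_incl, hK, res0_jIdeal]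
  refine ⟨fun ψ => ⟨K ψ, hflat ψ, hres ψ⟩, ⟨fun ψ ψ' h => ?_, fun I => ?_⟩, fun ψ U => hK ψ U⟩
  · refine HomAffine.hom_ext_affine fun U s => ?_
    have h' : jIdeal x I₀ ψ U = jIdeal x I₀ ψ' U := by
      rw [← hK ψ U, ← hK ψ' U]
      exact congrArg (fun I : (localHilb X x I₀).obj (Art.dual k k) => cI x U _ I.1) h
    obtain ⟨t, ht⟩ : ∃ t : Sec x U, toSub x I₀ U t = ψ.app U.1 s :=
      ClSub.Sections.toSubscheme_app_surjective I₀ U _
    have hz : (1 : Art.dual k k) ⊗ₜ[k] incl x I₀ U s + epsEl ⊗ₜ t ∈ jIdeal x I₀ ψ U :=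
      ⟨s, by simp, by simp; exact ht.symm⟩
    rw [h'] at hz
    obtain ⟨s', hs', hs''⟩ := hz
    rw [map_add, res0_one_tmul, res0_eps_tmul, add_zero] at hs'
    rw [incl_injective x I₀ U hs', map_add, snd0_one_tmul, snd0_eps_tmul, zero_add, ht] at hs''
    exact hs''.symm
  · have hfl : ∀ U : X.affineOpens, Module.Flat (Art.dual k k)
        (((Art.dual k k) ⊗[k] Sec x U) ⧸ cI x U _ I.1) := (flatOver_iff x _).1 I.2.1
    have hI₀ : ∀ U : X.affineOpens, (cI x U _ I.1).map (res0 (Sec x U) _) = I0 x I₀ U := fun U => by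
      rw [← ideal_comap_incl, I.2.2]
    have hex : ∀ (U : X.affineOpens) (s : Γ(ClSub.idealMod I₀, U.1)),
        ∃ z ∈ cI x U _ I.1, res0 (Sec x U) _ z = incl x I₀ U s := fun U s =>
      (Ideal.mem_map_iff_of_surjective _ (res0_surjective (Sec x U) _)).1
        (by rw [hI₀]; exact incl_mem x I₀ U s)
    choose z hz hz' using hex
    have huniq : ∀ U s, ∀ w ∈ cI x U _ I.1, res0 (Sec x U) _ w = incl x I₀ U s →
        toSub x I₀ U (snd0 (Sec x U) (z U s)) = toSub x I₀ U (snd0 (Sec x U) w) := fun U s w hw hw' => by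
      haveI := hfl U
      rw [← sub_eq_zero, ← map_sub, toSub_eq_zero_iff, ← map_sub, ← hI₀]
      exact snd0_mem _ (sub_mem (hz U s) hw) (by rw [map_sub, hz', hw', sub_self])
    let d : ∀ U : X.affineOpens, Γ(ClSub.idealMod I₀, U.1) →+ Γ(ClSub.quotMod I₀, U.1) := fun U =>
      AddMonoidHom.mk' (fun s => toSub x I₀ U (snd0 (Sec x U) (z U s))) fun s t => by
        rw [huniq U (s + t) (z U s + z U t) (add_mem (hz U s) (hz U t))
          (by rw [map_add, map_add, hz', hz']), map_add, map_add]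
    obtain ⟨ψ, hψ⟩ := HomAffine.exists_hom_of_affine d
      (fun U r s => by
        show toSub x I₀ U (snd0 (Sec x U) (z U (r • s))) = r • toSub x I₀ U (snd0 (Sec x U) (z U s))
        rw [huniq U (r • s) (((1 : Art.dual k k) ⊗ₜ[k] (show Sec x U from r)) * z U s)
          (Ideal.mul_mem_left _ _ (hz U s)) (by rw [map_mul, res0_one_tmul, hz', incl_smul]),
          snd0_mul, snd0_one_tmul, res0_one_tmul, zero_mul, add_zero, toSub_mul])
      (fun U V h s => by
        show (ClSub.quotMod I₀).presheaf.map (homOfLE h).op (toSub x I₀ U (snd0 (Sec x U) (z U s))) = _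
        refine Eq.trans ?_ (huniq V _ (rmap x _ h (z U s)) (by
          rw [cI_res x _ h]
          exact Ideal.mem_map_of_mem _ (hz U s)) (by
          rw [res0_rmap, hz']
          exact (HomAffine.app_map (ClSub.idealModι I₀) h s).symm)).symm
        rw [snd0_rmap]
        exact (HomAffine.app_map (ClSub.toSubscheme I₀) h
          (show Γ(X, U.1) from snd0 (Sec x U) (z U s))).symm)
    refine ⟨ψ, Subtype.ext (ext_cI x fun U => ?_)⟩
    show cI x U _ (K ψ) = _
    rw [hK]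
    haveI := hfl U
    symm
    refine eq_of_le (Sec x U) (fun w hw => ?_) (by rw [hI₀, res0_jIdeal])
    obtain ⟨s, hs⟩ := exists_incl_eq x I₀ U (by rw [← hI₀]; exact Ideal.mem_map_of_mem _ hw)
    exact ⟨s, hs, (hψ U s).trans (huniq U s w hw hs.symm)⟩

/-- The tangent map of a morphism of dual numbers, in terms of `Hom(I, O/I)`. -/
lemma map_tmap_jIdeal {A : Art k k} (g : A ⟶ Art.dual k k) (U : X.affineOpens)
    (J : Ideal (A ⊗[k] Sec x U)) (hJ : J.map (res0 (Sec x U) A) = I0 x I₀ U)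
    (h : ∀ w ∈ J, tmap (Sec x U) g w ∈ jIdeal x I₀ φ U) :
    J.map (tmap (Sec x U) g) = jIdeal x I₀ φ U :=
  eq_of_le (Sec x U) (Ideal.map_le_iff_le_comap.2 h) (by rw [map_res0_tmap, hJ, res0_jIdeal])

omit φ in
lemma algebraMap_sec (U : X.affineOpens) (c : k) :
    (show Γ(X, U.1) from algebraMap k (Sec x U) c) =
      X.presheaf.map (homOfLE (le_top : U.1 ≤ ⊤)).op (Coh.toGlobal x c) := rfl

omit φ in
lemma snd0_tmap_scale (U : X.affineOpens) (c : k) (w : (Art.dual k k) ⊗[k] Sec x U) :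
    snd0 (Sec x U) (tmap (Sec x U) (Art.scale c) w) = c • snd0 (Sec x U) w := by
  induction w with
  | zero => simp
  | tmul a d =>
    rw [tmap_tmul, snd0_tmul, snd0_tmul, smul_smul]
    rfl
  | add y z hy hz => rw [map_add, map_add, map_add, smul_add, hy, hz]

omit φ in
lemma snd0_tmap_plus (U : X.affineOpens) (w : (Art.dual2 k k) ⊗[k] Sec x U) :
    snd0 (Sec x U) (tmap (Sec x U) Art.plus w) =
      snd0 (Sec x U) (tmap (Sec x U) Art.pr₁ w) + snd0 (Sec x U) (tmap (Sec x U) Art.pr₂ w) := by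
  induction w with
  | zero => simp
  | tmul a d =>
    rw [tmap_tmul, tmap_tmul, tmap_tmul, snd0_tmul, snd0_tmul, snd0_tmul, ← add_smul]
    rfl
  | add y z hy hz =>
    simp only [map_add, hy, hz]
    abel

omit φ in
/-- **The tangent space of the local Hilbert functor is `Hom(I, O/I)`**, linearly. -/
theorem nonempty_linearEquiv_tangent [X.Over (Spec (CommRingCat.of k))] (hx : x = X ↘ Spec (CommRingCat.of k))
    (heps : Heps (localHilb X x I₀)) (h0 : Subsingleton ((localHilb X x I₀).obj (Art.base k k)))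
    [TangentStr (localHilb X x I₀)] :
    Nonempty (TangentSpace (localHilb X x I₀) ≃ₗ[k] (ClSub.idealMod I₀ ⟶ ClSub.quotMod I₀)) := by
  subst hx
  obtain ⟨Ψ, hΨ, hcI⟩ := exists_psi (X ↘ Spec (CommRingCat.of k)) I₀
  refine ⟨(LinearEquiv.ofBijective (M := ClSub.idealMod I₀ ⟶ ClSub.quotMod I₀)
    (M₂ := TangentSpace (localHilb X (X ↘ Spec (CommRingCat.of k)) I₀))
    { toFun := fun ψ => TangentSpace.mk (Ψ ψ), map_add' := fun ψ ψ' => ?_, map_smul' := fun c ψ => ?_ }
    hΨ).symm⟩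
  · obtain ⟨z, hz₁, hz₂⟩ := (cmp_surjective_iff Art.isFibreProd_dual2).1
      (heps _ _ Art.isFibreProd_dual2).2 (Ψ ψ) (Ψ ψ') (@Subsingleton.elim _ h0 _ _)
    have h := TangentStr.add_eq (F := localHilb X (X ↘ Spec (CommRingCat.of k)) I₀) z
    rw [hz₁, hz₂] at h
    refine Eq.trans ?_ h.symm
    refine Subtype.ext (ext_cI _ fun U => ?_)
    show cI _ U _ (Ψ (ψ + ψ')).1 = cI _ U _ (z.1.comap (XAmap _ Art.plus))
    rw [cI_comap, hcI]
    refine (map_tmap_jIdeal _ I₀ _ _ U _ (by rw [← ideal_comap_incl, z.2.2]) fun w hw => ?_).symm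
    have h₁ : tmap _ Art.pr₁ w ∈ jIdeal (X ↘ Spec (CommRingCat.of k)) I₀ ψ U := by
      rw [← hcI, ← hz₁]
      show _ ∈ cI _ U _ (z.1.comap (XAmap _ Art.pr₁))
      rw [cI_comap]
      exact Ideal.mem_map_of_mem _ hw
    have h₂ : tmap _ Art.pr₂ w ∈ jIdeal (X ↘ Spec (CommRingCat.of k)) I₀ ψ' U := by
      rw [← hcI, ← hz₂]
      show _ ∈ cI _ U _ (z.1.comap (XAmap _ Art.pr₂))
      rw [cI_comap]
      exact Ideal.mem_map_of_mem _ hw
    obtain ⟨s, hs, hs'⟩ := h₁
    obtain ⟨t, ht, ht'⟩ := h₂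
    rw [res0_tmap] at hs ht
    obtain rfl := incl_injective _ I₀ U (hs.trans ht.symm)
    refine ⟨s, by rw [res0_tmap]; exact hs, ?_⟩
    rw [snd0_tmap_plus, map_add, ← hs', ← ht']
    rfl
  · refine Eq.trans ?_ (TangentStr.smul_eq (F := localHilb X (X ↘ Spec (CommRingCat.of k)) I₀) c (Ψ ψ)).symm
    refine Subtype.ext (ext_cI _ fun U => ?_)
    show cI _ U _ (Ψ (c • ψ)).1 = cI _ U _ ((Ψ ψ).1.comap (XAmap _ (Art.scale c)))
    rw [cI_comap, hcI, hcI]
    refine (map_tmap_jIdeal _ I₀ _ _ U _ (res0_jIdeal _ I₀ ψ U) fun w hw => ?_).symm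
    obtain ⟨s, hs, hs'⟩ := hw
    refine ⟨s, by rw [res0_tmap]; exact hs, ?_⟩
    rw [snd0_tmap_scale, Algebra.smul_def, KLin.smul_app_apply, hs', ← algebraMap_sec]
    exact (toSub_mul _ I₀ U _ _).symm

end Groth.Agent.Lib.ArtinFun.LocalHilbTangent
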