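import Groth.Agent.Lib.ArtinFun.HilbLocal
import Groth.Agent.Lib.ArtinFun.RegularSmooth
import Groth.Agent.Lib.ArtinFun.LocalHilbTangent
import Groth.Agent.Lib.ArtinFun.NormalH0
import Groth.Agent.Lib.ArtinFun.QuotModIso
import Groth.Agent.Lib.ArtinFun.AffHull
import Groth.Agent.Lib.ArtinFun.HR
import Groth.Agent.Lib.ArtinFun.HilbBridge

/-!
# The tangent space of a prorepresenting ring of the local Hilbert functor
-/

noncomputable section

universe u

open CategoryTheory AlgebraicGeometry ArtFun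

namespace Groth.Agent.Lib.ArtinFun.HilbTangent

variable {k : Type u} [Field k]

/-- A regular complete ring pro-represents only smooth functors. -/
theorem isSmoothFunctor_of_regular (P : CRing k k) [IsRegularLocalRing P.carrier] {F : Art k k ⥤ Type u}
    (η : Family P.carrier P.res F) (hη : IsUniversal η) : IsSmoothFunctor F := by
  obtain ⟨d, res, q, hsm, hq, hqres⟩ := exists_powerSeries_presentation P
  haveI := isRegularLocalRing_ps (k := k) d
  obtain ⟨P₀, _, _, _, resP₀, q₀, hsm₀, hq₀, hq₀res, hker⟩ :=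
    exists_reduced_presentation P.res _ _ res q rfl hsm hq hqres
  let e : P₀ ≃ₐ[k] P.carrier := AlgEquiv.ofBijective q₀ (bijective_of_regular q₀.toRingHom hq₀ hker)
  intro B A μ hμ y
  obtain ⟨φ, rfl⟩ := (hη A).2 y
  obtain ⟨ψ₀, hψ⟩ := hsm₀ μ hμ (⟨φ.1.comp q₀, by rw [← AlgHom.comp_assoc, φ.2, hq₀res]⟩ : HomSet P₀ resP₀ A)
  let ψ : HomSet P₀ resP₀ B := ψ₀
  let ψ' : HomSet P.carrier P.res B := ⟨ψ.1.comp e.symm.toAlgHom, res_unique _ _⟩
  refine ⟨η.app B ψ', (η.natural μ ψ').symm.trans (congrArg (η.app A) ?_)⟩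
  refine homSet_ext' fun r => ?_
  refine (AlgHom.congr_fun (congrArg Subtype.val hψ) (e.symm r)).trans ?_
  show φ.1 (e (e.symm r)) = φ.1 r
  rw [e.apply_symm_apply]

variable {X Y : Scheme.{u}} [X.Over (Spec (CommRingCat.of k))] [Y.Over (Spec (CommRingCat.of k))]
  (i : Y ⟶ X) [IsClosedImmersion i] [i.IsOver (Spec (CommRingCat.of k))] [DCoh.HasSheafHom (Omega.conormal i)]

/-- The cotangent space has dimension `h⁰(N)`. -/
theorem finrank_cotangentSpace (P : CRing k k)
    (η : Family P.carrier P.res (localHilb X (X ↘ Spec (CommRingCat.of k)) i.ker)) (hη : IsUniversal η) :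
    Module.finrank (IsLocalRing.ResidueField P.carrier) (IsLocalRing.CotangentSpace P.carrier) =
      Module.finrank k (Coh.HH Y ((DCoh.sheafHom (Omega.conormal i)).obj (Coh.structureModule Y)) 0) := by
  let x := X ↘ Spec (CommRingCat.of k)
  have hrs := LocalHilbRS.rs_localHilb x i.ker
  have h0 := LocalHilbRS.h0_localHilb x i.ker
  obtain ⟨T₁⟩ := nonempty_tangentStr (hR P.carrier P.res) (h0_hR _ _) (rs_hR (Λ := k) P.carrier P.res).heps
  obtain ⟨T₂⟩ := nonempty_tangentStr (localHilb X x i.ker) h0 hrs.heps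
  haveI := T₁
  haveI := T₂
  obtain ⟨f, hf⟩ := exists_linearMap_tangent (F := hR P.carrier P.res)
    (G := localHilb X x i.ker) η.app (fun {A B} g ψ => η.natural g ψ) (h0_hR _ _).2
    (rs_hR (Λ := k) P.carrier P.res).heps
  have hfb : Function.Bijective f := by
    rw [show (f : _ → _) = η.app (Art.dual k k) from funext hf]
    exact hη _
  obtain ⟨e₁⟩ := LocalHilbTangent.nonempty_linearEquiv_tangent x i.ker rfl hrs.heps h0.2
  obtain ⟨e₂⟩ := NormalH0.nonempty_linearEquiv_h0_normal (k := k) i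
  obtain ⟨q⟩ := QuotModIso.nonempty_iso_quotMod i
  rw [← finrank_hR_tangent P, (LinearEquiv.ofBijective f hfb).finrank_eq, e₁.finrank_eq, e₂.finrank_eq]
  exact (Linear.homCongr k (Iso.refl _) q.symm).finrank_eq

end Groth.Agent.Lib.ArtinFun.HilbTangent
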