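import Groth.Agent.H22.Nil
import Groth.Agent.H25.CMUnmixed
import Groth.Agent.Lib.LocalFlat.InjMod
import Groth.Agent.Lib.ArtinFun.FlatRegSeqLift
import Groth.Agent.Lib.Synt92.KoszulFlat
import Mathlib.LinearAlgebra.Matrix.Determinant.Basic

/-!
# Deformations of determinantal ideals of codimension two
-/

noncomputable section

universe u

open TensorProduct IsLocalRing

namespace Groth.Agent.Lib.ArtinFun.HB

/-- The signed maximal minors. -/
def fs {A : Type u} [CommRing A] {r : ℕ} (φ : Matrix (Fin (r + 1)) (Fin r) A) : Fin (r + 1) → A :=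
  fun i => (-1 : A) ^ (i : ℕ) * (φ.submatrix i.succAbove id).det

/-- The map given by a family. -/
abbrev lc {A : Type u} [CommRing A] {n : ℕ} (f : Fin n → A) : (Fin n → A) →ₗ[A] A := Fintype.linearCombination A f

lemma lc_apply {A : Type u} [CommRing A] {n : ℕ} (f v : Fin n → A) : lc f v = ∑ i, v i * f i := by
  rw [Fintype.linearCombination_apply]
  rfl

lemma lc_fs_mulVecLin {A : Type u} [CommRing A] {r : ℕ} (φ : Matrix (Fin (r + 1)) (Fin r) A) (v : Fin r → A) :
    lc (fs φ) (φ.mulVecLin v) = 0 := by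
  have key : ∀ j, ∑ i, φ i j * fs φ i = 0 := fun j => by
    let M : Matrix (Fin (r + 1)) (Fin (r + 1)) A := fun i => Fin.cons (φ i j) (φ i)
    have h0 : M.det = 0 := Matrix.det_zero_of_column_eq (i := 0) (j := j.succ) (Fin.succ_ne_zero j).symm
      fun i => by simp [M]
    rw [Matrix.det_succ_column_zero] at h0
    refine (Finset.sum_congr rfl fun i _ => ?_).trans h0
    have hsub : M.submatrix i.succAbove Fin.succ = φ.submatrix i.succAbove id := by
      ext a b
      simp [M, Matrix.submatrix]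
    rw [hsub, show M i 0 = φ i j by simp [M]]
    unfold fs
    ring
  rw [lc_apply]
  simp only [Matrix.mulVecLin_apply, Matrix.mulVec, dotProduct, Finset.sum_mul]
  rw [Finset.sum_comm]
  refine Finset.sum_eq_zero fun j _ => ?_
  rw [show (0 : A) = v j * 0 by rw [mul_zero], ← key j, Finset.mul_sum]
  exact Finset.sum_congr rfl fun i _ => by ring

section map

variable {A B : Type u} [CommRing A] [CommRing B] (g : A →+* B)

lemma map_fs {r : ℕ} (φ : Matrix (Fin (r + 1)) (Fin r) A) : fs (φ.map g) = g ∘ fs φ := by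
  funext i
  simp only [fs, Function.comp_apply, map_mul, map_pow, map_neg, map_one, RingHom.map_det]
  rfl

lemma map_lc {n : ℕ} (f v : Fin n → A) : g (lc f v) = lc (g ∘ f) (g ∘ v) := by
  simp [lc_apply, map_sum, map_mul]

lemma map_mulVec {m n : ℕ} (φ : Matrix (Fin m) (Fin n) A) (v : Fin n → A) :
    g ∘ φ.mulVecLin v = (φ.map g).mulVecLin (g ∘ v) := by
  funext i
  simp [Matrix.mulVecLin_apply, Matrix.mulVec, dotProduct, map_sum]

end map

variable {C A : Type u} [CommRing C] [IsLocalRing C] [IsArtinianRing C] [CommRing A] [Algebra C A]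

omit [IsLocalRing C] [IsArtinianRing C] in
lemma flat_pi [Module.Flat C A] (n : ℕ) : Module.Flat C (Fin n → A) :=
  Module.Flat.of_linearEquiv
    ((Finsupp.linearEquivFunOnFinite C A (Fin n)).symm ≪≫ₗ finsuppLEquivDirectSum C A (Fin n))

omit [IsLocalRing C] [IsArtinianRing C] in
lemma mem_smul_top_pi {n : ℕ} (J : Ideal C) (v : Fin n → A) :
    v ∈ J • (⊤ : Submodule C (Fin n → A)) ↔ ∀ i, v i ∈ J.map (algebraMap C A) := by
  classical
  constructor
  · intro hv i
    refine Submodule.smul_induction_on hv (fun c hc x _ => ?_) fun x y hx hy => add_mem hx hy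
    rw [Pi.smul_apply, Algebra.smul_def]
    exact Ideal.mul_mem_right _ _ (Ideal.mem_map_of_mem _ hc)
  · intro hv
    rw [← Finset.univ_sum_single v]
    refine Submodule.sum_mem _ fun i _ => ?_
    have h1 : v i ∈ J • (⊤ : Submodule C A) := by rw [Ideal.smul_top_eq_map]; exact hv i
    refine Submodule.smul_induction_on (p := fun x => Pi.single i x ∈ J • (⊤ : Submodule C (Fin n → A))) h1
      (fun c hc x _ => ?_) fun x y hx hy => ?_
    · rw [Pi.single_smul]
      exact Submodule.smul_mem_smul hc Submodule.mem_top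
    · rw [Pi.single_add]
      exact add_mem hx hy

omit [IsArtinianRing C] in
/-- A complex with flat ideal quotient stays exact on the fibre. -/
theorem exact_fibre [Module.Flat C A] {r : ℕ} (φ : Matrix (Fin (r + 1)) (Fin r) A)
    (hinj : Function.Injective φ.mulVecLin) (hex : LinearMap.range φ.mulVecLin = LinearMap.ker (lc (fs φ)))
    [Module.Flat C (A ⧸ Ideal.span (Set.range (fs φ)))] :
    (∀ u, φ.mulVecLin u ∈ maximalIdeal C • (⊤ : Submodule C (Fin (r + 1) → A)) →
      u ∈ maximalIdeal C • (⊤ : Submodule C (Fin r → A))) ∧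
    (∀ v, lc (fs φ) v ∈ (maximalIdeal C).map (algebraMap C A) →
      ∃ u, v - φ.mulVecLin u ∈ maximalIdeal C • (⊤ : Submodule C (Fin (r + 1) → A))) := by
  classical
  let I := Ideal.span (Set.range (fs φ))
  have hrange : ∀ z, z ∈ I ↔ ∃ v, lc (fs φ) v = z := fun z => by
    show z ∈ Submodule.span A (Set.range (fs φ)) ↔ _
    rw [← Fintype.range_linearCombination]
    rfl
  let q : A →ₗ[C] A ⧸ I := (Ideal.Quotient.mkₐ C I).toLinearMap
  let F : (Fin (r + 1) → A) →ₗ[C] LinearMap.ker q := ((lc (fs φ)).restrictScalars C).codRestrict _ fun v =>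
    Ideal.Quotient.eq_zero_iff_mem.2 ((hrange _).2 ⟨v, rfl⟩)
  have hF : Function.Surjective F := fun z => by
    obtain ⟨v, hv⟩ := (hrange z.1).1 (Ideal.Quotient.eq_zero_iff_mem.1 z.2)
    exact ⟨v, Subtype.ext hv⟩
  haveI : Module.Flat C (LinearMap.ker q) := Groth.Agent.H22.Nil.flat_left_of_exact (LinearMap.ker q).subtype q
    (LinearMap.ker q).subtype_injective (LinearMap.exact_iff.2 (Submodule.range_subtype _).symm)
    Ideal.Quotient.mk_surjective
  haveI : Module.Flat C (Fin (r + 1) → A) := flat_pi _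
  refine ⟨fun u hu => ?_, fun v hv => ?_⟩
  · have h1 : φ.mulVecLin u ∈ maximalIdeal C • LinearMap.ker F := by
      refine FlatReg.mem_smul_ker_of_flat F hF _ hu (Subtype.ext ?_)
      exact lc_fs_mulVecLin φ u
    have h2 : ∃ w ∈ maximalIdeal C • (⊤ : Submodule C (Fin r → A)), φ.mulVecLin u = φ.mulVecLin w := by
      refine Submodule.smul_induction_on (p := fun y => ∃ w ∈ maximalIdeal C • (⊤ : Submodule C (Fin r → A)),
        y = φ.mulVecLin w) h1 (fun c hc x hx => ?_) fun a b ha hb => ?_
      · have hx' : x ∈ LinearMap.range φ.mulVecLin := by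
          rw [hex]
          exact congrArg Subtype.val (LinearMap.mem_ker.1 hx)
        obtain ⟨w, rfl⟩ := hx'
        exact ⟨c • w, Submodule.smul_mem_smul hc Submodule.mem_top, (LinearMap.map_smul_of_tower _ c w).symm⟩
      · obtain ⟨wa, hwa, rfl⟩ := ha
        obtain ⟨wb, hwb, rfl⟩ := hb
        exact ⟨wa + wb, add_mem hwa hwb, (map_add _ wa wb).symm⟩
    obtain ⟨w, hw, huw⟩ := h2
    rwa [hinj huw]
  · have h1 := FlatReg.mem_smul_ker_of_flat q Ideal.Quotient.mk_surjective (maximalIdeal C) (z := lc (fs φ) v)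
      (by rw [Ideal.smul_top_eq_map]; exact hv) (Ideal.Quotient.eq_zero_iff_mem.2 ((hrange _).2 ⟨v, rfl⟩))
    have h2 : ∃ w ∈ maximalIdeal C • (⊤ : Submodule C (Fin (r + 1) → A)), lc (fs φ) v = lc (fs φ) w := by
      refine Submodule.smul_induction_on (p := fun y => ∃ w ∈ maximalIdeal C • (⊤ : Submodule C (Fin (r + 1) → A)),
        y = lc (fs φ) w) h1 (fun c hc x hx => ?_) fun a b ha hb => ?_
      · obtain ⟨w, rfl⟩ := (hrange x).1 (Ideal.Quotient.eq_zero_iff_mem.1 (LinearMap.mem_ker.1 hx))
        exact ⟨c • w, Submodule.smul_mem_smul hc Submodule.mem_top, (LinearMap.map_smul_of_tower _ c w).symm⟩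
      · obtain ⟨wa, hwa, rfl⟩ := ha
        obtain ⟨wb, hwb, rfl⟩ := hb
        exact ⟨wa + wb, add_mem hwa hwb, (map_add _ wa wb).symm⟩
    obtain ⟨w, hw, hvw⟩ := h2
    obtain ⟨u, hu⟩ : v - w ∈ LinearMap.range φ.mulVecLin := by
      rw [hex, LinearMap.mem_ker, map_sub, hvw, sub_self]
    exact ⟨u, by rw [hu, sub_sub_cancel]; exact hw⟩

/-- Injective modulo the maximal ideal implies injective with flat cokernel, over an Artinian base. -/
theorem injective_flat_coker {M N : Type u} [AddCommGroup M] [Module C M] [Module.Flat C M] [AddCommGroup N]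
    [Module C N] (u : N →ₗ[C] M)
    (h : ∀ x, u x ∈ maximalIdeal C • (⊤ : Submodule C M) → x ∈ maximalIdeal C • (⊤ : Submodule C N)) :
    Function.Injective u ∧ Module.Flat C (M ⧸ LinearMap.range u) := by
  have hu : Function.Injective (u.lTensor (ResidueField C)) :=
    (LocalFlat.SmulTop.lTensor_quotient_injective_iff (maximalIdeal C) u).mpr h
  obtain ⟨n, hn⟩ := IsArtinianRing.isNilpotent_jacobson_bot (R := C)
  rw [IsLocalRing.jacobson_eq_maximalIdeal ⊥ bot_ne_top] at hn
  have hmem : ∀ (J : Ideal C) x, u x ∈ J • (⊤ : Submodule C M) → x ∈ J • (⊤ : Submodule C N) := fun J x hx => by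
    have h1 := LocalFlat.InjMod.mem_pow_sup_smul u hu J n hx
    rwa [hn, Ideal.zero_eq_bot, bot_sup_eq] at h1
  refine ⟨(injective_iff_map_eq_zero u).2 fun x hx => ?_, Module.Flat.iff_rTensor_injective'.2 fun J => ?_⟩
  · have h1 := hmem ⊥ x (by rw [hx]; exact zero_mem _)
    rwa [Submodule.bot_smul, Submodule.mem_bot] at h1
  rw [injective_iff_map_eq_zero]
  intro y hy
  obtain ⟨y, rfl⟩ := LinearMap.lTensor_surjective J (LinearMap.range u).mkQ_surjective y
  let μM := LocalFlat.InjMod.smulMap J M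
  have hsq : ∀ y : J ⊗[C] M, (LinearMap.range u).mkQ (μM y) =
      TensorProduct.lid C _ (J.subtype.rTensor _ ((LinearMap.range u).mkQ.lTensor J y)) := by
    intro y
    induction y with
    | zero => simp
    | add a b ha hb => simp only [map_add, ha, hb]
    | tmul r y => simp [μM, LocalFlat.InjMod.smulMap]
  have h0 : (LinearMap.range u).mkQ (μM y) = 0 := by rw [hsq, hy, map_zero]
  rw [Submodule.mkQ_apply, Submodule.Quotient.mk_eq_zero] at h0
  obtain ⟨x, hx⟩ := h0
  have hxJ : x ∈ J • (⊤ : Submodule C N) :=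
    hmem J x (by rw [hx, ← LocalFlat.InjMod.range_smulMap]; exact ⟨y, rfl⟩)
  rw [← LocalFlat.InjMod.range_smulMap] at hxJ
  obtain ⟨z, hz⟩ := hxJ
  have hinj : Function.Injective μM := (TensorProduct.lid C M).injective.comp
    (Module.Flat.rTensor_preserves_injective_linearMap _ J.injective_subtype)
  have hy' : y = u.lTensor J z := by
    refine hinj ?_
    rw [← hx, ← hz]
    clear hz
    induction z with
    | zero => simp
    | add a b ha hb => simp only [map_add, ha, hb]
    | tmul r y => simp [μM, LocalFlat.InjMod.smulMap]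
  rw [hy', ← LinearMap.comp_apply, ← LinearMap.lTensor_comp,
    show (LinearMap.range u).mkQ.comp u = 0 from (LinearMap.exact_map_mkQ_range u).linearMap_comp_eq_zero]
  simp

/-- Exactness on the fibre gives exactness and flatness. -/
theorem exact_of_fibre [Module.Flat C A] {r : ℕ} (φ : Matrix (Fin (r + 1)) (Fin r) A)
    (ha : ∀ u, φ.mulVecLin u ∈ maximalIdeal C • (⊤ : Submodule C (Fin (r + 1) → A)) →
      u ∈ maximalIdeal C • (⊤ : Submodule C (Fin r → A)))
    (hb : ∀ v, lc (fs φ) v ∈ (maximalIdeal C).map (algebraMap C A) →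
      ∃ u, v - φ.mulVecLin u ∈ maximalIdeal C • (⊤ : Submodule C (Fin (r + 1) → A))) :
    Function.Injective φ.mulVecLin ∧ LinearMap.range φ.mulVecLin = LinearMap.ker (lc (fs φ)) ∧
      Module.Flat C (A ⧸ Ideal.span (Set.range (fs φ))) := by
  classical
  haveI : Module.Flat C (Fin (r + 1) → A) := flat_pi _
  obtain ⟨h1, h2⟩ := injective_flat_coker (φ.mulVecLin.restrictScalars C) ha
  haveI := h2
  let P := LinearMap.range (φ.mulVecLin.restrictScalars C)
  let g : ((Fin (r + 1) → A) ⧸ P) →ₗ[C] A := P.liftQ ((lc (fs φ)).restrictScalars C) fun x hx => by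
    obtain ⟨w, rfl⟩ := hx
    exact lc_fs_mulVecLin φ w
  obtain ⟨h3, h4⟩ := injective_flat_coker g fun z hz => by
    obtain ⟨v, rfl⟩ := Submodule.Quotient.mk_surjective _ z
    obtain ⟨u, hu⟩ := hb v (by rw [Ideal.smul_top_eq_map] at hz; exact hz)
    have h5 : (Submodule.Quotient.mk v : (Fin (r + 1) → A) ⧸ P) = P.mkQ (v - φ.mulVecLin u) := by
      rw [Submodule.mkQ_apply, Submodule.Quotient.mk_sub]
      exact (sub_eq_self.2 ((Submodule.Quotient.mk_eq_zero P).2 ⟨u, rfl⟩)).symm
    rw [h5]
    have h6 : P.mkQ (v - φ.mulVecLin u) ∈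
        (maximalIdeal C • (⊤ : Submodule C (Fin (r + 1) → A))).map P.mkQ := Submodule.mem_map_of_mem hu
    rw [Submodule.map_smul''] at h6
    exact Submodule.smul_mono le_rfl le_top h6
  refine ⟨h1, le_antisymm ?_ fun v hv => ?_, ?_⟩
  · rintro _ ⟨w, rfl⟩
    exact lc_fs_mulVecLin φ w
  · have h5 : g (Submodule.Quotient.mk v) = 0 := LinearMap.mem_ker.1 hv
    obtain ⟨w, hw⟩ := (Submodule.Quotient.mk_eq_zero P).1 (h3 (h5.trans (map_zero g).symm))
    exact ⟨w, hw⟩
  · haveI := h4
    refine Module.Flat.of_linearEquiv ((Submodule.Quotient.restrictScalarsEquiv C (Ideal.span (Set.range (fs φ)))).symm.trans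
      (Submodule.quotEquivOfEq _ (LinearMap.range g) ?_))
    rw [Submodule.range_liftQ, LinearMap.range_restrictScalars, Fintype.range_linearCombination]

/-- In a Cohen-Macaulay ring, forms on an ideal of height two are multiplications. -/
theorem exists_mul {A₀ : Type u} [CommRing A₀] [LocCoh.IsCohenMacaulayRing A₀] {n : ℕ} (f₀ : Fin n → A₀)
    (hcodim : ∀ p : Ideal A₀, p.IsPrime → Ideal.span (Set.range f₀) ≤ p → (2 : ℕ∞) ≤ p.height)
    (h : (Fin n → A₀) →ₗ[A₀] A₀) (hh : ∀ v, lc f₀ v = 0 → h v = 0) : ∃ c, ∀ v, h v = c * lc f₀ v := by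
  classical
  let I := Ideal.span (Set.range f₀)
  have hI : ∀ z ∈ I, ∃ v, lc f₀ v = z := fun z hz => by
    have : z ∈ Submodule.span A₀ (Set.range f₀) := hz
    rwa [← Fintype.range_linearCombination] at this
  have havoid : ∀ {R : Type u} [CommRing R] [IsNoetherianRing R] (K : Ideal R),
      (∀ P ∈ minimalPrimes R, ¬ K ≤ P) → ∃ x ∈ K, ∀ P ∈ minimalPrimes R, x ∉ P := by
    intro R _ _ K hK
    by_contra hcon
    push Not at hcon
    obtain ⟨P, hP, hle⟩ := (Ideal.subset_union_prime_finite (minimalPrimes.finite_of_isNoetherianRing R) (f := id) ⊥ ⊥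
      (fun P hP _ _ => hP.1.1) (I := K)).1 (fun x hx => by
        obtain ⟨P, hP, hxP⟩ := hcon x hx
        exact Set.mem_biUnion hP hxP)
    exact hK P hP hle
  obtain ⟨x, hxI, hx⟩ := havoid I fun P hP hle => by
    haveI := hP.1.1
    have h2 := hcodim P hP.1.1 hle
    rw [Ideal.height_eq_zero_iff.2 hP] at h2
    exact absurd h2 (by decide)
  have hxreg := Groth.Agent.H25.CMUnmixed.isSMulRegular_of_notMem A₀ hx
  haveI := Groth.Agent.H25.CMUnmixed.isCohenMacaulayRing_quotient hxreg
  let π := Ideal.Quotient.mk (Ideal.span {x})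
  obtain ⟨y', hy'I, hy'⟩ := havoid (I.map π) fun P hP hle => by
    haveI := hP.1.1
    have hle' : I ≤ P.comap π := Ideal.map_le_iff_le_comap.1 hle
    have h2 := hcodim _ inferInstance hle'
    have hmin : P.comap π ∈ (Ideal.span {x}).minimalPrimes := by
      have hs : (Ideal.span {x}).minimalPrimes =
          Ideal.comap π '' (⊥ : Ideal (A₀ ⧸ Ideal.span {x})).minimalPrimes := by
        rw [← Ideal.comap_minimalPrimes_eq_of_surjective Ideal.Quotient.mk_surjective, ← RingHom.ker_eq_comap_bot,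
          Ideal.mk_ker]
      rw [hs]
      exact ⟨P, hP, rfl⟩
    have h1 : (P.comap π).height ≤ 1 := Ideal.height_le_one_of_isPrincipal_of_mem_minimalPrimes _ _ hmin
    exact absurd (h2.trans h1) (by decide)
  obtain ⟨y, hyI, rfl⟩ := (Ideal.mem_map_iff_of_surjective π Ideal.Quotient.mk_surjective).1 hy'I
  have hyreg := Groth.Agent.H25.CMUnmixed.isSMulRegular_of_notMem _ hy'
  obtain ⟨vx, hvx⟩ := hI x hxI
  obtain ⟨vy, hvy⟩ := hI y hyI
  have hswap : ∀ v w, lc f₀ v * h w = lc f₀ w * h v := fun v w => by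
    have h1 := hh (lc f₀ v • w - lc f₀ w • v) (by rw [map_sub, map_smul, map_smul, smul_eq_mul, smul_eq_mul]; ring)
    rwa [map_sub, map_smul, map_smul, sub_eq_zero, smul_eq_mul, smul_eq_mul] at h1
  obtain ⟨c, hc⟩ : ∃ c, c * x = h vx := by
    refine Ideal.mem_span_singleton'.1 (Ideal.Quotient.eq_zero_iff_mem.1 (hyreg (?_ : π y • π (h vx) = π y • 0)))
    rw [smul_zero, smul_eq_mul, ← map_mul, ← hvy, ← hswap vx vy, hvx]
    exact Ideal.Quotient.eq_zero_iff_mem.2 (Ideal.mul_mem_right _ _ (Ideal.mem_span_singleton_self x))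
  refine ⟨c, fun v => hxreg ?_⟩
  show x * h v = x * (c * lc f₀ v)
  rw [← hvx, hswap, ← hc, hvx]
  ring

/-- Forms killing the relations are multiples of the generators by the fibre ideal. -/
theorem exists_mul_of_killing [Module.Flat C A] {r : ℕ}
    [LocCoh.IsCohenMacaulayRing (A ⧸ (maximalIdeal C).map (algebraMap C A))]
    (φ : Matrix (Fin (r + 1)) (Fin r) A) (f : Fin (r + 1) → A)
    (hf0 : ∀ i, f i - fs φ i ∈ (maximalIdeal C).map (algebraMap C A))
    (hfφ : ∀ w, lc f (φ.mulVecLin w) = 0)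
    (hb : ∀ v, lc (fs φ) v ∈ (maximalIdeal C).map (algebraMap C A) →
      ∃ u, v - φ.mulVecLin u ∈ maximalIdeal C • (⊤ : Submodule C (Fin (r + 1) → A)))
    (hcodim : ∀ p : Ideal (A ⧸ (maximalIdeal C).map (algebraMap C A)), p.IsPrime →
      Ideal.span (Set.range fun i => Ideal.Quotient.mk ((maximalIdeal C).map (algebraMap C A)) (fs φ i)) ≤ p →
        (2 : ℕ∞) ≤ p.height) :
    ∃ u, IsUnit u ∧ ∀ i, fs φ i = u * f i := by
  classical
  let m := maximalIdeal C
  let N := m.map (algebraMap C A)
  let f₀ : Fin (r + 1) → A ⧸ N := Ideal.Quotient.mk N ∘ fs φ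
  obtain ⟨e, he⟩ := IsArtinianRing.isNilpotent_jacobson_bot (R := C)
  rw [IsLocalRing.jacobson_eq_maximalIdeal ⊥ bot_ne_top] at he
  have step : ∀ j : ℕ, ∃ c ∈ N, ∀ v, lc (fs φ) v - lc f v - c * lc f v ∈ (m ^ j).map (algebraMap C A) := by
    intro j
    induction j with
    | zero => exact ⟨0, zero_mem _, fun v => by rw [pow_zero, Ideal.one_eq_top, Ideal.map_top]; trivial⟩
    | succ j ih =>
      rcases Nat.eq_zero_or_pos j with rfl | hj
      · refine ⟨0, zero_mem _, fun v => ?_⟩
        rw [zero_mul, sub_zero, pow_one, lc_apply, lc_apply, ← Finset.sum_sub_distrib]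
        refine Ideal.sum_mem _ fun i _ => ?_
        rw [← mul_sub, ← neg_sub (f i)]
        exact Ideal.mul_mem_left _ _ (neg_mem (hf0 i))
      obtain ⟨c, hcN, hc⟩ := ih
      let L : Ideal C := m ^ j
      let D : (Fin (r + 1) → A) →ₗ[A] A := lc (fs φ) - lc f - c • lc f
      have hD : ∀ v, D v ∈ L.map (algebraMap C A) := fun v => by simpa [D] using hc v
      have hDφ : ∀ w, D (φ.mulVecLin w) = 0 := fun w => by
        show lc (fs φ) _ - lc f _ - c • lc f _ = 0
        rw [lc_fs_mulVecLin, hfφ w, smul_zero, sub_zero, sub_zero]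
      -- forms on the graded piece
      let Q := C ⧸ m ^ (j + 1)
      obtain ⟨s, gen, hgen⟩ := Submodule.fg_iff_exists_fin_generating_family.1 (IsNoetherian.noetherian L)
      -- choose generators independent modulo `m ^ (j + 1)`
      letI := Ideal.Quotient.field m
      let V := ↥(L.map (Ideal.Quotient.mk (m ^ (j + 1))))
      have htors : Module.IsTorsionBySet C V m := by
        rintro ⟨v, hv⟩ ⟨a, ha⟩
        obtain ⟨l, hl, rfl⟩ := (Ideal.mem_map_iff_of_surjective _ Ideal.Quotient.mk_surjective).1 hv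
        refine Subtype.ext ?_
        show a • Ideal.Quotient.mk (m ^ (j + 1)) l = 0
        rw [Algebra.smul_def, Ideal.Quotient.algebraMap_eq, ← map_mul, Ideal.Quotient.eq_zero_iff_mem, pow_succ']
        exact Ideal.mul_mem_mul ha hl
      letI : Module (C ⧸ m) V := htors.module
      haveI : IsScalarTower C (C ⧸ m) V := htors.isScalarTower
      haveI : Module.Finite C V := inferInstance
      haveI : Module.Finite (C ⧸ m) V := Module.Finite.of_restrictScalars_finite C _ _
      let b := Module.finBasis (C ⧸ m) V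
      have hbl : ∀ l, ∃ x ∈ L, Ideal.Quotient.mk (m ^ (j + 1)) x = (b l : V).1 := fun l =>
        (Ideal.mem_map_iff_of_surjective _ Ideal.Quotient.mk_surjective).1 (b l).2
      choose bl hblL hbl using hbl
      have hdec : ∀ x ∈ L.map (algebraMap C A), ∃ a : Fin (Module.finrank (C ⧸ m) V) → A,
          x - ∑ l, algebraMap C A (bl l) * a l ∈ (m ^ (j + 1)).map (algebraMap C A) := by
        intro x hx
        have hx : x ∈ L • (⊤ : Submodule C A) := by rw [Ideal.smul_top_eq_map]; exact hx
        refine Submodule.smul_induction_on hx (fun l hl y _ => ?_) fun x y hx hy => ?_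
        · let vl : V := ⟨Ideal.Quotient.mk _ l, Ideal.mem_map_of_mem _ hl⟩
          choose co hco using fun i => Ideal.Quotient.mk_surjective (I := m) (b.repr vl i)
          refine ⟨fun i => algebraMap C A (co i) * y, ?_⟩
          have h1 : l - ∑ i, co i * bl i ∈ m ^ (j + 1) := by
            rw [← Ideal.Quotient.eq_zero_iff_mem, map_sub, map_sum, sub_eq_zero]
            have h2 := congrArg Subtype.val (b.sum_repr vl)
            refine h2.symm.trans ?_
            rw [AddSubmonoidClass.coe_finsetSum]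
            refine Finset.sum_congr rfl fun i _ => ?_
            rw [← hco i, map_mul, hbl]
            rfl
          have h3 : l • y - ∑ i, algebraMap C A (bl i) * (algebraMap C A (co i) * y) =
              algebraMap C A (l - ∑ i, co i * bl i) * y := by
            rw [Algebra.smul_def, map_sub, map_sum, sub_mul, Finset.sum_mul]
            congr 1
            exact Finset.sum_congr rfl fun i _ => by rw [map_mul]; ring
          rw [h3]
          exact Ideal.mul_mem_right _ _ (Ideal.mem_map_of_mem _ h1)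
        · obtain ⟨a, ha⟩ := hx
          obtain ⟨a', ha'⟩ := hy
          refine ⟨a + a', ?_⟩
          have h4 := add_mem ha ha'
          rw [sub_add_sub_comm, ← Finset.sum_add_distrib] at h4
          simpa [mul_add] using h4
      have hind : ∀ a : Fin (Module.finrank (C ⧸ m) V) → A,
          ∑ l, algebraMap C A (bl l) * a l ∈ (m ^ (j + 1)).map (algebraMap C A) → ∀ l, a l ∈ N := by
        intro a ha l
        let sub := L.subtype
        let πV : L →ₗ[C] V := ((Ideal.Quotient.mkₐ C (m ^ (j + 1))).toLinearMap ∘ₗ sub).codRestrict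
          ((L.map (Ideal.Quotient.mk (m ^ (j + 1)))).restrictScalars C) fun x => Ideal.mem_map_of_mem _ x.2
        let coord : L →ₗ[C] C ⧸ m := ((b.coord l).restrictScalars C) ∘ₗ πV
        let w : L ⊗[C] A := ∑ l, (⟨bl l, hblL l⟩ : L) ⊗ₜ a l
        obtain ⟨w', hw', hw''⟩ : ∃ w' : L ⊗[C] A, coord.rTensor A w' = 0 ∧
            TensorProduct.lid C A (sub.rTensor A w') = ∑ l, algebraMap C A (bl l) * a l := by
          have ha : ∑ l, algebraMap C A (bl l) * a l ∈ m ^ (j + 1) • (⊤ : Submodule C A) := by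
            rw [Ideal.smul_top_eq_map]; exact ha
          refine Submodule.smul_induction_on ha (fun q hq y _ => ?_) fun x y hx hy => ?_
          · have hqL : q ∈ L := Ideal.pow_le_pow_right (Nat.le_succ j) hq
            refine ⟨(⟨q, hqL⟩ : L) ⊗ₜ y, ?_, by simp [sub]⟩
            have hcq : coord ⟨q, hqL⟩ = 0 := by
              show (b.coord l).restrictScalars C (πV ⟨q, hqL⟩) = 0
              rw [show πV ⟨q, hqL⟩ = 0 from Subtype.ext (Ideal.Quotient.eq_zero_iff_mem.2 hq), map_zero]
            rw [LinearMap.rTensor_tmul, hcq, TensorProduct.zero_tmul]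
          · obtain ⟨p, hp1, hp2⟩ := hx
            obtain ⟨p', hp1', hp2'⟩ := hy
            exact ⟨p + p', by rw [map_add, hp1, hp1', add_zero], by rw [map_add, map_add, hp2, hp2']⟩
        have hww : w = w' := by
          refine Module.Flat.rTensor_preserves_injective_linearMap (M := A) sub L.subtype_injective
            ((TensorProduct.lid C A).injective ?_)
          rw [hw'']
          simp [w, sub, map_sum, Algebra.smul_def]
        have h1 : coord.rTensor A w = 0 := by rw [hww]; exact hw'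
        have h2 : ∀ l', coord ⟨bl l', hblL l'⟩ = if l' = l then 1 else 0 := fun l' => by
          show b.coord l (πV ⟨bl l', hblL l'⟩) = _
          rw [show πV ⟨bl l', hblL l'⟩ = b l' from Subtype.ext (hbl l'), Module.Basis.coord_apply,
            Module.Basis.repr_self, Finsupp.single_apply]
        simp only [w, map_sum, LinearMap.rTensor_tmul, h2] at h1
        rw [Finset.sum_eq_single l (fun l' _ hl' => by rw [if_neg hl', TensorProduct.zero_tmul])
          (fun h => absurd (Finset.mem_univ l) h), if_pos rfl] at h1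
        have h3 := LocalFlat.SmulTop.one_tmul_eq_zero_iff m (a l) |>.1 h1
        rwa [Ideal.smul_top_eq_map] at h3
      choose co hco using fun i => hdec (D (Pi.single i 1)) (hD _)
      have hDsum : ∀ v, D v - ∑ l, algebraMap C A (bl l) * lc (fun i => co i l) v ∈
          (m ^ (j + 1)).map (algebraMap C A) := by
        intro v
        have h1 : D v = ∑ i, v i * D (Pi.single i 1) := by
          conv_lhs => rw [pi_eq_sum_univ' v]
          simp [map_sum]
        have h2 : ∑ l, algebraMap C A (bl l) * lc (fun i => co i l) v =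
            ∑ i, v i * ∑ l, algebraMap C A (bl l) * co i l := by
          simp only [lc_apply, Finset.mul_sum]
          rw [Finset.sum_comm]
          exact Finset.sum_congr rfl fun i _ => Finset.sum_congr rfl fun l _ => by ring
        rw [h1, h2, ← Finset.sum_sub_distrib]
        exact Ideal.sum_mem _ fun i _ => by rw [← mul_sub]; exact Ideal.mul_mem_left _ _ (hco i)
      have hkill : ∀ l v, lc f₀ v = 0 → lc (Ideal.Quotient.mk N ∘ fun i => co i l) v = 0 := by
        intro l v hv
        obtain ⟨v, rfl⟩ : ∃ v' : Fin (r + 1) → A, Ideal.Quotient.mk N ∘ v' = v :=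
          ⟨fun i => (Ideal.Quotient.mk_surjective (v i)).choose,
            funext fun i => (Ideal.Quotient.mk_surjective (v i)).choose_spec⟩
        rw [← map_lc, Ideal.Quotient.eq_zero_iff_mem] at hv
        obtain ⟨w, hw⟩ := hb v hv
        rw [mem_smul_top_pi] at hw
        have h1 : Ideal.Quotient.mk N ∘ v = Ideal.Quotient.mk N ∘ φ.mulVecLin w := funext fun i =>
          Ideal.Quotient.eq.2 (hw i)
        rw [h1, ← map_lc, Ideal.Quotient.eq_zero_iff_mem]
        refine hind (fun l => lc (fun i => co i l) (φ.mulVecLin w)) ?_ l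
        have h2 := hDsum (φ.mulVecLin w)
        rw [hDφ, zero_sub, neg_mem_iff] at h2
        exact h2
      choose cl hcl using fun l => exists_mul f₀ hcodim (lc (Ideal.Quotient.mk N ∘ fun i => co i l)) (hkill l)
      choose cl' hcl' using fun l => Ideal.Quotient.mk_surjective (I := N) (cl l)
      refine ⟨c + ∑ l, algebraMap C A (bl l) * cl' l, add_mem hcN (Ideal.sum_mem _ fun l _ => ?_), fun v => ?_⟩
      · exact Ideal.mul_mem_right _ _ (Ideal.mem_map_of_mem _ ((Ideal.pow_le_self (by omega)) (hblL l)))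
      have h5 : ∀ l, algebraMap C A (bl l) * lc (fun i => co i l) v - algebraMap C A (bl l) * cl' l * lc f v ∈
          (m ^ (j + 1)).map (algebraMap C A) := by
        intro l
        rw [mul_assoc, ← mul_sub, Ideal.map_pow, pow_succ, ← Ideal.map_pow]
        refine Ideal.mul_mem_mul (Ideal.mem_map_of_mem _ (hblL l)) ?_
        rw [← Ideal.Quotient.eq_zero_iff_mem, map_sub, map_mul, hcl', map_lc, map_lc, hcl l, sub_eq_zero]
        refine congrArg (fun g => cl l * lc g _) (funext fun i => ?_)
        exact (Ideal.Quotient.eq.2 (hf0 i)).symm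
      have h6 := add_mem (hDsum v) (Ideal.sum_mem _ fun l (_ : l ∈ Finset.univ) => h5 l)
      rw [Finset.sum_sub_distrib, sub_add_sub_cancel, ← Finset.sum_mul] at h6
      have h7 : lc (fs φ) v - lc f v - (c + ∑ l, algebraMap C A (bl l) * cl' l) * lc f v =
          D v - (∑ l, algebraMap C A (bl l) * cl' l) * lc f v := by
        simp only [D, LinearMap.sub_apply, LinearMap.smul_apply, smul_eq_mul]
        ring
      rw [h7]
      exact h6
  obtain ⟨c, hcN, hc⟩ := step e
  refine ⟨1 + c, ?_, fun i => ?_⟩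
  · have hnil : IsNilpotent c := ⟨e, by
      have h1 : c ^ e ∈ N ^ e := Ideal.pow_mem_pow hcN e
      rw [← Ideal.map_pow, he, Ideal.zero_eq_bot, Ideal.map_bot] at h1
      exact h1⟩
    exact hnil.isUnit_one_add
  · have h1 := hc (Pi.single i 1)
    rw [he, Ideal.zero_eq_bot, Ideal.map_bot, Submodule.mem_bot] at h1
    simp only [lc_apply, Pi.single_apply, ite_mul, one_mul, zero_mul, Finset.sum_ite_eq', Finset.mem_univ,
      if_true] at h1
    linear_combination h1

/-- A flat lift of a determinantal ideal of codimension two is determinantal. -/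
theorem exists_matrix_lift [Module.Flat C A] [IsNoetherianRing A]
    [LocCoh.IsCohenMacaulayRing (A ⧸ (maximalIdeal C).map (algebraMap C A))]
    (J : Ideal C) (hJ : J ≤ maximalIdeal C) (I : Ideal A) [Module.Flat C (A ⧸ I)] {r : ℕ}
    (φ : Matrix (Fin (r + 1)) (Fin r) A)
    (hI : I.map (Ideal.Quotient.mk (J.map (algebraMap C A))) =
      (Ideal.span (Set.range (fs φ))).map (Ideal.Quotient.mk (J.map (algebraMap C A))))
    (hb : ∀ v, lc (fs φ) v ∈ (maximalIdeal C).map (algebraMap C A) →
      ∃ u, v - φ.mulVecLin u ∈ maximalIdeal C • (⊤ : Submodule C (Fin (r + 1) → A)))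
    (hcodim : ∀ p : Ideal (A ⧸ (maximalIdeal C).map (algebraMap C A)), p.IsPrime →
      Ideal.span (Set.range fun i => Ideal.Quotient.mk ((maximalIdeal C).map (algebraMap C A)) (fs φ i)) ≤ p →
        (2 : ℕ∞) ≤ p.height) :
    ∃ φ' : Matrix (Fin (r + 1)) (Fin r) A,
      (∀ i j, φ' i j - φ i j ∈ J.map (algebraMap C A)) ∧ I = Ideal.span (Set.range (fs φ')) := by
  classical
  let NJ := J.map (algebraMap C A)
  let N := (maximalIdeal C).map (algebraMap C A)
  have hNJN : NJ ≤ N := Ideal.map_mono hJ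
  have hex : ∀ i, ∃ x ∈ I, Ideal.Quotient.mk NJ x = Ideal.Quotient.mk NJ (fs φ i) := fun i =>
    (Ideal.mem_map_iff_of_surjective _ Ideal.Quotient.mk_surjective).1
      (hI.ge (Ideal.mem_map_of_mem _ (Ideal.subset_span ⟨i, rfl⟩)))
  choose f hfI hf using hex
  have hnil : N ≤ Ideal.jacobson ⊥ := fun x hx => by
    refine Ideal.radical_le_jacobson ?_
    obtain ⟨e, he⟩ := IsArtinianRing.isNilpotent_jacobson_bot (R := C)
    rw [IsLocalRing.jacobson_eq_maximalIdeal ⊥ bot_ne_top] at he
    refine ⟨e, ?_⟩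
    have h1 : x ^ e ∈ N ^ e := Ideal.pow_mem_pow hx e
    rwa [← Ideal.map_pow, he, Ideal.zero_eq_bot, Ideal.map_bot] at h1
  have hle : Ideal.span (Set.range f) ≤ I := Ideal.span_le.2 (by rintro _ ⟨i, rfl⟩; exact hfI i)
  let q : A →ₗ[C] A ⧸ I := (Ideal.Quotient.mkₐ C I).toLinearMap
  have hpure : ∀ z ∈ I, z ∈ NJ → z ∈ NJ * I := by
    intro z hzI hzJ
    have h3 : z ∈ J • (⊤ : Submodule C A) := by rw [Ideal.smul_top_eq_map]; exact hzJ
    refine Submodule.smul_induction_on (FlatReg.mem_smul_ker_of_flat q Ideal.Quotient.mk_surjective J h3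
      (Ideal.Quotient.eq_zero_iff_mem.2 hzI)) (fun c hc x hx => ?_) fun x y hx hy => add_mem hx hy
    rw [Algebra.smul_def]
    exact Ideal.mul_mem_mul (Ideal.mem_map_of_mem (algebraMap C A) hc)
      (Ideal.Quotient.eq_zero_iff_mem.1 (LinearMap.mem_ker.1 hx))
  have hgenI : I = Ideal.span (Set.range f) := by
    refine le_antisymm (Submodule.le_of_le_smul_of_le_jacobson_bot (I := NJ) (IsNoetherian.noetherian I)
      (hNJN.trans hnil) fun z hz => ?_) hle
    have h1 : Ideal.Quotient.mk NJ z ∈ (Ideal.span (Set.range f)).map (Ideal.Quotient.mk NJ) := by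
      rw [Ideal.map_span, ← Set.range_comp, show Ideal.Quotient.mk NJ ∘ f = Ideal.Quotient.mk NJ ∘ fs φ from funext hf,
        Set.range_comp, ← Ideal.map_span, ← hI]
      exact Ideal.mem_map_of_mem _ hz
    obtain ⟨s, hs, hs'⟩ := (Ideal.mem_map_iff_of_surjective _ Ideal.Quotient.mk_surjective).1 h1
    exact Submodule.mem_sup.2 ⟨s, hs, z - s, hpure _ (I.sub_mem hz (hle hs)) (Ideal.Quotient.eq.1 hs'.symm),
      add_sub_cancel _ _⟩
  -- correct the matrix
  have hcol : ∀ j, ∃ w : Fin (r + 1) → A, (∀ i, w i ∈ NJ) ∧ lc f w = ∑ i, φ i j * f i := by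
    intro j
    have h1 : ∑ i, φ i j * f i ∈ NJ := by
      rw [← Ideal.Quotient.eq_zero_iff_mem, map_sum]
      have h2 := congrArg (Ideal.Quotient.mk NJ) (lc_fs_mulVecLin φ (Pi.single j 1))
      rw [lc_apply, map_sum, map_zero] at h2
      refine (Finset.sum_congr rfl fun i _ => ?_).trans h2
      simp [hf, map_mul, Matrix.mulVecLin_apply, Matrix.mulVec_single]
    have h3 := hpure _ (Ideal.sum_mem _ fun i _ => I.mul_mem_left _ (hfI i)) h1
    rw [hgenI] at h3
    rw [← smul_eq_mul] at h3
    obtain ⟨a, ha, hw⟩ := (Submodule.mem_ideal_smul_span_iff_exists_sum NJ f _).1 h3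
    refine ⟨fun i => a i, ha, hw ▸ ?_⟩
    rw [lc_apply, Finsupp.sum_fintype _ _ (fun i => by rw [zero_smul])]
    rfl
  choose w hwm hw using hcol
  let φ' : Matrix (Fin (r + 1)) (Fin r) A := Matrix.of fun i j => φ i j - w j i
  have hφ' : ∀ i j, φ' i j - φ i j ∈ NJ := fun i j => by
    rw [show φ' i j - φ i j = - w j i by simp [φ']]
    exact neg_mem (hwm j i)
  have hfφ' : ∀ v, lc f (φ'.mulVecLin v) = 0 := fun v => by
    rw [lc_apply]
    simp only [Matrix.mulVecLin_apply, Matrix.mulVec, dotProduct, Finset.sum_mul]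
    rw [Finset.sum_comm]
    refine Finset.sum_eq_zero fun j _ => ?_
    have h1 : ∑ i, φ' i j * v j * f i = v j * (∑ i, φ i j * f i - lc f (w j)) := by
      rw [lc_apply, ← Finset.sum_sub_distrib, Finset.mul_sum]
      exact Finset.sum_congr rfl fun i _ => by simp [φ']; ring
    rw [h1, hw, sub_self, mul_zero]
  have hmapN : φ'.map (Ideal.Quotient.mk N) = φ.map (Ideal.Quotient.mk N) := by
    ext i j
    exact Ideal.Quotient.eq.2 (hNJN (hφ' i j))
  have hfsN : ∀ i, Ideal.Quotient.mk N (fs φ' i) = Ideal.Quotient.mk N (fs φ i) := fun i =>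
    congrFun (((map_fs (Ideal.Quotient.mk N) φ').symm.trans (congrArg fs hmapN)).trans
      (map_fs (Ideal.Quotient.mk N) φ)) i
  obtain ⟨u, hu, huf⟩ := exists_mul_of_killing φ' f
    (fun i => Ideal.Quotient.eq.1 (by
      rw [hfsN]
      exact Ideal.Quotient.eq.2 (hNJN (Ideal.Quotient.eq.1 (hf i)))))
    hfφ'
    (fun v hv => by
      obtain ⟨t, ht⟩ := hb v (by
        rw [← Ideal.Quotient.eq_zero_iff_mem, map_lc] at hv ⊢
        rwa [show Ideal.Quotient.mk N ∘ fs φ = Ideal.Quotient.mk N ∘ fs φ' from funext fun i => (hfsN i).symm])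
      refine ⟨t, ?_⟩
      rw [mem_smul_top_pi] at ht ⊢
      intro i
      have h1 : Ideal.Quotient.mk N ∘ φ'.mulVecLin t = Ideal.Quotient.mk N ∘ φ.mulVecLin t := by
        rw [map_mulVec, map_mulVec, hmapN]
      rw [Pi.sub_apply, ← Ideal.Quotient.eq_zero_iff_mem, map_sub,
        show Ideal.Quotient.mk N (φ'.mulVecLin t i) = Ideal.Quotient.mk N (φ.mulVecLin t i) from congrFun h1 i, ← map_sub]
      exact Ideal.Quotient.eq_zero_iff_mem.2 (ht i))
    (fun p hp hle => hcodim p hp (by
      rw [show (fun i => Ideal.Quotient.mk N (fs φ i)) = fun i => Ideal.Quotient.mk N (fs φ' i) from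
        funext fun i => (hfsN i).symm]
      exact hle))
  refine ⟨φ', hφ', hgenI.trans (le_antisymm (Ideal.span_le.2 ?_) (Ideal.span_le.2 ?_))⟩
  · rintro _ ⟨i, rfl⟩
    have h1 : u * f i ∈ Ideal.span (Set.range (fs φ')) := huf i ▸ Ideal.subset_span ⟨i, rfl⟩
    exact (Ideal.unit_mul_mem_iff_mem _ hu).1 h1
  · rintro _ ⟨i, rfl⟩
    rw [huf i]
    exact Ideal.mul_mem_left _ _ (Ideal.subset_span ⟨i, rfl⟩)

end Groth.Agent.Lib.ArtinFun.HB
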