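import Groth.Agent.Lib.ArtinFun.SmoothAdic
import Groth.Agent.Lib.ArtinFun.Minimal

/-!
# Smooth coefficient rings of hulls
-/

universe u v

open CategoryTheory ArtFun

set_option linter.style.haveILetI false

namespace Groth.Agent.Lib.ArtinFun

variable {Λ : Type u} {k : Type u} [CommRing Λ] [Field k] [Algebra Λ k]
variable [IsNoetherianRing Λ] [Module.Finite Λ k]

/-- A family over a smooth ring bijective on tangent spaces is miniversal when a hull exists. -/
theorem isMiniversal_of_smooth {F : Art Λ k ⥤ Type v} (hF : HasHull F) (R : CRing Λ k)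
    (hR' : IsSmoothFunctor (hR R.carrier R.res)) (ξ : Family R.carrier R.res F)
    (hξ : Function.Bijective (ξ.app (Art.dual Λ k))) : IsMiniversal ξ := by
  obtain ⟨H⟩ := hF
  have h0 : Function.Surjective (H.family.app (Art.base Λ k)) := by
    intro x
    refine ⟨homSetBase _ _, ?_⟩
    obtain ⟨v, hv⟩ := H.miniversal.2.2 (F.map Art.baseToDual x)
    have h1 := congrArg (F.map (Art.toBase (Art.dual Λ k))) hv
    rw [← H.family.natural, map_map, homSetBase_eq (HomSet.map _ v)] at h1
    have e : Art.baseToDual ≫ Art.toBase (Art.dual Λ k) = 𝟙 (Art.base Λ k) :=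
      (Art.eq_toBase _).trans (Art.eq_toBase _).symm
    rw [h1, e, CategoryTheory.Functor.map_id_apply]
  obtain ⟨g, hg, hgξ⟩ := exists_along_eq H.ring H.family H.miniversal.1 h0 R ξ.toFormalElt
  have hξeq : ∀ (A : Art Λ k) (v : HomSet R.carrier R.res A), ξ.app A v = (H.family.along g hg).app A v :=
    fun A v => by rw [family_ext hgξ]
  have hgs : Function.Surjective g := by
    refine surjective_of_tangent_injective H.ring R g hg fun v hv r => ?_
    let v0 : HomSet R.carrier R.res (Art.dual Λ k) := HomSet.map Art.baseToDual (homSetBase _ _)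
    have e : v = v0 := by
      refine hξ.1 ?_
      rw [hξeq, hξeq]
      refine congrArg (H.family.app _) (homSet_ext' fun r' => TrivSqZeroExt.ext ?_ ?_)
      · exact (homSet_res (A := Art.dual Λ k) v (g r')).trans (homSet_res (A := Art.dual Λ k) v0 (g r')).symm
      · exact (hv r').trans rfl
    rw [e]
    rfl
  let P : Art Λ k ⥤ Type u := (Functor.const (Art Λ k)).obj PUnit
  obtain ⟨s, hs, hgs', -⟩ := exists_lift_formal (F := P)
    (fun B A A' A'' p' p'' f' f'' hfp _ => ⟨fun _ _ _ => rfl, fun x => ⟨PUnit.unit, FibProd.ext rfl rfl⟩⟩)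
    R ⟨fun _ _ => PUnit.unit, fun _ _ => rfl⟩ (fun B A μ hμ φ y _ => by
      obtain ⟨ψ, hψ⟩ := hR' μ hμ φ
      exact ⟨ψ, hψ, rfl⟩)
    H.ring R g hg hgs ⟨fun _ => PUnit.unit, fun _ => rfl⟩ (AlgHom.id Λ R.carrier) (AlgHom.comp_id _)
    (FormalElt.ext' fun _ => rfl)
  have hss : Function.Surjective s := by
    refine surjective_of_tangent_injective R H.ring s hs fun v hv r => ?_
    obtain ⟨w, hw⟩ := hξ.2 (H.family.app _ v)
    rw [hξeq] at hw
    have hvw := H.miniversal.2.1 hw
    have hv' : ∀ x, (v.1 x) = (w.1 (g x)) := fun x =>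
      (AlgHom.congr_fun (congrArg Subtype.val hvw) x).symm
    have hw0 : ∀ x, TrivSqZeroExt.snd (w.1 x) = (0 : k) := fun x => by
      have h2 := hv x
      rw [hv', show g (s x) = x from AlgHom.congr_fun hgs' x] at h2
      exact h2
    rw [hv']
    exact hw0 _
  have hgb : Function.Bijective g := by
    refine ⟨fun a b hab => ?_, hgs⟩
    obtain ⟨a, rfl⟩ := hss a
    obtain ⟨b, rfl⟩ := hss b
    rw [show g (s a) = a from AlgHom.congr_fun hgs' a, show g (s b) = b from AlgHom.congr_fun hgs' b] at hab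
    rw [hab]
  refine ⟨fun B A μ hμ φ y hy => ?_, hξ⟩
  rw [hξeq] at hy
  obtain ⟨χ, hχ₁, hχ₂⟩ := H.miniversal.1 μ hμ _ y hy
  let e := AlgEquiv.ofBijective g hgb
  have he : ∀ x, e.symm (g x) = x := fun x => e.symm_apply_apply x
  let ψ : HomSet R.carrier R.res B := ⟨χ.1.comp e.symm.toAlgHom, AlgHom.ext fun r => by
    obtain ⟨x, rfl⟩ := hgs r
    change B.res (χ.1 (e.symm (g x))) = R.res (g x)
    rw [he, homSet_res]
    exact (AlgHom.congr_fun hg x).symm⟩
  refine ⟨ψ, homSet_ext' fun r => ?_, ?_⟩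
  · obtain ⟨x, rfl⟩ := hgs r
    change μ (χ.1 (e.symm (g x))) = φ.1 (g x)
    rw [he]
    exact AlgHom.congr_fun (congrArg Subtype.val hχ₁) x
  · rw [hξeq, ← hχ₂]
    refine congrArg (H.family.app B) (homSet_ext' fun x => ?_)
    change χ.1 (e.symm (g x)) = χ.1 x
    rw [he]

end Groth.Agent.Lib.ArtinFun
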