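import Groth.Agent.Lib.ArtinFun.Versal
import Groth.Agent.Lib.ArtinFun.Completion
import Mathlib.Algebra.Module.SpanRankOperations
import Mathlib.CategoryTheory.Functor.OfSequence

/-!
# Limits of towers of artinian objects with bounded embedding dimension
-/

universe u v

open CategoryTheory ArtFun

set_option linter.style.haveILetI false

namespace Groth.Agent.Lib.ArtinFun

variable {Λ : Type u} {k : Type u} [CommRing Λ] [Field k] [Algebra Λ k]

/-- A surjection preserving the minimal number of generators of the maximal ideals has kernel in the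
square of the maximal ideal. -/
lemma ker_le_sq_of_spanFinrank_le {A B : Art Λ k} (f : B ⟶ A) (hf : Function.Surjective f)
    (h : (IsLocalRing.maximalIdeal B).spanFinrank ≤ (IsLocalRing.maximalIdeal A).spanFinrank)
    {x : B} (hx : f x = 0) : x ∈ IsLocalRing.maximalIdeal B ^ 2 := by
  classical
  obtain ⟨s, hcard, hs⟩ := Submodule.FG.exists_span_finset_card_eq_spanFinrank
    (IsNoetherian.noetherian (IsLocalRing.maximalIdeal B))
  have hxm : x ∈ Submodule.span B (s : Set B) := hs.symm ▸ ker_le_maximalIdeal f ((mem_ker f x).2 hx)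
  obtain ⟨a, ha⟩ := Submodule.mem_span_finset'.1 hxm
  have hmA : IsLocalRing.maximalIdeal A = Submodule.span A (s.image f : Set A) := by
    have e : IsLocalRing.maximalIdeal A = (IsLocalRing.maximalIdeal B).map f.toAlgHom :=
      (IsLocalRing.map_maximalIdeal_of_surjective (f.toAlgHom : B →+* A) hf).symm
    rw [e, show IsLocalRing.maximalIdeal B = Ideal.span (s : Set B) from hs.symm, Ideal.map_span,
      Finset.coe_image]
  rw [← ha]
  refine Ideal.sum_mem _ fun i _ => ?_
  rw [smul_eq_mul, pow_two]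
  refine Ideal.mul_mem_mul ?_ (hs ▸ Submodule.subset_span i.2)
  by_contra hi
  have hu : IsUnit (f (a i)) := (not_not.1 (mt (IsLocalRing.mem_maximalIdeal _).2 hi)).map f.toAlgHom
  have hsum : ∑ j, f (a j) * f (j : B) = 0 := by
    rw [← hx, ← ha, map_sum]
    simp
  let t := (s.erase i.1).image f
  have hspan : IsLocalRing.maximalIdeal A ≤ Submodule.span A (t : Set A) := by
    rw [hmA, Submodule.span_le]
    intro z hz
    rw [Finset.coe_image] at hz
    obtain ⟨j, hj, rfl⟩ := hz
    have hne : ∀ l : s, l ≠ i → f (l : B) ∈ Submodule.span A (t : Set A) := fun l hl =>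
      Submodule.subset_span (by
        rw [Finset.coe_image]
        exact ⟨l.1, Finset.mem_coe.2 (Finset.mem_erase.2 ⟨fun e => hl (Subtype.ext e), l.2⟩), rfl⟩)
    by_cases hji : (⟨j, hj⟩ : s) = i
    · rw [show f j = f (i : B) from congrArg (fun l : s => f (l : B)) hji]
      rw [← Finset.add_sum_erase _ _ (Finset.mem_univ i)] at hsum
      refine (Ideal.unit_mul_mem_iff_mem _ hu).1 ?_
      rw [add_eq_zero_iff_eq_neg.1 hsum]
      exact neg_mem (Ideal.sum_mem _ fun l hl =>
        Ideal.mul_mem_left _ _ (hne l (Finset.ne_of_mem_erase hl)))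
    · exact hne ⟨j, hj⟩ hji
  have hle : Submodule.span A (t : Set A) ≤ IsLocalRing.maximalIdeal A := by
    rw [hmA]
    exact Submodule.span_mono (Finset.coe_subset.2 (Finset.image_subset_image (Finset.erase_subset _ _)))
  have h1 : (IsLocalRing.maximalIdeal A).spanFinrank ≤ t.card := by
    rw [le_antisymm hspan hle]
    refine (Submodule.spanFinrank_span_le_ncard_of_finite t.finite_toSet).trans ?_
    rw [Set.ncard_coe_finset]
  have h2 : t.card < s.card :=
    lt_of_le_of_lt Finset.card_image_le (Finset.card_erase_lt_of_mem i.2)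
  omega

variable [IsNoetherianRing Λ] [Module.Finite Λ k]

/-- Transition maps of a tower. -/
noncomputable def towerTrans {A : ℕ → Art Λ k} (f : ∀ n, A (n + 1) ⟶ A n) {n m : ℕ} (h : n ≤ m) :
    A m ⟶ A n :=
  (Functor.ofOpSequence f).map (homOfLE h).op

omit [IsNoetherianRing Λ] [Module.Finite Λ k] in
lemma towerTrans_succ {A : ℕ → Art Λ k} (f : ∀ n, A (n + 1) ⟶ A n) (n : ℕ) :
    towerTrans f (Nat.le_add_right n 1) = f n :=
  Functor.ofOpSequence_map_homOfLE_succ f n

omit [IsNoetherianRing Λ] [Module.Finite Λ k] in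
lemma towerTrans_refl {A : ℕ → Art Λ k} (f : ∀ n, A (n + 1) ⟶ A n) (n : ℕ) :
    towerTrans f (le_refl n) = 𝟙 _ :=
  (Functor.ofOpSequence f).map_id _

omit [IsNoetherianRing Λ] [Module.Finite Λ k] in
lemma towerTrans_trans {A : ℕ → Art Λ k} (f : ∀ n, A (n + 1) ⟶ A n) {a b c : ℕ} (h : a ≤ b)
    (h' : b ≤ c) : towerTrans f h' ≫ towerTrans f h = towerTrans f (h.trans h') := by
  exact ((Functor.ofOpSequence f).map_comp (homOfLE h').op (homOfLE h).op).symm

/-- Limits of towers with bounded embedding dimension. -/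
theorem exists_cRing_limit (A : ℕ → Art Λ k) (f : ∀ n, A (n + 1) ⟶ A n)
    (hf : ∀ n, Function.Surjective (f n)) (d : ℕ)
    (hd : ∀ n, (IsLocalRing.maximalIdeal (A n)).spanFinrank ≤ d) :
    ∃ (S : CRing Λ k) (π : ∀ n, HomSet S.carrier S.res (A n)),
      (∀ n, HomSet.map (f n) (π (n + 1)) = π n) ∧
      (∀ n, Function.Surjective (π n).1) ∧
      (∀ a : ∀ n, A n, (∀ n, f n (a (n + 1)) = a n) → ∃! s : S.carrier, ∀ n, (π n).1 s = a n) ∧
      (∀ n, ∃ N, RingHom.ker (π N).1 ≤ IsLocalRing.maximalIdeal S.carrier ^ n) ∧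
      (∀ n, ∃ N, IsLocalRing.maximalIdeal S.carrier ^ N ≤ RingHom.ker (π n).1) := by
  classical
  let g : ℕ → ℕ := fun n => (IsLocalRing.maximalIdeal (A n)).spanFinrank
  have hmono : ∀ n, g n ≤ g (n + 1) := fun n => by
    change (IsLocalRing.maximalIdeal (A n)).spanFinrank ≤ _
    rw [← IsLocalRing.map_maximalIdeal_of_surjective ((f n).toAlgHom : A (n + 1) →+* A n) (hf n)]
    exact Ideal.spanFinrank_map_le_of_fg _ (IsNoetherian.noetherian _)
  obtain ⟨n₀, hn₀⟩ : ∃ n₀, ∀ n, g n ≤ g n₀ := by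
    have hex : ∃ e, ∃ n, d - g n = e := ⟨_, 0, rfl⟩
    obtain ⟨n₀, hn₀⟩ := Nat.find_spec hex
    exact ⟨n₀, fun n => by
      have h1 : Nat.find hex ≤ d - g n := Nat.find_min' hex ⟨n, rfl⟩
      have := hd n
      have := hd n₀
      simp only [g] at *
      omega⟩
  have hmono' : Monotone g := monotone_nat_of_le_succ hmono
  have hts : ∀ {n m : ℕ} (h : n ≤ m), Function.Surjective (towerTrans f h) := by
    intro n m h
    induction m, h using Nat.le_induction with
    | base => rw [towerTrans_refl]; exact fun a => ⟨a, rfl⟩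
    | succ m h ih =>
      rw [← towerTrans_trans f h (Nat.le_add_right m 1), towerTrans_succ]
      intro a
      obtain ⟨b, rfl⟩ := ih a
      obtain ⟨c, rfl⟩ := hf m b
      exact ⟨c, rfl⟩
  have hle : ∀ n j : ℕ, n ≤ n + j := fun n j => Nat.le_add_right n j
  obtain ⟨m, x, hx⟩ := exists_generators (Λ := Λ) (A n₀).res (A n₀).res_surjective
    (IsNoetherian.noetherian _)
  choose lift hlift using fun n (a : A n) => hf n a
  -- compatible lifts of the generators
  let xs : ∀ j, Fin m → A (n₀ + j) := fun j => j.rec x (fun j xj i => lift (n₀ + j) (xj i))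
  have hxs : ∀ j i, f (n₀ + j) (xs (j + 1) i) = xs j i := fun j i => hlift _ _
  have hxs0 : ∀ j i, towerTrans f (hle n₀ j) (xs j i) = x i := by
    intro j i
    induction j with
    | zero =>
      change towerTrans f (le_refl n₀) (x i) = x i
      rw [towerTrans_refl]
      rfl
    | succ j ih =>
      change towerTrans f ((hle n₀ j).trans (Nat.le_add_right (n₀ + j) 1)) (xs (j + 1) i) = x i
      rw [← towerTrans_trans f (hle n₀ j) (Nat.le_add_right (n₀ + j) 1), towerTrans_succ, hom_comp_apply, hxs, ih]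
  let B := MvPolynomial (Fin m) Λ
  let resB : B →ₐ[Λ] k := (A n₀).res.comp (MvPolynomial.aeval x)
  have hresB : Function.Surjective resB := fun c => by
    obtain ⟨s, rfl⟩ := (A n₀).res_surjective c
    obtain ⟨p, hp⟩ := hx s 1
    rw [pow_one, Art.mem_maximalIdeal_iff, map_sub, sub_eq_zero] at hp
    exact ⟨p, hp.symm⟩
  obtain ⟨Q, ι, hι, happrox, -, huniv⟩ := exists_completion_strong B resB hresB
  have hev : ∀ j (b : B), towerTrans f (hle n₀ j) (MvPolynomial.aeval (xs j) b) = MvPolynomial.aeval x b := by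
    intro j b
    rw [MvPolynomial.comp_aeval_apply]
    exact congrArg (fun z => MvPolynomial.aeval z b) (funext (hxs0 j))
  choose ψ hψ hψu using fun j => huniv (A (n₀ + j))
    (⟨MvPolynomial.aeval (xs j), AlgHom.ext fun b => by
      change (A (n₀ + j)).res (MvPolynomial.aeval (xs j) b) = (A n₀).res (MvPolynomial.aeval x b)
      rw [← Art.res_app (towerTrans f (hle n₀ j)), hev]⟩ : HomSet B resB (A (n₀ + j)))
  have hψcomp : ∀ j, HomSet.map (f (n₀ + j)) (ψ (j + 1)) = ψ j := fun j => hψu j _ fun b => by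
    change f (n₀ + j) ((ψ (j + 1)).1 (ι b)) = MvPolynomial.aeval (xs j) b
    rw [hψ, MvPolynomial.comp_aeval_apply]
    exact congrArg (fun z => MvPolynomial.aeval z b) (funext (hxs j))
  haveI : IsPrecomplete (RingHom.ker Q.res) Q.carrier := by
    rw [ker_res_cRing]; exact isPrecomplete_cRing Q
  have hψs : ∀ j, Function.Surjective (ψ j).1 := by
    intro j
    refine surjective_of_map_sup_sq (A (n₀ + j)).res (A (n₀ + j)).res_surjective Q.res Q.res_surjective
      (ψ j).1 (ψ j).2 (le_antisymm (sup_le ?_ (Ideal.pow_le_self two_ne_zero)) fun a ha => ?_)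
    · rw [Ideal.map_le_iff_le_comap]
      intro q hq
      rw [Ideal.mem_comap, Art.mem_maximalIdeal_iff, homSet_res]
      exact hq
    · obtain ⟨p, hp⟩ := hx (towerTrans f (hle n₀ j) a) 2
      rw [← hev j p, ← map_sub] at hp
      have hmem : a - MvPolynomial.aeval (xs j) p ∈ IsLocalRing.maximalIdeal (A (n₀ + j)) ^ 2 := by
        rw [← IsLocalRing.map_maximalIdeal_of_surjective
          ((towerTrans f (hle n₀ j)).toAlgHom : A (n₀ + j) →+* A n₀) (hts (hle n₀ j)), ← Ideal.map_pow] at hp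
        obtain ⟨c, hc, hce⟩ := (Ideal.mem_map_iff_of_surjective
          ((towerTrans f (hle n₀ j)).toAlgHom : A (n₀ + j) →+* A n₀) (hts (hle n₀ j))).1 hp
        rw [← sub_add_cancel (a - MvPolynomial.aeval (xs j) p) c]
        refine add_mem (ker_le_sq_of_spanFinrank_le (towerTrans f (hle n₀ j)) (hts (hle n₀ j)) (hn₀ _) ?_) hc
        rw [map_sub]
        exact sub_eq_zero.2 hce.symm
      rw [← sub_add_cancel a (MvPolynomial.aeval (xs j) p)]
      refine add_mem (Ideal.mem_sup_right hmem) (Ideal.mem_sup_left ?_)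
      have h1 : (ψ j).1 (ι p) = MvPolynomial.aeval (xs j) p := hψ j p
      rw [← h1]
      refine Ideal.mem_map_of_mem _ ?_
      rw [RingHom.mem_ker, ← homSet_res (ψ j), h1, ← Art.mem_maximalIdeal_iff]
      have := sub_mem ha (Ideal.pow_le_self two_ne_zero hmem)
      rwa [sub_sub_cancel] at this
  -- extend to all levels
  let χ : ∀ n, HomSet Q.carrier Q.res (A n) := fun n =>
    HomSet.map (towerTrans f (Nat.le_add_left n n₀)) (ψ n)
  have hχcomp : ∀ n, HomSet.map (f n) (χ (n + 1)) = χ n := by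
    intro n
    simp only [χ]
    rw [← hψcomp n, homSet_map_map, homSet_map_map, ← towerTrans_succ f n, ← towerTrans_succ f (n₀ + n),
      towerTrans_trans, towerTrans_trans]
  have hχs : ∀ n, Function.Surjective (χ n).1 := fun n a => by
    obtain ⟨b, rfl⟩ := hts (Nat.le_add_left n n₀) a
    obtain ⟨q, rfl⟩ := hψs n b
    exact ⟨q, rfl⟩
  let K : ℕ → Ideal Q.carrier := fun n => RingHom.ker (χ n).1
  have hK : Antitone K := antitone_nat_of_succ_le fun n q hq => by
    simp only [K, RingHom.mem_ker] at hq ⊢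
    rw [← hχcomp n]
    change f n ((χ (n + 1)).1 q) = 0
    rw [hq, map_zero]
  have hpow : ∀ q, ∃ N, IsLocalRing.maximalIdeal Q.carrier ^ N ≤ K q := fun q => by
    obtain ⟨N, hN⟩ := exists_maximalIdeal_pow_eq_bot (A q)
    exact ⟨N, fun r hr => homSet_pow_le_ker (χ q) hN (by rwa [ker_res_cRing])⟩
  obtain ⟨S, p, hp, hps, hpk⟩ := exists_cRing_quotient Q (⨅ q, K q)
    ((iInf_le _ 0).trans fun r hr => by
      rw [CRing.mem_maximalIdeal_iff, ← homSet_res (χ 0), RingHom.mem_ker.1 hr, map_zero])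
  let π₀ : ∀ n, S.carrier →ₐ[Λ] A n := fun n =>
    (Ideal.Quotient.liftₐ (RingHom.ker p) (χ n).1 fun r hr => (Submodule.mem_iInf _).1 ((hpk r).1 hr) n).comp
      (Ideal.quotientKerAlgEquivOfSurjective hps).symm.toAlgHom
  have hπ₀ : ∀ n r, π₀ n (p r) = (χ n).1 r := fun n r => by
    have e : (Ideal.quotientKerAlgEquivOfSurjective hps).symm (p r) = Ideal.Quotient.mk _ r := by
      rw [AlgEquiv.symm_apply_eq]; rfl
    change Ideal.Quotient.liftₐ (RingHom.ker p) (χ n).1
      (fun r hr => (Submodule.mem_iInf _).1 ((hpk r).1 hr) n) ((Ideal.quotientKerAlgEquivOfSurjective hps).symm (p r)) = _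
    rw [e]
    rfl
  let π : ∀ n, HomSet S.carrier S.res (A n) := fun n => ⟨π₀ n, AlgHom.ext fun s => by
    obtain ⟨r, rfl⟩ := hps s
    change (A n).res (π₀ n (p r)) = S.res (p r)
    rw [hπ₀, homSet_res]
    exact (AlgHom.congr_fun hp r).symm⟩
  have hmap : (IsLocalRing.maximalIdeal Q.carrier).map p = IsLocalRing.maximalIdeal S.carrier :=
    IsLocalRing.map_maximalIdeal_of_surjective (p : Q.carrier →+* S.carrier) hps
  have hsep : ∀ s : S.carrier, (∀ n, (π n).1 s = 0) → s = 0 := fun s hs => by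
    obtain ⟨r, rfl⟩ := hps s
    refine (hpk r).2 ((Submodule.mem_iInf _).2 fun n => ?_)
    rw [RingHom.mem_ker, ← hπ₀]
    exact hs n
  have hker : ∀ n, ∃ N, RingHom.ker (π N).1 ≤ IsLocalRing.maximalIdeal S.carrier ^ n := fun n => by
    obtain ⟨N, hN⟩ := exists_le_iInf_sup_pow Q K hK hpow n
    refine ⟨N, fun s hs => ?_⟩
    obtain ⟨r, rfl⟩ := hps s
    obtain ⟨a, ha, b, hb, rfl⟩ := Submodule.mem_sup.1 (hN (show r ∈ K N from (hπ₀ N r).symm.trans hs))
    rw [map_add, (hpk a).2 ha, zero_add, ← hmap, ← Ideal.map_pow]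
    exact Ideal.mem_map_of_mem _ hb
  have hlow : ∀ n, ∃ N, IsLocalRing.maximalIdeal S.carrier ^ N ≤ RingHom.ker (π n).1 := fun n => by
    obtain ⟨N, hN⟩ := exists_maximalIdeal_pow_eq_bot (A n)
    exact ⟨N, fun r hr => homSet_pow_le_ker (π n) hN (by rwa [ker_res_cRing])⟩
  have hπcomp : ∀ n, HomSet.map (f n) (π (n + 1)) = π n := fun n => homSet_ext' fun s => by
    obtain ⟨r, rfl⟩ := hps s
    change f n (π₀ (n + 1) (p r)) = π₀ n (p r)
    rw [hπ₀, hπ₀]
    exact AlgHom.congr_fun (congrArg Subtype.val (hχcomp n)) r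
  have hπs : ∀ n, Function.Surjective (π n).1 := fun n a => by
    obtain ⟨r, rfl⟩ := hχs n a
    exact ⟨p r, hπ₀ n r⟩
  refine ⟨S, π, hπcomp, hπs, fun a ha => ?_, hker, hlow⟩
  choose s hs using fun n => hπs n (a n)
  have hdown : ∀ n D, (π n).1 (s (n + D)) = a n := by
    intro n D
    induction D generalizing n with
    | zero => exact hs n
    | succ D ih =>
      rw [← hπcomp n]
      change f n ((π (n + 1)).1 (s (n + (D + 1)))) = a n
      rw [show n + (D + 1) = n + 1 + D by omega, ih (n + 1), ha]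
  choose N hN using hker
  let M : ℕ → ℕ := fun j => (Finset.range (j + 1)).sum N + j
  have hMmono : ∀ {i j}, i ≤ j → N i + i ≤ M j := fun {i j} hij =>
    add_le_add (Finset.single_le_sum (fun _ _ => Nat.zero_le _) (Finset.mem_range.2 (by omega))) hij
  haveI := isPrecomplete_cRing S
  obtain ⟨L, hL⟩ := exists_limit (IsLocalRing.maximalIdeal S.carrier) (fun j => s (M j)) fun j => by
    refine hN j ?_
    have h1 := hMmono (le_refl j)
    have h2 : N j + j ≤ M (j + 1) := hMmono (Nat.le_succ j)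
    have e : ∀ l, N j ≤ l → (π (N j)).1 (s l) = a (N j) := fun l hl => by
      obtain ⟨D, rfl⟩ := Nat.exists_eq_add_of_le hl
      exact hdown _ D
    rw [RingHom.mem_ker, map_sub, e _ (by omega), e _ (by omega), sub_self]
  refine ⟨L, fun n => ?_, fun L' hL' => ?_⟩
  · obtain ⟨N', hN'⟩ := hlow n
    have h1 : (π n).1 (s (M (N' + n)) - L) = 0 :=
      hN' (Ideal.pow_le_pow_right (Nat.le_add_right _ _) (hL (N' + n)))
    rw [map_sub, sub_eq_zero] at h1
    obtain ⟨D, hD⟩ := Nat.exists_eq_add_of_le (show n ≤ M (N' + n) by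
      change n ≤ _ + (N' + n)
      omega)
    rw [← h1, hD, hdown]
  · rw [← sub_eq_zero]
    refine hsep _ fun n => ?_
    rw [map_sub, hL' n]
    obtain ⟨N', hN'⟩ := hlow n
    have h1 : (π n).1 (s (M (N' + n)) - L) = 0 :=
      hN' (Ideal.pow_le_pow_right (Nat.le_add_right _ _) (hL (N' + n)))
    rw [map_sub, sub_eq_zero] at h1
    obtain ⟨D, hD⟩ := Nat.exists_eq_add_of_le (show n ≤ M (N' + n) by
      change n ≤ _ + (N' + n)
      omega)
    rw [← h1, hD, hdown, sub_self]

end Groth.Agent.Lib.ArtinFun
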