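import Groth.Agent.Lib.ArtinFun.Decompose

/-!
# Recognising power series extensions
-/

universe u v

open CategoryTheory ArtFun MvPowerSeries

set_option linter.style.haveILetI false

namespace Groth.Agent.Lib.ArtinFun

variable {Λ : Type u} {k : Type u} [CommRing Λ] [Field k] [Algebra Λ k]

/-- A series is its constant term plus a combination of the variables. -/
lemma exists_eq_C_add_sum {S : Type u} [CommRing S] {n : ℕ} (f : MvPowerSeries (Fin n) S) :
    ∃ h : Fin n → MvPowerSeries (Fin n) S,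
      f = MvPowerSeries.C (MvPowerSeries.constantCoeff f) + ∑ i, h i * X i := by
  classical
  have h1 := Groth.Agent.Lib.FSAdic.PowerSeries.sub_truncTotal_mem f 1
  rw [pow_one] at h1
  obtain ⟨h, hh⟩ := Ideal.mem_span_range_iff_exists_fun.1 h1
  have hc : ((truncTotal 1 f : MvPolynomial (Fin n) S) : MvPowerSeries (Fin n) S) =
      MvPowerSeries.C (MvPowerSeries.constantCoeff f) := by
    refine MvPowerSeries.ext fun d => ?_
    rw [MvPolynomial.coeff_coe, MvPowerSeries.coeff_C]
    by_cases hd : d = 0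
    · subst hd
      rw [coeff_truncTotal _ (by simp), if_pos rfl, MvPowerSeries.coeff_zero_eq_constantCoeff_apply]
    · rw [coeff_truncTotal_eq_zero _ (Nat.one_le_iff_ne_zero.2 fun h => hd ((Finsupp.degree_eq_zero_iff d).1 h)), if_neg hd]
  rw [hc] at hh
  exact ⟨h, by rw [hh, add_sub_cancel]⟩

/-- A map out of a power series ring given on constants and variables respects augmentations. -/
lemma res_comp_of_values (R' R : CRing Λ k) {r : ℕ} (i : R'.carrier →ₐ[Λ] R.carrier)
    (hi : R.res.comp i = R'.res) (φ : MvPowerSeries (Fin r) R'.carrier →ₐ[Λ] R.carrier)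
    (hC : ∀ a, φ (MvPowerSeries.C a) = i a) (hX : ∀ j, R.res (φ (X j)) = 0) :
    R.res.comp φ = psRes R' r := AlgHom.ext fun f => by
  obtain ⟨h, hh⟩ := exists_eq_C_add_sum f
  rw [AlgHom.comp_apply, psRes_apply]
  conv_lhs => rw [hh]
  rw [map_add, map_add, map_sum, map_sum, hC, CRing.res_comp_apply i hi, Finset.sum_eq_zero, add_zero]
  intro j _
  rw [map_mul, map_mul, hX, mul_zero]

/-- A map out of a power series ring is surjective when the maximal ideal is covered. -/
theorem surjective_of_span (R' R : CRing Λ k) {r : ℕ} (i : R'.carrier →ₐ[Λ] R.carrier)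
    (hi : R.res.comp i = R'.res) (φ : MvPowerSeries (Fin r) R'.carrier →ₐ[Λ] R.carrier)
    (hC : ∀ a, φ (MvPowerSeries.C a) = i a) (x : Fin r → R.carrier) (hX : ∀ j, φ (X j) = x j)
    (hx : ∀ j, R.res (x j) = 0)
    (hspan : IsLocalRing.maximalIdeal R.carrier ≤
      Ideal.span (Set.range x) ⊔ (IsLocalRing.maximalIdeal R'.carrier).map i ⊔
        IsLocalRing.maximalIdeal R.carrier ^ 2) : Function.Surjective φ := by
  have hres := res_comp_of_values R' R i hi φ hC (fun j => by rw [hX, hx])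
  haveI : IsPrecomplete (RingHom.ker (psRes R' r)) (MvPowerSeries (Fin r) R'.carrier) := by
    rw [ker_psRes]
    exact (isAdicComplete_ps R' r).toIsPrecomplete
  refine surjective_of_map_sup_sq R.res R.res_surjective (psRes R' r) (psRes_surjective R' r) φ hres
    (le_antisymm (sup_le ?_ (Ideal.pow_le_self two_ne_zero)) (hspan.trans (sup_le_sup_right (sup_le ?_ ?_) _)))
  · rw [Ideal.map_le_iff_le_comap]
    intro f hf
    rw [Ideal.mem_comap, CRing.mem_maximalIdeal_iff]
    exact (AlgHom.congr_fun hres f).trans hf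
  · rw [Ideal.span_le]
    rintro _ ⟨j, rfl⟩
    rw [← hX]
    exact Ideal.mem_map_of_mem _ (RingHom.mem_ker.2 (by
      rw [psRes_apply, MvPowerSeries.constantCoeff_X, map_zero]))
  · rw [Ideal.map_le_iff_le_comap]
    intro a ha
    rw [Ideal.mem_comap, ← hC]
    exact Ideal.mem_map_of_mem _ (RingHom.mem_ker.2 (by
      rw [psRes_apply, MvPowerSeries.constantCoeff_C]
      exact (CRing.mem_maximalIdeal_iff R' a).1 ha))

/-- Minimal complementary generators of the maximal ideal. -/
theorem exists_min_gens {S : Type u} [CommRing S] [IsLocalRing S] [IsNoetherianRing S] (I J : Ideal S)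
    (h : I ⊔ J = IsLocalRing.maximalIdeal S) :
    ∃ (n : ℕ) (x : Fin n → S), (∀ i, x i ∈ I) ∧ Ideal.span (Set.range x) ⊔ J = IsLocalRing.maximalIdeal S ∧
      ∀ c : Fin n → S, (∑ i, c i * x i) ∈ J → ∀ i, c i ∈ IsLocalRing.maximalIdeal S := by
  classical
  have hex : ∃ n, ∃ x : Fin n → S, (∀ i, x i ∈ I) ∧ Ideal.span (Set.range x) ⊔ J = IsLocalRing.maximalIdeal S := by
    obtain ⟨n, x, hx⟩ := Submodule.fg_iff_exists_fin_generating_family.1 (IsNoetherian.noetherian I)
    refine ⟨n, x, fun i => hx ▸ Submodule.subset_span ⟨i, rfl⟩, ?_⟩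
    rw [show Ideal.span (Set.range x) = I from hx, h]
  obtain ⟨n, ⟨x, hxI, hspan⟩, hmin⟩ :
      ∃ n, (∃ x : Fin n → S, (∀ i, x i ∈ I) ∧ Ideal.span (Set.range x) ⊔ J = IsLocalRing.maximalIdeal S) ∧
        ∀ m < n, ¬ ∃ x : Fin m → S, (∀ i, x i ∈ I) ∧ Ideal.span (Set.range x) ⊔ J = IsLocalRing.maximalIdeal S :=
    ⟨Nat.find hex, Nat.find_spec hex, fun m => Nat.find_min hex⟩
  refine ⟨n, x, hxI, hspan, fun c hc i => ?_⟩
  by_contra hi
  obtain ⟨d, rfl⟩ : ∃ d, n = d + 1 := ⟨n - 1, by have := i.2; omega⟩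
  refine hmin d (by omega) ⟨fun j => x (i.succAbove j), fun j => hxI _, le_antisymm (sup_le ?_ ?_) ?_⟩
  · refine le_trans (Ideal.span_mono (t := Set.range x) ?_) (hspan ▸ le_sup_left)
    rintro _ ⟨j, rfl⟩
    exact ⟨_, rfl⟩
  · exact h ▸ le_sup_right
  · rw [← hspan]
    refine sup_le ?_ le_sup_right
    have hother : ∀ l, l ≠ i → x l ∈ Ideal.span (Set.range fun j => x (i.succAbove j)) ⊔ J := fun l hl => by
      obtain ⟨j, hj⟩ := Fin.exists_succAbove_eq hl
      exact Ideal.mem_sup_left (Ideal.subset_span ⟨j, congrArg x hj⟩)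
    rw [Ideal.span_le]
    rintro _ ⟨l, rfl⟩
    by_cases hl : l = i
    · subst hl
      have hu : IsUnit (c l) := by
        by_contra h'
        exact hi (by rw [IsLocalRing.mem_maximalIdeal]; exact h')
      rw [← Finset.add_sum_erase _ _ (Finset.mem_univ l)] at hc
      refine (Ideal.unit_mul_mem_iff_mem _ hu).1 ?_
      rw [← add_sub_cancel_right (c l * x l) (∑ j ∈ Finset.univ.erase l, c j * x j)]
      refine sub_mem (Ideal.mem_sup_right hc) (Ideal.sum_mem _ fun j hj => ?_)
      exact Ideal.mul_mem_left _ _ (hother j (Finset.ne_of_mem_erase hj))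
    · exact hother l hl

variable [IsNoetherianRing Λ] [Module.Finite Λ k]

/-- A versal family is the extension of a minimal versal one to a power series ring. -/
theorem exists_decomposition {F : Art Λ k ⥤ Type v} (h0 : H0 F) (R : CRing Λ k)
    (ξ : Family R.carrier R.res F) (hξ : IsVersal ξ) :
    ∃ (R' : CRing Λ k) (ξ' : Family R'.carrier R'.res F), ξ'.IsMinimalVersal ∧
      ∃ (g : R'.carrier →ₐ[Λ] R.carrier) (hg : R.res.comp g = R'.res)
        (n : ℕ) (e : R.carrier ≃ₐ[Λ] MvPowerSeries (Fin n) R'.carrier),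
        (∀ a : R'.carrier, e (g a) = algebraMap R'.carrier (MvPowerSeries (Fin n) R'.carrier) a) ∧
        (ξ'.along g hg).toFormalElt = ξ.toFormalElt := by
  obtain ⟨R', ξ', p, i, hp, hi, hpi, hmin, hξ'⟩ := exists_minimal_retract h0 R ξ hξ
  refine ⟨R', ξ', hmin, i, hi, ?_⟩
  set m := IsLocalRing.maximalIdeal R.carrier with hm
  let I := RingHom.ker p
  let J := (IsLocalRing.maximalIdeal R'.carrier).map i ⊔ m ^ 2
  have hIm : I ≤ m := fun x hx => by
    rw [hm, CRing.mem_maximalIdeal_iff, ← CRing.res_comp_apply p hp, RingHom.mem_ker.1 hx, map_zero]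
  have hJm : J ≤ m := sup_le (Ideal.map_le_iff_le_comap.2 (CRing.maximalIdeal_le_comap i hi))
    (Ideal.pow_le_self two_ne_zero)
  have hIJ : I ⊔ J = m := le_antisymm (sup_le hIm hJm) fun x hx => by
    rw [← sub_add_cancel x (i (p x))]
    exact add_mem (Ideal.mem_sup_left (by rw [RingHom.mem_ker, map_sub, hpi, sub_self]))
      (Ideal.mem_sup_right (Ideal.mem_sup_left (Ideal.mem_map_of_mem _
        (CRing.maximalIdeal_le_comap p hp hx))))
  obtain ⟨n, x, hxI, hspan, hindep⟩ := exists_min_gens I J hIJ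
  have hxres : ∀ j, R.res (x j) = 0 := fun j => (CRing.mem_maximalIdeal_iff R _).1 (hIm (hxI j))
  obtain ⟨φ, hφ, hφC, hφX⟩ := exists_algHom_ps R' R i hi x hxres
  have hφs : Function.Surjective φ := surjective_of_span R' R i hi φ hφC x hφX hxres (by
    rw [sup_assoc]; exact hspan.ge)
  let P := psCRing R' n
  let C' : R'.carrier →ₐ[Λ] P.carrier := IsScalarTower.toAlgHom Λ R'.carrier (MvPowerSeries (Fin n) R'.carrier)
  have hC' : P.res.comp C' = R'.res := AlgHom.ext fun r => by
    change psRes R' n (MvPowerSeries.C r) = R'.res r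
    rw [psRes_apply, MvPowerSeries.constantCoeff_C]
  let φP : P.carrier →ₐ[Λ] R.carrier := φ
  have hφP : R.res.comp φP = P.res := hφ
  let η := (ξ'.along C' hC').toFormalElt
  -- `φ` is bijective modulo squares
  let Φ : P.trunc 1 ⟶ R.trunc 1 := CRing.truncMapOfHom φP hφP 1
  have hΦb : Function.Bijective Φ := by
    refine ⟨fun a b hab => ?_, fun b => ?_⟩
    · obtain ⟨a, rfl⟩ := truncHom_surjective P 1 a
      obtain ⟨b, rfl⟩ := truncHom_surjective P 1 b
      have h2 : φP (a - b) ∈ m ^ 2 := by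
        rw [map_sub]; exact Ideal.Quotient.eq.1 hab
      refine Ideal.Quotient.eq.2 ?_
      set f : MvPowerSeries (Fin n) R'.carrier := a - b
      change f ∈ IsLocalRing.maximalIdeal (MvPowerSeries (Fin n) R'.carrier) ^ 2
      obtain ⟨h, hh⟩ := exists_eq_C_add_sum f
      set c := MvPowerSeries.constantCoeff f
      have hφf : φ f = i c + ∑ j, φ (h j) * x j := by
        conv_lhs => rw [hh]
        rw [map_add, map_sum, hφC]
        simp only [map_mul, hφX]
      have hc : c ∈ IsLocalRing.maximalIdeal R'.carrier ^ 2 := by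
        have h3 : p (φ f) = c := by
          rw [hφf, map_add, map_sum, hpi, Finset.sum_eq_zero, add_zero]
          intro j _
          rw [map_mul, RingHom.mem_ker.1 (hxI j), mul_zero]
        rw [← h3]
        exact Ideal.pow_right_mono (Ideal.map_le_iff_le_comap.2 (CRing.maximalIdeal_le_comap p hp)) 2
          (Ideal.map_pow p m 2 ▸ Ideal.mem_map_of_mem p h2)
      have hcJ : i c ∈ J := Ideal.mem_sup_left (Ideal.mem_map_of_mem _ (Ideal.pow_le_self two_ne_zero hc))
      have hsum : (∑ j, φ (h j) * x j) ∈ J := by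
        have h4 := sub_mem (Ideal.mem_sup_right (S := (IsLocalRing.maximalIdeal R'.carrier).map i) h2) hcJ
        rw [show φP f = φ f from rfl, hφf, add_sub_cancel_left] at h4
        exact h4
      have hCm : (IsLocalRing.maximalIdeal R'.carrier).map (MvPowerSeries.C (σ := Fin n)) ≤
          IsLocalRing.maximalIdeal (MvPowerSeries (Fin n) R'.carrier) :=
        Ideal.map_le_iff_le_comap.2 fun r hr => by
          rw [Ideal.mem_comap, mem_maximalIdeal_ps, psRes_apply, MvPowerSeries.constantCoeff_C]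
          exact (CRing.mem_maximalIdeal_iff R' r).1 hr
      have hC2 : MvPowerSeries.C c ∈ IsLocalRing.maximalIdeal (MvPowerSeries (Fin n) R'.carrier) ^ 2 := by
        refine Ideal.pow_right_mono hCm 2 ?_
        rw [← Ideal.map_pow]
        exact Ideal.mem_map_of_mem _ hc
      have hX2 : ∀ j, h j * X j ∈ IsLocalRing.maximalIdeal (MvPowerSeries (Fin n) R'.carrier) ^ 2 := by
        intro j
        rw [pow_two]
        refine Ideal.mul_mem_mul ?_ (span_X_le_maximalIdeal R' n (Ideal.subset_span ⟨j, rfl⟩))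
        rw [mem_maximalIdeal_ps, ← AlgHom.congr_fun hφ (h j)]
        exact (CRing.mem_maximalIdeal_iff R _).1 (hindep _ hsum j)
      rw [hh]
      exact add_mem hC2 (Ideal.sum_mem _ fun j _ => hX2 j)
    · obtain ⟨b, rfl⟩ := truncHom_surjective R 1 b
      obtain ⟨a, rfl⟩ := hφs b
      exact ⟨(P.truncHom 1).1 a, rfl⟩
  haveI := isIso_of_bijective Φ hΦb
  let θ₁ : HomSet R.carrier R.res (P.trunc 1) := HomSet.map (inv Φ) (R.truncHom 1)
  have hηξ : ξ.toFormalElt = η.push φP hφP := by
    rw [← hξ', toFormalElt_along, ← toFormalElt_along (ξ'.along C' hC') φP hφP, ← toFormalElt_along]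
    exact FormalElt.ext' fun l => congrArg (ξ'.app _) (homSet_ext' fun a => congrArg (R.truncHom l).1 (hφC a).symm)
  have hθ₁ : ξ.app _ θ₁ = η.elt 1 := by
    rw [ξ.natural]
    have h1 : ξ.app _ (R.truncHom 1) = F.map Φ (η.elt 1) := congrArg (fun u : FormalElt F R => u.elt 1) hηξ
    rw [h1, map_map, IsIso.hom_inv_id, CategoryTheory.Functor.map_id_apply]
  -- successive lifts
  have step : ∀ (l : ℕ) (φ : {φ : HomSet R.carrier R.res (P.trunc (l + 1)) // ξ.app _ φ = η.elt (l + 1)}),
      ∃ ψ : {ψ : HomSet R.carrier R.res (P.trunc (l + 1 + 1)) // ξ.app _ ψ = η.elt (l + 1 + 1)},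
        HomSet.map (P.truncMap (l + 1)) ψ.1 = φ.1 := by
    intro l φ
    obtain ⟨ψ, h₁, h₂⟩ := hξ (P.truncMap (l + 1)) (truncMap_surjective P (l + 1)) φ.1 (η.elt (l + 1 + 1))
      (by rw [η.compat, φ.2])
    exact ⟨⟨ψ, h₂⟩, h₁⟩
  choose next hnext using step
  let θ : ∀ l, {φ : HomSet R.carrier R.res (P.trunc (l + 1)) // ξ.app _ φ = η.elt (l + 1)} :=
    fun l => l.rec ⟨θ₁, hθ₁⟩ next
  let θ' : ∀ l, HomSet R.carrier R.res (P.trunc l) := fun l => HomSet.map (P.truncMap l) (θ l).1
  obtain ⟨g, hg, hgθ⟩ := exists_algHom_of_trunc P θ' fun l =>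
    congrArg (HomSet.map (P.truncMap l)) (hnext l (θ l))
  have hg1 : ∀ r, (P.truncHom 1).1 (g r) = θ₁.1 r := fun r => by
    rw [hgθ]
    exact AlgHom.congr_fun (congrArg Subtype.val (hnext 0 (θ 0))) r
  let gφ : MvPowerSeries (Fin n) R'.carrier →ₐ[Λ] MvPowerSeries (Fin n) R'.carrier := AlgHom.comp g φP
  have hgφ : ∀ f, gφ f - f ∈ IsLocalRing.maximalIdeal (MvPowerSeries (Fin n) R'.carrier) ^ 2 := by
    intro f
    have h1 : (P.truncHom 1).1 (g (φP f)) = (P.truncHom 1).1 f := by
      rw [hg1]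
      change inv Φ (Φ ((P.truncHom 1).1 f)) = _
      rw [← hom_comp_apply, IsIso.hom_inv_id]
      rfl
    exact Ideal.Quotient.eq.1 h1
  haveI : IsPrecomplete (RingHom.ker (psRes R' n)) (MvPowerSeries (Fin n) R'.carrier) := by
    rw [ker_psRes]
    exact (isAdicComplete_ps R' n).toIsPrecomplete
  have hgφres : (psRes R' n).comp gφ = psRes R' n := AlgHom.ext fun f => by
    have h1 := Ideal.pow_le_self two_ne_zero (hgφ f)
    rw [mem_maximalIdeal_ps, map_sub, sub_eq_zero] at h1
    exact h1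
  have hgφs : Function.Surjective gφ := by
    refine surjective_of_map_sup_sq (psRes R' n) (psRes_surjective R' n) (psRes R' n) (psRes_surjective R' n)
      gφ hgφres (le_antisymm (sup_le ?_ (Ideal.pow_le_self two_ne_zero)) fun f hf => ?_)
    · rw [Ideal.map_le_iff_le_comap]
      intro f hf
      rw [Ideal.mem_comap, mem_maximalIdeal_ps]
      exact (AlgHom.congr_fun hgφres f).trans hf
    · rw [← sub_sub_cancel (gφ f) f]
      exact sub_mem (Ideal.mem_sup_left (Ideal.mem_map_of_mem _ (by rwa [ker_psRes])))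
        (Ideal.mem_sup_right (hgφ f))
  have hb := bijective_of_surjective_endo gφ hgφs
  have hφb : Function.Bijective φ := ⟨fun a b hab => hb.1 (congrArg g hab), hφs⟩
  refine ⟨n, (AlgEquiv.ofBijective φ hφb).symm, fun a => ?_, hξ'⟩
  rw [AlgEquiv.symm_apply_eq]
  exact (hφC a).symm

omit [IsNoetherianRing Λ] [Module.Finite Λ k] in
/-- Left inverses modulo powers force an isomorphism. -/
theorem bijective_of_left_inverse (R' R : CRing Λ k) [Algebra R'.carrier R.carrier]
    [IsScalarTower Λ R'.carrier R.carrier]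
    (hc : R.res.comp (IsScalarTower.toAlgHom Λ R'.carrier R.carrier) = R'.res)
    (ρ : R.carrier →ₐ[R'.carrier] R'.carrier)
    (r : ℕ) (x : Fin r → R.carrier) (hxI : ∀ i, ρ (x i) = 0)
    (hspan : Ideal.span (Set.range x) ⊔ IsLocalRing.maximalIdeal R.carrier * RingHom.ker ρ = RingHom.ker ρ)
    (φ : MvPowerSeries (Fin r) R'.carrier →ₐ[R'.carrier] R.carrier) (hφ : ∀ i, φ (MvPowerSeries.X i) = x i)
    (hinv : ∃ N : ℕ, ∀ n, N ≤ n →
      ∃ g : R.carrier →ₐ[Λ] (MvPowerSeries (Fin r) R'.carrier ⧸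
          IsLocalRing.maximalIdeal (MvPowerSeries (Fin r) R'.carrier) ^ n),
        ∀ s, g (φ s) = Ideal.Quotient.mk _ s) :
    Function.Bijective φ := by
  obtain ⟨N, hN⟩ := hinv
  have hker : RingHom.ker ρ ≤ IsLocalRing.maximalIdeal R.carrier :=
    IsLocalRing.le_maximalIdeal (RingHom.ker_ne_top ρ.toRingHom)
  have hxres : ∀ j, R.res (x j) = 0 := fun j =>
    (CRing.mem_maximalIdeal_iff R _).1 (hker (RingHom.mem_ker.2 (hxI j)))
  refine ⟨(injective_iff_map_eq_zero φ).2 fun s hs => ?_, ?_⟩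
  · refine (isAdicComplete_ps R' r).haus' s fun n => ?_
    obtain ⟨g, hg⟩ := hN (n + N) (Nat.le_add_left _ _)
    rw [SModEq.zero, smul_eq_mul, Ideal.mul_top]
    refine Ideal.pow_le_pow_right (Nat.le_add_right n N) ?_
    rw [← Ideal.Quotient.eq_zero_iff_mem, ← hg, hs, map_zero]
  · refine surjective_of_span R' R (IsScalarTower.toAlgHom Λ R'.carrier R.carrier) hc
      (φ.restrictScalars Λ) (fun a => φ.commutes a) x hφ hxres fun a ha => ?_
    rw [← sub_add_cancel a (algebraMap R'.carrier R.carrier (ρ a))]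
    refine add_mem ?_ (Ideal.mem_sup_left (Ideal.mem_sup_right ?_))
    · have h1 : a - algebraMap R'.carrier R.carrier (ρ a) ∈ RingHom.ker ρ := by
        rw [RingHom.mem_ker, map_sub, AlgHom.commutes]; simp
      rw [← hspan] at h1
      refine (sup_le (c := Ideal.span (Set.range x) ⊔
        (IsLocalRing.maximalIdeal R'.carrier).map (IsScalarTower.toAlgHom Λ R'.carrier R.carrier) ⊔
        IsLocalRing.maximalIdeal R.carrier ^ 2) ?_ ?_) h1
      · exact le_sup_left.trans le_sup_left
      · rw [pow_two]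
        exact (Ideal.mul_mono_right hker).trans le_sup_right
    · refine Ideal.mem_map_of_mem _ ?_
      rw [CRing.mem_maximalIdeal_iff, ← AlgHom.congr_fun hc (ρ a)]
      change R.res (algebraMap R'.carrier R.carrier (ρ a)) = 0
      rw [← CRing.mem_maximalIdeal_iff]
      have h1 : a - algebraMap R'.carrier R.carrier (ρ a) ∈ RingHom.ker ρ := by
        rw [RingHom.mem_ker, map_sub, AlgHom.commutes]; simp
      have := sub_mem ha (hker h1)
      rwa [sub_sub_cancel] at this

end Groth.Agent.Lib.ArtinFun
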