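import Groth.Agent.Lib.ArtinFun.FibProd
import Groth.Agent.Lib.ArtinFun.Conditions
import Groth.Prelude.Def_W4c5t1liftcy3defoArt
import Mathlib.RingTheory.Flat.Basic
import Mathlib.LinearAlgebra.Basis.VectorSpace

/-!
# Facts on the curvilinear test algebras
-/

universe u v

open CategoryTheory ArtFun Polynomial
open scoped TensorProduct

namespace Groth.Agent.Lib.ArtinFun

variable {k : Type u} [Field k]

lemma tr_eq_t_pow_mul (n : ℕ) (a : T1Lift.Tr k (n + 1)) (ha : T1Lift.αAlg k n a = 0) :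
    ∃ b, a = T1Lift.t k (n + 1) ^ (n + 1) * b := by
  induction a using AdjoinRoot.induction_on with
  | ih p =>
    have h : ∀ q : k[X], T1Lift.αAlg k n (AdjoinRoot.mk _ q) = AdjoinRoot.mk _ q := fun q =>
      (AdjoinRoot.liftAlgHom_mk _ _ _ _ _).trans (AdjoinRoot.aeval_eq q)
    rw [h, AdjoinRoot.mk_eq_zero] at ha
    obtain ⟨q, rfl⟩ := ha
    exact ⟨AdjoinRoot.mk _ q, by rw [map_mul, map_pow, AdjoinRoot.mk_X]⟩

lemma tr_t_pow_ne_zero (n j : ℕ) (hj : j ≤ n) : T1Lift.t k n ^ j ≠ 0 := by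
  intro h
  rw [show T1Lift.t k n ^ j = AdjoinRoot.mk _ ((X : k[X]) ^ j) by rw [map_pow, AdjoinRoot.mk_X],
    AdjoinRoot.mk_eq_zero] at h
  have := Polynomial.natDegree_le_of_dvd h (pow_ne_zero _ X_ne_zero)
  rw [natDegree_X_pow, natDegree_X_pow] at this
  omega

lemma tr_top_mul (n : ℕ) (a : T1Lift.Tr k n) :
    T1Lift.t k n ^ n * a = T1Lift.t k n ^ n * algebraMap k _ (T1Lift.resA k n a) := by
  obtain ⟨b, hb⟩ := T1Lift.eq_algebraMap_add_t_mul k n a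
  conv_lhs => rw [hb]
  rw [mul_add, ← mul_assoc, ← pow_succ, T1Lift.t_pow, zero_mul, add_zero]

lemma tr_mul_eq_zero_of_res (n : ℕ) (a : T1Lift.Tr k n) (ha : T1Lift.resA k n a = 0) :
    T1Lift.t k n ^ n * a = 0 := by rw [tr_top_mul, ha, map_zero, mul_zero]

lemma α_surjective (n : ℕ) : Function.Surjective (T1Lift.α k n) := fun a => by
  let a' : T1Lift.Tr k n := a
  obtain ⟨p, hp⟩ := AdjoinRoot.mk_surjective a'
  refine ⟨(AdjoinRoot.mk _ p : T1Lift.Tr k (n + 1)), ?_⟩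
  show T1Lift.αAlg k n (AdjoinRoot.mk _ p) = a'
  rw [← hp]
  exact (AdjoinRoot.liftAlgHom_mk _ _ _ _ _).trans (AdjoinRoot.aeval_eq p)

lemma isSemismallExt_α (n : ℕ) : Art.IsSemismallExt (T1Lift.α k n) := by
  refine ⟨α_surjective n, ?_⟩
  rw [← le_bot_iff, Ideal.mul_le]
  intro x hx y hy
  rw [Art.mem_maximalIdeal_iff] at hx
  let x' : T1Lift.Tr k (n + 1) := x
  let y' : T1Lift.Tr k (n + 1) := y
  obtain ⟨b, hb⟩ := tr_eq_t_pow_mul n y' hy
  rw [Ideal.mem_bot]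
  show x' * y' = 0
  rw [hb, mul_left_comm, ← mul_assoc, tr_mul_eq_zero_of_res _ x' hx, zero_mul]

lemma β_surjective (n : ℕ) : Function.Surjective (T1Lift.β k n) :=
  fun a => ⟨TrivSqZeroExt.inl a, rfl⟩

lemma ε_β (n : ℕ) : T1Lift.ε k n ≫ T1Lift.β k n = T1Lift.α k n :=
  Art.hom_ext (AdjoinRoot.algHom_ext (by
    show (T1Lift.εAlg k n (T1Lift.t k (n + 1))).fst = T1Lift.αAlg k n (T1Lift.t k (n + 1))
    rw [T1Lift.εAlg_t, T1Lift.αAlg_t, TrivSqZeroExt.fst_add, TrivSqZeroExt.fst_inl,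
      DualNumber.fst_eps, add_zero]))

lemma ε_ξ (n : ℕ) : T1Lift.ε k (n + 1) ≫ T1Lift.ξ k n = T1Lift.α k (n + 1) ≫ T1Lift.ε k n :=
  Art.hom_ext (AdjoinRoot.algHom_ext (by
    show T1Lift.dualMap k (T1Lift.αAlg k n) (T1Lift.εAlg k (n + 1) (T1Lift.t k (n + 2))) =
      T1Lift.εAlg k n (T1Lift.αAlg k (n + 1) (T1Lift.t k (n + 2)))
    rw [T1Lift.εAlg_t, T1Lift.αAlg_t, T1Lift.εAlg_t]
    refine TrivSqZeroExt.ext ?_ ?_
    · show T1Lift.αAlg k n _ = _
      simp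
    · show T1Lift.αAlg k n _ = _
      simp))

/-- `ε` is injective on the kernel of `α` in characteristic zero. -/
lemma ε_injective_on_ker [CharZero k] (n : ℕ) (a : T1Lift.Tr k (n + 2))
    (ha : T1Lift.αAlg k (n + 1) a = 0) (he : T1Lift.εAlg k (n + 1) a = 0) : a = 0 := by
  obtain ⟨b, rfl⟩ := tr_eq_t_pow_mul (n + 1) a ha
  rw [tr_top_mul] at he ⊢
  rw [map_mul, map_pow, T1Lift.εAlg_t, AlgHom.commutes] at he
  suffices hb : T1Lift.resA k (n + 2) b = 0 by rw [hb, map_zero, mul_zero]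
  have h := congrArg TrivSqZeroExt.snd he
  simp only [TrivSqZeroExt.snd_mul, TrivSqZeroExt.algebraMap_eq_inl', TrivSqZeroExt.fst_inl,
    TrivSqZeroExt.snd_inl, smul_zero, zero_add, TrivSqZeroExt.snd_pow, TrivSqZeroExt.fst_add,
    TrivSqZeroExt.snd_add, DualNumber.fst_eps, DualNumber.snd_eps, add_zero, op_smul_eq_smul,
    smul_eq_mul, mul_one, TrivSqZeroExt.snd_zero, nsmul_eq_mul, Nat.pred_eq_sub_one,
    show n + 1 + 1 - 1 = n + 1 from rfl] at h
  by_contra hb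
  refine tr_t_pow_ne_zero (k := k) (n + 1) (n + 1) le_rfl ?_
  have hu : IsUnit (algebraMap k (T1Lift.Tr k (n + 1)) (T1Lift.resA k (n + 2) b) *
      ((n + 1 + 1 : ℕ) : T1Lift.Tr k (n + 1))) := by
    refine ((Ne.isUnit hb).map _).mul ?_
    rw [← map_natCast (algebraMap k (T1Lift.Tr k (n + 1)))]
    exact (Ne.isUnit (Nat.cast_ne_zero.2 (Nat.succ_ne_zero _))).map _
  refine hu.mul_right_eq_zero.1 (Eq.trans ?_ h)
  push_cast
  ring

/-- The first-order lifting criterion along `α`. -/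
theorem t1_lift_iff [CharZero k] (F : Art k k ⥤ Type v) (hRS : RS F)
    (V : Type u) [AddCommGroup V] [Module k V] (O : ObsTheory F V)
    (hnat : ∀ ⦃A' A C' C : Art k k⦄ (φ : A' ⟶ A) (hφ : Art.IsSemismallExt φ)
      (ψ : C' ⟶ C) (hψ : Art.IsSemismallExt ψ) (g' : A' ⟶ C') (g : A ⟶ C), φ ≫ g = g' ≫ ψ →
      ∀ (ℓ : ↥(RingHom.ker φ.toAlgHom) →ₗ[k] ↥(RingHom.ker ψ.toAlgHom)),
        (∀ j : ↥(RingHom.ker φ.toAlgHom), ((ℓ j : ↥(RingHom.ker ψ.toAlgHom)) : C') = g' (j : A')) →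
        ∀ u : F.obj A, O.obs ψ hψ (F.map g u) = LinearMap.lTensor V ℓ (O.obs φ hφ u))
    (n : ℕ) (X : F.obj (T1Lift.A k (n + 1))) :
    (∃ X' : F.obj (T1Lift.A k (n + 2)), F.map (T1Lift.α k (n + 1)) X' = X) ↔
      ∃ Y : F.obj (T1Lift.B k (n + 1)), F.map (T1Lift.β k (n + 1)) Y = X ∧
        F.map (T1Lift.ξ k n) Y = F.map (T1Lift.ε k n) X := by
  constructor
  · rintro ⟨X', rfl⟩
    refine ⟨F.map (T1Lift.ε k (n + 1)) X', ?_, ?_⟩
    · rw [map_map, ε_β]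
    · rw [map_map, map_map, ε_ξ]
  · rintro ⟨Y, hY₁, hY₂⟩
    obtain ⟨C, p', p'', hC⟩ := exists_isFibreProd (T1Lift.α k n) (T1Lift.β k n) (β_surjective n)
    obtain ⟨g₀, hg₁, hg₂⟩ : ∃ g₀ : T1Lift.A k (n + 1) ⟶ C,
        g₀ ≫ p' = 𝟙 _ ∧ g₀ ≫ p'' = T1Lift.ε k n :=
      ⟨IsFibreProd.lift hC (𝟙 _) (T1Lift.ε k n) (by rw [Category.id_comp, ε_β]), IsFibreProd.lift_fst hC _ _ _, IsFibreProd.lift_snd hC _ _ _⟩
    obtain ⟨ψ, hψ₁, hψ₂⟩ : ∃ ψ : T1Lift.B k (n + 1) ⟶ C,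
        ψ ≫ p' = T1Lift.β k (n + 1) ∧ ψ ≫ p'' = T1Lift.ξ k n :=
      ⟨IsFibreProd.lift hC (T1Lift.β k (n + 1)) (T1Lift.ξ k n) (hom_ext_apply fun x => rfl), IsFibreProd.lift_fst hC _ _ _,
        IsFibreProd.lift_snd hC _ _ _⟩
    have hψa₁ : ∀ x, p' (ψ x) = T1Lift.β k (n + 1) x := fun x => hom_congr_apply hψ₁ x
    have hψa₂ : ∀ x, p'' (ψ x) = T1Lift.ξ k n x := fun x => hom_congr_apply hψ₂ x
    have hcomm : T1Lift.α k (n + 1) ≫ g₀ = T1Lift.ε k (n + 1) ≫ ψ := by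
      refine hom_ext_apply fun x => hC.inj _ _ ?_ ?_
      · show p' (g₀ _) = p' (ψ _)
        rw [hψa₁]
        exact (hom_congr_apply hg₁ _).trans (hom_congr_apply (ε_β (k := k) (n + 1)) x).symm
      · show p'' (g₀ _) = p'' (ψ _)
        rw [hψa₂]
        exact (hom_congr_apply hg₂ _).trans (hom_congr_apply (ε_ξ (k := k) n) x).symm
    have hψs : Art.IsSemismallExt ψ := by
      refine ⟨fun c => ?_, ?_⟩
      · let c₂ : DualNumber (T1Lift.Tr k n) := p'' c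
        let c₁ : T1Lift.Tr k (n + 1) := p' c
        obtain ⟨b, hb⟩ := α_surjective n c₂.snd
        let b' : T1Lift.Tr k (n + 1) := b
        let x : DualNumber (T1Lift.Tr k (n + 1)) := TrivSqZeroExt.inl c₁ + TrivSqZeroExt.inr b'
        have hx₁ : x.fst = c₁ := by simp [x]
        have hx₂ : x.snd = b' := by simp [x]
        refine ⟨x, hC.inj _ _ ?_ ?_⟩
        · rw [hψa₁]
          exact hx₁
        · rw [hψa₂]
          refine TrivSqZeroExt.ext ?_ ?_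
          · show T1Lift.αAlg k n x.fst = _
            rw [hx₁]
            exact hom_congr_apply hC.w c
          · show T1Lift.αAlg k n x.snd = _
            rw [hx₂]
            exact hb
      · rw [← le_bot_iff, Ideal.mul_le]
        intro x hx y hy
        have hy0 : ψ y = 0 := hy
        let x' : DualNumber (T1Lift.Tr k (n + 1)) := x
        let y' : DualNumber (T1Lift.Tr k (n + 1)) := y
        have h₁ : y'.fst = 0 := (hψa₁ y).symm.trans (by rw [hy0, map_zero]; rfl)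
        have h₂ : T1Lift.αAlg k n y'.snd = 0 :=
          congrArg TrivSqZeroExt.snd (((hψa₂ y).symm.trans (by rw [hy0, map_zero])) : T1Lift.ξ k n y = 0)
        obtain ⟨b, hb⟩ := tr_eq_t_pow_mul n _ h₂
        rw [Art.mem_maximalIdeal_iff] at hx
        rw [Ideal.mem_bot]
        show x' * y' = 0
        refine TrivSqZeroExt.ext ?_ ?_
        · rw [TrivSqZeroExt.fst_mul, h₁, mul_zero]; rfl
        · rw [DualNumber.snd_mul, h₁, mul_zero, add_zero, hb, mul_left_comm, ← mul_assoc,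
            tr_mul_eq_zero_of_res _ x'.fst hx, zero_mul]
          rfl
    have hgX : F.map ψ Y = F.map g₀ X := by
      refine (cmp_injective_iff hC).1 (hRS _ _ _ _ hC (β_surjective n)).1 _ _ ?_ ?_
      · rw [map_map, map_map, hψ₁, hY₁, hg₁, FunctorToTypes.map_id_apply]
      · rw [map_map, map_map, hψ₂, hY₂, hg₂]
    have h0 : O.obs ψ hψs (F.map g₀ X) = 0 := (O.obs_eq_zero_iff ψ hψs _).2 ⟨Y, hgX⟩
    have hℓ : ∀ j : ↥(RingHom.ker (T1Lift.α k (n + 1)).toAlgHom),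
        T1Lift.ε k (n + 1) (j : T1Lift.A k (n + 2)) ∈ RingHom.ker ψ.toAlgHom := fun j => by
      rw [mem_ker, ← hom_comp_apply, ← hcomm, hom_comp_apply, (mem_ker _ _).1 j.2, map_zero]
    let ℓ : ↥(RingHom.ker (T1Lift.α k (n + 1)).toAlgHom) →ₗ[k] ↥(RingHom.ker ψ.toAlgHom) :=
      { toFun := fun j => ⟨T1Lift.ε k (n + 1) (j : T1Lift.A k (n + 2)), hℓ j⟩
        map_add' := fun a b => Subtype.ext (map_add _ _ _)
        map_smul' := fun c a => Subtype.ext (map_smul (T1Lift.ε k (n + 1)).toAlgHom c (a : T1Lift.A k (n + 2))) }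
    have hℓinj : Function.Injective ℓ := by
      rw [injective_iff_map_eq_zero]
      intro j hj
      exact Subtype.ext (ε_injective_on_ker n _ ((mem_ker _ _).1 j.2) (congrArg Subtype.val hj))
    have h1 := hnat (T1Lift.α k (n + 1)) (isSemismallExt_α (n + 1)) ψ hψs (T1Lift.ε k (n + 1)) g₀ hcomm ℓ
      (fun j => rfl) X
    rw [h0] at h1
    exact (O.obs_eq_zero_iff _ _ X).1 (Module.Flat.lTensor_preserves_injective_linearMap ℓ hℓinj
      (h1.symm.trans (map_zero _).symm))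

end Groth.Agent.Lib.ArtinFun
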