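import Groth.Agent.Lib.ArtinFun.RegularSmooth
import Groth.Agent.Lib.ArtinFun.T1Curvilinear
import Groth.Agent.Lib.ArtinFun.PsExtension
import Mathlib.Algebra.MvPolynomial.Funext
import Mathlib.RingTheory.MvPolynomial.Homogeneous
import Mathlib.RingTheory.Filtration

/-!
# Jets detect relations
-/

universe u

open CategoryTheory ArtFun

set_option linter.style.haveILetI false

namespace Groth.Agent.Lib.ArtinFun

variable {k : Type u} [Field k]

lemma aeval_mul_homogeneous {σ S : Type*} [CommRing S] [Algebra k S] {g : MvPolynomial σ k} {o : ℕ}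
    (hg : g.IsHomogeneous o) (x : S) (u : σ → S) :
    MvPolynomial.aeval (fun i => x * u i) g = x ^ o * MvPolynomial.aeval u g := by
  conv_lhs => rw [g.as_sum]
  conv_rhs => rw [g.as_sum]
  rw [map_sum, map_sum, Finset.mul_sum]
  refine Finset.sum_congr rfl fun d hd => ?_
  have ho : d.sum (fun _ e => e) = o := by
    have h := hg (MvPolynomial.mem_support_iff.1 hd)
    rw [Finsupp.weight_apply] at h
    simpa using h
  rw [MvPolynomial.aeval_monomial, MvPolynomial.aeval_monomial]
  have hp : (d.prod fun i e => (x * u i) ^ e) = x ^ o * d.prod fun i e => u i ^ e := by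
    simp only [mul_pow, Finsupp.prod, Finset.prod_mul_distrib, Finset.prod_pow_eq_pow_sum]
    rw [← ho]
    rfl
  rw [hp]
  ring

section Local

variable {P : Type u} [CommRing P] [IsLocalRing P] [Algebra k P]

lemma exists_homogeneous_approx {d : ℕ} (resP : P →ₐ[k] k) (y : Fin d → P)
    (hy : Ideal.span (Set.range y) ⊔ IsLocalRing.maximalIdeal P ^ 2 = IsLocalRing.maximalIdeal P) :
    ∀ (o : ℕ) (f : P), f ∈ IsLocalRing.maximalIdeal P ^ o →
      ∃ g : MvPolynomial (Fin d) k, g.IsHomogeneous o ∧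
        f - MvPolynomial.aeval y g ∈ IsLocalRing.maximalIdeal P ^ (o + 1) := by
  classical
  set m := IsLocalRing.maximalIdeal P
  have hmem : ∀ x : P, resP x = 0 ↔ x ∈ m := res_eq_zero_iff_mem resP
  have hone : ∀ b ∈ m, ∃ c : Fin d → k, b - ∑ i, algebraMap k P (c i) * y i ∈ m ^ 2 := fun b hb => by
    rw [← hy] at hb
    obtain ⟨s, hs, r, hr, rfl⟩ := Submodule.mem_sup.1 hb
    obtain ⟨h, rfl⟩ := Ideal.mem_span_range_iff_exists_fun.1 hs
    refine ⟨fun i => resP (h i), ?_⟩
    rw [add_sub_right_comm, ← Finset.sum_sub_distrib]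
    refine add_mem (Ideal.sum_mem _ fun i _ => ?_) hr
    rw [← sub_mul, pow_two]
    refine Ideal.mul_mem_mul ((hmem _).1 (by rw [map_sub, AlgHom.commutes]; simp)) ?_
    exact hy ▸ Ideal.mem_sup_left (Ideal.subset_span ⟨i, rfl⟩)
  have hym : ∀ i, y i ∈ m := fun i => hy ▸ Ideal.mem_sup_left (Ideal.subset_span ⟨i, rfl⟩)
  intro o
  induction o with
  | zero =>
    intro f _
    refine ⟨MvPolynomial.C (resP f), MvPolynomial.isHomogeneous_C _ _, ?_⟩
    rw [MvPolynomial.aeval_C, pow_one]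
    exact (hmem _).1 (by rw [map_sub, AlgHom.commutes]; simp)
  | succ o ih =>
    intro f hf
    rw [pow_succ] at hf
    refine Submodule.mul_induction_on hf (fun a ha b hb => ?_) ?_
    · obtain ⟨g, hg, hga⟩ := ih a ha
      obtain ⟨c, hc⟩ := hone b hb
      refine ⟨g * ∑ i, MvPolynomial.C (c i) * MvPolynomial.X i,
        hg.mul (MvPolynomial.IsHomogeneous.sum _ _ _ fun i _ =>
          MvPolynomial.isHomogeneous_C_mul_X _ _), ?_⟩
      simp only [map_mul, map_sum, MvPolynomial.aeval_C, MvPolynomial.aeval_X]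
      have e : a * b - MvPolynomial.aeval y g * ∑ i, algebraMap k P (c i) * y i =
          (a - MvPolynomial.aeval y g) * b +
            MvPolynomial.aeval y g * (b - ∑ i, algebraMap k P (c i) * y i) := by ring
      rw [e]
      refine add_mem ?_ ?_
      · rw [pow_succ]
        exact Ideal.mul_mem_mul hga hb
      · have hgm : MvPolynomial.aeval y g ∈ m ^ o := by
          have : MvPolynomial.aeval y g = a - (a - MvPolynomial.aeval y g) := by ring
          rw [this]
          exact sub_mem ha (Ideal.pow_le_pow_right (Nat.le_succ o) hga)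
        rw [show o + 1 + 1 = o + 2 from rfl, pow_add]
        exact Ideal.mul_mem_mul hgm hc
    · rintro a b ⟨g, hg, hga⟩ ⟨g', hg', hgb⟩
      refine ⟨g + g', hg.add hg', ?_⟩
      rw [map_add, add_sub_add_comm]
      exact add_mem hga hgb

lemma exists_tangent {d : ℕ} (resP : P →ₐ[k] k) (y : Fin d → P)
    (hy : Ideal.span (Set.range y) ⊔ IsLocalRing.maximalIdeal P ^ 2 = IsLocalRing.maximalIdeal P)
    (hindep : ∀ c : Fin d → P, (∑ i, c i * y i) ∈ IsLocalRing.maximalIdeal P ^ 2 →
      ∀ i, c i ∈ IsLocalRing.maximalIdeal P) (v : Fin d → k) :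
    ∃ φ : P →ₐ[k] DualNumber k, (∀ x, (φ x).fst = resP x) ∧ (∀ i, (φ (y i)).snd = v i) ∧
      ∀ x ∈ IsLocalRing.maximalIdeal P ^ 2, φ x = 0 := by
  classical
  set m := IsLocalRing.maximalIdeal P
  have hmem : ∀ x : P, resP x = 0 ↔ x ∈ m := res_eq_zero_iff_mem resP
  have hym : ∀ i, y i ∈ m := fun i => hy ▸ Ideal.mem_sup_left (Ideal.subset_span ⟨i, rfl⟩)
  have hex : ∀ x : P, ∃ c : Fin d → k,
      x - algebraMap k P (resP x) - ∑ i, algebraMap k P (c i) * y i ∈ m ^ 2 := fun x => by
    obtain ⟨g, hg, hgx⟩ := exists_homogeneous_approx resP y hy 0 x (by simp)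
    have hb : x - algebraMap k P (resP x) ∈ m := (hmem _).1 (by rw [map_sub, AlgHom.commutes]; simp)
    rw [← hy] at hb
    obtain ⟨s, hs, r, hr, hsr⟩ := Submodule.mem_sup.1 hb
    obtain ⟨h, rfl⟩ := Ideal.mem_span_range_iff_exists_fun.1 hs
    refine ⟨fun i => resP (h i), ?_⟩
    rw [← hsr, add_sub_right_comm, ← Finset.sum_sub_distrib]
    refine add_mem (Ideal.sum_mem _ fun i _ => ?_) hr
    rw [← sub_mul, pow_two]
    exact Ideal.mul_mem_mul ((hmem _).1 (by rw [map_sub, AlgHom.commutes]; simp)) (hym i)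
  choose c hc using hex
  let D : P → k := fun x => ∑ i, v i * c x i
  have key : ∀ (x : P) (e : Fin d → k),
      x - algebraMap k P (resP x) - ∑ i, algebraMap k P (e i) * y i ∈ m ^ 2 →
        D x = ∑ i, v i * e i := by
    intro x e he
    have h := hindep (fun i => algebraMap k P (e i - c x i)) (by
      convert sub_mem (hc x) he using 1
      simp only [map_sub, sub_mul, Finset.sum_sub_distrib]
      ring)
    refine Finset.sum_congr rfl fun i _ => ?_
    have h2 := (hmem _).2 (h i)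
    rw [AlgHom.commutes] at h2
    have h3 : e i - c x i = 0 := h2
    rw [sub_eq_zero.1 h3]
  have hadd : ∀ a b, D (a + b) = D a + D b := fun a b => by
    rw [key (a + b) (fun i => c a i + c b i) ?_]
    · simp only [D, mul_add, Finset.sum_add_distrib]
    · convert add_mem (hc a) (hc b) using 1
      simp only [map_add, add_mul, Finset.sum_add_distrib]
      ring
  have hmul : ∀ a b, D (a * b) = resP a * D b + resP b * D a := fun a b => by
    rw [key (a * b) (fun i => resP a * c b i + resP b * c a i) ?_]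
    · simp only [D, mul_add, Finset.sum_add_distrib, Finset.mul_sum]
      refine congrArg₂ (· + ·) (Finset.sum_congr rfl fun i _ => ?_) (Finset.sum_congr rfl fun i _ => ?_) <;> ring
    · have ha : a - algebraMap k P (resP a) ∈ m := (hmem _).1 (by rw [map_sub, AlgHom.commutes]; simp)
      have hb : b - algebraMap k P (resP b) ∈ m := (hmem _).1 (by rw [map_sub, AlgHom.commutes]; simp)
      have h2 := add_mem (add_mem (Ideal.mul_mem_left (m ^ 2) (algebraMap k P (resP a)) (hc b))
        (Ideal.mul_mem_left (m ^ 2) (algebraMap k P (resP b)) (hc a)))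
        (show (a - algebraMap k P (resP a)) * (b - algebraMap k P (resP b)) ∈ m ^ 2 by
          rw [pow_two]; exact Ideal.mul_mem_mul ha hb)
      convert h2 using 1
      simp only [map_mul, map_add, add_mul, mul_assoc, Finset.sum_add_distrib, mul_sub, Finset.mul_sum]
      ring
  have halg : ∀ e : k, D (algebraMap k P e) = 0 := fun e => by
    rw [key (algebraMap k P e) 0 ?_]
    · simp
    · simp [AlgHom.commutes]
  have hD1 : D 1 = 0 := by rw [← map_one (algebraMap k P)]; exact halg 1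
  have hD0 : D 0 = 0 := by rw [← map_zero (algebraMap k P)]; exact halg 0
  let φ : P →ₐ[k] DualNumber k :=
    { toFun := fun x => TrivSqZeroExt.inl (resP x) + TrivSqZeroExt.inr (D x)
      map_one' := by rw [map_one, hD1, TrivSqZeroExt.inr_zero, add_zero, TrivSqZeroExt.inl_one]
      map_mul' := fun a b => by
        refine TrivSqZeroExt.ext ?_ ?_
        · simp
        · simp only [DualNumber.snd_mul, TrivSqZeroExt.snd_add, TrivSqZeroExt.snd_inl, TrivSqZeroExt.snd_inr,
            zero_add, TrivSqZeroExt.fst_add, TrivSqZeroExt.fst_inl, TrivSqZeroExt.fst_inr, add_zero, hmul]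
          ring
      map_zero' := by rw [map_zero, hD0, TrivSqZeroExt.inl_zero, TrivSqZeroExt.inr_zero, add_zero]
      map_add' := fun a b => by
        rw [map_add, hadd, TrivSqZeroExt.inl_add, TrivSqZeroExt.inr_add]
        abel
      commutes' := fun e => by
        rw [AlgHom.commutes, halg, TrivSqZeroExt.inr_zero, add_zero]
        rfl }
  refine ⟨φ, fun x => ?_, fun i => ?_, fun x hx => ?_⟩
  · show (TrivSqZeroExt.inl (resP x) + TrivSqZeroExt.inr (D x)).fst = resP x
    simp
  · show (TrivSqZeroExt.inl (resP (y i)) + TrivSqZeroExt.inr (D (y i))).snd = v i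
    have h0 : D (y i) = ∑ j, v j * (if j = i then 1 else 0) := key (y i) _ (by
      rw [(hmem _).2 (hym i)]
      simp [ite_mul])
    simp [h0]
  · have hx' : resP x = 0 := (hmem _).2 (Ideal.pow_le_self two_ne_zero hx)
    show TrivSqZeroExt.inl (resP x) + TrivSqZeroExt.inr (D x) = 0
    rw [hx', key x 0 (by simpa [hx'] using hx)]
    simp

end Local

/-- The map `k[ε] → k[t]/(t^2)`, `ε ↦ t`. -/
noncomputable def dualToTr : DualNumber k →ₐ[k] T1Lift.Tr k 1 :=
  DualNumber.lift ⟨(Algebra.ofId k (T1Lift.Tr k 1), T1Lift.t k 1), ⟨by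
    have h := T1Lift.t_pow k 1
    rwa [pow_two] at h, fun _ => Commute.all _ _⟩⟩

/-- If all jets lift, a presentation with relations in the square has no relations. -/
theorem ker_eq_bot_of_jets [Infinite k] {P R : Type u} [CommRing P] [IsLocalRing P] [IsNoetherianRing P]
    [Algebra k P] [CommRing R] [Algebra k R] (resP : P →ₐ[k] k) (q : P →ₐ[k] R) (hq : Function.Surjective q)
    (hker : RingHom.ker q ≤ IsLocalRing.maximalIdeal P ^ 2)
    (H : ∀ (n : ℕ) (φ : R →ₐ[k] T1Lift.Tr k n),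
      ∃ ψ : R →ₐ[k] T1Lift.Tr k (n + 1), (T1Lift.αAlg k n).comp ψ = φ) :
    RingHom.ker q = ⊥ := by
  classical
  rw [Submodule.eq_bot_iff]
  intro f hf
  by_contra hf0
  set m := IsLocalRing.maximalIdeal P
  obtain ⟨o, ho, ho'⟩ : ∃ o, f ∈ m ^ o ∧ f ∉ m ^ (o + 1) := by
    have hex : ∃ N, f ∉ m ^ N := by
      by_contra! h
      refine hf0 ?_
      rw [← Ideal.mem_bot, ← Ideal.iInf_pow_eq_bot_of_isLocalRing m
        (IsLocalRing.maximalIdeal.isMaximal P).ne_top]
      exact Ideal.mem_iInf.2 h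
    refine ⟨Nat.find hex - 1, ?_, ?_⟩
    · rcases Nat.eq_zero_or_pos (Nat.find hex) with h0 | h0
      · exact absurd (by rw [h0, pow_zero, Ideal.one_eq_top]; trivial) (Nat.find_spec hex)
      · by_contra h
        exact Nat.find_min hex (by omega) h
    · rcases Nat.eq_zero_or_pos (Nat.find hex) with h0 | h0
      · exact absurd (by rw [h0, pow_zero, Ideal.one_eq_top]; trivial) (Nat.find_spec hex)
      · rw [Nat.sub_add_cancel h0]
        exact Nat.find_spec hex
  obtain ⟨d, y, hym, hy, hindep⟩ := exists_min_gens (S := P) m (m ^ 2)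
    (sup_eq_left.2 (Ideal.pow_le_self two_ne_zero))
  obtain ⟨g, hg, hgf⟩ := exists_homogeneous_approx resP y hy o f ho
  have ho2 : 2 ≤ o := by
    by_contra h
    exact ho' (Ideal.pow_le_pow_right (by omega) (hker hf))
  suffices hg0 : g = 0 by
    rw [hg0, map_zero, sub_zero] at hgf
    exact ho' hgf
  refine MvPolynomial.funext fun v => ?_
  rw [map_zero]
  obtain ⟨τ, hτres, hτy, hτsq⟩ := exists_tangent resP y hy hindep v
  obtain ⟨φ₁, hφ₁⟩ := comp_lift_eq q hq (dualToTr.comp τ) fun x hx => by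
    rw [AlgHom.comp_apply, hτsq x (hker (RingHom.mem_ker.2 hx)), map_zero]
  have harc : ∀ N, ∃ ψ : R →ₐ[k] T1Lift.Tr k (N + 1), ∀ x, ∃ p : Polynomial k,
      ψ x = AdjoinRoot.mk _ p ∧ φ₁ x = AdjoinRoot.mk _ p := by
    intro N
    induction N with
    | zero => exact ⟨φ₁, fun x => ⟨_, (AdjoinRoot.mk_surjective (φ₁ x)).choose_spec.symm,
        (AdjoinRoot.mk_surjective (φ₁ x)).choose_spec.symm⟩⟩
    | succ N ih =>
      obtain ⟨ψ, hψ⟩ := ih
      obtain ⟨ψ', hψ'⟩ := H (N + 1) ψ
      refine ⟨ψ', fun x => ?_⟩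
      obtain ⟨p, hp⟩ := AdjoinRoot.mk_surjective (ψ' x)
      refine ⟨p, hp.symm, ?_⟩
      obtain ⟨p₀, hp₀, hp₁⟩ := hψ x
      have h1 : AdjoinRoot.mk ((Polynomial.X : Polynomial k) ^ (N + 1 + 1)) p = AdjoinRoot.mk _ p₀ := by
        rw [← hp₀, ← hψ', AlgHom.comp_apply, ← hp]
        exact ((AdjoinRoot.liftAlgHom_mk _ _ _ _ _).trans (AdjoinRoot.aeval_eq p)).symm
      rw [hp₁, AdjoinRoot.mk_eq_mk]
      rw [AdjoinRoot.mk_eq_mk] at h1
      have h2 := dvd_trans (pow_dvd_pow (Polynomial.X : Polynomial k) (show 1 + 1 ≤ N + 1 + 1 by omega)) h1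
      rw [← dvd_neg, neg_sub]
      exact h2
  obtain ⟨o', rfl⟩ : ∃ o', o = o' + 1 := ⟨o - 1, by omega⟩
  obtain ⟨ψ, hψ⟩ := harc o'
  -- the arc agrees with the tangent vector to first order
  set T := T1Lift.t k (o' + 1) with hT
  let Ψ : P →ₐ[k] T1Lift.Tr k (o' + 1) := ψ.comp q
  have hlift : ∀ x, ∃ w, Ψ x = algebraMap k _ (τ x).fst + T * (algebraMap k _ (τ x).snd + T * w) := by
    intro x
    obtain ⟨p', hp'⟩ := AdjoinRoot.mk_surjective (Ψ x)
    obtain ⟨p, hp, hp1⟩ := hψ (q x)
    have h1 : AdjoinRoot.mk ((Polynomial.X : Polynomial k) ^ (o' + 1 + 1)) p' = AdjoinRoot.mk _ p :=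
      hp'.trans hp
    have h2 : AdjoinRoot.mk ((Polynomial.X : Polynomial k) ^ (1 + 1)) p' =
        AdjoinRoot.mk _ (Polynomial.C (τ x).fst + Polynomial.X * Polynomial.C (τ x).snd) := by
      have h3 : AdjoinRoot.mk ((Polynomial.X : Polynomial k) ^ (1 + 1)) p' = AdjoinRoot.mk _ p := by
        rw [AdjoinRoot.mk_eq_mk] at h1 ⊢
        exact dvd_trans (pow_dvd_pow (Polynomial.X : Polynomial k) (show 1 + 1 ≤ o' + 1 + 1 by omega)) h1
      rw [h3, ← hp1, hφ₁, AlgHom.comp_apply, map_add, map_mul, AdjoinRoot.mk_X, AdjoinRoot.mk_C,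
        AdjoinRoot.mk_C]
      rw [dualToTr, DualNumber.lift_apply_apply]
      show algebraMap k _ _ + algebraMap k _ _ * _ = _
      rw [AdjoinRoot.algebraMap_eq, mul_comm]
    rw [AdjoinRoot.mk_eq_mk] at h2
    obtain ⟨w, hw⟩ := h2
    refine ⟨AdjoinRoot.mk _ w, ?_⟩
    rw [← hp', eq_add_of_sub_eq hw, map_add, map_mul, map_add, map_mul, map_pow, AdjoinRoot.mk_X,
      AdjoinRoot.mk_C, AdjoinRoot.mk_C, AdjoinRoot.algebraMap_eq]
    ring
  choose w hw using hlift
  have hΨm : ∀ x ∈ m, ∃ z, Ψ x = T * z := fun x hx => by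
    refine ⟨algebraMap k _ (τ x).snd + T * w x, ?_⟩
    rw [hw, hτres, (res_eq_zero_iff_mem resP x).2 hx, map_zero, zero_add]
  have hΨpow : ∀ (j : ℕ) (x : P), x ∈ m ^ j → ∃ z, Ψ x = T ^ j * z := fun j => by
    induction j with
    | zero => exact fun x _ => ⟨Ψ x, by rw [pow_zero, one_mul]⟩
    | succ j ih =>
      intro x hx
      rw [pow_succ] at hx
      refine Submodule.mul_induction_on hx (fun a ha b hb => ?_) ?_
      · obtain ⟨z, hz⟩ := ih a ha
        obtain ⟨z', hz'⟩ := hΨm b hb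
        exact ⟨z * z', by rw [map_mul, hz, hz']; ring⟩
      · rintro a b ⟨z, hz⟩ ⟨z', hz'⟩
        exact ⟨z + z', by rw [map_add, hz, hz', mul_add]⟩
  have hzero : Ψ (MvPolynomial.aeval y g) = 0 := by
    obtain ⟨z, hz⟩ := hΨpow _ _ hgf
    rw [T1Lift.t_pow, zero_mul, map_sub] at hz
    have hf' : Ψ f = 0 := by
      show ψ (q f) = 0
      rw [RingHom.mem_ker.1 hf, map_zero]
    rw [hf', zero_sub, neg_eq_zero] at hz
    exact hz
  let u : Fin d → T1Lift.Tr k (o' + 1) := fun i => algebraMap k _ (v i) + T * w (y i)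
  have hΨy : ∀ i, Ψ (y i) = T * u i := fun i => by
    rw [hw, hτres, (res_eq_zero_iff_mem resP _).2 (hym i), map_zero, zero_add, hτy]
  have hcomp : Ψ (MvPolynomial.aeval y g) = MvPolynomial.aeval (fun i => T * u i) g := by
    rw [MvPolynomial.comp_aeval_apply, funext hΨy]
  rw [hcomp, aeval_mul_homogeneous hg, hT, tr_top_mul] at hzero
  have hres : T1Lift.resA k (o' + 1) (MvPolynomial.aeval u g) = MvPolynomial.eval v g := by
    rw [MvPolynomial.comp_aeval_apply]
    have : (fun i => T1Lift.resA k (o' + 1) (u i)) = v := funext fun i => by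
      simp only [u, hT, map_add, map_mul, AlgHom.commutes, T1Lift.resA_t, zero_mul, add_zero]
      rfl
    rw [this]
    rfl
  rw [hres] at hzero
  by_contra hne
  exact tr_t_pow_ne_zero (k := k) (o' + 1) (o' + 1) le_rfl
    (((Ne.isUnit hne).map (algebraMap k _)).mul_left_eq_zero.1 hzero)

end Groth.Agent.Lib.ArtinFun
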