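import Groth.Agent.Lib.ArtinFun.FlatIdealFP
import Groth.Agent.Lib.ArtinFun.SemismallFibre

/-!
# Lifting flat ideals along semismall extensions: ring level

For a semismall extension `p : A' → A` with kernel `J` (basis `b`) and a flat ideal `I ⊆ A ⊗ C`
with closed fibre `I₀`, the preimage `P` of `I` gives an extension
`0 → J ⊗ C/I₀ → P/m P → I₀ → 0`; lifts of `I` are the retractions.
-/

noncomputable section

universe u

open CategoryTheory ArtFun IsLocalRing
open scoped TensorProduct

namespace Groth.Agent.Lib.ArtinFun.LiftAlg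

open FlatIdealFP

variable {k : Type u} [Field k] (C : Type u) [CommRing C] [Algebra k C]

/-- The maximal ideal, extended. -/
def mC (A : Art k k) : Ideal (A ⊗[k] C) :=
  (maximalIdeal A).map (algebraMap A (A ⊗[k] C))

lemma res0_algebraMap {A : Art k k} (a : A) : res0 C A (algebraMap A (A ⊗[k] C) a) = A.res a • 1 := by
  rw [Algebra.TensorProduct.algebraMap_apply, Algebra.algebraMap_self, RingHom.id_apply, res0_tmul]

lemma mem_mC_iff {A : Art k k} (z : A ⊗[k] C) : z ∈ mC C A ↔ res0 C A z = 0 := by
  constructor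
  · intro hz
    have : mC C A ≤ RingHom.ker (res0 C A) := Ideal.map_le_iff_le_comap.2 fun a ha => by
      rw [Ideal.mem_comap, RingHom.mem_ker, res0_algebraMap, (Art.mem_maximalIdeal_iff A a).1 ha, zero_smul]
    exact this hz
  · intro hz
    have h := res0_sub_mem C A z
    rw [hz, TensorProduct.tmul_zero, sub_zero, Ideal.smul_top_eq_map] at h
    exact h

lemma mC_pow_eq_bot (A : Art k k) : ∃ N : ℕ, mC C A ^ N = ⊥ := by
  obtain ⟨N, hN⟩ := exists_maximalIdeal_pow_eq_bot A
  exact ⟨N, by rw [mC, ← Ideal.map_pow, hN, Ideal.map_bot]⟩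

/-- Nakayama for the extended maximal ideal. -/
lemma le_of_le_sup_mul {A : Art k k} {I N : Ideal (A ⊗[k] C)} (h : I ≤ N ⊔ I * mC C A) : I ≤ N := by
  obtain ⟨M, hM⟩ := mC_pow_eq_bot C A
  have step : ∀ n : ℕ, I ≤ N ⊔ I * mC C A ^ n := by
    intro n
    induction n with
    | zero => rw [pow_zero, mul_one]; exact le_sup_right
    | succ n ih =>
      refine ih.trans (sup_le le_sup_left ((Ideal.mul_mono_left h).trans ?_))
      rw [Ideal.sup_mul, mul_assoc, ← pow_succ']
      exact sup_le ((Ideal.mul_le_left).trans le_sup_left) le_sup_right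
  have h1 := step M
  rwa [hM, Ideal.mul_bot, sup_bot_eq] at h1

section Flat

variable {A : Art k k} (I : Ideal (A ⊗[k] C)) [Module.Flat A ((A ⊗[k] C) ⧸ I)]

/-- An element of a flat ideal vanishing on the closed fibre is in `m I`. -/
theorem mem_mul_mC {z : A ⊗[k] C} (hz : z ∈ I) (h0 : res0 C A z = 0) : z ∈ I * mC C A := by
  obtain ⟨ι, c, hs, hi⟩ := exists_spans_indep (k := k) C (I.map (res0 C A))
  have h1 : z ∈ maximalIdeal A • (⊤ : Submodule A (A ⊗[k] C)) := by
    have h := res0_sub_mem C A z
    rwa [h0, TensorProduct.tmul_zero, sub_zero] at h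
  have key : ∀ w ∈ maximalIdeal A • (⊤ : Submodule A (A ⊗[k] C)),
      ∃ a : ι →₀ A, w - liftsRep C c a ∈ I * mC C A := by
    intro w hw
    refine Submodule.smul_induction_on hw (fun r hr y _ => ?_) fun x y ⟨a, ha⟩ ⟨a', ha'⟩ => ?_
    · obtain ⟨a, ha⟩ := lifts_surjective C c I hs (Ideal.Quotient.mk I y)
      rw [lifts_eq, Ideal.Quotient.eq] at ha
      refine ⟨r • a, ?_⟩
      rw [map_smul, ← smul_sub, Algebra.smul_def, mul_comm I (mC C A)]
      refine Ideal.mul_mem_mul (Ideal.mem_map_of_mem (algebraMap A (A ⊗[k] C)) hr) ?_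
      rw [← neg_sub]
      exact neg_mem ha
    · exact ⟨a + a', by rw [map_add, add_sub_add_comm]; exact add_mem ha ha'⟩
  obtain ⟨a, ha⟩ := key z h1
  have h2 : lifts C c I a = 0 := by
    rw [lifts_eq, Ideal.Quotient.eq_zero_iff_mem, ← sub_sub_cancel z (liftsRep C c a)]
    exact sub_mem hz ((Ideal.mul_le_left : I * mC C A ≤ I) ha)
  rw [lifts_injective C c I hi (h2.trans (map_zero _).symm), map_zero, sub_zero] at ha
  exact ha

/-- Lifts of generators of the closed fibre generate a flat ideal. -/
theorem le_of_res0_le {N : Ideal (A ⊗[k] C)} (hN : N ≤ I) (h : I.map (res0 C A) ≤ N.map (res0 C A)) :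
    I = N := by
  refine le_antisymm (le_of_le_sup_mul C fun z hz => ?_) hN
  obtain ⟨w, hw, hw'⟩ := (Ideal.mem_map_iff_of_surjective _ (res0_surjective C A)).1 (h (Ideal.mem_map_of_mem _ hz))
  rw [← add_sub_cancel w z]
  exact Submodule.add_mem_sup hw (mem_mul_mC C I (sub_mem hz (hN hw)) (by rw [map_sub, hw', sub_self]))

end Flat

section Lifted

variable {A : Art k k}

/-- The map given by lifts of a basis of the closed fibre is injective. -/
theorem injective_lifted {γ : Type*} (e : γ → C) (he : LinearIndependent k e) (σ : γ → A ⊗[k] C)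
    (hσ : ∀ i, res0 C A (σ i) = e i) : Function.Injective (Finsupp.linearCombination A σ) := by
  classical
  rw [injective_iff_map_eq_zero]
  intro μ hμ
  have hn : ∀ n : ℕ, ∀ i, μ i ∈ maximalIdeal A ^ n := by
    intro n
    induction n with
    | zero => intro i; rw [pow_zero, Ideal.one_eq_top]; trivial
    | succ n ih =>
      intro i₀
      obtain ⟨φ, hφ⟩ : ∃ φ : C →ₗ[k] k, ∀ i, φ (e i) = if i = i₀ then 1 else 0 := by
        obtain ⟨g, hg⟩ := LinearMap.exists_extend ((Module.Basis.span he).constr k fun i => if i = i₀ then (1 : k) else 0)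
        refine ⟨g, fun i => ?_⟩
        have h1 := LinearMap.congr_fun hg (Module.Basis.span he i)
        rw [Module.Basis.constr_basis, LinearMap.comp_apply, Submodule.subtype_apply, Module.Basis.span_apply] at h1
        exact h1
      let Φ : A ⊗[k] C →ₗ[A] A :=
        (TensorProduct.AlgebraTensorModule.rid k A A).toLinearMap ∘ₗ
          (TensorProduct.AlgebraTensorModule.map (LinearMap.id : A →ₗ[A] A) φ)
      have hΦ : ∀ (a : A) (c : C), Φ (a ⊗ₜ c) = φ c • a := fun a c => by simp [Φ]
      have h1 : Finsupp.linearCombination A σ μ -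
          Finsupp.linearCombination A (fun i => (1 : A) ⊗ₜ[k] e i) μ ∈
            maximalIdeal A ^ (n + 1) • (⊤ : Submodule A (A ⊗[k] C)) := by
        rw [Finsupp.linearCombination_apply, Finsupp.linearCombination_apply, Finsupp.sum, Finsupp.sum,
          ← Finset.sum_sub_distrib]
        refine Submodule.sum_mem _ fun i _ => ?_
        rw [← smul_sub, pow_succ, mul_smul]
        refine Submodule.smul_mem_smul (ih i) ?_
        rw [← hσ i]
        exact res0_sub_mem C A (σ i)
      have h2 := Submodule.mem_map_of_mem (f := Φ) h1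
      rw [Submodule.map_smul''] at h2
      have h3 := Submodule.smul_mono le_rfl le_top h2
      rw [hμ, zero_sub, map_neg, neg_mem_iff, smul_eq_mul, Ideal.mul_top, Finsupp.linearCombination_apply,
        Finsupp.sum, map_sum] at h3
      have h4 : ∑ i ∈ μ.support, Φ (μ i • ((1 : A) ⊗ₜ[k] e i)) = μ i₀ := by
        simp only [map_smul, hΦ, hφ, ite_smul, one_smul, zero_smul, smul_eq_mul, mul_ite, mul_one, mul_zero]
        rw [Finset.sum_ite_eq']
        split_ifs with h
        · rfl
        · exact (Finsupp.notMem_support_iff.1 h).symm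
      rwa [h4] at h3
  obtain ⟨N, hN⟩ := exists_maximalIdeal_pow_eq_bot A
  exact Finsupp.ext fun i => by simpa [hN] using hn N i

end Lifted

section Ext

variable {A' A : Art k k} (p : A' ⟶ A) (hp : Art.IsSemismallExt p) {n : ℕ}
  (b : Module.Basis (Fin n) k ↥(RingHom.ker p.toAlgHom))

/-- The element `Σ bⱼ ⊗ sⱼ`. -/
def jsum : (Fin n → C) →+ A' ⊗[k] C :=
  AddMonoidHom.mk' (fun s => ∑ j, ((b j).1 : A') ⊗ₜ s j) fun s t => by
    simp [TensorProduct.tmul_add, Finset.sum_add_distrib]

lemma jsum_apply (s : Fin n → C) : jsum C p b s = ∑ j, ((b j).1 : A') ⊗ₜ s j := rfl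

lemma tmap_jsum (s : Fin n → C) : tmap C p (jsum C p b s) = 0 := by
  rw [jsum_apply, map_sum]
  refine Finset.sum_eq_zero fun j _ => ?_
  rw [tmap_tmul, (mem_ker p _).1 (b j).2, TensorProduct.zero_tmul]

lemma res0_jsum (s : Fin n → C) : res0 C A' (jsum C p b s) = 0 := by
  rw [← res0_tmap C p, tmap_jsum, map_zero]

include hp in
lemma mul_jsum (w : A' ⊗[k] C) (s : Fin n → C) :
    w * jsum C p b s = jsum C p b fun j => res0 C A' w * s j := by
  induction w with
  | zero => simp only [map_zero, zero_mul]; exact (map_zero (jsum C p b)).symm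
  | add x y hx hy =>
    rw [add_mul, hx, hy, ← map_add]
    exact congrArg _ (funext fun j => by simp [add_mul])
  | tmul a c =>
    rw [jsum_apply, jsum_apply, Finset.mul_sum]
    refine Finset.sum_congr rfl fun j _ => ?_
    have hsm : a * (b j).1 = A'.res a • (b j).1 := by
      have h0 : (a - algebraMap k A' (A'.res a)) * (b j).1 = 0 :=
        IsSemismallExt.mul_eq_zero hp (by rw [Art.mem_maximalIdeal_iff, map_sub, AlgHom.commutes]; simp)
          ((mem_ker p _).1 (b j).2)
      rw [Algebra.smul_def, ← sub_eq_zero, ← sub_mul, h0]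
    rw [Algebra.TensorProduct.tmul_mul_tmul, hsm, res0_tmul, smul_mul_assoc, TensorProduct.smul_tmul]

lemma exists_jsum_eq {w : A' ⊗[k] C} (hw : tmap C p w = 0) : ∃ s, jsum C p b s = w := by
  classical
  let β := Algebra.TensorProduct.basis A' (basisC (k := k) C)
  have hmem : ∀ i, β.repr w i ∈ RingHom.ker p.toAlgHom := fun i => by
    rw [mem_ker, ← repr_tmap, hw, map_zero, Finsupp.zero_apply]
  refine ⟨fun j => ∑ i ∈ (β.repr w).support, b.repr ⟨_, hmem i⟩ j • basisC C i, ?_⟩
  refine Eq.trans ?_ (β.linearCombination_repr w)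
  rw [Finsupp.linearCombination_apply, Finsupp.sum, jsum_apply]
  simp only [TensorProduct.tmul_sum]
  rw [Finset.sum_comm]
  refine Finset.sum_congr rfl fun i _ => ?_
  have e : ∑ j, b.repr ⟨_, hmem i⟩ j • (b j).1 = β.repr w i := by
    refine Eq.trans ?_ (congrArg Subtype.val (b.sum_repr ⟨_, hmem i⟩))
    rw [AddSubmonoidClass.coe_finsetSum]
    rfl
  rw [Algebra.TensorProduct.basis_apply, TensorProduct.smul_tmul', smul_eq_mul, mul_one]
  conv_rhs => rw [← e, TensorProduct.sum_tmul]
  exact Finset.sum_congr rfl fun j _ => (TensorProduct.smul_tmul _ _ _).symm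

lemma jsum_injective : Function.Injective (jsum C p b) := by
  rw [injective_iff_map_eq_zero]
  intro s hs
  refine funext fun j₀ => (basisC (k := k) C).ext_elem fun i => ?_
  have h := congrArg (fun w => (Algebra.TensorProduct.basis A' (basisC (k := k) C)).repr w i) hs
  simp only [jsum_apply, map_sum, Finsupp.finsetSum_apply, Algebra.TensorProduct.basis_repr_tmul,
    Finsupp.smul_apply, Finsupp.mapRange_apply, smul_eq_mul, map_zero, Finsupp.zero_apply] at h
  have h' : ∑ j, (basisC (k := k) C).repr (s j) i • b j = 0 := Subtype.ext (by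
    refine Eq.trans ?_ h
    simp [Algebra.smul_def, mul_comm])
  simpa using Fintype.linearIndependent_iff.1 b.linearIndependent _ h' j₀

variable (I : Ideal (A ⊗[k] C))

/-- The preimage. -/
def preI : Ideal (A' ⊗[k] C) := I.comap (tmap C p)

lemma jsum_mem_preI (s : Fin n → C) : jsum C p b s ∈ preI C p I := by
  show tmap C p _ ∈ I
  rw [tmap_jsum]
  exact zero_mem _

include hp in
/-- Surjectivity onto the closed fibre. -/
lemma map_res0_preI : (preI C p I).map (res0 C A') = I.map (res0 C A) := by
  rw [← map_res0_tmap C p]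
  congr 1
  exact Ideal.map_comap_of_surjective _ (tmap_surjective C hp.1) I

include hp in
/-- Middle exactness. -/
theorem exists_sub_jsum_mem [Module.Flat A ((A ⊗[k] C) ⧸ I)] {w : A' ⊗[k] C} (hw : w ∈ preI C p I)
    (h0 : res0 C A' w = 0) : ∃ s, w - jsum C p b s ∈ preI C p I * mC C A' := by
  have h1 : tmap C p w ∈ I * mC C A := mem_mul_mC C I hw (by rw [res0_tmap, h0])
  have h2 : I * mC C A ≤ (preI C p I * mC C A').map (tmap C p) := by
    rw [Ideal.map_mul]
    refine Ideal.mul_mono (Ideal.map_comap_of_surjective _ (tmap_surjective C hp.1) I).ge ?_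
    rw [mC, Ideal.map_le_iff_le_comap]
    intro a ha
    obtain ⟨a', rfl⟩ := hp.1 a
    refine Ideal.mem_comap.2 ?_
    have e : algebraMap A (A ⊗[k] C) (p a') = tmap C p (algebraMap A' (A' ⊗[k] C) a') := by
      rw [Algebra.TensorProduct.algebraMap_apply, Algebra.TensorProduct.algebraMap_apply,
        Algebra.algebraMap_self, Algebra.algebraMap_self, RingHom.id_apply, RingHom.id_apply, tmap_tmul]
    rw [e]
    refine Ideal.mem_map_of_mem _ ((mem_mC_iff C _).2 ?_)
    rw [res0_algebraMap, ← Art.res_app p, (Art.mem_maximalIdeal_iff A _).1 ha, zero_smul]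
  obtain ⟨v, hv, hv'⟩ := (Ideal.mem_map_iff_of_surjective _ (tmap_surjective C hp.1)).1 (h2 h1)
  obtain ⟨s, hs⟩ := exists_jsum_eq C p b (w := w - v) (by rw [map_sub, hv', sub_self])
  exact ⟨s, by rw [hs, sub_sub_cancel]; exact hv⟩

include hp in
/-- Left exactness. -/
theorem jsum_mem_mul_iff [Module.Flat A ((A ⊗[k] C) ⧸ I)] (s : Fin n → C) :
    jsum C p b s ∈ preI C p I * mC C A' ↔ ∀ j, s j ∈ I.map (res0 C A) := by
  classical
  constructor
  · intro hs
    let W : Submodule k C := (I.map (res0 C A)).restrictScalars k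
    let e := Module.Basis.ofVectorSpace k W
    have hpre : ∀ i, ∃ w ∈ preI C p I, res0 C A' w = (e i : C) := fun i => by
      have h1 : (e i : C) ∈ (preI C p I).map (res0 C A') := by
        rw [map_res0_preI C p hp]
        exact (e i).2
      exact (Ideal.mem_map_iff_of_surjective _ (res0_surjective C A')).1 h1
    choose σ hσ hσ' using hpre
    let L := Finsupp.linearCombination A' σ
    let P' : Submodule A' (A' ⊗[k] C) := (preI C p I).restrictScalars A'
    let K : Submodule A' (A' ⊗[k] C) :=
      { carrier := {w | tmap C p w = 0}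
        add_mem' := fun {x y} hx hy => by
          show tmap C p (x + y) = 0
          rw [map_add, hx, hy, add_zero]
        zero_mem' := map_zero _
        smul_mem' := fun a x hx => by
          show tmap C p (a • x) = 0
          rw [tmap_smul, hx, smul_zero] }
    have hLP : LinearMap.range L ≤ P' := by
      rintro _ ⟨μ, rfl⟩
      rw [Finsupp.linearCombination_apply]
      exact Submodule.sum_mem _ fun i _ => Submodule.smul_mem P' _ (hσ i)
    have hmul : ∀ w ∈ preI C p I * mC C A', w ∈ maximalIdeal A' • P' := by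
      intro w hw
      refine Submodule.mul_induction_on hw (fun v hv u hu => ?_) fun x y hx hy => add_mem hx hy
      have hu' : u ∈ maximalIdeal A' • (⊤ : Submodule A' (A' ⊗[k] C)) := by
        rw [Ideal.smul_top_eq_map]
        exact hu
      refine Submodule.smul_induction_on (p := fun u => v * u ∈ maximalIdeal A' • P') hu'
        (fun r hr y _ => ?_) fun x y hx hy => ?_
      · rw [mul_smul_comm]
        exact Submodule.smul_mem_smul hr (Ideal.mul_mem_right y _ hv)
      · rw [mul_add]
        exact add_mem hx hy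
    have hstep : P' ≤ (LinearMap.range L ⊔ K) ⊔ maximalIdeal A' • P' := by
      intro w hw
      have h1 : res0 C A' w ∈ I.map (res0 C A) := by
        rw [← map_res0_preI C p hp]
        exact Ideal.mem_map_of_mem _ hw
      let μ := (e.repr ⟨_, h1⟩).mapRange (algebraMap k A') (map_zero _)
      have h2 : res0 C A' (L μ) = res0 C A' w := by
        show res0 C A' (Finsupp.linearCombination A' σ μ) = _
        rw [Finsupp.linearCombination_apply, Finsupp.sum_mapRange_index (by simp), Finsupp.sum, map_sum]
        have h3 := congrArg Subtype.val (e.linearCombination_repr ⟨_, h1⟩)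
        rw [Finsupp.linearCombination_apply, Finsupp.sum, Submodule.coe_sum] at h3
        refine Eq.trans (Finset.sum_congr rfl fun i _ => ?_) h3
        rw [Algebra.smul_def, map_mul, res0_algebraMap, A'.res.commutes, hσ', Algebra.algebraMap_self,
          RingHom.id_apply, SetLike.val_smul, smul_mul_assoc, one_mul]
      obtain ⟨t, ht⟩ := exists_sub_jsum_mem C p hp b I (sub_mem hw (hLP ⟨μ, rfl⟩))
        (by rw [map_sub, h2, sub_self])
      rw [show w = (L μ + jsum C p b t) + (w - L μ - jsum C p b t) by abel]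
      exact Submodule.add_mem_sup (Submodule.add_mem_sup ⟨μ, rfl⟩ (tmap_jsum C p b t)) (hmul _ ht)
    have hall : P' ≤ LinearMap.range L ⊔ K := by
      obtain ⟨N, hN⟩ := exists_maximalIdeal_pow_eq_bot A'
      have it : ∀ m : ℕ, P' ≤ (LinearMap.range L ⊔ K) ⊔ maximalIdeal A' ^ m • P' := by
        intro m
        induction m with
        | zero => rw [pow_zero, one_smul]; exact le_sup_right
        | succ m ih =>
          refine ih.trans (sup_le le_sup_left ((Submodule.smul_mono le_rfl hstep).trans ?_))
          rw [Submodule.smul_sup, pow_succ, mul_smul]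
          exact sup_le (Submodule.smul_le_right.trans le_sup_left) le_sup_right
      have h1 := it N
      rwa [hN, Submodule.bot_smul, sup_bot_eq] at h1
    have h1 := Submodule.smul_mono le_rfl hall (hmul _ hs)
    rw [Submodule.smul_sup] at h1
    have hK0 : maximalIdeal A' • K = ⊥ := by
      refine le_bot_iff.1 (Submodule.smul_le.2 fun r hr x hx => ?_)
      obtain ⟨t, rfl⟩ := exists_jsum_eq C p b hx
      rw [Submodule.mem_bot, Algebra.smul_def, mul_jsum C p hp b]
      refine (congrArg _ (funext fun j => ?_)).trans (map_zero (jsum C p b))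
      rw [res0_algebraMap, (Art.mem_maximalIdeal_iff A' r).1 hr, zero_smul, zero_mul]
      rfl
    rw [hK0, sup_bot_eq] at h1
    obtain ⟨μ, hμ⟩ := (Submodule.smul_le_right : maximalIdeal A' • LinearMap.range L ≤ _) h1
    have hσA : ∀ i, res0 C A (tmap C p (σ i)) = (e i : C) := fun i => by rw [res0_tmap, hσ']
    have hμ0 : μ.mapRange p (map_zero p.toAlgHom) = 0 := by
      refine injective_lifted C (fun i => (e i : C)) (e.linearIndependent.map' W.subtype (Submodule.ker_subtype W))
        _ hσA ?_
      rw [map_zero, Finsupp.linearCombination_apply, Finsupp.sum_mapRange_index (by simp)]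
      refine Eq.trans ?_ (tmap_jsum C p b s)
      rw [← hμ]
      show _ = tmap C p (Finsupp.linearCombination A' σ μ)
      rw [Finsupp.linearCombination_apply, Finsupp.sum, Finsupp.sum, map_sum]
      exact Finset.sum_congr rfl fun i _ => (tmap_smul C p _ _).symm
    have hμker : ∀ i, μ i ∈ RingHom.ker p.toAlgHom := fun i => by
      rw [mem_ker]
      exact Finsupp.ext_iff.1 hμ0 i
    have hs' : s = fun j => ∑ i ∈ μ.support, b.repr ⟨_, hμker i⟩ j • (e i : C) := by
      apply jsum_injective C p b
      rw [← hμ]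
      show Finsupp.linearCombination A' σ μ = _
      rw [Finsupp.linearCombination_apply, Finsupp.sum, jsum_apply]
      simp only [TensorProduct.tmul_sum]
      rw [Finset.sum_comm]
      refine Finset.sum_congr rfl fun i _ => ?_
      have e1 : algebraMap A' (A' ⊗[k] C) (μ i) = jsum C p b fun j => b.repr ⟨_, hμker i⟩ j • (1 : C) := by
        rw [Algebra.TensorProduct.algebraMap_apply, Algebra.algebraMap_self, RingHom.id_apply, jsum_apply]
        have e2 : ∑ j, b.repr ⟨_, hμker i⟩ j • (b j).1 = μ i := by
          refine Eq.trans ?_ (congrArg Subtype.val (b.sum_repr ⟨_, hμker i⟩))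
          rw [AddSubmonoidClass.coe_finsetSum]
          rfl
        conv_lhs => rw [← e2]
        simp only [TensorProduct.sum_tmul]
        exact Finset.sum_congr rfl fun j _ => TensorProduct.smul_tmul _ _ _
      rw [Algebra.smul_def, e1, mul_comm, mul_jsum C p hp b, jsum_apply]
      exact Finset.sum_congr rfl fun j _ => by rw [hσ', mul_smul_comm, mul_one]
    intro j
    rw [hs']
    exact W.sum_mem fun i _ => W.smul_mem _ (e i).2
  · intro hs
    have hw : ∀ j, ∃ w ∈ preI C p I, res0 C A' w = s j := fun j => by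
      refine (Ideal.mem_map_iff_of_surjective _ (res0_surjective C A')).1 ?_
      rw [map_res0_preI C p hp]
      exact hs j
    choose w hw hw' using hw
    have e : jsum C p b s = ∑ j, w j * jsum C p b (Pi.single j 1) := by
      simp only [mul_jsum C p hp b, hw', ← map_sum]
      refine congrArg _ (funext fun j => ?_)
      simp [Finset.sum_apply, Pi.single_apply]
    rw [e]
    refine Ideal.sum_mem _ fun j _ => Ideal.mul_mem_mul (hw j) ((mem_mC_iff C _).2 (res0_jsum C p b _))

end Ext

end Groth.Agent.Lib.ArtinFun.LiftAlg
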