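import Groth.Agent.Lib.ArtinFun.LiftAlg

/-!
# Lifts of flat ideals as splittings, and lifts of complete intersections
-/

noncomputable section

universe u

open CategoryTheory ArtFun IsLocalRing
open scoped TensorProduct

namespace Groth.Agent.Lib.ArtinFun.LiftSplit

open FlatIdealFP LiftAlg

variable {k : Type u} [Field k] (C : Type u) [CommRing C] [Algebra k C]

section Splitting

variable {A' A : Art k k} (p : A' ⟶ A) (hp : Art.IsSemismallExt p) {n : ℕ}
  (b : Module.Basis (Fin n) k ↥(RingHom.ker p.toAlgHom))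
  (I : Ideal (A ⊗[k] C)) [Module.Flat A ((A ⊗[k] C) ⧸ I)]

/-- An ideal mapping onto `I` meeting `J ⊗ C` only in `J ⊗ I₀` has flat quotient. -/
theorem flat_of_inter (P' : Ideal (A' ⊗[k] C)) (hmap : P'.map (tmap C p) = I)
    (hcap : ∀ s : Fin n → C, jsum C p b s ∈ P' → ∀ j, s j ∈ I.map (res0 C A)) :
    Module.Flat A' ((A' ⊗[k] C) ⧸ P') := by
  obtain ⟨ι, c, hs, hi⟩ := exists_spans_indep (k := k) C (I.map (res0 C A))
  have he : P'.map (res0 C A') = I.map (res0 C A) := by rw [← map_res0_tmap C p, hmap]
  have hinj : Function.Injective (lifts C c P') := by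
    classical
    rw [injective_iff_map_eq_zero]
    intro a ha
    rw [lifts_eq, Ideal.Quotient.eq_zero_iff_mem] at ha
    have h1 : a.mapRange p (map_zero p.toAlgHom) = 0 := by
      refine lifts_injective C c I hi ?_
      rw [map_zero, lifts_eq, Ideal.Quotient.eq_zero_iff_mem, ← tmap_liftsRep, ← hmap]
      exact Ideal.mem_map_of_mem _ ha
    have hker : ∀ i, a i ∈ RingHom.ker p.toAlgHom := fun i => by
      rw [mem_ker]
      exact Finsupp.ext_iff.1 h1 i
    let μ : ι → Fin n → k := fun i j => b.repr ⟨a i, hker i⟩ j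
    have hai : ∀ i, ∑ j, μ i j • (b j).1 = a i := fun i => by
      refine Eq.trans ?_ (congrArg Subtype.val (b.sum_repr ⟨a i, hker i⟩))
      rw [AddSubmonoidClass.coe_finsetSum]
      rfl
    have h2 : liftsRep C c a = jsum C p b fun j => ∑ i ∈ a.support, μ i j • c i := by
      rw [liftsRep, Finsupp.linearCombination_apply, Finsupp.sum, jsum_apply]
      simp only [TensorProduct.tmul_sum]
      rw [Finset.sum_comm]
      refine Finset.sum_congr rfl fun i _ => ?_
      rw [TensorProduct.smul_tmul', smul_eq_mul, mul_one]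
      conv_lhs => rw [← hai i, TensorProduct.sum_tmul]
      exact Finset.sum_congr rfl fun j _ => TensorProduct.smul_tmul _ _ _
    rw [h2] at ha
    have h3 : ∀ j, Finsupp.onFinset a.support (fun i => if i ∈ a.support then μ i j else 0)
        (fun i hi => by by_contra hn; simp [hn] at hi) = 0 := fun j => by
      refine hi _ ?_
      rw [Finsupp.linearCombination_apply, Finsupp.onFinset_sum _ (by simp)]
      convert hcap _ ha j using 1
      exact Finset.sum_congr rfl fun i hi => by rw [if_pos hi]
    refine Finsupp.ext fun i => ?_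
    by_contra hne
    have hsupp : i ∈ a.support := Finsupp.mem_support_iff.2 hne
    refine hne ?_
    rw [← hai i, Finsupp.zero_apply]
    refine Finset.sum_eq_zero fun j _ => ?_
    have := Finsupp.ext_iff.1 (h3 j) i
    rw [Finsupp.onFinset_apply, if_pos hsupp, Finsupp.zero_apply] at this
    rw [this, zero_smul]
  exact Module.Flat.of_linearEquiv
    (LinearEquiv.ofBijective _ ⟨hinj, lifts_surjective C c P' (by rw [he]; exact hs)⟩).symm

variable {I} {P' : Ideal (A' ⊗[k] C)} (hmap : P'.map (tmap C p) = I)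

include hmap

omit [Module.Flat A ((A ⊗[k] C) ⧸ I)] in
lemma le_preI : P' ≤ preI C p I := fun w hw => by
  show tmap C p w ∈ I
  rw [← hmap]
  exact Ideal.mem_map_of_mem _ hw

variable [Module.Flat A' ((A' ⊗[k] C) ⧸ P')]

include hp

/-- A lift meets `J ⊗ C` exactly in `J ⊗ I₀`. -/
theorem jsum_mem_iff (s : Fin n → C) : jsum C p b s ∈ P' ↔ ∀ j, s j ∈ I.map (res0 C A) := by
  constructor
  · intro hs
    exact (jsum_mem_mul_iff C p hp b I s).1
      (Ideal.mul_mono_left (le_preI C p hmap) (mem_mul_mC C P' hs (res0_jsum C p b s)))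
  · intro hs
    have hw : ∀ j, ∃ w ∈ P', res0 C A' w = s j := fun j => by
      refine (Ideal.mem_map_iff_of_surjective _ (res0_surjective C A')).1 ?_
      rw [← map_res0_tmap C p, hmap]
      exact hs j
    choose w hw hw' using hw
    have e : jsum C p b s = ∑ j, w j * jsum C p b (Pi.single j 1) := by
      simp only [mul_jsum C p hp b, hw', ← map_sum]
      refine congrArg _ (funext fun j => ?_)
      simp [Finset.sum_apply, Pi.single_apply]
    rw [e]
    exact Ideal.sum_mem _ fun j _ => Ideal.mul_mem_right _ _ (hw j)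

omit [Module.Flat A' ((A' ⊗[k] C) ⧸ P')] [Module.Flat A ((A ⊗[k] C) ⧸ I)] in
/-- Every element of the preimage is in the lift up to `J ⊗ C`. -/
theorem exists_sub_jsum_mem' {w : A' ⊗[k] C} (hw : w ∈ preI C p I) :
    ∃ s, w - jsum C p b s ∈ P' := by
  have h1 : tmap C p w ∈ P'.map (tmap C p) := hmap.symm ▸ hw
  obtain ⟨v, hv, hv'⟩ := (Ideal.mem_map_iff_of_surjective _ (tmap_surjective C hp.1)).1 h1
  obtain ⟨s, hs⟩ := exists_jsum_eq C p b (w := w - v) (by rw [map_sub, hv', sub_self])
  exact ⟨s, by rw [hs, sub_sub_cancel]; exact hv⟩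

omit [Module.Flat A' ((A' ⊗[k] C) ⧸ P')] [Module.Flat A ((A ⊗[k] C) ⧸ I)] in
/-- `m P` lies in every lift. -/
theorem mul_mC_le : preI C p I * mC C A' ≤ P' := by
  haveI := isNoetherian_base A'
  haveI : Module.Finite k ↥(RingHom.ker p.toAlgHom) :=
    Module.Finite.of_injective ((RingHom.ker p.toAlgHom).subtype.restrictScalars k) Subtype.val_injective
  refine Ideal.mul_le.2 fun w hw u hu => ?_
  obtain ⟨s, hs⟩ := exists_sub_jsum_mem' C p hp (Module.finBasis k _) hmap hw
  rw [← sub_add_cancel w (jsum C p _ s), add_mul, mul_comm (jsum C p _ s), mul_jsum C p hp]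
  refine add_mem (Ideal.mul_mem_right _ _ hs) ?_
  rw [(mem_mC_iff C u).1 hu]
  convert zero_mem P'
  exact (congrArg _ (funext fun j => zero_mul _)).trans (map_zero _)

/-- The square of the preimage lies in every lift. -/
theorem mul_self_le : preI C p I * preI C p I ≤ P' := by
  haveI := isNoetherian_base A'
  haveI : Module.Finite k ↥(RingHom.ker p.toAlgHom) :=
    Module.Finite.of_injective ((RingHom.ker p.toAlgHom).subtype.restrictScalars k) Subtype.val_injective
  refine Ideal.mul_le.2 fun w hw v hv => ?_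
  obtain ⟨s, hs⟩ := exists_sub_jsum_mem' C p hp (Module.finBasis k _) hmap hw
  rw [← sub_add_cancel w (jsum C p _ s), add_mul, mul_comm (jsum C p _ s), mul_jsum C p hp]
  refine add_mem (Ideal.mul_mem_right _ _ hs) ((jsum_mem_iff C p hp _ hmap _).2 fun j => Ideal.mul_mem_right _ _ ?_)
  rw [← map_res0_preI C p hp]
  exact Ideal.mem_map_of_mem _ hv

end Splitting

section Koszul

/-- All relations of `f` are trivial. -/
def KoszulRel {r : ℕ} (f : Fin r → C) : Prop :=
  ∀ a : Fin r → C, ∑ i, a i * f i = 0 →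
    ∃ c : Fin r → Fin r → C, (∀ i, c i i = 0) ∧ (∀ i j, c i j = -c j i) ∧ ∀ i, a i = ∑ j, c i j * f j

lemma sum_alternating {R : Type*} [CommRing R] : ∀ {r : ℕ} (c : Fin r → Fin r → R) (g : Fin r → R),
    (∀ i, c i i = 0) → (∀ i j, c i j = -c j i) → ∑ i, (∑ j, c i j * g j) * g i = 0 := by
  intro r
  induction r with
  | zero => intro c g _ _; simp
  | succ r ih =>
    intro c g hd ha
    have e := ih (fun i j => c i.succ j.succ) (fun i => g i.succ) (fun i => hd _) fun i j => ha _ _
    simp only [Fin.sum_univ_succ, add_mul, Finset.sum_add_distrib, hd, zero_mul, zero_add, e, add_zero]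
    rw [Finset.sum_mul, ← Finset.sum_add_distrib]
    refine Finset.sum_eq_zero fun i _ => ?_
    rw [ha i.succ 0]
    ring

lemma exists_alternating_lift {R S : Type*} [CommRing R] [CommRing S] (φ : R →+* S) (hφ : Function.Surjective φ)
    {r : ℕ} (c : Fin r → Fin r → S) (hd : ∀ i, c i i = 0) (ha : ∀ i j, c i j = -c j i) :
    ∃ d : Fin r → Fin r → R, (∀ i, d i i = 0) ∧ (∀ i j, d i j = -d j i) ∧ ∀ i j, φ (d i j) = c i j := by
  choose e he using fun i j => hφ (c i j)
  refine ⟨fun i j => if i < j then e i j else if j < i then -e j i else 0, fun i => by simp, fun i j => ?_,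
    fun i j => ?_⟩
  · rcases lt_trichotomy i j with h | h | h
    · simp [h, lt_asymm h]
    · subst h; simp
    · simp [h, lt_asymm h]
  · rcases lt_trichotomy i j with h | h | h
    · simp [h, he]
    · subst h; simp [hd]
    · simp [h, lt_asymm h, he, ← ha]

variable {r : ℕ} {f : Fin r → C}

/-- Relations among lifts are trivial. -/
theorem koszulRel_lift (hf : KoszulRel C f) (A : Art k k) : ∀ g : Fin r → A ⊗[k] C,
    (∀ i, res0 C A (g i) = f i) → ∀ a : Fin r → A ⊗[k] C, ∑ i, a i * g i = 0 →
      ∃ c : Fin r → Fin r → A ⊗[k] C,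
        (∀ i, c i i = 0) ∧ (∀ i j, c i j = -c j i) ∧ ∀ i, a i = ∑ j, c i j * g j := by
  refine obj_induction (fun A => ∀ g : Fin r → A ⊗[k] C, (∀ i, res0 C A (g i) = f i) →
    ∀ a : Fin r → A ⊗[k] C, ∑ i, a i * g i = 0 → ∃ c : Fin r → Fin r → A ⊗[k] C,
      (∀ i, c i i = 0) ∧ (∀ i j, c i j = -c j i) ∧ ∀ i, a i = ∑ j, c i j * g j) ?_ ?_ ?_ A
  · intro A B e he ih g hg a ha
    have hb : Function.Bijective (tmap C e) := by
      refine ⟨fun x y hxy => ?_, tmap_surjective C (bijective_of_isIso e).2⟩
      refine (Algebra.TensorProduct.basis B (basisC C)).ext_elem fun i => (bijective_of_isIso e).1 ?_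
      rw [← repr_tmap, ← repr_tmap, hxy]
    obtain ⟨c, hc1, hc2, hc3⟩ := ih (fun i => tmap C e (g i)) (fun i => by rw [res0_tmap, hg])
      (fun i => tmap C e (a i)) (by simp only [← map_mul, ← map_sum, ha, map_zero])
    choose d hd using fun i j => hb.2 (c i j)
    refine ⟨d, fun i => hb.1 (by rw [hd, hc1, map_zero]), fun i j => hb.1 (by rw [map_neg, hd, hd, hc2]),
      fun i => hb.1 ?_⟩
    simp only [map_sum, map_mul, hd]
    exact hc3 i
  · intro g hg a ha
    have hb : Function.Bijective (res0 C (Art.base k k)) := by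
      refine ⟨fun x y h => ?_, res0_surjective C _⟩
      have hx : ∀ z : (Art.base k k) ⊗[k] C, z = (1 : Art.base k k) ⊗ₜ res0 C _ z := fun z => by
        induction z with
        | zero => simp
        | add y w hy hw => rw [map_add, TensorProduct.tmul_add, ← hy, ← hw]
        | tmul x c =>
          rw [res0_tmul, TensorProduct.tmul_smul, TensorProduct.smul_tmul', ← Algebra.algebraMap_eq_smul_one]
          rfl
      rw [hx x, hx y, h]
    obtain ⟨c, hc1, hc2, hc3⟩ := hf (fun i => res0 C _ (a i))
      (by simp only [← hg, ← map_mul, ← map_sum, ha, map_zero])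
    choose d hd using fun i j => hb.2 (c i j)
    refine ⟨d, fun i => hb.1 (by rw [hd, hc1, map_zero]), fun i j => hb.1 (by rw [map_neg, hd, hd, hc2]),
      fun i => hb.1 ?_⟩
    simp only [map_sum, map_mul, hd, hg]
    exact hc3 i
  · intro A B p hp ih g hg a ha
    obtain ⟨c, hc1, hc2, hc3⟩ := ih (fun i => tmap C p (g i)) (fun i => by rw [res0_tmap, hg])
      (fun i => tmap C p (a i)) (by simp only [← map_mul, ← map_sum, ha, map_zero])
    obtain ⟨d, hd1, hd2, hd⟩ := exists_alternating_lift (tmap C p) (tmap_surjective C hp.1) c hc1 hc2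
    haveI := isNoetherian_base B
    haveI : Module.Finite k ↥(RingHom.ker p.toAlgHom) :=
      Module.Finite.of_injective ((RingHom.ker p.toAlgHom).subtype.restrictScalars k) Subtype.val_injective
    let b := Module.finBasis k ↥(RingHom.ker p.toAlgHom)
    choose s hs using fun i => exists_jsum_eq C p b (w := a i - ∑ j, d i j * g j)
      (by simp only [map_sub, map_sum, map_mul, hd, ← hc3, sub_self])
    have h1 : ∑ i, (a i - ∑ j, d i j * g j) * g i = 0 := by
      simp only [sub_mul, Finset.sum_sub_distrib, ha, sum_alternating d g hd1 hd2, sub_self]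
    have h1' : jsum C p b (∑ i, fun j => f i * s i j) = 0 := by
      rw [map_sum, ← h1]
      refine Finset.sum_congr rfl fun i _ => ?_
      rw [← hs i, mul_comm (jsum C p b (s i)) (g i), mul_jsum C p hp.isSemismallExt b, hg]
    have h2 := jsum_injective C p b (h1'.trans (map_zero _).symm)
    choose q hq1 hq2 hq3 using fun j => hf (fun i => s i j) (by
      have := congrFun h2 j
      simpa [Finset.sum_apply, mul_comm] using this)
    let q' : Fin r → Fin r → B ⊗[k] C := fun i l => jsum C p b fun j => q j i l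
    refine ⟨fun i l => d i l + q' i l, fun i => ?_, fun i l => ?_, fun i => ?_⟩
    · simp only [q']; rw [hd1, zero_add, show (fun j => q j i i) = (0 : Fin _ → C) from funext fun j => hq1 j i, map_zero]
    · simp only [q']; rw [hd2 i l, show (fun j => q j i l) = -fun j => q j l i from funext fun j => hq2 j i l, map_neg,
        neg_add]
    · simp only [add_mul, Finset.sum_add_distrib, q', mul_comm (jsum C p b _) (g _),
        mul_jsum C p hp.isSemismallExt b, hg, ← map_sum]
      rw [show (∑ l, fun j => f l * q j i l) = s i from funext fun j => by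
        rw [Finset.sum_apply, hq3 j i]; exact Finset.sum_congr rfl fun l _ => mul_comm _ _, hs,
        add_sub_cancel]

variable {A' A : Art k k} (p : A' ⟶ A) (hp : Art.IsSemismallExt p)
  (I : Ideal (A ⊗[k] C)) [Module.Flat A ((A ⊗[k] C) ⧸ I)]

include hp in
/-- A complete intersection lifts. -/
theorem exists_lift_koszul (hf : KoszulRel C f) (hI : I.map (res0 C A) = Ideal.span (Set.range f)) :
    ∃ P' : Ideal (A' ⊗[k] C), P'.map (tmap C p) = I ∧ Module.Flat A' ((A' ⊗[k] C) ⧸ P') := by
  haveI := isNoetherian_base A'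
  haveI : Module.Finite k ↥(RingHom.ker p.toAlgHom) :=
    Module.Finite.of_injective ((RingHom.ker p.toAlgHom).subtype.restrictScalars k) Subtype.val_injective
  let b := Module.finBasis k ↥(RingHom.ker p.toAlgHom)
  have hw : ∀ i, ∃ w ∈ preI C p I, res0 C A' w = f i := fun i => by
    refine (Ideal.mem_map_iff_of_surjective _ (res0_surjective C A')).1 ?_
    rw [map_res0_preI C p hp, hI]
    exact Ideal.subset_span ⟨i, rfl⟩
  choose g hg hg' using hw
  let P' : Ideal (A' ⊗[k] C) := Ideal.span (Set.range g)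
  have hle : P'.map (tmap C p) ≤ I :=
    Ideal.map_le_iff_le_comap.2 (Ideal.span_le.2 (by rintro _ ⟨i, rfl⟩; exact hg i))
  have hmap : P'.map (tmap C p) = I := (le_of_res0_le C I hle (by
    rw [hI, map_res0_tmap, Ideal.map_span, ← Set.range_comp]
    exact Ideal.span_mono (by rintro _ ⟨i, rfl⟩; exact ⟨i, hg' i⟩))).symm
  refine ⟨P', hmap, flat_of_inter C p b I P' hmap fun s hs j => ?_⟩
  obtain ⟨a, ha⟩ := Ideal.mem_span_range_iff_exists_fun.1 hs
  obtain ⟨c, hc1, hc2, hc3⟩ := koszulRel_lift C hf A (fun i => tmap C p (g i))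
    (fun i => by rw [res0_tmap, hg']) (fun i => tmap C p (a i))
    (by rw [← tmap_jsum C p b s, ← ha, map_sum]; exact Finset.sum_congr rfl fun i _ => (map_mul _ _ _).symm)
  obtain ⟨d, hd1, hd2, hd⟩ := exists_alternating_lift (tmap C p) (tmap_surjective C hp.1) c hc1 hc2
  choose t ht using fun i => exists_jsum_eq C p b (w := a i - ∑ l, d i l * g l)
    (by simp only [map_sub, map_sum, map_mul, hd, ← hc3, sub_self])
  have h1 : jsum C p b s = jsum C p b (∑ i, fun j => f i * t i j) := by
    have e1 : ∀ i, jsum C p b (fun j => f i * t i j) = (a i - ∑ l, d i l * g l) * g i := fun i => by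
      rw [← ht i, mul_comm (jsum C p b (t i)) (g i), mul_jsum C p hp b, hg']
    rw [← ha, map_sum]
    simp only [e1, sub_mul, Finset.sum_sub_distrib, sum_alternating d g hd1 hd2, sub_zero]
  rw [jsum_injective C p b h1, Finset.sum_apply, hI]
  exact Ideal.sum_mem _ fun i _ => Ideal.mul_mem_right _ _ (Ideal.subset_span ⟨i, rfl⟩)

end Koszul

end Groth.Agent.Lib.ArtinFun.LiftSplit
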