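import Groth.Agent.Lib.ArtinFun.PQMod
import Groth.Agent.Lib.ArtinFun.LiftSplit
import Groth.Agent.Lib.ClSub.Basis

/-!
# The extension of a lifting problem of the local Hilbert functor

For a semismall `p : A' → A` with kernel `J` (basis `b`) and `z ∈ Hilb(A)`, the module `E = P/mP`
of the preimage `P` is an extension of `I₀` by `J ⊗ O/I₀`; lifts of `z` are its splittings.
-/

noncomputable section

universe u

open CategoryTheory CategoryTheory.Limits AlgebraicGeometry ArtFun ArtFun.Art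
open scoped TensorProduct

namespace Groth.Agent.Lib.ArtinFun.LiftExt

open FlatIdealFP LocalHilbAffine LocalHilbGlue LocalHilbTangent LiftAlg LiftSplit PQMod

instance (Y : Scheme.{u}) : HasFiniteBiproducts Y.Modules :=
  HasFiniteBiproducts.of_hasFiniteProducts

variable {k : Type u} [Field k] {X : Scheme.{u}} (x : X ⟶ specPt k) (I₀ : X.IdealSheafData)

/-- A presentation of the module of a pair of families of ideals. -/
structure PQData {A : Art k k} (P Q : ∀ U : X.affineOpens, Ideal (A ⊗[k] Sec x U)) where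
  /-- the module -/
  E : X.Modules
  /-- the classes -/
  cls : ∀ U : X.affineOpens, P U →+ Γ(E, U.1)
  cls_surjective : ∀ U, Function.Surjective (cls U)
  cls_eq_zero_iff : ∀ U w, cls U w = 0 ↔ w.1 ∈ Q U
  cls_res : ∀ (U V : X.affineOpens) (h : V.1 ≤ U.1) (w : P U) (w' : P V),
    w'.1 = rmap x A h w.1 → E.presheaf.map (homOfLE h).op (cls U w) = cls V w'
  cls_smul : ∀ (U : X.affineOpens) (r : Γ(X, U.1)) (w w' : P U),
    w'.1 = (1 : A) ⊗ₜ (show Sec x U from r) * w.1 → cls U w' = r • cls U w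

/-- Morphisms out of the module of a pair. -/
theorem exists_hom {A : Art k k} {P Q : ∀ U : X.affineOpens, Ideal (A ⊗[k] Sec x U)} (D : PQData x P Q)
    (hP : ∀ (U V : X.affineOpens) (h : V.1 ≤ U.1), ∀ w ∈ P U, rmap x A h w ∈ P V)
    {N : X.Modules} (d : ∀ U : X.affineOpens, P U →+ Γ(N, U.1))
    (h0 : ∀ U (w : P U), w.1 ∈ Q U → d U w = 0)
    (hres : ∀ (U V : X.affineOpens) (h : V.1 ≤ U.1) (w : P U) (w' : P V),
      w'.1 = rmap x A h w.1 → N.presheaf.map (homOfLE h).op (d U w) = d V w')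
    (hsmul : ∀ (U : X.affineOpens) (r : Γ(X, U.1)) (w w' : P U),
      w'.1 = (1 : A) ⊗ₜ (show Sec x U from r) * w.1 → d U w' = r • d U w) :
    ∃ φ : D.E ⟶ N, ∀ U w, φ.app U.1 (D.cls U w) = d U w := by
  let e := fun (U : X.affineOpens) (m : Γ(D.E, U.1)) => d U (Function.surjInv (D.cls_surjective U) m)
  have he : ∀ U w, e U (D.cls U w) = d U w := fun U w => by
    show d U _ = d U w
    rw [← sub_eq_zero, ← map_sub]
    refine h0 U _ ((D.cls_eq_zero_iff U _).1 ?_)
    rw [map_sub, Function.surjInv_eq (D.cls_surjective U), sub_self]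
  obtain ⟨φ, hφ⟩ := HomAffine.exists_hom_of_affine (fun U => AddMonoidHom.mk' (e U) fun a a' => by
      obtain ⟨v, rfl⟩ := D.cls_surjective U a
      obtain ⟨w, rfl⟩ := D.cls_surjective U a'
      rw [← map_add, he, he, he, map_add])
    (fun U r a => by
      obtain ⟨w, rfl⟩ := D.cls_surjective U a
      show e U _ = r • e U _
      rw [← D.cls_smul U r w ⟨_, Ideal.mul_mem_left _ _ w.2⟩ rfl, he, he, hsmul U r w ⟨_, Ideal.mul_mem_left _ _ w.2⟩ rfl])
    (fun U V h a => by
      obtain ⟨w, rfl⟩ := D.cls_surjective U a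
      show N.presheaf.map _ (e U _) = e V _
      rw [D.cls_res U V h w ⟨_, hP U V h _ w.2⟩ rfl, he, he, hres U V h w ⟨_, hP U V h _ w.2⟩ rfl])
  exact ⟨φ, fun U w => (hφ U _).trans (he U w)⟩

variable {A' A : Art k k} (p : A' ⟶ A) (hp : Art.IsSemismallExt p) {n : ℕ}
  (b : Module.Basis (Fin n) k ↥(RingHom.ker p.toAlgHom))
  (z : (localHilb X x I₀).obj A)

/-- The preimage family. -/
def pre (U : X.affineOpens) : Ideal (A' ⊗[k] Sec x U) := preI (Sec x U) p (cI x U A z.1)

/-- The small denominator. -/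
def den₁ (U : X.affineOpens) : Ideal (A' ⊗[k] Sec x U) := pre x I₀ p z U * mC (Sec x U) A'

/-- The large denominator. -/
def den₂ (U : X.affineOpens) : Ideal (A' ⊗[k] Sec x U) :=
  pre x I₀ p z U * pre x I₀ p z U ⊔ den₁ x I₀ p z U

instance flat_cI (U : X.affineOpens) : Module.Flat A ((A ⊗[k] Sec x U) ⧸ cI x U A z.1) :=
  (flatOver_iff x z.1).1 z.2.1 U

lemma res0_cI (U : X.affineOpens) : (cI x U A z.1).map (res0 (Sec x U) A) = I0 x I₀ U := by
  rw [← ideal_comap_incl, z.2.2]

lemma cI_map_pre (U : X.affineOpens) : cI x U A' (z.1.map (XAmap x p)) = pre x I₀ p z U :=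
  cI_map x U p z.1

lemma map_rmap_pre {U V : X.affineOpens} (h : V.1 ≤ U.1) :
    (pre x I₀ p z U).map (rmap x A' h) = pre x I₀ p z V := by
  rw [← cI_map_pre, ← cI_map_pre, ← cI_res]

lemma rmap_mem_pre {U V : X.affineOpens} (h : V.1 ≤ U.1) {w} (hw : w ∈ pre x I₀ p z U) :
    rmap x A' h w ∈ pre x I₀ p z V := by
  rw [← map_rmap_pre x I₀ p z h]
  exact Ideal.mem_map_of_mem _ hw

lemma rmap_algebraMap {U V : X.affineOpens} (h : V.1 ≤ U.1) (a : A') :
    rmap x A' h (algebraMap A' _ a) = algebraMap A' _ a := by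
  rw [Algebra.TensorProduct.algebraMap_apply, Algebra.TensorProduct.algebraMap_apply, Algebra.algebraMap_self,
    RingHom.id_apply, rmap_tmul, map_one]

lemma map_rmap_den₁ {U V : X.affineOpens} (h : V.1 ≤ U.1) :
    (den₁ x I₀ p z U).map (rmap x A' h) = den₁ x I₀ p z V := by
  rw [den₁, den₁, Ideal.map_mul, map_rmap_pre, mC, mC, Ideal.map_map]
  congr 2
  exact RingHom.ext (rmap_algebraMap x h)

lemma map_rmap_den₂ {U V : X.affineOpens} (h : V.1 ≤ U.1) :
    (den₂ x I₀ p z U).map (rmap x A' h) = den₂ x I₀ p z V := by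
  rw [den₂, den₂, Ideal.map_sup, Ideal.map_mul, map_rmap_pre, map_rmap_den₁]

theorem nonempty_pqData (Q : ∀ U : X.affineOpens, Ideal (A' ⊗[k] Sec x U))
    (hQ : ∀ (U V : X.affineOpens) (h : V.1 ≤ U.1), (Q U).map (rmap x A' h) = Q V)
    (hle : ∀ U, Q U ≤ pre x I₀ p z U) : Nonempty (PQData x (pre x I₀ p z) Q) := by
  obtain ⟨IQ, hIQ⟩ := exists_glue x A' Q hQ
  obtain ⟨E, cls, h1, h2, h3, h4⟩ := PQMod.exists_mod x (z.1.map (XAmap x p)) IQ
    (fun U => by rw [hIQ, cI_map_pre]; exact hle U)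
  exact ⟨{
    E := E
    cls := fun U => AddMonoidHom.mk' (fun w => cls U ⟨w.1, (cI_map_pre x I₀ p z U).symm ▸ w.2⟩)
      fun a b' => by rw [← map_add]; rfl
    cls_surjective := fun U m => by
      obtain ⟨w, hw⟩ := h1 U m
      exact ⟨⟨w.1, cI_map_pre x I₀ p z U ▸ w.2⟩, hw⟩
    cls_eq_zero_iff := fun U w => by
      show cls U _ = 0 ↔ _
      rw [h2, hIQ]
    cls_res := fun U V h w w' e => h3 U V h _ _ e
    cls_smul := fun U r w w' e => h4 U r _ _ e }⟩

lemma den₁_le (U : X.affineOpens) : den₁ x I₀ p z U ≤ pre x I₀ p z U := Ideal.mul_le_left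

lemma den₂_le (U : X.affineOpens) : den₂ x I₀ p z U ≤ pre x I₀ p z U :=
  sup_le Ideal.mul_le_left (den₁_le x I₀ p z U)

lemma rmap_jsum {U V : X.affineOpens} (h : V.1 ≤ U.1) (s : Fin n → Sec x U) :
    rmap x A' h (jsum (Sec x U) p b s) = jsum (Sec x V) p b fun j => rU x h (s j) := by
  rw [jsum_apply, jsum_apply, map_sum]
  rfl

lemma toSub_res {U V : X.affineOpens} (h : V.1 ≤ U.1) (c : Sec x U) :
    (ClSub.quotMod I₀).presheaf.map (homOfLE h).op (toSub x I₀ U c) = toSub x I₀ V (rU x h c) :=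
  (HomAffine.app_map (ClSub.toSubscheme I₀) h (show Γ(X, U.1) from c)).symm

lemma incl_res {U V : X.affineOpens} (h : V.1 ≤ U.1) (s : Γ(ClSub.idealMod I₀, U.1)) :
    incl x I₀ V ((ClSub.idealMod I₀).presheaf.map (homOfLE h).op s) = rU x h (incl x I₀ U s) :=
  HomAffine.app_map (ClSub.idealModι I₀) h s

lemma toSub_surjective (U : X.affineOpens) : Function.Surjective (toSub x I₀ U) := fun m =>
  ClSub.Sections.toSubscheme_app_surjective I₀ U m

lemma jsum_smul (U : X.affineOpens) (r : Sec x U) (s : Fin n → Sec x U) :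
    (1 : A') ⊗ₜ r * jsum (Sec x U) p b s = jsum (Sec x U) p b fun j => r * s j := by
  rw [jsum_apply, jsum_apply, Finset.mul_sum]
  exact Finset.sum_congr rfl fun j _ => by rw [Algebra.TensorProduct.tmul_mul_tmul, one_mul]

lemma single_res {U V : X.affineOpens} (h : V.1 ≤ U.1) (j : Fin n) (c : Sec x U) :
    (fun l => rU x h ((Pi.single j c : Fin n → Sec x U) l)) = Pi.single j (rU x h c) :=
  funext fun l => Pi.apply_single (fun _ => rU x h) (fun _ => map_zero _) j c l

variable (D : PQData x (pre x I₀ p z) (den₁ x I₀ p z))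

include hp in
/-- The inclusion of a copy of `O/I₀`. -/
theorem exists_inj (j : Fin n) :
    ∃ ι : ClSub.quotMod I₀ ⟶ D.E, ∀ (U : X.affineOpens) (c : Sec x U),
      ι.app U.1 (toSub x I₀ U c) =
        D.cls U ⟨jsum (Sec x U) p b (Pi.single j c), jsum_mem_preI _ p b _ _⟩ := by
  let d : ∀ U : X.affineOpens, Sec x U →+ Γ(D.E, U.1) := fun U =>
    (D.cls U).comp (AddMonoidHom.mk' (fun c => (⟨jsum (Sec x U) p b (Pi.single j c), jsum_mem_preI _ p b _ _⟩ :
      pre x I₀ p z U)) fun c c' => Subtype.ext (by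
        show jsum _ p b _ = jsum _ p b _ + jsum _ p b _
        rw [← map_add, Pi.single_add]))
  have h0 : ∀ U c, toSub x I₀ U c = 0 → d U c = 0 := fun U c hc => by
    refine (D.cls_eq_zero_iff U _).2 ((jsum_mem_mul_iff _ p hp b _ _).2 fun l => ?_)
    rw [res0_cI]
    rcases eq_or_ne l j with rfl | hl
    · rw [Pi.single_eq_same]
      exact (toSub_eq_zero_iff x I₀ U c).1 hc
    · rw [Pi.single_eq_of_ne hl]
      exact zero_mem _
  let e := fun (U : X.affineOpens) m => d U (Function.surjInv (toSub_surjective x I₀ U) m)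
  have he : ∀ U c, e U (toSub x I₀ U c) = d U c := fun U c => by
    show d U _ = d U c
    rw [← sub_eq_zero, ← map_sub]
    refine h0 U _ ?_
    rw [map_sub, Function.surjInv_eq (toSub_surjective x I₀ U), sub_self]
  obtain ⟨φ, hφ⟩ := HomAffine.exists_hom_of_affine (M := ClSub.quotMod I₀) (N := D.E)
    (fun U => AddMonoidHom.mk' (e U) fun a a' => by
      obtain ⟨v, rfl⟩ := toSub_surjective x I₀ U a
      obtain ⟨w, rfl⟩ := toSub_surjective x I₀ U a'
      rw [← map_add, he, he, he, map_add])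
    (fun U r a => by
      obtain ⟨c, rfl⟩ := toSub_surjective x I₀ U a
      show e U _ = r • e U _
      rw [← toSub_mul, he, he]
      refine D.cls_smul U r _ _ ?_
      show jsum _ p b _ = _ * jsum _ p b _
      rw [jsum_smul]
      refine congrArg _ (funext fun l => ?_)
      rcases eq_or_ne l j with rfl | hl
      · rw [Pi.single_eq_same, Pi.single_eq_same]
      · rw [Pi.single_eq_of_ne hl, Pi.single_eq_of_ne hl, mul_zero])
    (fun U V h a => by
      obtain ⟨c, rfl⟩ := toSub_surjective x I₀ U a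
      show D.E.presheaf.map _ (e U _) = e V _
      rw [toSub_res, he, he]
      refine D.cls_res U V h _ _ ?_
      show jsum _ p b _ = rmap x A' h (jsum _ p b _)
      rw [rmap_jsum, single_res])
  exact ⟨φ, fun U c => (hφ U _).trans (he U c)⟩

include hp in
/-- The projection to the ideal. -/
theorem exists_proj :
    ∃ π : D.E ⟶ ClSub.idealMod I₀, ∀ (U : X.affineOpens) (w : pre x I₀ p z U),
      incl x I₀ U (π.app U.1 (D.cls U w)) = res0 (Sec x U) A' w.1 := by
  have hmem : ∀ (U : X.affineOpens) (w : pre x I₀ p z U), res0 (Sec x U) A' w.1 ∈ I0 x I₀ U := fun U w => by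
    rw [← res0_cI x I₀ z U, ← map_res0_preI _ p hp]
    exact Ideal.mem_map_of_mem _ w.2
  have hex := fun (U : X.affineOpens) (w : pre x I₀ p z U) => exists_incl_eq x I₀ U (hmem U w)
  let n₀ := fun (U : X.affineOpens) (w : pre x I₀ p z U) => (hex U w).choose
  have hn : ∀ U w, incl x I₀ U (n₀ U w) = res0 (Sec x U) A' w.1 := fun U w => (hex U w).choose_spec
  have hi := incl_injective x I₀
  obtain ⟨φ, hφ⟩ := exists_hom x D (fun U V h w hw => rmap_mem_pre x I₀ p z h hw)
    (fun U => AddMonoidHom.mk' (n₀ U) fun a a' => hi U (by rw [map_add, hn, hn, hn]; exact map_add _ _ _))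
    (fun U w hw => hi U (by
      show incl x I₀ U (n₀ U w) = incl x I₀ U 0
      rw [hn, map_zero]
      exact (mem_mC_iff _ _).1 ((Ideal.mul_le_right : pre x I₀ p z U * mC _ _ ≤ _) hw)))
    (fun U V h w w' e => hi V (by
      show incl x I₀ V ((ClSub.idealMod I₀).presheaf.map _ (n₀ U w)) = incl x I₀ V (n₀ V w')
      rw [incl_res, hn, hn, e, res0_rmap]))
    (fun U r w w' e => hi U (by
      show incl x I₀ U (n₀ U w') = incl x I₀ U (r • n₀ U w)
      rw [incl_smul, hn, hn, e, map_mul, res0_tmul, map_one, one_smul]))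
  exact ⟨φ, fun U w => by rw [hφ]; exact hn U w⟩

variable {D} (ι : Fin n → (ClSub.quotMod I₀ ⟶ D.E))
  (hι : ∀ j (U : X.affineOpens) (c : Sec x U), (ι j).app U.1 (toSub x I₀ U c) =
    D.cls U ⟨jsum (Sec x U) p b (Pi.single j c), jsum_mem_preI _ p b _ _⟩)

include hι in
lemma sum_inj_app (U : X.affineOpens) (c : Fin n → Sec x U) :
    ∑ j, (ι j).app U.1 (toSub x I₀ U (c j)) =
      D.cls U ⟨jsum (Sec x U) p b c, jsum_mem_preI _ p b _ _⟩ := by
  rw [Finset.sum_congr rfl fun j _ => hι j U (c j), ← map_sum]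
  refine congrArg _ (Subtype.ext ?_)
  rw [AddSubmonoidClass.coe_finsetSum]
  show ∑ j, jsum _ p b (Pi.single j (c j)) = _
  rw [← map_sum, Finset.univ_sum_single]

lemma sum_app {M N : X.Modules} {γ : Type*} (t : Finset γ) (f : γ → (M ⟶ N)) (U : X.Opens) (m : Γ(M, U)) :
    (∑ j ∈ t, f j).app U m = ∑ j ∈ t, (f j).app U m := by
  classical
  induction t using Finset.induction with
  | empty => simp only [Finset.sum_empty]; rfl
  | insert a t ha ih => rw [Finset.sum_insert ha, Finset.sum_insert ha, ← ih]; rfl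

lemma biproduct_app (U : X.affineOpens) (m : Γ(⨁ fun _ : Fin n => ClSub.quotMod I₀, U.1)) :
    (biproduct.desc ι).app U.1 m =
      ∑ j, (ι j).app U.1 ((biproduct.π (fun _ : Fin n => ClSub.quotMod I₀) j).app U.1 m) := by
  have e : biproduct.desc ι = ∑ j, biproduct.π (fun _ : Fin n => ClSub.quotMod I₀) j ≫ ι j :=
    biproduct.desc_eq
  rw [e, sum_app]
  rfl

variable (π : D.E ⟶ ClSub.idealMod I₀)
  (hπ : ∀ (U : X.affineOpens) (w : pre x I₀ p z U),
    incl x I₀ U (π.app U.1 (D.cls U w)) = res0 (Sec x U) A' w.1)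

include hι hπ in
lemma desc_comp : biproduct.desc ι ≫ π = 0 := by
  refine biproduct.hom_ext' _ _ fun j => ?_
  rw [biproduct.ι_desc_assoc, comp_zero]
  refine HomAffine.hom_ext_affine fun U a => ?_
  obtain ⟨c, rfl⟩ := toSub_surjective x I₀ U a
  refine incl_injective x I₀ U ?_
  show incl x I₀ U (π.app U.1 ((ι j).app U.1 _)) = incl x I₀ U 0
  rw [hι, hπ, res0_jsum, map_zero]

include hp hι hπ in
/-- **The extension.** -/
theorem shortExact :
    (ShortComplex.mk (biproduct.desc ι) π (desc_comp x I₀ p b z ι hι π hπ)).ShortExact := by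
  haveI : Mono (biproduct.desc ι) := ClSub.Basis.mono_of_injective_affine _ fun U => by
    rw [injective_iff_map_eq_zero]
    intro m hm
    have hs := fun j => toSub_surjective x I₀ U ((biproduct.π (fun _ : Fin n => ClSub.quotMod I₀) j).app U.1 m)
    let s := fun j => (hs j).choose
    have hs' : ∀ j, toSub x I₀ U (s j) = _ := fun j => (hs j).choose_spec
    rw [biproduct_app x I₀ p z ι U m, ← Finset.sum_congr rfl fun j _ => congrArg _ (hs' j),
      sum_inj_app x I₀ p b z ι hι, D.cls_eq_zero_iff] at hm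
    have hz := (jsum_mem_mul_iff _ p hp b _ _).1 hm
    have e : m = ∑ j, (biproduct.ι (fun _ : Fin n => ClSub.quotMod I₀) j).app U.1
        ((biproduct.π (fun _ : Fin n => ClSub.quotMod I₀) j).app U.1 m) := by
      refine Eq.trans ?_ ((congr($(congrArg (fun f : (⨁ fun _ : Fin n => ClSub.quotMod I₀) ⟶ _ => f.app U.1)
        (biproduct.total (f := fun _ : Fin n => ClSub.quotMod I₀))) m)).symm.trans ?_)
      · exact Eq.refl m
      · rw [sum_app]
        rfl
    rw [e]
    refine Finset.sum_eq_zero fun j _ => ?_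
    rw [← hs' j, (toSub_eq_zero_iff x I₀ U _).2 (by rw [← res0_cI x I₀ z U]; exact hz j), map_zero]
  haveI : Epi π := ClSub.Basis.epi_of_surjective_affine _ fun U a => by
    have h1 : incl x I₀ U a ∈ (pre x I₀ p z U).map (res0 (Sec x U) A') := by
      rw [pre, map_res0_preI _ p hp, res0_cI]
      exact incl_mem x I₀ U a
    obtain ⟨w, hw, hw'⟩ := (Ideal.mem_map_iff_of_surjective _ (res0_surjective _ A')).1 h1
    exact ⟨D.cls U ⟨w, hw⟩, incl_injective x I₀ U (by rw [hπ, hw'])⟩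
  refine { exact := ?_ }
  rw [ShortComplex.exact_iff_epi_kernel_lift]
  refine ClSub.Basis.epi_of_surjective_affine _ fun U a => ?_
  have h1 := ClSub.Sections.app_kernel_ι_app π U.1 a
  obtain ⟨w, hw⟩ := D.cls_surjective U ((kernel.ι π).app U.1 a)
  rw [← hw] at h1
  have h2 : res0 (Sec x U) A' w.1 = 0 := by rw [← hπ, h1, map_zero]
  obtain ⟨s, hs⟩ := exists_sub_jsum_mem (Sec x U) p hp b _ w.2 h2
  refine ⟨∑ j, (biproduct.ι (fun _ : Fin n => ClSub.quotMod I₀) j).app U.1 (toSub x I₀ U (s j)),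
    ClSub.Sections.kernel_ι_app_injective π U.1 ?_⟩
  show (kernel.lift π (biproduct.desc ι) _ ≫ kernel.ι π).app U.1 _ = _
  rw [kernel.lift_ι, map_sum]
  refine Eq.trans ?_ hw
  have e : ∀ j, (biproduct.desc ι).app U.1 ((biproduct.ι (fun _ : Fin n => ClSub.quotMod I₀) j).app U.1
      (toSub x I₀ U (s j))) = (ι j).app U.1 (toSub x I₀ U (s j)) := fun j => by
    show (biproduct.ι _ j ≫ biproduct.desc ι).app U.1 _ = _
    rw [biproduct.ι_desc]
  rw [Finset.sum_congr rfl fun j _ => e j, sum_inj_app x I₀ p b z ι hι, ← sub_eq_zero, ← map_sub,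
    D.cls_eq_zero_iff]
  show jsum _ p b s - w.1 ∈ _
  rw [← neg_sub]
  exact neg_mem hs

include hp hι in
/-- Splittings give lifts. -/
theorem exists_lift_of_retraction (r : Fin n → (D.E ⟶ ClSub.quotMod I₀))
    (hr : ∀ j l, ι l ≫ r j = if l = j then 𝟙 _ else 0) :
    ∃ z' : (localHilb X x I₀).obj A', (localHilb X x I₀).map p z' = z := by
  classical
  have hcl : ∀ (U : X.affineOpens) (t : A' ⊗[k] Sec x U) (w w' : pre x I₀ p z U), w'.1 = t * w.1 →
      D.cls U w' = (show Γ(X, U.1) from res0 (Sec x U) A' t) • D.cls U w := fun U t w w' e => by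
    rw [← D.cls_smul U (show Γ(X, U.1) from res0 (Sec x U) A' t) w ⟨_, Ideal.mul_mem_left _ _ w.2⟩ rfl,
      ← sub_eq_zero, ← map_sub, D.cls_eq_zero_iff]
    show w'.1 - _ * w.1 ∈ _
    rw [e, ← sub_mul, mul_comm]
    refine Ideal.mul_mem_mul w.2 ((mem_mC_iff _ _).2 ?_)
    rw [map_sub, res0_tmul, map_one, one_smul, sub_self]
  let J : ∀ U : X.affineOpens, Ideal (A' ⊗[k] Sec x U) := fun U =>
    { carrier := {w | ∃ h : w ∈ pre x I₀ p z U, ∀ j, (r j).app U.1 (D.cls U ⟨w, h⟩) = 0}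
      add_mem' := by
        rintro v w ⟨hv, hv'⟩ ⟨hw, hw'⟩
        refine ⟨add_mem hv hw, fun j => ?_⟩
        rw [show (⟨v + w, add_mem hv hw⟩ : pre x I₀ p z U) = ⟨v, hv⟩ + ⟨w, hw⟩ from rfl, map_add, map_add,
          hv', hw', add_zero]
      zero_mem' := ⟨zero_mem _, fun j => by
        rw [show (⟨0, zero_mem _⟩ : pre x I₀ p z U) = 0 from rfl, map_zero, map_zero]⟩
      smul_mem' := by
        rintro t w ⟨hw, hw'⟩
        refine ⟨Ideal.mul_mem_left _ t hw, fun j => ?_⟩
        rw [hcl U t ⟨w, hw⟩ _ rfl, Scheme.Modules.Hom.app_smul, hw', smul_zero] }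
  have hrs : ∀ (U : X.affineOpens) (s : Fin n → Sec x U) j,
      (r j).app U.1 (D.cls U ⟨jsum (Sec x U) p b s, jsum_mem_preI _ p b _ _⟩) = toSub x I₀ U (s j) := fun U s j => by
    rw [← sum_inj_app x I₀ p b z ι hι, map_sum, Finset.sum_eq_single j (fun l _ hl => ?_) (by simp)]
    · show (ι j ≫ r j).app U.1 _ = _
      rw [hr, if_pos rfl]
      rfl
    · show (ι l ≫ r j).app U.1 _ = _
      rw [hr, if_neg hl]
      rfl
  have hmap : ∀ U, (J U).map (tmap (Sec x U) p) = cI x U A z.1 := fun U => by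
    refine le_antisymm (Ideal.map_le_iff_le_comap.2 fun w hw => hw.1) fun v hv => ?_
    obtain ⟨w, rfl⟩ := tmap_surjective (Sec x U) hp.1 v
    have hs := fun j => toSub_surjective x I₀ U ((r j).app U.1 (D.cls U ⟨w, hv⟩))
    let s := fun j => (hs j).choose
    have hm : w - jsum (Sec x U) p b s ∈ J U := ⟨sub_mem hv (jsum_mem_preI _ p b _ _), fun j => by
      rw [show (⟨w - jsum (Sec x U) p b s, sub_mem hv (jsum_mem_preI _ p b _ _)⟩ : pre x I₀ p z U) =
        ⟨w, hv⟩ - ⟨jsum (Sec x U) p b s, jsum_mem_preI _ p b _ _⟩ from rfl, map_sub, map_sub, hrs,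
        (hs j).choose_spec, sub_self]⟩
    have h := Ideal.mem_map_of_mem (tmap (Sec x U) p) hm
    rwa [map_sub, tmap_jsum, sub_zero] at h
  have hflat : ∀ U, Module.Flat A' ((A' ⊗[k] Sec x U) ⧸ J U) := fun U =>
    flat_of_inter _ p b _ _ (hmap U) fun s hs j => by
      rw [res0_cI, ← toSub_eq_zero_iff, ← hrs U s j]
      exact hs.2 j
  have hres0 : ∀ U, (J U).map (res0 (Sec x U) A') = I0 x I₀ U := fun U => by
    rw [← map_res0_tmap _ p, hmap, res0_cI]
  have hcompat : ∀ (U V : X.affineOpens) (h : V.1 ≤ U.1), (J U).map (rmap x A' h) = J V := fun U V h => by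
    haveI := hflat V
    refine eq_of_le _ (Ideal.map_le_iff_le_comap.2 fun w hw => ?_) ?_
    · obtain ⟨hw, hw'⟩ := hw
      refine ⟨rmap_mem_pre x I₀ p z h hw, fun j => ?_⟩
      rw [← D.cls_res U V h ⟨w, hw⟩ _ rfl, HomAffine.app_map, hw', map_zero]
    · rw [← map_res0_tmap _ p (J V), hmap, cI_res x A h, Ideal.map_map, Ideal.map_map, ← hmap U, Ideal.map_map]
      refine le_of_eq ?_
      congr 1
      refine RingHom.ext fun t => ?_
      show res0 _ A (rmap x A h (tmap _ p t)) = res0 _ A' (rmap x A' h t)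
      rw [res0_rmap, res0_tmap, res0_rmap]
  obtain ⟨I', hI'⟩ := exists_glue x A' J hcompat
  refine ⟨⟨I', (flatOver_iff x I').2 fun U => by rw [hI']; exact hflat U, ?_⟩, Subtype.ext ?_⟩
  · refine Scheme.IdealSheafData.ext (funext fun U => ?_)
    show I0 x (I'.comap (XAincl x A')) U = I0 x I₀ U
    rw [ideal_comap_incl, hI', hres0]
  · refine ext_cI x fun U => ?_
    show cI x U A (I'.comap (XAmap x p)) = _
    rw [cI_comap, hI', hmap]

include hp hι in
/-- Lifts give splittings. -/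
theorem exists_retraction_of_lift (z' : (localHilb X x I₀).obj A') (hz : (localHilb X x I₀).map p z' = z) :
    ∃ r : Fin n → (D.E ⟶ ClSub.quotMod I₀), ∀ j l, ι l ≫ r j = if l = j then 𝟙 _ else 0 := by
  classical
  have hJ : ∀ U, (cI x U A' z'.1).map (tmap (Sec x U) p) = cI x U A z.1 := fun U => by
    rw [← cI_comap, ← hz]
    rfl
  have hex := fun (U : X.affineOpens) (w : pre x I₀ p z U) => exists_sub_jsum_mem' (Sec x U) p hp b (hJ U) w.2
  let s := fun (U : X.affineOpens) (w : pre x I₀ p z U) => (hex U w).choose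
  have hs : ∀ U w, w.1 - jsum (Sec x U) p b (s U w) ∈ cI x U A' z'.1 := fun U w => (hex U w).choose_spec
  haveI := fun U => (flatOver_iff x z'.1).1 z'.2.1 U
  have huniq : ∀ U (w : pre x I₀ p z U) (t : Fin n → Sec x U), w.1 - jsum (Sec x U) p b t ∈ cI x U A' z'.1 →
      ∀ j, toSub x I₀ U (s U w j) = toSub x I₀ U (t j) := fun U w t ht j => by
    rw [← sub_eq_zero, ← map_sub, toSub_eq_zero_iff, ← res0_cI x I₀ z U]
    refine (jsum_mem_iff (Sec x U) p hp b (hJ U) (s U w - t)).1 ?_ j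
    rw [map_sub, ← sub_sub_sub_cancel_left _ _ w.1]
    exact sub_mem ht (hs U w)
  have key : ∀ j, ∃ φ : D.E ⟶ ClSub.quotMod I₀, ∀ U w, φ.app U.1 (D.cls U w) = toSub x I₀ U (s U w j) := by
    intro j
    refine exists_hom x D (fun U V h w hw => rmap_mem_pre x I₀ p z h hw)
      (fun U => AddMonoidHom.mk' (fun w => toSub x I₀ U (s U w j)) fun a a' => ?_) (fun U w hw => ?_)
      (fun U V h w w' e => ?_) (fun U r w w' e => ?_)
    · rw [← map_add]
      refine huniq U (a + a') (s U a + s U a') ?_ j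
      rw [map_add]
      have := add_mem (hs U a) (hs U a')
      rwa [← add_sub_add_comm] at this
    · exact (huniq U w 0 (by rw [map_zero, sub_zero]; exact mul_mC_le _ p hp (hJ U) hw) j).trans
        (map_zero (toSub x I₀ U))
    · show (ClSub.quotMod I₀).presheaf.map _ (toSub x I₀ U (s U w j)) = toSub x I₀ V (s V w' j)
      rw [toSub_res]
      refine (huniq V w' (fun l => rU x h (s U w l)) ?_ j).symm
      rw [e, ← rmap_jsum, ← map_sub, cI_res x A' h]
      exact Ideal.mem_map_of_mem _ (hs U w)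
    · show toSub x I₀ U (s U w' j) = r • toSub x I₀ U (s U w j)
      rw [huniq U w' (fun l => (show Sec x U from r) * s U w l) ?_ j, toSub_mul]
      rw [e, ← jsum_smul, ← mul_sub]
      exact Ideal.mul_mem_left _ _ (hs U w)
  let r := fun j => (key j).choose
  refine ⟨r, fun j l => HomAffine.hom_ext_affine fun U a => ?_⟩
  obtain ⟨c, rfl⟩ := toSub_surjective x I₀ U a
  show (r j).app U.1 ((ι l).app U.1 _) = _
  rw [hι, (key j).choose_spec, huniq U _ (Pi.single l c) (by simp) j]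
  rcases eq_or_ne l j with rfl | hl
  · rw [Pi.single_eq_same, if_pos rfl]
    rfl
  · rw [Pi.single_eq_of_ne' hl, map_zero, if_neg hl]
    rfl

end Groth.Agent.Lib.ArtinFun.LiftExt
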