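import Groth.Agent.Lib.ArtinFun.LiftNormal
import Groth.Agent.Lib.ArtinFun.ConormalFree
import Groth.Agent.Lib.ExtHH.SheafHom

/-!
# The obstruction theory of the local Hilbert functor in `H¹` of the normal sheaf
-/

noncomputable section

universe u

open CategoryTheory AlgebraicGeometry ArtFun

namespace Groth.Agent.Lib.ArtinFun.LiftH1

variable {k : Type u} [Field k] {X : Scheme.{u}} [X.Over (Spec (CommRingCat.of k))] [IsLocallyNoetherian X]
  (I₀ : X.IdealSheafData) [I₀.subscheme.Over (Spec (CommRingCat.of k))]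
  [I₀.subschemeι.IsOver (Spec (CommRingCat.of k))] [DCoh.HasSheafHom (Omega.conormal I₀.subschemeι)]

/-- **Obstructions in `H¹(N)`.** -/
theorem hasObsTheory_H1 (hh1 : LciLocal.IsH1Ideal I₀) :
    HasObsTheory (localHilb X (X ↘ Spec (CommRingCat.of k)) I₀)
      (Coh.HH I₀.subscheme ((DCoh.sheafHom (Omega.conormal I₀.subschemeι)).obj
        (Coh.structureModule I₀.subscheme)) 1) := by
  haveI : HasExt.{u} I₀.subscheme.Modules := inferInstance
  exact hasObsTheory_of_linearEquiv
    (ExtHH.SheafHom.extLinearEquiv k (ConormalFree.isFinLocFree_conormal I₀ hh1)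
      (Coh.structureModule I₀.subscheme) 1)
    (LiftNormal.hasObsTheory_conormal I₀ hh1)

/-- Unobstructedness. -/
theorem surjective_map_H1 (hh1 : LciLocal.IsH1Ideal I₀)
    (h : Subsingleton (Coh.HH I₀.subscheme ((DCoh.sheafHom (Omega.conormal I₀.subschemeι)).obj
      (Coh.structureModule I₀.subscheme)) 1))
    {A' A : Art k k} (p : A' ⟶ A) (hp : Art.IsSemismallExt p) :
    Function.Surjective ((localHilb X (X ↘ Spec (CommRingCat.of k)) I₀).map p) := by
  haveI : HasExt.{u} I₀.subscheme.Modules := inferInstance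
  exact LiftNormal.surjective_map_conormal I₀ hh1
    (ExtHH.SheafHom.extLinearEquiv k (ConormalFree.isFinLocFree_conormal I₀ hh1)
      (Coh.structureModule I₀.subscheme) 1).toEquiv.subsingleton p hp

end Groth.Agent.Lib.ArtinFun.LiftH1
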