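import Groth.Agent.Lib.ArtinFun.LiftH1
import Groth.Agent.Lib.ArtinFun.QuotModIso
import Groth.Agent.Lib.ExtHH.Basic
import Groth.Agent.Lib.TensorMod.LocFree
import Groth.Prelude.Def_KLin
import Mathlib.Algebra.Homology.DerivedCategory.Ext.Map

/-!
# Obstructions of an embedded deformation problem for an arbitrary closed immersion
-/

noncomputable section

universe u

open CategoryTheory CategoryTheory.Limits AlgebraicGeometry ArtFun

namespace Groth.Agent.Lib.ArtinFun.LiftImm

open Groth.Agent.Lib

/-- Direct image along an isomorphism is an equivalence. -/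
theorem isEquivalence_pushforward {Y S : Scheme.{u}} (e : Y ⟶ S) [IsIso e] :
    (Scheme.Modules.pushforward e).IsEquivalence :=
  (CategoryTheory.Equivalence.mk (Scheme.Modules.pushforward e) (Scheme.Modules.pushforward (inv e))
    ((Scheme.Modules.pushforwardId Y).symm ≪≫ Scheme.Modules.pushforwardCongr (IsIso.hom_inv_id e).symm ≪≫
      (Scheme.Modules.pushforwardComp e (inv e)).symm)
    ((Scheme.Modules.pushforwardComp (inv e) e) ≪≫ Scheme.Modules.pushforwardCongr (IsIso.inv_hom_id e) ≪≫
      Scheme.Modules.pushforwardId S)).isEquivalence_functor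

/-- The pullback along an isomorphism is inverse to the direct image. -/
theorem nonempty_iso_pushforward_pullback {Y S : Scheme.{u}} (e : Y ⟶ S) [IsIso e] (M : S.Modules) :
    Nonempty (M ≅ (Scheme.Modules.pushforward e).obj ((Scheme.Modules.pullback e).obj M)) := by
  haveI := isEquivalence_pushforward e
  let adj := Scheme.Modules.pullbackPushforwardAdjunction e
  haveI : IsIso adj.unit := by
    haveI : (Scheme.Modules.pullback e).IsEquivalence := adj.isEquivalence_left_of_isEquivalence_right
    infer_instance
  exact ⟨asIso (adj.unit.app M)⟩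

variable {k : Type u} [Field k] {X Y : Scheme.{u}} [X.Over (Spec (CommRingCat.of k))]
  [Y.Over (Spec (CommRingCat.of k))] (i : Y ⟶ X) [IsClosedImmersion i] [i.IsOver (Spec (CommRingCat.of k))]

/-- The structure of the image. -/
@[reducible] def imgOver : i.ker.subscheme.Over (Spec (CommRingCat.of k)) :=
  ⟨i.ker.subschemeι ≫ X ↘ Spec (CommRingCat.of k)⟩

attribute [local instance] imgOver

instance : i.ker.subschemeι.IsOver (Spec (CommRingCat.of k)) := ⟨rfl⟩

instance : (i.toImage).IsOver (Spec (CommRingCat.of k)) := ⟨by
  show i.toImage ≫ i.ker.subschemeι ≫ X ↘ Spec (CommRingCat.of k) = _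
  exact (Category.assoc _ _ _).symm.trans ((congrArg (· ≫ X ↘ Spec (CommRingCat.of k)) i.toImage_imageι).trans
    (comp_over i (Spec (CommRingCat.of k))))⟩

omit [X.Over (Spec (CommRingCat.of k))] [Y.Over (Spec (CommRingCat.of k))] [i.IsOver (Spec (CommRingCat.of k))] in
/-- The conormal sheaf of `i` is that of its image. -/
theorem nonempty_iso_conormal :
    Nonempty (Omega.conormal i ≅ (Scheme.Modules.pullback i.toImage).obj (Omega.conormal i.ker.subschemeι)) := by
  have h1 : Omega.conormal i = (Scheme.Modules.pullback i).obj (ClSub.idealMod i.ker) := rfl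
  rw [LiftNormal.conormal_eq i.ker, h1]
  exact ⟨(Scheme.Modules.pullbackCongr i.toImage_imageι.symm).app _ ≪≫
    ((Scheme.Modules.pullbackComp i.toImage i.ker.subschemeι).app _).symm⟩

omit [X.Over (Spec (CommRingCat.of k))] [Y.Over (Spec (CommRingCat.of k))] [i.IsOver (Spec (CommRingCat.of k))] in
/-- The conormal sheaf of a locally complete intersection is locally free. -/
theorem isFinLocFree_conormal [IsLocallyNoetherian X] (h : LciLocal.IsH1Ideal i.ker) :
    FlatMod.IsFinLocFree (Omega.conormal i) :=
  TensorMod.LocFree.of_iso (nonempty_iso_conormal i).some.symm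
    (TensorMod.LocFree.isFinLocFree_pullback _ (ConormalFree.isFinLocFree_conormal i.ker h))

variable [HasExt.{u} Y.Modules]

/-- `Ext` of the conormal sheaf does not depend on the presentation of the subscheme. -/
theorem nonempty_linearEquiv_ext [HasExt.{u} i.ker.subscheme.Modules] (n : ℕ) :
    Nonempty (Abelian.Ext.{u} (Omega.conormal i) (Coh.structureModule Y) n ≃ₗ[k]
      Abelian.Ext.{u} (Omega.conormal i.ker.subschemeι) (Coh.structureModule i.ker.subscheme) n) := by
  haveI : IsIso i.toImage := inferInstanceAs (IsIso i.toImage)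
  haveI := isEquivalence_pushforward i.toImage
  let F := Scheme.Modules.pushforward i.toImage
  obtain ⟨c⟩ := nonempty_iso_conormal i
  obtain ⟨u⟩ := nonempty_iso_pushforward_pullback i.toImage (Omega.conormal i.ker.subschemeι)
  let a : F.obj (Omega.conormal i) ≅ Omega.conormal i.ker.subschemeι := F.mapIso c ≪≫ u.symm
  let b : F.obj (Coh.structureModule Y) ≅ Coh.structureModule i.ker.subscheme :=
    (asIso (ClSub.unitToPush i.toImage)).symm
  have hb : Function.Bijective (F.mapExtLinearMap k (Omega.conormal i) (Coh.structureModule Y) n) := by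
    have h := ExtHH.Basic.comp_bijective F (𝟙 (F.obj (Omega.conormal i)))
      (fun Z => by
        have e : (fun f : Omega.conormal i ⟶ Z => 𝟙 (F.obj (Omega.conormal i)) ≫ F.map f) = F.map :=
          funext fun f => Category.id_comp _
        rw [e]
        exact ⟨F.map_injective, F.map_surjective⟩)
      (fun I hI p => by
        haveI := hI
        have := Functor.preservesInjectiveObjects_of_adjunction_of_preservesMonomorphisms
          F.asEquivalence.symm.toAdjunction
        have : Injective (F.obj I) := F.injective_obj I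
        exact subsingleton_of_forall_eq 0 fun x => Abelian.Ext.eq_zero_of_injective x)
      (Coh.structureModule Y) n
    convert h using 1
    funext x
    exact ((ExtHH.Basic.comp_apply _ _ _ _ _).trans (Abelian.Ext.mk₀_id_comp _)).symm
  exact ⟨(LinearEquiv.ofBijective _ hb).trans
    { toFun := fun x => ((Abelian.Ext.mk₀ a.inv).comp x (zero_add n)).comp (Abelian.Ext.mk₀ b.hom) (add_zero n)
      map_add' := fun x y => by simp
      map_smul' := fun r x => by simp
      invFun := fun x => ((Abelian.Ext.mk₀ a.hom).comp x (zero_add n)).comp (Abelian.Ext.mk₀ b.inv) (add_zero n)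
      left_inv := fun x => by simp
      right_inv := fun x => by simp }⟩

variable [DCoh.HasSheafHom (Omega.conormal i)] [IsLocallyNoetherian X]

/-- **Obstructions in `H¹(Y, N)`.** -/
theorem hasObsTheory_H1 (hh1 : LciLocal.IsH1Ideal i.ker) :
    HasObsTheory (localHilb X (X ↘ Spec (CommRingCat.of k)) i.ker)
      (Coh.HH Y ((DCoh.sheafHom (Omega.conormal i)).obj (Coh.structureModule Y)) 1) := by
  haveI : HasExt.{u} i.ker.subscheme.Modules := inferInstance
  obtain ⟨e⟩ := nonempty_linearEquiv_ext (k := k) i 1
  exact hasObsTheory_of_linearEquiv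
    (e.symm.trans (ExtHH.SheafHom.extLinearEquiv k (isFinLocFree_conormal i hh1) (Coh.structureModule Y) 1))
    (LiftNormal.hasObsTheory_conormal i.ker hh1)

/-- Unobstructedness. -/
theorem surjective_map_H1 (hh1 : LciLocal.IsH1Ideal i.ker)
    (h : Subsingleton (Coh.HH Y ((DCoh.sheafHom (Omega.conormal i)).obj (Coh.structureModule Y)) 1))
    {A' A : Art k k} (p : A' ⟶ A) (hp : Art.IsSemismallExt p) :
    Function.Surjective ((localHilb X (X ↘ Spec (CommRingCat.of k)) i.ker).map p) := by
  haveI : HasExt.{u} i.ker.subscheme.Modules := inferInstance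
  obtain ⟨e⟩ := nonempty_linearEquiv_ext (k := k) i 1
  exact LiftNormal.surjective_map_conormal i.ker hh1
    (e.symm.trans (ExtHH.SheafHom.extLinearEquiv k (isFinLocFree_conormal i hh1)
      (Coh.structureModule Y) 1)).toEquiv.subsingleton p hp

end Groth.Agent.Lib.ArtinFun.LiftImm
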