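import Groth.Agent.Lib.ArtinFun.LiftExt
import Groth.Agent.Lib.ArtinFun.LciLocal
import Groth.Agent.Lib.ArtinFun.SemismallFibre
import Groth.Agent.Lib.ArtinFun.Obstruction
import Groth.Agent.Lib.ZarCoh.PushKilled
import Groth.Agent.Lib.PushClosed.Basic
import Groth.Agent.Lib.Cyc.Dev.Scheme
import Groth.Prelude.Def_KLin
import Mathlib.Algebra.Homology.DerivedCategory.Ext.Linear
import Mathlib.Algebra.Homology.DerivedCategory.Ext.ExactSequences

/-!
# The obstruction theory of the local Hilbert functor in `Ext¹` of the conormal sheaf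
-/

noncomputable section

universe u

open CategoryTheory CategoryTheory.Limits AlgebraicGeometry ArtFun ArtFun.Art
open scoped TensorProduct

namespace Groth.Agent.Lib.ArtinFun.LiftNormal

open FlatIdealFP LocalHilbAffine LocalHilbGlue LocalHilbTangent LiftAlg LiftSplit PQMod LiftExt LciLocal

variable {k : Type u} [Field k] {X : Scheme.{u}}

section Killed

variable (x : X ⟶ specPt k) (I₀ : X.IdealSheafData)

include x in
lemma smul_toSub_eq_zero (U : X.affineOpens) {a : Γ(X, U.1)} (ha : a ∈ I₀.ideal U) (m : Γ(ClSub.quotMod I₀, U.1)) :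
    a • m = 0 := by
  obtain ⟨c, rfl⟩ := toSub_surjective x I₀ U m
  rw [← toSub_mul, toSub_eq_zero_iff]
  exact Ideal.mul_mem_right _ _ ha

include x in
lemma killed_biproduct (n : ℕ) : ClSub.KilledByIdeal I₀ (⨁ fun _ : Fin n => ClSub.quotMod I₀) := by
  intro U a ha
  suffices h : ∀ m : Γ(⨁ fun _ : Fin n => ClSub.quotMod I₀, U.1), a • m = 0 from fun m => h m
  intro m
  have e : a • m =
      ∑ j, (biproduct.ι (fun _ : Fin n => ClSub.quotMod I₀) j).app U.1
        ((biproduct.π (fun _ : Fin n => ClSub.quotMod I₀) j).app U.1 (a • m)) := by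
    refine Eq.trans ?_ ((congr($(congrArg (fun f : (⨁ fun _ : Fin n => ClSub.quotMod I₀) ⟶ _ => f.app U.1)
      (biproduct.total (f := fun _ : Fin n => ClSub.quotMod I₀))) (a • m))).symm.trans ?_)
    · exact Eq.refl _
    · rw [sum_app]
      rfl
  refine e.trans (Finset.sum_eq_zero fun j _ => ?_)
  rw [Scheme.Modules.Hom.app_smul, smul_toSub_eq_zero x I₀ U ha, map_zero]

variable {A' A : Art k k} (p : A' ⟶ A) (hp : Art.IsSemismallExt p) (z : (localHilb X x I₀).obj A)

include hp in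
lemma killed_den₂ (D : PQData x (pre x I₀ p z) (den₂ x I₀ p z)) : ClSub.KilledByIdeal I₀ D.E := by
  intro U a ha
  suffices h : ∀ m : Γ(D.E, U.1), a • m = 0 from fun m => h m
  intro m
  obtain ⟨w, rfl⟩ := D.cls_surjective U m
  rw [← D.cls_smul U a w ⟨_, Ideal.mul_mem_left _ _ w.2⟩ rfl, D.cls_eq_zero_iff]
  show (1 : A') ⊗ₜ (show Sec x U from a) * w.1 ∈ _
  have h1 : (show Sec x U from a) ∈ (pre x I₀ p z U).map (res0 (Sec x U) A') := by
    rw [pre, map_res0_preI _ p hp, res0_cI]
    exact ha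
  obtain ⟨v, hv, hv'⟩ := (Ideal.mem_map_iff_of_surjective _ (res0_surjective _ A')).1 h1
  rw [← sub_add_cancel ((1 : A') ⊗ₜ[k] (show Sec x U from a)) v, add_mul]
  refine add_mem (Ideal.mem_sup_right ?_) (Ideal.mem_sup_left (Ideal.mul_mem_mul hv w.2))
  rw [mul_comm]
  refine Ideal.mul_mem_mul w.2 ((mem_mC_iff _ _).2 ?_)
  rw [map_sub, res0_tmul, map_one, one_smul, hv', sub_self]

include hp in
/-- With local lifts, `J ⊗ O/I₀` meets the large denominator trivially. -/
theorem mem_of_jsum_mem_den₂ (hloc : LocLift x I₀ p z) {n : ℕ}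
    (b : Module.Basis (Fin n) k ↥(RingHom.ker p.toAlgHom)) (U : X.affineOpens) (s : Fin n → Sec x U)
    (hs : jsum (Sec x U) p b s ∈ den₂ x I₀ p z U) (j : Fin n) : toSub x I₀ U (s j) = 0 := by
  choose V hVU hqV J hJ hflat using fun q : U.1 => hloc U q.1 q.2
  refine TopCat.Sheaf.eq_of_locally_eq'
    (⟨(ClSub.quotMod I₀).presheaf, (ClSub.quotMod I₀).isSheaf⟩ : TopCat.Sheaf Ab X)
    (fun q : U.1 => (V q).1) U.1 (fun q => homOfLE (hVU q))
    (fun q hq => TopologicalSpace.Opens.mem_iSup.mpr ⟨⟨q, hq⟩, hqV ⟨q, hq⟩⟩) _ _ fun q => ?_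
  show (ClSub.quotMod I₀).presheaf.map (homOfLE (hVU q)).op (toSub x I₀ U (s j)) =
    (ClSub.quotMod I₀).presheaf.map (homOfLE (hVU q)).op 0
  rw [map_zero, toSub_res, toSub_eq_zero_iff, ← res0_cI x I₀ z (V q)]
  haveI := hflat q
  have h1 : jsum (Sec x (V q)) p b (fun l => rU x (hVU q) (s l)) ∈ den₂ x I₀ p z (V q) := by
    rw [← rmap_jsum, ← map_rmap_den₂ x I₀ p z (hVU q)]
    exact Ideal.mem_map_of_mem _ hs
  exact (jsum_mem_iff (Sec x (V q)) p hp b (hJ q) _).1
    (sup_le (mul_self_le _ p hp (hJ q)) (mul_mC_le _ p hp (hJ q)) h1) j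

end Killed

section Over

variable [X.Over (Spec (CommRingCat.of k))] (I₀ : X.IdealSheafData)


/-- The extension attached to a lifting problem. -/
structure ExtData {A' A : Art k k} (p : A' ⟶ A) {n : ℕ}
    (b : Module.Basis (Fin n) k ↥(RingHom.ker p.toAlgHom)) (z : (localHilb X (X ↘ Spec (CommRingCat.of k)) I₀).obj A) where
  /-- the module -/
  D : PQData (X ↘ Spec (CommRingCat.of k)) (pre (X ↘ Spec (CommRingCat.of k)) I₀ p z) (den₁ (X ↘ Spec (CommRingCat.of k)) I₀ p z)
  /-- the inclusions -/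
  ι : Fin n → (ClSub.quotMod I₀ ⟶ D.E)
  ι_app : ∀ j (U : X.affineOpens) (c : Sec (X ↘ Spec (CommRingCat.of k)) U), (ι j).app U.1 (toSub (X ↘ Spec (CommRingCat.of k)) I₀ U c) =
    D.cls U ⟨jsum (Sec (X ↘ Spec (CommRingCat.of k)) U) p b (Pi.single j c), jsum_mem_preI _ p b _ _⟩
  /-- the projection -/
  π : D.E ⟶ ClSub.idealMod I₀
  π_app : ∀ (U : X.affineOpens) (w : pre (X ↘ Spec (CommRingCat.of k)) I₀ p z U),
    incl (X ↘ Spec (CommRingCat.of k)) I₀ U (π.app U.1 (D.cls U w)) = res0 (Sec (X ↘ Spec (CommRingCat.of k)) U) A' w.1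

variable {I₀} {A' A : Art k k} {p : A' ⟶ A} {n : ℕ}
  {b : Module.Basis (Fin n) k ↥(RingHom.ker p.toAlgHom)} {z : (localHilb X (X ↘ Spec (CommRingCat.of k)) I₀).obj A}

theorem nonempty_extData (hp : Art.IsSemismallExt p) : Nonempty (ExtData I₀ p b z) := by
  obtain ⟨D⟩ := nonempty_pqData (X ↘ Spec (CommRingCat.of k)) I₀ p z (den₁ (X ↘ Spec (CommRingCat.of k)) I₀ p z) (fun U V hV => map_rmap_den₁ (X ↘ Spec (CommRingCat.of k)) I₀ p z hV)
    (den₁_le (X ↘ Spec (CommRingCat.of k)) I₀ p z)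
  have hj := fun j => exists_inj (X ↘ Spec (CommRingCat.of k)) I₀ p hp b z D j
  obtain ⟨π, hπ⟩ := exists_proj (X ↘ Spec (CommRingCat.of k)) I₀ p hp z D
  exact ⟨⟨D, fun j => (hj j).choose, fun j => (hj j).choose_spec, π, hπ⟩⟩

/-- The short complex. -/
def ExtData.sc (E : ExtData I₀ p b z) : ShortComplex X.Modules :=
  ShortComplex.mk (biproduct.desc E.ι) E.π (desc_comp (X ↘ Spec (CommRingCat.of k)) I₀ p b z E.ι E.ι_app E.π E.π_app)

lemma ExtData.shortExact (E : ExtData I₀ p b z) (hp : Art.IsSemismallExt p) : E.sc.ShortExact :=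
  LiftExt.shortExact (X ↘ Spec (CommRingCat.of k)) I₀ p hp b z E.ι E.ι_app E.π E.π_app

theorem ExtData.mono_pullback (E : ExtData I₀ p b z) (hp : Art.IsSemismallExt p)
    (hloc : LocLift (X ↘ Spec (CommRingCat.of k)) I₀ p z) : Mono ((Scheme.Modules.pullback I₀.subschemeι).map E.sc.f) := by
  obtain ⟨D₂⟩ := nonempty_pqData (X ↘ Spec (CommRingCat.of k)) I₀ p z (den₂ (X ↘ Spec (CommRingCat.of k)) I₀ p z) (fun U V hV => map_rmap_den₂ (X ↘ Spec (CommRingCat.of k)) I₀ p z hV)
    (den₂_le (X ↘ Spec (CommRingCat.of k)) I₀ p z)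
  obtain ⟨τ, hτ⟩ := exists_hom (X ↘ Spec (CommRingCat.of k)) E.D (fun U V h w hw => rmap_mem_pre (X ↘ Spec (CommRingCat.of k)) I₀ p z h hw) D₂.cls
    (fun U w hw => (D₂.cls_eq_zero_iff U w).2 (Ideal.mem_sup_right hw)) D₂.cls_res D₂.cls_smul
  have hm : Mono (biproduct.desc E.ι ≫ τ) := ClSub.Basis.mono_of_injective_affine _ fun U => by
    rw [injective_iff_map_eq_zero]
    intro m hm
    have hs := fun j => toSub_surjective (X ↘ Spec (CommRingCat.of k)) I₀ U ((biproduct.π (fun _ : Fin n => ClSub.quotMod I₀) j).app U.1 m)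
    let s := fun j => (hs j).choose
    have hs' : ∀ j, toSub (X ↘ Spec (CommRingCat.of k)) I₀ U (s j) = _ := fun j => (hs j).choose_spec
    have hm' : τ.app U.1 ((biproduct.desc E.ι).app U.1 m) = 0 := hm
    rw [biproduct_app (X ↘ Spec (CommRingCat.of k)) I₀ p z E.ι U m, ← Finset.sum_congr rfl fun j _ => congrArg _ (hs' j),
      sum_inj_app (X ↘ Spec (CommRingCat.of k)) I₀ p b z E.ι E.ι_app, hτ, D₂.cls_eq_zero_iff] at hm'
    have hz := mem_of_jsum_mem_den₂ (X ↘ Spec (CommRingCat.of k)) I₀ p hp z hloc b U s hm'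
    refine Eq.trans ?_ ((congr($(congrArg (fun f : (⨁ fun _ : Fin n => ClSub.quotMod I₀) ⟶ _ => f.app U.1)
      (biproduct.total (f := fun _ : Fin n => ClSub.quotMod I₀))) m)).symm.trans ?_)
    · exact Eq.refl _
    · rw [sum_app]
      refine Finset.sum_eq_zero fun j _ => ?_
      show (biproduct.ι (fun _ : Fin n => ClSub.quotMod I₀) j).app U.1
        ((biproduct.π (fun _ : Fin n => ClSub.quotMod I₀) j).app U.1 m) = 0
      rw [← hs' j, hz j, map_zero]
  haveI := PushClosed.Basic.pushforward_isLeftAdjoint I₀.subschemeι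
  let i := I₀.subschemeι
  let adj := Scheme.Modules.pullbackPushforwardAdjunction i
  haveI : IsIso (adj.unit.app (⨁ fun _ : Fin n => ClSub.quotMod I₀)) :=
    ZarCoh.PushKilled.isIso_unit i _ (by rw [I₀.ker_subschemeι]; exact killed_biproduct (X ↘ Spec (CommRingCat.of k)) I₀ n)
  haveI : IsIso (adj.unit.app D₂.E) :=
    ZarCoh.PushKilled.isIso_unit i _ (by rw [I₀.ker_subschemeι]; exact killed_den₂ (X ↘ Spec (CommRingCat.of k)) I₀ p hp z D₂)
  haveI : Mono ((Scheme.Modules.pushforward i).map ((Scheme.Modules.pullback i).map (biproduct.desc E.ι ≫ τ))) := by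
    have hn := adj.unit.naturality (biproduct.desc E.ι ≫ τ)
    simp only [Functor.id_map, Functor.comp_map] at hn
    rw [show (Scheme.Modules.pushforward i).map ((Scheme.Modules.pullback i).map (biproduct.desc E.ι ≫ τ)) =
      inv (adj.unit.app _) ≫ (biproduct.desc E.ι ≫ τ) ≫ adj.unit.app _ by
        rw [hn, IsIso.inv_hom_id_assoc]]
    infer_instance
  haveI := fun N => Cyc.Dev.SchemeCase.isIso_counit i N
  haveI : IsIso adj.counit := NatIso.isIso_of_isIso_app _
  haveI hf : (Scheme.Modules.pushforward i).FullyFaithful := adj.fullyFaithfulROfIsIsoCounit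
  haveI := hf.faithful
  have h2 : Mono ((Scheme.Modules.pullback i).map (biproduct.desc E.ι ≫ τ)) :=
    (Scheme.Modules.pushforward i).mono_of_mono_map inferInstance
  rw [Functor.map_comp] at h2
  exact mono_of_mono ((Scheme.Modules.pullback i).map (biproduct.desc E.ι)) ((Scheme.Modules.pullback i).map τ)

/-- The restricted short exact sequence on `Z`. -/
theorem ExtData.shortExact_pullback (E : ExtData I₀ p b z) (hp : Art.IsSemismallExt p)
    (hloc : LocLift (X ↘ Spec (CommRingCat.of k)) I₀ p z) : (E.sc.map (Scheme.Modules.pullback I₀.subschemeι)).ShortExact := by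
  have hS := E.shortExact hp
  haveI := hS.epi_g
  haveI := E.mono_pullback hp hloc
  haveI : PreservesFiniteColimits (Scheme.Modules.pullback I₀.subschemeι) :=
    haveI : PreservesColimitsOfSize.{0, 0} (Scheme.Modules.pullback I₀.subschemeι) :=
      (Scheme.Modules.pullbackPushforwardAdjunction I₀.subschemeι).leftAdjoint_preservesColimits
    PreservesColimitsOfSize.preservesFiniteColimits _
  exact { exact := hS.exact.map_of_epi_of_preservesCokernel (Scheme.Modules.pullback I₀.subschemeι) hS.epi_g inferInstance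
          mono_f := E.mono_pullback hp hloc
          epi_g := inferInstanceAs (Epi ((Scheme.Modules.pullback I₀.subschemeι).map E.sc.g)) }

/-- The transpose of a map to `O/I₀`. -/
def tr (M : X.Modules) : (M ⟶ ClSub.quotMod I₀) ≃
    ((Scheme.Modules.pullback I₀.subschemeι).obj M ⟶ Coh.structureModule I₀.subscheme) :=
  ((Scheme.Modules.pullbackPushforwardAdjunction I₀.subschemeι).homEquiv M (Coh.structureModule I₀.subscheme)).symm

lemma tr_comp {M N : X.Modules} (g : M ⟶ N) (f : N ⟶ ClSub.quotMod I₀) :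
    tr M (g ≫ f) = (Scheme.Modules.pullback I₀.subschemeι).map g ≫ tr N f :=
  (Scheme.Modules.pullbackPushforwardAdjunction I₀.subschemeι).homEquiv_naturality_left_symm g f

variable [I₀.subscheme.Over (Spec (CommRingCat.of k))] [I₀.subschemeι.IsOver (Spec (CommRingCat.of k))]

lemma tr_add {M : X.Modules} (f g : M ⟶ ClSub.quotMod I₀) : tr M (f + g) = tr M f + tr M g := by
  apply (tr (I₀ := I₀) M).symm.injective
  rw [Equiv.symm_apply_apply]
  show f + g = (Scheme.Modules.pullbackPushforwardAdjunction I₀.subschemeι).homEquiv _ _ (tr M f + tr M g)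
  rw [Adjunction.homEquiv_unit, Functor.map_add, Preadditive.comp_add]
  exact congrArg₂ (· + ·) (((tr M).symm_apply_apply f).symm.trans (Adjunction.homEquiv_unit ..))
    (((tr M).symm_apply_apply g).symm.trans (Adjunction.homEquiv_unit ..))

lemma tr_smul {M : X.Modules} (c : k) (f : M ⟶ ClSub.quotMod I₀) : tr M (c • f) = c • tr M f := by
  apply (tr (I₀ := I₀) M).symm.injective
  rw [Equiv.symm_apply_apply]
  show c • f = (Scheme.Modules.pullbackPushforwardAdjunction I₀.subschemeι).homEquiv _ _ (c • tr M f)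
  rw [Adjunction.homEquiv_unit, Functor.map_smul, Linear.comp_smul]
  exact congrArg (c • ·) (((tr M).symm_apply_apply f).symm.trans (Adjunction.homEquiv_unit ..))

/-- The transpose, linearly. -/
def trₗ (M : X.Modules) : (M ⟶ ClSub.quotMod I₀) →ₗ[k]
    ((Scheme.Modules.pullback I₀.subschemeι).obj M ⟶ Coh.structureModule I₀.subscheme) where
  toFun := tr M
  map_add' := tr_add
  map_smul' := tr_smul

variable (I₀) in
/-- The group of obstructions. -/
abbrev Ob [HasExt.{u} I₀.subscheme.Modules] : Type u :=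
  Abelian.Ext.{u} ((Scheme.Modules.pullback I₀.subschemeι).obj (ClSub.idealMod I₀))
    (Coh.structureModule I₀.subscheme) 1

variable [HasExt.{u} I₀.subscheme.Modules]

/-- The components of the obstruction. -/
def ExtData.cls' (E : ExtData I₀ p b z) (hp : Art.IsSemismallExt p) (hloc : LocLift (X ↘ Spec (CommRingCat.of k)) I₀ p z) (j : Fin n) :
    Ob I₀ :=
  (E.shortExact_pullback hp hloc).extClass.comp
    (Abelian.Ext.mk₀ (tr _ (biproduct.π (fun _ : Fin n => ClSub.quotMod I₀) j))) (add_zero 1)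

/-- **Vanishing of the classes is liftability.** -/
theorem ExtData.cls'_eq_zero_iff (E : ExtData I₀ p b z) (hp : Art.IsSemismallExt p)
    (hloc : LocLift (X ↘ Spec (CommRingCat.of k)) I₀ p z) :
    (∀ j, E.cls' hp hloc j = 0) ↔ ∃ z', (localHilb X (X ↘ Spec (CommRingCat.of k)) I₀).map p z' = z := by
  classical
  constructor
  · intro h
    have hr : ∀ j, ∃ r : E.D.E ⟶ ClSub.quotMod I₀,
        biproduct.desc E.ι ≫ r = biproduct.π (fun _ => ClSub.quotMod I₀) j := fun j => by
      obtain ⟨x₂, hx₂⟩ := Abelian.Ext.contravariant_sequence_exact₁ (E.shortExact_pullback hp hloc)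
        (Coh.structureModule I₀.subscheme)
        (Abelian.Ext.mk₀ (tr _ (biproduct.π (fun _ => ClSub.quotMod I₀) j))) (n₁ := 1) rfl (h j)
      obtain ⟨r, rfl⟩ := (Abelian.Ext.mk₀_bijective _ _).2 x₂
      rw [Abelian.Ext.mk₀_comp_mk₀] at hx₂
      refine ⟨(tr _).symm r, (tr (I₀ := I₀) _).injective ?_⟩
      rw [tr_comp, Equiv.apply_symm_apply]
      exact (Abelian.Ext.mk₀_bijective _ _).1 hx₂
    refine exists_lift_of_retraction (X ↘ Spec (CommRingCat.of k)) I₀ p hp b z E.ι E.ι_app (fun j => (hr j).choose) fun j l => ?_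
    have e := congrArg (biproduct.ι (fun _ => ClSub.quotMod I₀) l ≫ ·) (hr j).choose_spec
    simp only [biproduct.ι_desc_assoc] at e
    rw [e, biproduct.ι_π]
    split_ifs with hlj
    · subst hlj; simp
    · rfl
  · rintro ⟨z', hz'⟩ j
    obtain ⟨r, hr⟩ := exists_retraction_of_lift (X ↘ Spec (CommRingCat.of k)) I₀ p hp b z E.ι E.ι_app z' hz'
    have e : biproduct.π (fun _ => ClSub.quotMod I₀) j = biproduct.desc E.ι ≫ r j := by
      refine biproduct.hom_ext' _ _ fun l => ?_
      rw [biproduct.ι_desc_assoc, hr, biproduct.ι_π]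
      split_ifs with hlj
      · subst hlj; simp
      · rfl
    rw [ExtData.cls', e]
    erw [tr_comp, ← Abelian.Ext.mk₀_comp_mk₀]
    exact (E.shortExact_pullback hp hloc).extClass_comp_assoc _

/-- **Naturality.** -/
theorem ExtData.cls'_natural {A'' : Art k k} {p'' : A'' ⟶ A} (f : A' ⟶ A'') (hf : f ≫ p'' = p)
    {m : ℕ} {b'' : Module.Basis (Fin m) k ↥(RingHom.ker p''.toAlgHom)} (M : Fin m → Fin n → k)
    (hM : ∀ j, f (b j).1 = ∑ l, M l j • (b'' l).1)
    (E : ExtData I₀ p b z) (E'' : ExtData I₀ p'' b'' z) (hp : Art.IsSemismallExt p)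
    (hp'' : Art.IsSemismallExt p'') (hloc : LocLift (X ↘ Spec (CommRingCat.of k)) I₀ p z) (hloc'' : LocLift (X ↘ Spec (CommRingCat.of k)) I₀ p'' z) (l : Fin m) :
    E''.cls' hp'' hloc'' l = ∑ j, M l j • E.cls' hp hloc j := by
  classical
  have hpre : ∀ U, ∀ w ∈ pre (X ↘ Spec (CommRingCat.of k)) I₀ p z U, tmap (Sec (X ↘ Spec (CommRingCat.of k)) U) f w ∈ pre (X ↘ Spec (CommRingCat.of k)) I₀ p'' z U := fun U w hw => by
    show tmap (Sec (X ↘ Spec (CommRingCat.of k)) U) p'' (tmap (Sec (X ↘ Spec (CommRingCat.of k)) U) f w) ∈ cI (X ↘ Spec (CommRingCat.of k)) U A z.1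
    rw [tmap_tmap, hf]
    exact hw
  have hrt : ∀ (U V : X.affineOpens) (h : V.1 ≤ U.1) (w : A' ⊗[k] Sec (X ↘ Spec (CommRingCat.of k)) U),
      tmap (Sec (X ↘ Spec (CommRingCat.of k)) V) f (rmap (X ↘ Spec (CommRingCat.of k)) A' h w) = rmap (X ↘ Spec (CommRingCat.of k)) A'' h (tmap (Sec (X ↘ Spec (CommRingCat.of k)) U) f w) := fun U V h w => by
    induction w with
    | zero => simp
    | tmul a c => rfl
    | add y w hy hw => simp only [map_add, hy, hw]
  have hden : ∀ U, ∀ v ∈ den₁ (X ↘ Spec (CommRingCat.of k)) I₀ p z U,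
      tmap (Sec (X ↘ Spec (CommRingCat.of k)) U) f v ∈ den₁ (X ↘ Spec (CommRingCat.of k)) I₀ p'' z U := by
    intro U v hv
    refine Submodule.mul_induction_on hv (fun a ha c hc => ?_) fun a c ha hc => ?_
    · rw [map_mul]
      exact Ideal.mul_mem_mul (hpre U a ha) ((mem_mC_iff _ _).2 (by rw [res0_tmap, (mem_mC_iff _ _).1 hc]))
    · rw [map_add]
      exact add_mem ha hc
  obtain ⟨τ, hτ⟩ := exists_hom (X ↘ Spec (CommRingCat.of k)) E.D (fun U V h w hw => rmap_mem_pre (X ↘ Spec (CommRingCat.of k)) I₀ p z h hw)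
    (fun U => AddMonoidHom.mk' (fun w : pre (X ↘ Spec (CommRingCat.of k)) I₀ p z U => E''.D.cls U ⟨tmap (Sec (X ↘ Spec (CommRingCat.of k)) U) f w.1, hpre U _ w.2⟩)
      fun a c => by
        rw [← map_add]
        exact congrArg _ (Subtype.ext (map_add (tmap (Sec (X ↘ Spec (CommRingCat.of k)) U) f) a.1 c.1)))
    (fun U w hw => (E''.D.cls_eq_zero_iff U _).2 (hden U w.1 hw))
    (fun U V h w w' e => E''.D.cls_res U V h _ _ (by
      show tmap _ f w'.1 = rmap (X ↘ Spec (CommRingCat.of k)) A'' h (tmap _ f w.1)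
      rw [e, hrt]))
    (fun U r w w' e => E''.D.cls_smul U r _ _ (by
      show tmap _ f w'.1 = _ * tmap _ f w.1
      rw [e, map_mul, tmap_tmul]
      congr 2
      exact map_one f.toAlgHom))
  let τ₁ : (⨁ fun _ : Fin n => ClSub.quotMod I₀) ⟶ ⨁ fun _ : Fin m => ClSub.quotMod I₀ :=
    biproduct.lift fun l => ∑ j, M l j • biproduct.π (fun _ : Fin n => ClSub.quotMod I₀) j
  have hτι : ∀ j, E.ι j ≫ τ = ∑ l, M l j • E''.ι l := fun j => by
    refine HomAffine.hom_ext_affine fun U a => ?_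
    obtain ⟨c, rfl⟩ := toSub_surjective (X ↘ Spec (CommRingCat.of k)) I₀ U a
    have e1 : ∀ l, (M l j • E''.ι l).app U.1 (toSub (X ↘ Spec (CommRingCat.of k)) I₀ U c) =
        (E''.ι l).app U.1 (toSub (X ↘ Spec (CommRingCat.of k)) I₀ U (M l j • c)) := fun l => by
      rw [KLin.smul_app_apply, Algebra.smul_def, ← Scheme.Modules.Hom.app_smul]
      exact congrArg _ (toSub_mul (X ↘ Spec (CommRingCat.of k)) I₀ U _ _).symm
    show τ.app U.1 ((E.ι j).app U.1 _) = _
    rw [sum_app, E.ι_app, hτ, Finset.sum_congr rfl fun l _ => e1 l,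
      sum_inj_app (X ↘ Spec (CommRingCat.of k)) I₀ p'' b'' z E''.ι E''.ι_app]
    refine congrArg (E''.D.cls U) ?_
    apply Subtype.ext
    show tmap (Sec (X ↘ Spec (CommRingCat.of k)) U) f (jsum _ p b (Pi.single j c)) = jsum _ p'' b'' fun l => M l j • c
    rw [jsum_apply, jsum_apply, map_sum, Finset.sum_eq_single j (fun i _ hi => by
      rw [Pi.single_eq_of_ne hi, TensorProduct.tmul_zero, map_zero]) (by simp), Pi.single_eq_same, tmap_tmul, hM,
      TensorProduct.sum_tmul]
    exact Finset.sum_congr rfl fun l _ => (TensorProduct.smul_tmul _ _ _)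
  have hτπ : τ ≫ E''.π = E.π := by
    refine HomAffine.hom_ext_affine fun U a => ?_
    obtain ⟨w, rfl⟩ := E.D.cls_surjective U a
    refine incl_injective (X ↘ Spec (CommRingCat.of k)) I₀ U ?_
    show incl (X ↘ Spec (CommRingCat.of k)) I₀ U (E''.π.app U.1 (τ.app U.1 _)) = _
    rw [hτ, E.π_app]
    exact (E''.π_app U _).trans (res0_tmap _ f _)
  have hcomm : τ₁ ≫ biproduct.desc E''.ι = biproduct.desc E.ι ≫ τ := by
    refine biproduct.hom_ext' _ _ fun j => ?_
    rw [biproduct.ι_desc_assoc, hτι, biproduct.lift_desc, Preadditive.comp_sum]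
    refine Finset.sum_congr rfl fun l _ => ?_
    rw [← Category.assoc, Preadditive.comp_sum, Finset.sum_eq_single j (fun i _ hi => by
      rw [Linear.comp_smul, biproduct.ι_π_ne _ hi.symm, smul_zero]) (by simp), Linear.comp_smul,
      biproduct.ι_π_self, Linear.smul_comp, Category.id_comp]
  let φ : E.sc ⟶ E''.sc :=
    { τ₁ := τ₁, τ₂ := τ, τ₃ := 𝟙 _, comm₁₂ := hcomm, comm₂₃ := hτπ.trans (Category.comp_id _).symm }
  have hnat := ShortComplex.ShortExact.extClass_naturality (E.shortExact_pullback hp hloc)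
    (E''.shortExact_pullback hp'' hloc'') ((Scheme.Modules.pullback I₀.subschemeι).mapShortComplex.map φ)
  have h3 : ((Scheme.Modules.pullback I₀.subschemeι).mapShortComplex.map φ).τ₃ = 𝟙 _ :=
    CategoryTheory.Functor.map_id _ _
  rw [h3] at hnat
  erw [Abelian.Ext.mk₀_id_comp] at hnat
  rw [ExtData.cls', ← hnat]
  erw [Abelian.Ext.comp_assoc_of_third_deg_zero, Abelian.Ext.mk₀_comp_mk₀]
  show _ = ∑ j, M l j • _
  erw [show ((Scheme.Modules.pullback I₀.subschemeι).mapShortComplex.map φ).τ₁ ≫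
      tr _ (biproduct.π (fun _ : Fin m => ClSub.quotMod I₀) l) =
      tr _ (∑ j, M l j • biproduct.π (fun _ : Fin n => ClSub.quotMod I₀) j) from by
    rw [← biproduct.lift_π (fun l => ∑ j, M l j • biproduct.π (fun _ : Fin n => ClSub.quotMod I₀) j) l,
      tr_comp]
    rfl]
  let F : ((Scheme.Modules.pullback I₀.subschemeι).obj E.sc.X₁ ⟶ Coh.structureModule I₀.subscheme) →+ Ob I₀ :=
    AddMonoidHom.mk' (fun g => (E.shortExact_pullback hp hloc).extClass.comp (Abelian.Ext.mk₀ g) (add_zero 1))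
      fun g g' => by erw [Abelian.Ext.mk₀_add]; exact Abelian.Ext.comp_add ..
  show F (trₗ (k := k) _ (∑ j, M l j • _)) = _
  rw [map_sum, map_sum]
  refine Finset.sum_congr rfl fun j _ => ?_
  rw [map_smul]
  show (E.shortExact_pullback hp hloc).extClass.comp (Abelian.Ext.mk₀ _) (add_zero 1) = _
  erw [Abelian.Ext.mk₀_smul, Abelian.Ext.comp_smul]
  rfl

variable (I₀) in
/-- **The obstruction theory in `Ext¹(I/I², O)`.** -/
theorem hasObsTheory
    (hloc : ∀ {A' A : Art k k} (p : A' ⟶ A), Art.IsSemismallExt p →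
      ∀ z : (localHilb X (X ↘ Spec (CommRingCat.of k)) I₀).obj A, LocLift (X ↘ Spec (CommRingCat.of k)) I₀ p z) :
    HasObsTheory (localHilb X (X ↘ Spec (CommRingCat.of k)) I₀) (Ob I₀) := by
  classical
  have hfin : ∀ {A' A : Art k k} (p : A' ⟶ A), Module.Finite k ↥(RingHom.ker p.toAlgHom) := fun {A' A} p => by
    haveI := isNoetherian_base A'
    exact Module.Finite.of_injective ((RingHom.ker p.toAlgHom).subtype.restrictScalars k) Subtype.val_injective
  let bas := fun {A' A : Art k k} (p : A' ⟶ A) => haveI := hfin p; Module.finBasis k ↥(RingHom.ker p.toAlgHom)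
  let ED := fun {A' A : Art k k} (p : A' ⟶ A) (hp : Art.IsSemismallExt p) (z : (localHilb X (X ↘ Spec (CommRingCat.of k)) I₀).obj A) =>
    (nonempty_extData (b := bas p) (z := z) hp).some
  refine ⟨{
    obs := fun {A' A} p hp z => ∑ j, (ED p hp z).cls' hp (hloc p hp z) j ⊗ₜ bas p j
    obs_eq_zero_iff := fun {A' A} p hp z => ?_
    obs_quot := fun {A' A} p hp K hK hKJ hq z => ?_ }⟩
  · rw [← (ED p hp z).cls'_eq_zero_iff hp (hloc p hp z)]
    constructor
    · intro h j
      have h1 := congrArg (fun t => TensorProduct.rid k (Ob I₀) (LinearMap.lTensor (Ob I₀) ((bas p).coord j) t)) h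
      simp only [map_sum, LinearMap.lTensor_tmul, TensorProduct.rid_tmul, map_zero] at h1
      rw [Finset.sum_eq_single j (fun i _ hi => by
        rw [Module.Basis.coord_apply, Module.Basis.repr_self, Finsupp.single_eq_of_ne' hi, zero_smul]) (by simp),
        Module.Basis.coord_apply, Module.Basis.repr_self, Finsupp.single_eq_same, one_smul] at h1
      exact h1
    · intro h
      exact Finset.sum_eq_zero fun j _ => by rw [h j, TensorProduct.zero_tmul]
  · let κ := (kerToQuot hK p hKJ).restrictScalars k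
    let M := fun l j => (bas (quotFactor hK p hKJ)).repr (κ (bas p j)) l
    have hκ : ∀ j, κ (bas p j) = ∑ l, M l j • bas (quotFactor hK p hKJ) l := fun j =>
      ((bas (quotFactor hK p hKJ)).sum_repr _).symm
    have hM : ∀ j, quotMk A' K hK (bas p j).1 = ∑ l, M l j • (bas (quotFactor hK p hKJ) l).1 := fun j => by
      refine (congrArg Subtype.val (hκ j)).trans ?_
      rw [AddSubmonoidClass.coe_finsetSum]
      rfl
    have hcl := ExtData.cls'_natural (quotMk A' K hK) (quotMk_quotFactor hK p hKJ) M hM (ED p hp z)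
      (ED (quotFactor hK p hKJ) hq z) hp hq (hloc p hp z) (hloc _ hq z)
    simp only [map_sum, LinearMap.lTensor_tmul]
    rw [Finset.sum_congr rfl fun l _ => congrArg (· ⊗ₜ[k] bas (quotFactor hK p hKJ) l) (hcl l)]
    simp only [TensorProduct.sum_tmul]
    rw [Finset.sum_comm]
    refine Finset.sum_congr rfl fun j _ => ?_
    rw [show ((kerToQuot hK p hKJ).restrictScalars k) (bas p j) = _ from hκ j, TensorProduct.tmul_sum]
    exact Finset.sum_congr rfl fun l _ => TensorProduct.smul_tmul _ _ _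

variable (I₀) in
omit [X.Over (Spec (CommRingCat.of k))] [I₀.subscheme.Over (Spec (CommRingCat.of k))]
  [I₀.subschemeι.IsOver (Spec (CommRingCat.of k))] in
lemma conormal_eq : Omega.conormal I₀.subschemeι =
    (Scheme.Modules.pullback I₀.subschemeι).obj (ClSub.idealMod I₀) := by
  unfold Omega.conormal
  exact congrArg (fun I => (Scheme.Modules.pullback I₀.subschemeι).obj (ClSub.idealMod I)) I₀.ker_subschemeι

variable (I₀) in
/-- The obstruction theory with values in `Ext¹(conormal, O)`. -/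
theorem hasObsTheory_conormal (hh1 : IsH1Ideal I₀) :
    HasObsTheory (localHilb X (X ↘ Spec (CommRingCat.of k)) I₀)
      (Abelian.Ext.{u} (Omega.conormal I₀.subschemeι) (Coh.structureModule I₀.subscheme) 1) := by
  have h := hasObsTheory I₀ fun p hp z => locLift (X ↘ Spec (CommRingCat.of k)) I₀ hh1 p hp z
  rw [conormal_eq]
  exact h

variable (I₀) in
/-- Unobstructedness. -/
theorem surjective_map_conormal (hh1 : IsH1Ideal I₀)
    (h : Subsingleton (Abelian.Ext.{u} (Omega.conormal I₀.subschemeι) (Coh.structureModule I₀.subscheme) 1))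
    {A' A : Art k k} (p : A' ⟶ A) (hp : Art.IsSemismallExt p) :
    Function.Surjective ((localHilb X (X ↘ Spec (CommRingCat.of k)) I₀).map p) := fun z => by
  obtain ⟨T⟩ := hasObsTheory_conormal (k := k) I₀ hh1
  refine (T.obs_eq_zero_iff p hp z).1 ?_
  haveI := h
  haveI : Subsingleton (Abelian.Ext.{u} (Omega.conormal I₀.subschemeι) (Coh.structureModule I₀.subscheme) 1 ⊗[k]
      ↥(RingHom.ker p.toAlgHom)) := subsingleton_of_forall_eq 0 fun t => by
    induction t with
    | zero => rfl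
    | tmul a c => rw [Subsingleton.elim a 0, TensorProduct.zero_tmul]
    | add a c ha hc => rw [ha, hc, add_zero]
  exact Subsingleton.elim _ _

end Over

end Groth.Agent.Lib.ArtinFun.LiftNormal
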