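import Groth.Agent.Lib.ArtinFun.FlatIdealFP
import Groth.Agent.Lib.Ideal.Comap
import Groth.Prelude.Def_ArtFun6
import Mathlib.AlgebraicGeometry.Morphisms.Flat
import Mathlib.AlgebraicGeometry.IdealSheaf.Subscheme

/-!
# The local Hilbert functor on affine charts

For an affine open `U` of `X` the sections of `X ×_k Spec A` over the preimage of `U` are
`A ⊗ Γ(X, U)`; closed subschemes, their pull-backs and push-forwards, and flatness are read off
from ideals of these rings.
-/

noncomputable section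

universe u

open CategoryTheory CategoryTheory.Limits AlgebraicGeometry ArtFun ArtFun.Art
open scoped TensorProduct

namespace Groth.Agent.Lib.ArtinFun.LocalHilbAffine

open FlatIdealFP

variable {k : Type u} [Field k] {X : Scheme.{u}} (x : X ⟶ specPt k) (U : X.affineOpens)

/-- The sections over `U`, as a `k`-algebra. -/
def Sec (_x : X ⟶ specPt k) (U : X.affineOpens) : Type u := Γ(X, U.1)

instance : CommRing (Sec x U) := inferInstanceAs (CommRing Γ(X, U.1))

instance : Algebra k (Sec x U) :=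
  ((x.appLE ⊤ U.1 le_top).hom.comp (Scheme.ΓSpecIso (CommRingCat.of k)).inv.hom).toAlgebra

instance (A : Art k k) : IsAffineHom (specOver A) :=
  isAffineHom_of_isAffine _

instance (A : Art k k) : IsAffineHom (pullback.fst x (specOver A)) :=
  MorphismProperty.pullback_fst _ _ inferInstance

/-- The affine open of `X ×_k Spec A` over `U`. -/
def VA (A : Art k k) : (XA x A).affineOpens :=
  ⟨pullback.fst x (specOver A) ⁻¹ᵁ U.1, U.2.preimage _⟩

/-- The structure map of the chart. -/
def iA (A : Art k k) : A →+* Γ(XA x A, (VA x U A).1) :=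
  ((XApr x A).appLE ⊤ (VA x U A).1 le_top).hom.comp (Scheme.ΓSpecIso (CommRingCat.of A)).inv.hom

/-- The inclusion of the sections over `U`. -/
def iC (A : Art k k) : Sec x U →+* Γ(XA x A, (VA x U A).1) :=
  ((pullback.fst x (specOver A)).appLE U.1 (VA x U A).1 le_rfl).hom

theorem isPushout_chart (A : Art k k) :
    IsPushout (CommRingCat.ofHom (algebraMap k A)) (CommRingCat.ofHom (algebraMap k (Sec x U)))
      (CommRingCat.ofHom (iA x U A)) (CommRingCat.ofHom (iC x U A)) := by
  have H : IsPullback (pullback.fst x (specOver A)) (XApr x A) x (specOver A) :=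
    IsPullback.of_hasPullback x (specOver A)
  have hUY : (VA x U A).1 = pullback.fst x (specOver A) ⁻¹ᵁ U.1 ⊓ XApr x A ⁻¹ᵁ ⊤ := by
    simp [VA]
  have h2 := (isIso_pushoutSection_iff H (US := ⊤) (UT := ⊤) (UX := U.1) le_top le_top hUY).mp
    (isIso_pushoutSection_of_isAffineOpen H le_top le_top hUY (isAffineOpen_top _) (isAffineOpen_top _) U.2)
  refine (h2.of_iso (Scheme.ΓSpecIso (CommRingCat.of k)) (Iso.refl _)
    (Scheme.ΓSpecIso (CommRingCat.of A)) (Iso.refl _) ?_ ?_ ?_ ?_).flip
  · rw [Iso.refl_hom, Category.comp_id]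
    exact (Iso.hom_inv_id_assoc _ _).symm
  · have e : (specOver A).appLE ⊤ ⊤ le_top = (specOver A).appTop := Scheme.Hom.appLE_eq_app _
    rw [e]
    exact Scheme.ΓSpecIso_naturality (CommRingCat.ofHom (algebraMap k A))
  · rw [Iso.refl_hom, Category.comp_id, Iso.refl_hom, Category.id_comp]
    rfl
  · rw [Iso.refl_hom, Category.comp_id]
    exact (Iso.hom_inv_id_assoc _ _).symm

/-- **The chart**: `A ⊗ Γ(X, U) ≅ Γ(X ×_k Spec A, U × Spec A)`. -/
def chart (A : Art k k) : A ⊗[k] Sec x U ≃+* Γ(XA x A, (VA x U A).1) :=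
  ((CommRingCat.isPushout_tensorProduct k A (Sec x U)).isoIsPushout _ _
    (isPushout_chart x U A)).commRingCatIsoToRingEquiv

lemma chart_tmul (A : Art k k) (a : A) (c : Sec x U) :
    chart x U A (a ⊗ₜ c) = iA x U A a * iC x U A c := by
  have h1 : chart x U A (a ⊗ₜ 1) = iA x U A a :=
    congr($((CommRingCat.isPushout_tensorProduct k A (Sec x U)).inl_isoIsPushout_hom _ _
      (isPushout_chart x U A)) a)
  have h2 : chart x U A (1 ⊗ₜ c) = iC x U A c :=
    congr($((CommRingCat.isPushout_tensorProduct k A (Sec x U)).inr_isoIsPushout_hom _ _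
      (isPushout_chart x U A)) c)
  rw [← h1, ← h2, ← map_mul, Algebra.TensorProduct.tmul_mul_tmul, mul_one, one_mul]

lemma chart_algebraMap (A : Art k k) (a : A) :
    chart x U A (algebraMap A (A ⊗[k] Sec x U) a) = iA x U A a := by
  rw [Algebra.TensorProduct.algebraMap_apply, Algebra.algebraMap_self, RingHom.id_apply, chart_tmul,
    map_one, mul_one]

variable {A B : Art k k} (g : A ⟶ B)

lemma preimage_VA : XAmap x g ⁻¹ᵁ (VA x U A).1 = (VA x U B).1 := by
  show (XAmap x g ≫ pullback.fst x (specOver A)) ⁻¹ᵁ U.1 = pullback.fst x (specOver B) ⁻¹ᵁ U.1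
  rw [XAmap_fst]

/-- The map of charts. -/
def cmap : Γ(XA x A, (VA x U A).1) →+* Γ(XA x B, (VA x U B).1) :=
  ((XAmap x g).appLE (VA x U A).1 (VA x U B).1 (preimage_VA x U g).ge).hom

lemma cmap_iC (c : Sec x U) : cmap x U g (iC x U A c) = iC x U B c := by
  show ((pullback.fst x (specOver A)).appLE U.1 (VA x U A).1 le_rfl ≫
    (XAmap x g).appLE (VA x U A).1 (VA x U B).1 _).hom c = _
  rw [Scheme.Hom.appLE_comp_appLE]
  simp only [XAmap_fst]
  rfl

lemma cmap_iA (a : A) : cmap x U g (iA x U A a) = iA x U B (g a) := by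
  show ((Scheme.ΓSpecIso (CommRingCat.of A)).inv ≫ (XApr x A).appLE ⊤ (VA x U A).1 le_top ≫
    (XAmap x g).appLE (VA x U A).1 (VA x U B).1 _).hom a =
      (CommRingCat.ofHom g.toAlgHom.toRingHom ≫ (Scheme.ΓSpecIso (CommRingCat.of B)).inv ≫
        (XApr x B).appLE ⊤ (VA x U B).1 le_top).hom a
  rw [Scheme.Hom.appLE_comp_appLE]
  simp only [XAmap_snd]
  rw [Scheme.ΓSpecIso_inv_naturality_assoc]
  rw [Scheme.Hom.comp_appLE]
  rfl

lemma cmap_chart (z : A ⊗[k] Sec x U) :
    cmap x U g (chart x U A z) = chart x U B (tmap (Sec x U) g z) := by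
  induction z with
  | zero => simp
  | tmul a c => rw [chart_tmul, map_mul, cmap_iA, cmap_iC, tmap_tmul, chart_tmul]
  | add y z hy hz => simp only [map_add, hy, hz]

/-- The ideal of a closed subscheme on a chart. -/
def cI (A : Art k k) (I : (XA x A).IdealSheafData) : Ideal (A ⊗[k] Sec x U) :=
  (I.ideal (VA x U A)).comap (chart x U A).toRingHom

lemma cI_comap (I : (XA x A).IdealSheafData) :
    cI x U B (I.comap (XAmap x g)) = (cI x U A I).map (tmap (Sec x U) g) := by
  have h1 : I.ideal (VA x U A) = (cI x U A I).map (chart x U A).toRingHom :=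
    (Ideal.map_comap_of_surjective _ (chart x U A).surjective _).symm
  have h2 : (cmap x U g).comp (chart x U A).toRingHom =
      (chart x U B).toRingHom.comp (tmap (Sec x U) g) :=
    RingHom.ext (cmap_chart x U g)
  show ((I.comap (XAmap x g)).ideal (VA x U B)).comap _ = _
  rw [Groth.Agent.Lib.Ideal.Comap.ideal_comap (XAmap x g) I (VA x U A) (VA x U B) (preimage_VA x U g).ge,
    show ((XAmap x g).appLE (VA x U A).1 (VA x U B).1 _).hom = cmap x U g from rfl,
    h1, Ideal.map_map, h2, ← Ideal.map_map]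
  exact Ideal.comap_map_of_bijective _ (chart x U B).bijective

instance : IsAffineHom (XAmap x g) :=
  MorphismProperty.of_isPullback (P := @IsAffineHom) (isPullback_XAmap x g).flip inferInstance

lemma cI_map (J : (XA x B).IdealSheafData) :
    cI x U A (J.map (XAmap x g)) = (cI x U B J).comap (tmap (Sec x U) g) := by
  have h3 : ∀ (V W : (XA x B).affineOpens) (hVW : W.1 = V.1) (z : Γ(XA x B, V.1)),
      z ∈ J.ideal V ↔ ((XA x B).presheaf.map (homOfLE hVW.le).op).hom z ∈ J.ideal W := by
    intro V W hVW z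
    obtain rfl : W = V := Subtype.ext hVW
    simp
  ext z
  rw [cI, cI, Ideal.mem_comap, Ideal.mem_comap, Ideal.mem_comap, Scheme.IdealSheafData.ideal_map_of_isAffineHom,
    Ideal.mem_comap]
  refine (h3 _ (VA x U B) (preimage_VA x U g).symm _).trans (iff_of_eq (congrArg (fun w : Γ(XA x B, (VA x U B).1) => w ∈ J.ideal (VA x U B)) ?_))
  exact cmap_chart x U g z

lemma cI_inf (I J : (XA x A).IdealSheafData) : cI x U A (I ⊓ J) = cI x U A I ⊓ cI x U A J := by
  rw [cI, cI, cI, Scheme.IdealSheafData.ideal_inf]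
  exact Ideal.comap_inf (chart x U A).toRingHom _ _

lemma ext_cI {I J : (XA x A).IdealSheafData} (h : ∀ U : X.affineOpens, cI x U A I = cI x U A J) : I = J := by
  refine Scheme.IdealSheafData.ext_of_iSup_eq_top (fun U : X.affineOpens => VA x U A) ?_ fun U => ?_
  · show ⨆ U : X.affineOpens, pullback.fst x (specOver A) ⁻¹ᵁ U.1 = ⊤
    rw [← Scheme.Hom.preimage_iSup, iSup_affineOpens_eq_top, Scheme.Hom.preimage_top]
  · exact Ideal.comap_injective_of_surjective _ (chart x U A).surjective (h U)

/-- Flatness is read on the charts. -/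
theorem flatOver_iff (I : (XA x A).IdealSheafData) :
    FlatOver X x A I ↔ ∀ U : X.affineOpens, Module.Flat A ((A ⊗[k] Sec x U) ⧸ cI x U A I) := by
  unfold FlatOver
  let W : X.affineOpens → I.subscheme.affineOpens := fun U =>
    ⟨I.subschemeι ⁻¹ᵁ (VA x U A).1, (VA x U A).2.preimage _⟩
  have hW : ⨆ U, (W U).1 = ⊤ := by
    show ⨆ U : X.affineOpens, I.subschemeι ⁻¹ᵁ (pullback.fst x (specOver A) ⁻¹ᵁ U.1) = ⊤
    rw [← Scheme.Hom.preimage_iSup, ← Scheme.Hom.preimage_iSup, iSup_affineOpens_eq_top,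
      Scheme.Hom.preimage_top, Scheme.Hom.preimage_top]
  rw [HasRingHomProperty.iff_of_iSup_eq_top (P := @Flat) W hW]
  refine forall_congr' fun U => ?_
  let q : A ⊗[k] Sec x U →+* Γ(I.subscheme, (W U).1) :=
    (I.subschemeι.app (VA x U A).1).hom.comp (chart x U A).toRingHom
  have hq : Function.Surjective q := (I.subschemeι_app_surjective _).comp (chart x U A).surjective
  have hker : RingHom.ker q = cI x U A I := by
    rw [← RingHom.comap_ker, Scheme.IdealSheafData.ker_subschemeι_app]
    rfl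
  rw [← (RingHom.Flat.respectsIso).cancel_left_isIso (Scheme.ΓSpecIso (CommRingCat.of A)).inv]
  have hcomp : ((I.subschemeι ≫ XApr x A).appLE ⊤ (W U).1 le_top).hom.comp
      (Scheme.ΓSpecIso (CommRingCat.of A)).inv.hom = q.comp (algebraMap A _) := by
    refine RingHom.ext fun a => ?_
    show _ = (I.subschemeι.app (VA x U A).1).hom (chart x U A (algebraMap A _ a))
    rw [chart_algebraMap]
    show _ = ((Scheme.ΓSpecIso (CommRingCat.of A)).inv ≫ (XApr x A).appLE ⊤ (VA x U A).1 le_top ≫
      I.subschemeι.app (VA x U A).1).hom a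
    rw [Scheme.Hom.app_eq_appLE, Scheme.Hom.appLE_comp_appLE]
    rfl
  rw [hcomp]
  let e : (A ⊗[k] Sec x U) ⧸ cI x U A I ≃+* Γ(I.subscheme, (W U).1) :=
    (Ideal.quotEquivOfEq hker.symm).trans (RingHom.quotientKerEquivOfSurjective hq)
  have he : q.comp (algebraMap A _) = e.toRingHom.comp (algebraMap A _) := RingHom.ext fun a => rfl
  rw [he]
  constructor
  · intro hfl
    letI : Algebra A Γ(I.subscheme, (W U).1) := (e.toRingHom.comp (algebraMap A _)).toAlgebra
    haveI : Module.Flat A Γ(I.subscheme, (W U).1) := hfl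
    exact Module.Flat.of_linearEquiv (AlgEquiv.ofRingEquiv (f := e) fun _ => rfl).toLinearEquiv
  · intro hfl
    letI : Algebra A Γ(I.subscheme, (W U).1) := (e.toRingHom.comp (algebraMap A _)).toAlgebra
    show Module.Flat A Γ(I.subscheme, (W U).1)
    exact Module.Flat.of_linearEquiv (AlgEquiv.ofRingEquiv (f := e) fun _ => rfl).toLinearEquiv.symm

end Groth.Agent.Lib.ArtinFun.LocalHilbAffine
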