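import Groth.Agent.Lib.ArtinFun.LocalHilbAffine

/-!
# Restriction of charts and gluing of ideal families
-/

noncomputable section

universe u

open CategoryTheory CategoryTheory.Limits AlgebraicGeometry ArtFun ArtFun.Art
open scoped TensorProduct

namespace Groth.Agent.Lib.ArtinFun.LocalHilbGlue

open FlatIdealFP LocalHilbAffine

variable {k : Type u} [Field k] {X : Scheme.{u}} (x : X ⟶ specPt k)

/-- Restriction of sections, as an algebra map. -/
def rU {U V : X.affineOpens} (h : V.1 ≤ U.1) : Sec x U →ₐ[k] Sec x V where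
  toRingHom := (X.presheaf.map (homOfLE h).op).hom
  commutes' c := by
    show (x.appLE ⊤ U.1 le_top ≫ X.presheaf.map (homOfLE h).op).hom
        ((Scheme.ΓSpecIso (CommRingCat.of k)).inv.hom c) =
      (x.appLE ⊤ V.1 le_top).hom ((Scheme.ΓSpecIso (CommRingCat.of k)).inv.hom c)
    rw [Scheme.Hom.appLE_map]

lemma VA_mono (A : Art k k) {U V : X.affineOpens} (h : V.1 ≤ U.1) : (VA x V A).1 ≤ (VA x U A).1 :=
  Scheme.Hom.preimage_mono _ h

/-- Restriction of charts. -/
def rmap (A : Art k k) {U V : X.affineOpens} (h : V.1 ≤ U.1) : A ⊗[k] Sec x U →+* A ⊗[k] Sec x V :=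
  (Algebra.TensorProduct.map (AlgHom.id k A) (rU x h)).toRingHom

lemma rmap_tmul (A : Art k k) {U V : X.affineOpens} (h : V.1 ≤ U.1) (a : A) (c : Sec x U) :
    rmap x A h (a ⊗ₜ c) = a ⊗ₜ rU x h c := rfl

lemma res0_rmap (A : Art k k) {U V : X.affineOpens} (h : V.1 ≤ U.1) (z : A ⊗[k] Sec x U) :
    res0 (Sec x V) A (rmap x A h z) = rU x h (res0 (Sec x U) A z) := by
  induction z with
  | zero => simp
  | tmul a c => rw [rmap_tmul, res0_tmul, res0_tmul, map_smul]
  | add y z hy hz => simp only [map_add, hy, hz]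

lemma chart_rmap (A : Art k k) {U V : X.affineOpens} (h : V.1 ≤ U.1) (z : A ⊗[k] Sec x U) :
    ((XA x A).presheaf.map (homOfLE (VA_mono x A h)).op).hom (chart x U A z) =
      chart x V A (rmap x A h z) := by
  induction z with
  | zero => simp
  | add y z hy hz => simp only [map_add, hy, hz]
  | tmul a c =>
    rw [chart_tmul, map_mul, rmap_tmul, chart_tmul]
    refine congrArg₂ (· * ·) ?_ ?_
    · show ((XApr x A).appLE ⊤ (VA x U A).1 le_top ≫
        (XA x A).presheaf.map (homOfLE (VA_mono x A h)).op).hom _ = _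
      rw [Scheme.Hom.appLE_map]
      rfl
    · show ((pullback.fst x (specOver A)).appLE U.1 (VA x U A).1 le_rfl ≫
        (XA x A).presheaf.map (homOfLE (VA_mono x A h)).op).hom c =
        (X.presheaf.map (homOfLE h).op ≫ (pullback.fst x (specOver A)).appLE V.1 (VA x V A).1 le_rfl).hom c
      rw [Scheme.Hom.appLE_map, Scheme.Hom.map_appLE]

lemma cI_res (A : Art k k) {U V : X.affineOpens} (h : V.1 ≤ U.1) (I : (XA x A).IdealSheafData) :
    cI x V A I = (cI x U A I).map (rmap x A h) := by
  have h1 := I.map_ideal (U := VA x V A) (V := VA x U A) (VA_mono x A h)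
  have h2 : I.ideal (VA x U A) = (cI x U A I).map (chart x U A).toRingHom :=
    (Ideal.map_comap_of_surjective _ (chart x U A).surjective _).symm
  have h3 : (((XA x A).presheaf.map (homOfLE (VA_mono x A h)).op).hom).comp (chart x U A).toRingHom =
      (chart x V A).toRingHom.comp (rmap x A h) :=
    RingHom.ext (chart_rmap x A h)
  show (I.ideal (VA x V A)).comap _ = _
  rw [← h1, h2, Ideal.map_map]
  refine (congrArg (fun f => (Ideal.map f (cI x U A I)).comap (chart x V A).toRingHom) h3).trans ?_
  show Ideal.comap _ (Ideal.map _ (cI x U A I)) = _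
  rw [← Ideal.map_map]
  exact Ideal.comap_map_of_bijective _ (chart x V A).bijective

instance (A : Art k k) : IsAffineHom (XAincl x A) :=
  MorphismProperty.of_isPullback (P := @IsAffineHom) (isPullback_XAincl x A).flip
    (isAffineHom_of_isAffine _)

/-- The affine open of `X` under an affine open of `X ×_k Spec A`. -/
def under (A : Art k k) (W : (XA x A).affineOpens) : X.affineOpens :=
  ⟨XAincl x A ⁻¹ᵁ W.1, W.2.preimage _⟩

instance (A : Art k k) : Surjective (XAincl x A) := by
  refine MorphismProperty.of_isPullback (P := @Surjective) (isPullback_XAincl x A).flip ?_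
  refine ⟨fun p => ?_⟩
  haveI : Subsingleton (spec A) := by
    haveI : Subsingleton (PrimeSpectrum A) := inferInstance
    exact this
  obtain ⟨q⟩ : Nonempty (specPt k) := inferInstance
  exact ⟨q, Subsingleton.elim _ _⟩

lemma VA_under (A : Art k k) (W : (XA x A).affineOpens) : VA x (under x A W) A = W := by
  refine Subtype.ext (TopologicalSpace.Opens.ext (Set.ext fun q => ?_))
  obtain ⟨p, rfl⟩ := (XAincl x A).surjective q
  show XAincl x A ((pullback.fst x (specOver A)) (XAincl x A p)) ∈ W.1 ↔ _
  rw [← Scheme.Hom.comp_apply (XAincl x A) (pullback.fst x (specOver A)), XAincl_fst]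
  rfl

lemma VA_le_iff (A : Art k k) {U V : X.affineOpens} (h : (VA x V A).1 ≤ (VA x U A).1) : V.1 ≤ U.1 := by
  intro p hp
  have h1 : XAincl x A p ∈ (VA x V A).1 := by
    show (pullback.fst x (specOver A)) (XAincl x A p) ∈ V.1
    rw [← Scheme.Hom.comp_apply, XAincl_fst]
    exact hp
  have h2 : (pullback.fst x (specOver A)) (XAincl x A p) ∈ U.1 := h h1
  rwa [← Scheme.Hom.comp_apply, XAincl_fst] at h2

/-- **Gluing** a compatible family of ideals on the charts. -/
theorem exists_glue (A : Art k k) (J : ∀ U : X.affineOpens, Ideal (A ⊗[k] Sec x U))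
    (hJ : ∀ (U V : X.affineOpens) (h : V.1 ≤ U.1), (J U).map (rmap x A h) = J V) :
    ∃ I : (XA x A).IdealSheafData, ∀ U, cI x U A I = J U := by
  let K : ∀ W : (XA x A).affineOpens, Ideal Γ(XA x A, W.1) := fun W =>
    ((J (under x A W)).map (chart x (under x A W) A).toRingHom).map
      ((XA x A).presheaf.map (homOfLE (le_of_eq (congrArg Subtype.val (VA_under x A W)).symm)).op).hom
  have hK : ∀ (W : (XA x A).affineOpens) (U : X.affineOpens) (e : W.1 ≤ (VA x U A).1),
      K W = ((J U).map (chart x U A).toRingHom).map ((XA x A).presheaf.map (homOfLE e).op).hom := by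
    intro W U e
    have hle : (under x A W).1 ≤ U.1 :=
      VA_le_iff x A (le_trans (le_of_eq (congrArg Subtype.val (VA_under x A W))) e)
    show ((J (under x A W)).map _).map _ = _
    rw [← hJ U _ hle, Ideal.map_map, Ideal.map_map, Ideal.map_map]
    congr 1
    refine RingHom.ext fun z => ?_
    show ((XA x A).presheaf.map _).hom (chart x (under x A W) A (rmap x A hle z)) =
      ((XA x A).presheaf.map (homOfLE e).op).hom (chart x U A z)
    rw [← chart_rmap]
    show ((XA x A).presheaf.map _ ≫ (XA x A).presheaf.map _).hom (chart x U A z) = _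
    rw [← Functor.map_comp]
    rfl
  refine ⟨{ ideal := K, map_ideal_basicOpen := fun W f => ?_ }, fun U => ?_⟩
  · have e : W.1 ≤ (VA x (under x A W) A).1 := le_of_eq (congrArg Subtype.val (VA_under x A W)).symm
    rw [hK W _ e, hK ((XA x A).affineBasicOpen f) _ (((XA x A).basicOpen_le f).trans e), Ideal.map_map,
      Ideal.map_map, Ideal.map_map]
    congr 1
    refine RingHom.ext fun z => ?_
    show ((XA x A).presheaf.map _ ≫ (XA x A).presheaf.map _).hom _ = ((XA x A).presheaf.map _).hom _
    rw [← Functor.map_comp]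
    rfl
  · show (K (VA x U A)).comap _ = J U
    rw [hK _ U le_rfl, show (homOfLE (le_refl (VA x U A).1)) = 𝟙 _ from Subsingleton.elim _ _, op_id,
      CategoryTheory.Functor.map_id, CommRingCat.hom_id, Ideal.map_id]
    exact Ideal.comap_map_of_bijective _ (chart x U A).bijective

end Groth.Agent.Lib.ArtinFun.LocalHilbGlue
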