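import Groth.Agent.Lib.ArtinFun.LocalHilbRS
import Groth.Agent.Lib.ArtinFun.LocalHilbTangent
import Groth.Agent.Lib.ArtinFun.NormalH0
import Groth.Agent.Lib.ArtinFun.HR

/-!
# The tangent space of the local Hilbert functor is `H⁰` of the normal sheaf
-/

noncomputable section

universe u

open CategoryTheory AlgebraicGeometry ArtFun
open scoped TensorProduct

namespace Groth.Agent.Lib.ArtinFun.LocalHilbNormal

variable {k : Type u} [Field k] (X : Scheme.{u}) [X.Over (Spec (CommRingCat.of k))] (I₀ : X.IdealSheafData)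
  [I₀.subscheme.Over (Spec (CommRingCat.of k))]

/-- The tangent space is `H⁰(N)`. -/
theorem nonempty_linearEquiv_tangent_h0
    (hY : I₀.subscheme ↘ Spec (CommRingCat.of k) = I₀.subschemeι ≫ (X ↘ Spec (CommRingCat.of k)))
    [DCoh.HasSheafHom (Omega.conormal I₀.subschemeι)]
    [TangentStr (localHilb X (X ↘ Spec (CommRingCat.of k)) I₀)] :
    Nonempty (TangentSpace (localHilb X (X ↘ Spec (CommRingCat.of k)) I₀) ≃ₗ[k]
      Coh.HH I₀.subscheme ((DCoh.sheafHom (Omega.conormal I₀.subschemeι)).obj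
        (Coh.structureModule I₀.subscheme)) 0) := by
  haveI : I₀.subschemeι.IsOver (Spec (CommRingCat.of k)) := ⟨hY.symm⟩
  have hrs := LocalHilbRS.rs_localHilb (X ↘ Spec (CommRingCat.of k)) I₀
  obtain ⟨e₁⟩ := LocalHilbTangent.nonempty_linearEquiv_tangent (X ↘ Spec (CommRingCat.of k)) I₀ rfl hrs.heps
    (LocalHilbRS.h0_localHilb _ I₀).2
  obtain ⟨e₂⟩ := NormalH0.nonempty_linearEquiv_h0_normal (k := k) I₀.subschemeι
  obtain ⟨e₃⟩ := NormalH0.nonempty_linearEquiv_congr (k := k) I₀.ker_subschemeι (ClSub.quotMod I₀)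
  exact ⟨e₁.trans (e₂.trans e₃).symm⟩

end Groth.Agent.Lib.ArtinFun.LocalHilbNormal
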