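import Groth.Agent.Lib.ArtinFun.Conditions
import Groth.Agent.Lib.ArtinFun.LocalHilbAffine

/-!
# The local Hilbert functor satisfies Schlessinger's conditions
-/

noncomputable section

universe u

open CategoryTheory CategoryTheory.Limits AlgebraicGeometry ArtFun ArtFun.Art
open scoped TensorProduct

namespace Groth.Agent.Lib.ArtinFun.LocalHilbRS

open FlatIdealFP LocalHilbAffine

variable {k : Type u} [Field k] {X : Scheme.{u}} (x : X ⟶ specPt k) (I₀ : X.IdealSheafData)

/-- The comparison map of the local Hilbert functor is bijective along surjections. -/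
theorem rs_localHilb : RS (localHilb X x I₀) := by
  intro B A A' A'' p' p'' f' f'' h hf
  refine ⟨?_, ?_⟩
  · rw [cmp_injective_iff]
    intro z w hz' hz''
    refine Subtype.ext (ext_cI x fun U => ?_)
    have key : ∀ v : (localHilb X x I₀).obj B, cI x U B v.1 =
        glue (Sec x U) p' p'' (cI x U A' ((localHilb X x I₀).map p' v).1)
          (cI x U A'' ((localHilb X x I₀).map p'' v).1) := by
      intro v
      have e' : cI x U A' ((localHilb X x I₀).map p' v).1 = (cI x U B v.1).map (tmap (Sec x U) p') :=
        cI_comap x U p' v.1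
      have e'' : cI x U A'' ((localHilb X x I₀).map p'' v).1 = (cI x U B v.1).map (tmap (Sec x U) p'') :=
        cI_comap x U p'' v.1
      have hA : Module.Flat A ((A ⊗[k] Sec x U) ⧸
          ((cI x U B v.1).map (tmap (Sec x U) p')).map (tmap (Sec x U) f')) := by
        rw [← e', ← cI_comap x U f']
        exact (flatOver_iff x _).1 (flatOver_comap X x f' _ ((localHilb X x I₀).map p' v).2.1) U
      haveI := hA
      haveI : Module.Flat A' ((A' ⊗[k] Sec x U) ⧸ (cI x U B v.1).map (tmap (Sec x U) p')) := by
        rw [← e']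
        exact (flatOver_iff x _).1 ((localHilb X x I₀).map p' v).2.1 U
      haveI : Module.Flat A'' ((A'' ⊗[k] Sec x U) ⧸ (cI x U B v.1).map (tmap (Sec x U) p'')) := by
        rw [← e'']
        exact (flatOver_iff x _).1 ((localHilb X x I₀).map p'' v).2.1 U
      rw [e', e'']
      exact eq_glue (Sec x U) h hf _
    rw [key z, key w, hz', hz'']
  · rw [cmp_surjective_iff]
    intro z' z'' hz
    have hz1 : z'.1.comap (XAmap x f') = z''.1.comap (XAmap x f'') := congrArg Subtype.val hz
    let J := z'.1.map (XAmap x p') ⊓ z''.1.map (XAmap x p'')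
    have hJ : ∀ U, cI x U B J = glue (Sec x U) p' p'' (cI x U A' z'.1) (cI x U A'' z''.1) := fun U => by
      rw [cI_inf, cI_map, cI_map]
      rfl
    have hc : ∀ U : X.affineOpens,
        (cI x U A' z'.1).map (tmap (Sec x U) f') = (cI x U A'' z''.1).map (tmap (Sec x U) f'') := fun U => by
      rw [← cI_comap, ← cI_comap, hz1]
    have hflat : FlatOver X x B J := by
      rw [flatOver_iff]
      intro U
      rw [hJ U]
      haveI := (flatOver_iff x _).1 z'.2.1 U
      haveI := (flatOver_iff x _).1 z''.2.1 U
      haveI : Module.Flat A ((A ⊗[k] Sec x U) ⧸ (cI x U A' z'.1).map (tmap (Sec x U) f')) := by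
        rw [← cI_comap]
        exact (flatOver_iff x _).1 (flatOver_comap X x f' _ z'.2.1) U
      exact flat_glue (Sec x U) h hf (hc U)
    have h' : J.comap (XAmap x p') = z'.1 := ext_cI x fun U => by
      rw [cI_comap, hJ U, map_glue_fst (Sec x U) h hf (hc U)]
    have h'' : J.comap (XAmap x p'') = z''.1 := ext_cI x fun U => by
      rw [cI_comap, hJ U, map_glue_snd (Sec x U) h hf (hc U)]
    refine ⟨⟨J, hflat, ?_⟩, Subtype.ext h', Subtype.ext h''⟩
    rw [← XAincl_XAmap x p', Scheme.IdealSheafData.comap_comp, h', z'.2.2]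

instance isIso_XAincl_base : IsIso (XAincl x (base k k)) := by
  have h := isPullback_XAincl x (base k k)
  exact h.isIso_fst_of_isIso

/-- One point over `k`. -/
theorem h0_localHilb : H0 (localHilb X x I₀) := by
  have hinv : ∀ J : X.IdealSheafData,
      (J.comap (inv (XAincl x (base k k)))).comap (XAincl x (base k k)) = J := fun J => by
    rw [← Scheme.IdealSheafData.comap_comp, IsIso.hom_inv_id, Scheme.IdealSheafData.comap_id]
  refine ⟨⟨⟨I₀.comap (inv (XAincl x (base k k))), ?_, hinv I₀⟩⟩, ⟨fun I J => Subtype.ext ?_⟩⟩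
  · rw [flatOver_iff]
    intro U
    show Module.Flat k _
    infer_instance
  · have h1 : ∀ K : (XA x (base k k)).IdealSheafData,
        (K.comap (XAincl x (base k k))).comap (inv (XAincl x (base k k))) = K := fun K => by
      rw [← Scheme.IdealSheafData.comap_comp, IsIso.inv_hom_id, Scheme.IdealSheafData.comap_id]
    exact (h1 I.1).symm.trans ((congrArg (fun L : X.IdealSheafData => L.comap (inv (XAincl x (base k k))))
      (I.2.2.trans J.2.2.symm)).trans (h1 J.1))

end Groth.Agent.Lib.ArtinFun.LocalHilbRS
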