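import Groth.Agent.Lib.ArtinFun.Conditions

/-!
# The smallest ideal along which an element lifts
-/

universe u v

open CategoryTheory ArtFun

namespace Groth.Agent.Lib.ArtinFun

variable {Λ : Type u} {k : Type u} [CommRing Λ] [Field k] [Algebra Λ k]

/-- `x` lifts to `B / J`. -/
def LiftsMod (F : Art Λ k ⥤ Type v) {B A : Art Λ k} (p : B ⟶ A) (x : F.obj A) (J : Ideal B) : Prop :=
  ∃ (hJ : J ≤ RingHom.ker p.toAlgHom),
    ∃ y : F.obj (Art.quot B J (hJ.trans (ker_le_maximalIdeal p))),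
      F.map (Art.quotFactor (hJ.trans (ker_le_maximalIdeal p)) p hJ) y = x

lemma LiftsMod.mono {F : Art Λ k ⥤ Type v} {B A : Art Λ k} {p : B ⟶ A} {x : F.obj A}
    {J J' : Ideal B} (h : LiftsMod F p x J) (hle : J ≤ J') (hJ' : J' ≤ RingHom.ker p.toAlgHom) :
    LiftsMod F p x J' := by
  obtain ⟨hJ, y, hy⟩ := h
  refine ⟨hJ', F.map (quotQuot B hle (hJ'.trans (ker_le_maximalIdeal p))) y, ?_⟩
  rw [map_map, ← hy]
  refine map_congr (hom_ext_apply fun z => ?_) y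
  obtain ⟨b, rfl⟩ := Art.quotMk_surjective B J (hJ.trans (ker_le_maximalIdeal p)) z
  rfl

lemma exists_complement {B A : Art Λ k} {p : B ⟶ A} (hp : Art.IsSemismallExt p) {J K : Ideal B}
    (hJ : J ≤ RingHom.ker p.toAlgHom) (hK : K ≤ RingHom.ker p.toAlgHom) :
    ∃ K', K ≤ K' ∧ K' ≤ RingHom.ker p.toAlgHom ∧ J ⊓ K' ≤ K ∧
      J ⊔ K' = RingHom.ker p.toAlgHom := by
  obtain ⟨K', ⟨hKK', hK', hJK'⟩, hmax⟩ := set_has_maximal_iff_noetherian.2
    (inferInstance : IsNoetherian B B)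
    {L : Ideal B | K ≤ L ∧ L ≤ RingHom.ker p.toAlgHom ∧ J ⊓ L ≤ K} ⟨K, le_rfl, hK, inf_le_right⟩
  refine ⟨K', hKK', hK', hJK', le_antisymm (sup_le hJ hK') fun t ht => ?_⟩
  by_contra htn
  refine hmax (K' ⊔ Ideal.span {t}) ⟨hKK'.trans le_sup_left,
    sup_le hK' ((Ideal.span_singleton_le_iff_mem _).2 ht), ?_⟩ (lt_of_le_of_ne le_sup_left ?_)
  · rintro z ⟨hzJ, hz⟩
    obtain ⟨k', hk', y, hy, hk'y⟩ := Submodule.mem_sup.1 hz
    obtain ⟨c, rfl⟩ := Ideal.mem_span_singleton'.1 hy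
    by_cases hc : IsUnit c
    · exfalso
      refine htn ((Ideal.unit_mul_mem_iff_mem _ hc).1 ?_)
      have : c * t = z - k' := by rw [← hk'y]; ring
      rw [this]
      exact sub_mem (Ideal.mem_sup_left hzJ) (Ideal.mem_sup_right hk')
    · have h0 : c * t = 0 :=
        IsSemismallExt.mul_eq_zero hp ((IsLocalRing.mem_maximalIdeal c).2 hc) ((mem_ker p t).1 ht)
      rw [h0, add_zero] at hk'y
      exact hJK' ⟨hzJ, hk'y ▸ hk'⟩
  · intro e
    exact htn (Ideal.mem_sup_right (e ▸ Ideal.mem_sup_right (Ideal.mem_span_singleton_self t) :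
      t ∈ K'))

lemma LiftsMod.inf {F : Art Λ k ⥤ Type v} (h1 : S1 F) {B A : Art Λ k} {p : B ⟶ A}
    (hp : Art.IsSemismallExt p) {x : F.obj A} {J K : Ideal B} (hJ : LiftsMod F p x J)
    (hK : LiftsMod F p x K) : LiftsMod F p x (J ⊓ K) := by
  obtain ⟨K', hKK', hK', hle, hsup⟩ := exists_complement hp hJ.1 hK.1
  have hi : J ⊓ K' ≤ RingHom.ker p.toAlgHom := inf_le_left.trans hJ.1
  suffices LiftsMod F p x (J ⊓ K') by
    exact this.mono (le_inf inf_le_left hle) (inf_le_left.trans hJ.1)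
  obtain ⟨hJ', y, hy⟩ := hJ
  obtain ⟨hK'', z, hz⟩ := hK.mono hKK' hK'
  have hm := ker_le_maximalIdeal p
  have hsq : Art.IsFibreProd
      (quotQuot B (inf_le_left : J ⊓ K' ≤ J) (hJ'.trans hm))
      (quotQuot B (inf_le_right : J ⊓ K' ≤ K') (hK'.trans hm))
      (Art.quotFactor (hJ'.trans hm) p hJ') (Art.quotFactor (hK'.trans hm) p hK') := by
    refine ⟨hom_ext_apply fun w => ?_, fun a b h₁ h₂ => ?_, fun a b hab => ?_⟩
    · obtain ⟨w, rfl⟩ := Art.quotMk_surjective B _ (hi.trans hm) w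
      rfl
    · obtain ⟨a, rfl⟩ := Art.quotMk_surjective B _ (hi.trans hm) a
      obtain ⟨b, rfl⟩ := Art.quotMk_surjective B _ (hi.trans hm) b
      rw [quotQuot_quotMk_apply, quotQuot_quotMk_apply] at h₁ h₂
      exact Ideal.Quotient.eq.2 ⟨Ideal.Quotient.eq.1 h₁, Ideal.Quotient.eq.1 h₂⟩
    · obtain ⟨a, rfl⟩ := Art.quotMk_surjective B _ (hJ'.trans hm) a
      obtain ⟨b, rfl⟩ := Art.quotMk_surjective B _ (hK'.trans hm) b
      rw [quotFactor_quotMk_apply, quotFactor_quotMk_apply] at hab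
      have hd : a - b ∈ J ⊔ K' := by rw [hsup, mem_ker, map_sub, hab, sub_self]
      obtain ⟨j, hj, l, hl, hjl⟩ := Submodule.mem_sup.1 hd
      refine ⟨Art.quotMk B _ (hi.trans hm) (a - j), ?_, ?_⟩
      · refine Ideal.Quotient.eq.2 ?_
        rw [sub_sub_cancel_left]
        exact neg_mem hj
      · refine Ideal.Quotient.eq.2 ?_
        have : a - j - b = l := by linear_combination -hjl
        rw [this]
        exact hl
  obtain ⟨w, hw₁, -⟩ := (cmp_surjective_iff hsq).1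
    (h1 _ _ _ _ hsq (quotFactor_surjective _ p _ hp.1)) y z (hy.trans hz.symm)
  refine ⟨hi, w, ?_⟩
  rw [← hy, ← hw₁, map_map]
  refine map_congr (hom_ext_apply fun s => ?_) w
  obtain ⟨s, rfl⟩ := Art.quotMk_surjective B _ (hi.trans hm) s
  rfl

/-- The smallest ideal modulo which an element lifts along a semismall extension. -/
theorem exists_least_liftsMod {F : Art Λ k ⥤ Type v} (h1 : S1 F) {B A : Art Λ k} (p : B ⟶ A)
    (hp : Art.IsSemismallExt p) (x : F.obj A) :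
    ∃ J₀ : Ideal B, LiftsMod F p x J₀ ∧ ∀ J, LiftsMod F p x J → J₀ ≤ J := by
  have htop : LiftsMod F p x (RingHom.ker p.toAlgHom) := by
    refine ⟨le_rfl, ?_⟩
    haveI : IsIso (Art.quotFactor (le_rfl.trans (ker_le_maximalIdeal p)) p
        (le_rfl : RingHom.ker p.toAlgHom ≤ _)) :=
      isIso_of_bijective _ (quotFactor_bijective _ p rfl hp.1)
    exact (bijective_map_of_isIso F _).2 x
  obtain ⟨J₀, hJ₀, hmin⟩ := IsArtinian.set_has_minimal {J : Ideal B | LiftsMod F p x J} ⟨_, htop⟩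
  refine ⟨J₀, hJ₀, fun J hJ => ?_⟩
  by_contra h
  exact hmin _ (LiftsMod.inf h1 hp hJ₀ hJ) (lt_of_le_of_ne inf_le_left fun e => h (e ▸ inf_le_right))

end Groth.Agent.Lib.ArtinFun
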