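import Groth.Agent.Lib.ArtinFun.LiftImm
import Groth.Agent.Lib.ArtinFun.SheafHomDual
import Groth.Agent.Lib.Perfect.Coherent
import Groth.Agent.Lib.Snapper.Finite

/-!
# The cohomology of the normal sheaf is finite dimensional
-/

noncomputable section

universe u

open CategoryTheory AlgebraicGeometry

namespace Groth.Agent.Lib.ArtinFun.NormalFinite

theorem finite_HH {k : Type u} [Field k] {X Y : Scheme.{u}} [Y.Over (Spec (CommRingCat.of k))]
    [IsProper (Y ↘ Spec (CommRingCat.of k))] [IsLocallyNoetherian X] (i : Y ⟶ X) [IsClosedImmersion i]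
    [DCoh.HasSheafHom (Omega.conormal i)] (h : LciLocal.IsH1Ideal i.ker) (p : ℕ) :
    Module.Finite k (Coh.HH Y ((DCoh.sheafHom (Omega.conormal i)).obj (Coh.structureModule Y)) p) := by
  haveI : IsLocallyNoetherian Y := LocallyOfFiniteType.isLocallyNoetherian (Y ↘ Spec (CommRingCat.of k))
  exact Snapper.Finite.cohFinite k Y _ (Perfect.Coherent.isCoh_of_isFinLocFree
    (SheafHomDual.isFinLocFree_sheafHom (LiftImm.isFinLocFree_conormal i h))) p

end Groth.Agent.Lib.ArtinFun.NormalFinite
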