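import Groth.Agent.Lib.ArtinFun.LocalHilbTangent

/-!
# The module of a pair of ideal sheaves `Q ≤ P` on `X ×_k Spec A`
-/

noncomputable section

universe u

open CategoryTheory CategoryTheory.Limits AlgebraicGeometry ArtFun ArtFun.Art
open scoped TensorProduct

namespace Groth.Agent.Lib.ArtinFun.PQMod

open FlatIdealFP LocalHilbAffine LocalHilbGlue LocalHilbTangent

variable {k : Type u} [Field k] {X : Scheme.{u}} (x : X ⟶ specPt k) {A : Art k k}

/-- `O/I` pushed to `X`. -/
def qMod (I : (XA x A).IdealSheafData) : X.Modules :=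
  (Scheme.Modules.pushforward (pullback.fst x (specOver A))).obj (ClSub.quotMod I)

/-- The class of a section in `O/I`. -/
def qCls (I : (XA x A).IdealSheafData) (U : X.affineOpens) : A ⊗[k] Sec x U →+ Γ(qMod x I, U.1) :=
  (show Γ(ClSub.quotMod I, (VA x U A).1) →+ Γ(qMod x I, U.1) from AddMonoidHom.id _).comp
    (((ClSub.toSubscheme I).app (VA x U A).1).hom.comp (chart x U A).toRingHom.toAddMonoidHom)

variable (I : (XA x A).IdealSheafData)

lemma qCls_eq_zero_iff (U : X.affineOpens) (w : A ⊗[k] Sec x U) : qCls x I U w = 0 ↔ w ∈ cI x U A I := by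
  show (I.subschemeι.app (VA x U A).1).hom (chart x U A w) = 0 ↔ _
  rw [← RingHom.mem_ker, I.ker_subschemeι_app]
  rfl

lemma qCls_surjective (U : X.affineOpens) : Function.Surjective (qCls x I U) := fun m => by
  obtain ⟨z, hz⟩ := ClSub.Sections.toSubscheme_app_surjective I (VA x U A) m
  refine ⟨(chart x U A).symm z, ?_⟩
  show (ClSub.toSubscheme I).app (VA x U A).1 (chart x U A ((chart x U A).symm z)) = m
  rw [RingEquiv.apply_symm_apply]
  exact hz

lemma qCls_res {U V : X.affineOpens} (h : V.1 ≤ U.1) (w : A ⊗[k] Sec x U) :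
    (qMod x I).presheaf.map (homOfLE h).op (qCls x I U w) = qCls x I V (rmap x A h w) := by
  show (ClSub.quotMod I).presheaf.map (homOfLE (VA_mono x A h)).op
      ((ClSub.toSubscheme I).app (VA x U A).1 (chart x U A w)) =
    (ClSub.toSubscheme I).app (VA x V A).1 (chart x V A (rmap x A h w))
  rw [← HomAffine.app_map, ← chart_rmap]
  rfl

lemma qCls_smul (U : X.affineOpens) (r : Γ(X, U.1)) (w : A ⊗[k] Sec x U) :
    qCls x I U ((1 : A) ⊗ₜ (show Sec x U from r) * w) = r • qCls x I U w := by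
  show (ClSub.toSubscheme I).app (VA x U A).1 (chart x U A (_ * w)) =
    (show Γ(XA x A, (VA x U A).1) from ((pullback.fst x (specOver A)).app U.1).hom r) • (ClSub.toSubscheme I).app (VA x U A).1 (chart x U A w)
  rw [map_mul, chart_tmul, map_one, one_mul, ← Scheme.Modules.Hom.app_smul]
  refine congrArg _ ?_
  show iC x U A r * _ = (show Γ(XA x A, (VA x U A).1) from ((pullback.fst x (specOver A)).app U.1).hom r) * _
  rw [Scheme.Hom.app_eq_appLE]
  rfl

/-- **The module `P/Q`.** -/
theorem exists_mod (IP IQ : (XA x A).IdealSheafData) (hle : ∀ U, cI x U A IQ ≤ cI x U A IP) :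
    ∃ (E : X.Modules) (cls : ∀ U : X.affineOpens, cI x U A IP →+ Γ(E, U.1)),
      (∀ U, Function.Surjective (cls U)) ∧
      (∀ U w, cls U w = 0 ↔ w.1 ∈ cI x U A IQ) ∧
      (∀ (U V : X.affineOpens) (h : V.1 ≤ U.1) (w : cI x U A IP) (w' : cI x V A IP),
        w'.1 = rmap x A h w.1 → E.presheaf.map (homOfLE h).op (cls U w) = cls V w') ∧
      (∀ (U : X.affineOpens) (r : Γ(X, U.1)) (w w' : cI x U A IP),
        w'.1 = (1 : A) ⊗ₜ (show Sec x U from r) * w.1 → cls U w' = r • cls U w) := by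
  have hd : ∀ (U : X.affineOpens) (w : A ⊗[k] Sec x U), qCls x IQ U w = 0 → qCls x IP U w = 0 :=
    fun U w hw => (qCls_eq_zero_iff x IP U w).2 (hle U ((qCls_eq_zero_iff x IQ U w).1 hw))
  let d₀ := fun (U : X.affineOpens) => fun m => qCls x IP U (Function.surjInv (qCls_surjective x IQ U) m)
  have hd₀ : ∀ U w, d₀ U (qCls x IQ U w) = qCls x IP U w := fun U w => by
    show qCls x IP U _ = _
    rw [← sub_eq_zero, ← map_sub]
    refine hd U _ ?_
    rw [map_sub, Function.surjInv_eq (qCls_surjective x IQ U), sub_self]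
  let d : ∀ U : X.affineOpens, Γ(qMod x IQ, U.1) →+ Γ(qMod x IP, U.1) := fun U =>
    AddMonoidHom.mk' (d₀ U) fun a b => by
      obtain ⟨v, rfl⟩ := qCls_surjective x IQ U a
      obtain ⟨w, rfl⟩ := qCls_surjective x IQ U b
      rw [← map_add, hd₀, hd₀, hd₀, map_add]
  obtain ⟨α, hα⟩ := HomAffine.exists_hom_of_affine d (fun U r a => by
      obtain ⟨w, rfl⟩ := qCls_surjective x IQ U a
      show d₀ U _ = r • d₀ U _
      rw [← qCls_smul, hd₀, hd₀, qCls_smul])
    (fun U V h a => by
      obtain ⟨w, rfl⟩ := qCls_surjective x IQ U a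
      show (qMod x IP).presheaf.map _ (d₀ U _) = d₀ V _
      rw [hd₀, qCls_res, qCls_res, hd₀])
  have hker : ∀ U (w : cI x U A IP), α.app U.1 (qCls x IQ U w.1) = 0 := fun U w => by
    rw [hα]
    exact (hd₀ U w.1).trans ((qCls_eq_zero_iff x IP U w.1).2 w.2)
  have hn0 := fun (U : X.affineOpens) (w : cI x U A IP) =>
    ClSub.Sections.exists_kernel_ι_app_eq α U.1 (qCls x IQ U w.1) (hker U w)
  let n := fun (U : X.affineOpens) (w : cI x U A IP) => (hn0 U w).choose
  have hn : ∀ (U : X.affineOpens) (w : cI x U A IP), (kernel.ι α).app U.1 (n U w) = qCls x IQ U w.1 :=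
    fun U w => (hn0 U w).choose_spec
  have hinj := fun U : X.affineOpens => ClSub.Sections.kernel_ι_app_injective α U.1
  let cls : ∀ U : X.affineOpens, cI x U A IP →+ Γ(kernel α, U.1) := fun U =>
    AddMonoidHom.mk' (n U) (by
      intro a b
      apply hinj U
      rw [map_add, hn, hn, hn]
      exact map_add (qCls x IQ U) a.1 b.1)
  refine ⟨kernel α, cls, ?_, ?_, ?_, ?_⟩
  · intro U m
    obtain ⟨w, hw⟩ := qCls_surjective x IQ U ((kernel.ι α).app U.1 m)
    have h1 := ClSub.Sections.app_kernel_ι_app α U.1 m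
    rw [← hw, hα] at h1
    refine ⟨⟨w, (qCls_eq_zero_iff x IP U w).1 ((hd₀ U w).symm.trans h1)⟩, hinj U ?_⟩
    show (kernel.ι α).app U.1 (n U _) = _
    rw [hn, hw]
  · intro U w
    rw [← qCls_eq_zero_iff, ← hn U w]
    exact ⟨fun e => by rw [show n U w = 0 from e, map_zero],
      fun e => hinj U (e.trans (map_zero _).symm)⟩
  · intro U V h w w' e
    apply hinj V
    show (kernel.ι α).app V.1 ((kernel α).presheaf.map _ (n U w)) = (kernel.ι α).app V.1 (n V w')
    rw [HomAffine.app_map, hn, hn, qCls_res, e]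
  · intro U r w w' e
    apply hinj U
    show (kernel.ι α).app U.1 (n U w') = (kernel.ι α).app U.1 (r • n U w)
    rw [Scheme.Modules.Hom.app_smul, hn, hn, e, qCls_smul]

end Groth.Agent.Lib.ArtinFun.PQMod
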