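import Groth.Agent.Lib.ArtinFun.Smooth
import Mathlib.CategoryTheory.Limits.FunctorCategory.Shapes.Pullbacks
import Mathlib.CategoryTheory.Limits.Shapes.Pullback.IsPullback.Basic
import Mathlib.CategoryTheory.Limits.Types.Pullbacks
import Mathlib.CategoryTheory.Limits.Types.Limits
import Mathlib.CategoryTheory.Limits.Shapes.FunctorToTypes

/-!
# Fibre products and products of functors of Artin rings
-/

universe u v

open CategoryTheory CategoryTheory.Limits ArtFun

namespace Groth.Agent.Lib.ArtinFun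

variable {Λ : Type u} {k : Type u} [CommRing Λ] [Field k] [Algebra Λ k]
variable {F G H : Art Λ k ⥤ Type v}

lemma isPullback_app (η : F ⟶ G) (θ : H ⟶ G) (A : Art Λ k) :
    IsPullback ((pullback.fst η θ).app A) ((pullback.snd η θ).app A) (η.app A) (θ.app A) :=
  ((evaluation (Art Λ k) (Type v)).obj A).map_isPullback (IsPullback.of_hasPullback η θ)

lemma exists_pullback_mk (η : F ⟶ G) (θ : H ⟶ G) {A : Art Λ k} (x : F.obj A) (y : H.obj A)
    (h : η.app A x = θ.app A y) : ∃ z : (pullback η θ).obj A,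
      (pullback.fst η θ).app A z = x ∧ (pullback.snd η θ).app A z = y :=
  Types.exists_of_isPullback (isPullback_app η θ A) x y h

lemma pullback_app_ext (η : F ⟶ G) (θ : H ⟶ G) {A : Art Λ k} {z w : (pullback η θ).obj A}
    (h₁ : (pullback.fst η θ).app A z = (pullback.fst η θ).app A w)
    (h₂ : (pullback.snd η θ).app A z = (pullback.snd η θ).app A w) : z = w :=
  Types.ext_of_isPullback (isPullback_app η θ A) h₁ h₂

lemma pullback_condition_app (η : F ⟶ G) (θ : H ⟶ G) {A : Art Λ k} (z : (pullback η θ).obj A) :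
    η.app A ((pullback.fst η θ).app A z) = θ.app A ((pullback.snd η θ).app A z) :=
  ConcreteCategory.congr_hom (isPullback_app η θ A).w z

theorem isSmooth_pullback_snd (η : F ⟶ G) (θ : H ⟶ G) (hη : IsSmooth η) :
    IsSmooth (pullback.snd η θ) := by
  rw [isSmooth_iff] at hη ⊢
  intro B A μ hμ x y hxy
  have h : η.app A ((pullback.fst η θ).app A x) = G.map μ (θ.app B y) := by
    rw [pullback_condition_app, hxy]
    exact NatTrans.naturality_apply θ μ y
  obtain ⟨z, hz₁, hz₂⟩ := hη μ hμ _ _ h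
  obtain ⟨w, hw₁, hw₂⟩ := exists_pullback_mk η θ z y hz₂
  refine ⟨w, pullback_app_ext η θ ?_ ?_, hw₂⟩
  · rw [NatTrans.naturality_apply (pullback.fst η θ) μ w, hw₁, hz₁]
  · rw [NatTrans.naturality_apply (pullback.snd η θ) μ w, hw₂, hxy]

theorem isSmoothFunctor_prod (hF : IsSmoothFunctor F) (hG : IsSmoothFunctor G) :
    IsSmoothFunctor (F ⨯ G) := by
  intro B A μ hμ z
  obtain ⟨x, hx⟩ := hF μ hμ ((Limits.prod.fst (X := F) (Y := G)).app A z)
  obtain ⟨y, hy⟩ := hG μ hμ ((Limits.prod.snd (X := F) (Y := G)).app A z)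
  refine ⟨FunctorToTypes.prodMk x y, FunctorToTypes.prod_ext' F G A _ _ ?_ ?_⟩
  · rw [NatTrans.naturality_apply (Limits.prod.fst (X := F) (Y := G)) μ, FunctorToTypes.prodMk_fst,
      hx]
  · rw [NatTrans.naturality_apply (Limits.prod.snd (X := F) (Y := G)) μ, FunctorToTypes.prodMk_snd,
      hy]

end Groth.Agent.Lib.ArtinFun
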