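import Groth.Agent.Lib.ArtinFun.Torsor
import Groth.Agent.Lib.ArtinFun.Pullback

/-!
# Relative injectivity and fibre products of deformation functors
-/

universe u v

open CategoryTheory CategoryTheory.Limits ArtFun

set_option linter.deprecated false

namespace Groth.Agent.Lib.ArtinFun

variable {Λ : Type u} {k : Type u} [CommRing Λ] [Field k] [Algebra Λ k]
variable [IsNoetherianRing Λ] [Module.Finite Λ k]
variable {F G H : Art Λ k ⥤ Type v}

/-- A morphism injective on tangent spaces separates lifts along surjections. -/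
theorem eq_of_map_eq_of_tangent_injective (hF : RS F) (hG : RS G) (q : G ⟶ F)
    (hq : Function.Injective (TangentSpace.map q)) {A B : Art Λ k} (μ : B ⟶ A)
    (hμ : Function.Surjective μ) {u w : G.obj B} (h₁ : G.map μ u = G.map μ w)
    (h₂ : q.app B u = q.app B w) : u = w := by
  revert u w
  refine surjective_induction (fun A B μ => ∀ {u w : G.obj B}, G.map μ u = G.map μ w →
    q.app B u = q.app B w → u = w) ?_ ?_ ?_ μ hμ
  · intro A B e he u w h₁ _
    exact (bijective_map_of_isIso G e).1 h₁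
  · intro A B μ hμ u w h₁ h₂
    obtain ⟨t, ht⟩ := hμ.2.2.1
    obtain ⟨S⟩ := nonempty_diffSquare μ hμ t ht
    obtain ⟨ζ, hζ₁, hζ₂⟩ := (cmp_surjective_iff S.isFibreProd).1
      (hG _ _ _ _ S.isFibreProd hμ.1).2 u w h₁
    have hqζ : q.app S.P ζ = F.map (diag S.isFibreProd) (q.app B u) := by
      refine (cmp_injective_iff S.isFibreProd).1 (hF _ _ _ _ S.isFibreProd hμ.1).1 _ _ ?_ ?_
      · rw [← NatTrans.naturality_apply q, hζ₁, map_map, diag_fst, FunctorToTypes.map_id_apply]
      · rw [← NatTrans.naturality_apply q, hζ₂, map_map, diag_snd, FunctorToTypes.map_id_apply, h₂]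
    have hgζ : G.map S.g ζ = G.map (diag S.isFibreProd ≫ S.g) u := by
      refine hq ?_
      change q.app _ _ = q.app _ _
      rw [NatTrans.naturality_apply q, NatTrans.naturality_apply q, hqζ, map_map]
    have hζ : ζ = G.map (diag S.isFibreProd) u := by
      refine (cmp_injective_iff S.isFibreProd_dual).1
        (hG _ _ _ _ S.isFibreProd_dual (toBase_surjective _)).1 _ _ ?_ ?_
      · rw [hζ₁, map_map, diag_fst, FunctorToTypes.map_id_apply]
      · rw [hgζ, map_map]
    rw [← hζ₂, hζ, map_map, diag_snd, FunctorToTypes.map_id_apply]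
  · intro A B C p r hp hr u w h₁ h₂
    rw [← map_map, ← map_map] at h₁
    refine hp ?_ h₂
    exact hr h₁ (by rw [NatTrans.naturality_apply q, NatTrans.naturality_apply q, h₂])

omit [IsNoetherianRing Λ] [Module.Finite Λ k] in
/-- Fibre products of functors satisfying (RS) satisfy (RS). -/
theorem rs_pullback (f : H ⟶ F) (g : G ⟶ F) (hF : RS F) (hG : RS G) (hH : RS H) :
    RS (pullback f g) := by
  intro B A A' A'' p' p'' f' f'' h hs
  refine ⟨(cmp_injective_iff h).2 fun z w h₁ h₂ => pullback_app_ext f g ?_ ?_,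
    (cmp_surjective_iff h).2 fun x' x'' hc => ?_⟩
  · refine (cmp_injective_iff h).1 (hH _ _ _ _ h hs).1 _ _ ?_ ?_
    · rw [← NatTrans.naturality_apply (pullback.fst f g), h₁, NatTrans.naturality_apply]
    · rw [← NatTrans.naturality_apply (pullback.fst f g), h₂, NatTrans.naturality_apply]
  · refine (cmp_injective_iff h).1 (hG _ _ _ _ h hs).1 _ _ ?_ ?_
    · rw [← NatTrans.naturality_apply (pullback.snd f g), h₁, NatTrans.naturality_apply]
    · rw [← NatTrans.naturality_apply (pullback.snd f g), h₂, NatTrans.naturality_apply]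
  · obtain ⟨a, ha', ha''⟩ := (cmp_surjective_iff h).1 (hH _ _ _ _ h hs).2
      ((pullback.fst f g).app A' x') ((pullback.fst f g).app A'' x'') (by
        rw [← NatTrans.naturality_apply (pullback.fst f g), hc, NatTrans.naturality_apply])
    obtain ⟨b, hb', hb''⟩ := (cmp_surjective_iff h).1 (hG _ _ _ _ h hs).2
      ((pullback.snd f g).app A' x') ((pullback.snd f g).app A'' x'') (by
        rw [← NatTrans.naturality_apply (pullback.snd f g), hc, NatTrans.naturality_apply])
    have hab : f.app B a = g.app B b := by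
      refine (cmp_injective_iff h).1 (hF _ _ _ _ h hs).1 _ _ ?_ ?_
      · rw [← NatTrans.naturality_apply f, ← NatTrans.naturality_apply g, ha', hb',
          pullback_condition_app]
      · rw [← NatTrans.naturality_apply f, ← NatTrans.naturality_apply g, ha'', hb'',
          pullback_condition_app]
    obtain ⟨z, hz₁, hz₂⟩ := exists_pullback_mk f g a b hab
    refine ⟨z, pullback_app_ext f g ?_ ?_, pullback_app_ext f g ?_ ?_⟩
    · rw [NatTrans.naturality_apply (pullback.fst f g), hz₁, ha']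
    · rw [NatTrans.naturality_apply (pullback.snd f g), hz₂, hb']
    · rw [NatTrans.naturality_apply (pullback.fst f g), hz₁, ha'']
    · rw [NatTrans.naturality_apply (pullback.snd f g), hz₂, hb'']

/-- `H₁ ×_G H₂ → H₁ ×_F H₂` is smooth when `G → F` is injective on tangent spaces. -/
theorem isSmooth_pullback_map {H₁ H₂ : Art Λ k ⥤ Type v} (hF : RS F) (hG : RS G) (p₁ : H₁ ⟶ G)
    (p₂ : H₂ ⟶ G) (q : G ⟶ F) (hq : Function.Injective (TangentSpace.map q)) :
    IsSmooth (pullback.map p₁ p₂ (p₁ ≫ q) (p₂ ≫ q) (𝟙 H₁) (𝟙 H₂) q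
      (Category.id_comp _).symm (Category.id_comp _).symm) := by
  set m := pullback.map p₁ p₂ (p₁ ≫ q) (p₂ ≫ q) (𝟙 H₁) (𝟙 H₂) q
    (Category.id_comp _).symm (Category.id_comp _).symm
  have hm₁ : ∀ (A : Art Λ k) (x : (pullback p₁ p₂).obj A),
      (pullback.fst (p₁ ≫ q) (p₂ ≫ q)).app A (m.app A x) = (pullback.fst p₁ p₂).app A x := fun A x =>
    by
      have e : m ≫ pullback.fst (p₁ ≫ q) (p₂ ≫ q) = pullback.fst p₁ p₂ := (pullback.lift_fst _ _ _).trans (Category.comp_id _)
      exact ConcreteCategory.congr_hom (NatTrans.congr_app e A) x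
  have hm₂ : ∀ (A : Art Λ k) (x : (pullback p₁ p₂).obj A),
      (pullback.snd (p₁ ≫ q) (p₂ ≫ q)).app A (m.app A x) = (pullback.snd p₁ p₂).app A x := fun A x =>
    by
      have e : m ≫ pullback.snd (p₁ ≫ q) (p₂ ≫ q) = pullback.snd p₁ p₂ := (pullback.lift_snd _ _ _).trans (Category.comp_id _)
      exact ConcreteCategory.congr_hom (NatTrans.congr_app e A) x
  rw [isSmooth_iff]
  intro B A μ hμ x y hxy
  set y₁ := (pullback.fst (p₁ ≫ q) (p₂ ≫ q)).app B y with hy₁
  set y₂ := (pullback.snd (p₁ ≫ q) (p₂ ≫ q)).app B y with hy₂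
  have e₁ : H₁.map μ y₁ = (pullback.fst p₁ p₂).app A x := by
    rw [← hm₁, hxy, NatTrans.naturality_apply (pullback.fst (p₁ ≫ q) (p₂ ≫ q))]
  have e₂ : H₂.map μ y₂ = (pullback.snd p₁ p₂).app A x := by
    rw [← hm₂, hxy, NatTrans.naturality_apply (pullback.snd (p₁ ≫ q) (p₂ ≫ q))]
  have key : p₁.app B y₁ = p₂.app B y₂ := by
    refine eq_of_map_eq_of_tangent_injective hF hG q hq μ hμ ?_ ?_
    · rw [← NatTrans.naturality_apply p₁, ← NatTrans.naturality_apply p₂, e₁, e₂,
        pullback_condition_app]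
    · exact pullback_condition_app (p₁ ≫ q) (p₂ ≫ q) y
  obtain ⟨z, hz₁, hz₂⟩ := exists_pullback_mk p₁ p₂ y₁ y₂ key
  refine ⟨z, pullback_app_ext p₁ p₂ ?_ ?_, pullback_app_ext (p₁ ≫ q) (p₂ ≫ q) ?_ ?_⟩
  · rw [NatTrans.naturality_apply (pullback.fst p₁ p₂), hz₁, e₁]
  · rw [NatTrans.naturality_apply (pullback.snd p₁ p₂), hz₂, e₂]
  · rw [hm₁, hz₁]
  · rw [hm₂, hz₂]

end Groth.Agent.Lib.ArtinFun
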