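import Groth.Agent.Lib.ArtinFun.Basic
import Mathlib.RingTheory.Flat.Tensor
import Mathlib.RingTheory.LocalRing.Module
import Mathlib.LinearAlgebra.TensorProduct.RightExactness

/-!
# Flatness is detected by small extensions
-/

universe u v

open CategoryTheory ArtFun
open scoped TensorProduct

set_option linter.style.haveILetI false

namespace Groth.Agent.Lib.ArtinFun

theorem free_of_smallExt_injective
    (R : Type u) [CommRing R] [IsArtinianRing R] [IsLocalRing R]
    (k : Type u) [Field k] [Algebra R k] (hk : Function.Surjective (algebraMap R k))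
    (M : Type u) [AddCommGroup M] [Module R M] [Module.Finite R M]
    (h : ∀ (A' A : Art R k) (p : A' ⟶ A), Art.IsSmallExt p →
      Function.Injective
        (LinearMap.lTensor M (((RingHom.ker p.toAlgHom).restrictScalars R).subtype))) :
    Module.Free R M := by
  haveI : Module.Flat R M := by
    rw [Module.Flat.iff_lTensor_injective']
    intro I
    by_cases hI : I = ⊤
    · subst hI
      exact (LinearEquiv.lTensor M (Submodule.topEquiv (R := R) (M := R))).injective
    let C : Art R k := { carrier := R, res := Algebra.ofId R k, res_surjective := hk }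
    have key : ∀ J : Ideal C, J ≤ IsLocalRing.maximalIdeal C →
        Function.Injective (LinearMap.lTensor M (J : Submodule R R).subtype) := by
      intro J
      induction J using WellFoundedLT.induction with
      | ind J ih =>
        intro hJ
        by_cases hJ0 : J = ⊥
        · subst hJ0
          intro x y _
          have h0 : ∀ z : M ⊗[R] (⊥ : Submodule R R), z = 0 := fun z => by
            induction z using TensorProduct.induction_on with
            | zero => rfl
            | tmul m i => rw [Subsingleton.elim i 0, TensorProduct.tmul_zero]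
            | add z w hz hw => rw [hz, hw, add_zero]
          rw [h0 x, h0 y]
        obtain ⟨J₀, ⟨hJ₀, hmax⟩⟩ : ∃ J₀ : Ideal C, J₀ < J ∧ ∀ K, J₀ < K → K ≤ J → K = J := by
          obtain ⟨J₀, hJ₀, hmax⟩ := WellFounded.has_min (wellFounded_gt (α := Ideal C)) {K | K < J}
            ⟨⊥, bot_lt_iff_ne_bot.2 hJ0⟩
          exact ⟨J₀, hJ₀, fun K h₁ h₂ => h₂.lt_or_eq.elim (fun h => absurd h₁ (hmax K h)) id⟩
        obtain ⟨t, htJ, htK, hm⟩ := exists_socle_mem C hJ₀
        have hsup : J₀ ⊔ Ideal.span {t} = J := by
          refine hmax _ (lt_of_le_of_ne le_sup_left fun e => htK ?_) (sup_le hJ₀.le ?_)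
          · rw [e]; exact Ideal.mem_sup_right (Ideal.mem_span_singleton_self t)
          · rwa [Ideal.span_singleton_le_iff_mem]
        have hp := isSmallExt_quotQuot_sup_span C (K := J₀) (t := t) htK hm (hsup.le.trans hJ)
        rw [← hsup] at hJ₀ hJ ih ⊢
        let J' := J₀ ⊔ Ideal.span {t}
        let p := quotQuot C (le_sup_left : J₀ ≤ J') hJ
        let P : Submodule R (Art.quot C J₀ (hJ₀.le.trans hJ)) := (RingHom.ker p.toAlgHom).restrictScalars R
        let mk : R →ₗ[R] Art.quot C J₀ (hJ₀.le.trans hJ) :=
          (Art.quotMk C J₀ (hJ₀.le.trans hJ)).toAlgHom.toLinearMap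
        have hmk : ∀ i : (J' : Submodule R R), mk i ∈ P := fun i => by
          change p (Art.quotMk C J₀ _ i) = 0
          rw [quotQuot_quotMk_apply, quotMk_eq_zero_iff]
          exact i.2
        let π : (J' : Submodule R R) →ₗ[R] P := (mk.comp (J' : Submodule R R).subtype).codRestrict P hmk
        let ι : (J₀ : Submodule R R) →ₗ[R] (J' : Submodule R R) :=
          Submodule.inclusion (le_sup_left : J₀ ≤ J')
        have hπ : Function.Surjective π := by
          intro x
          obtain ⟨a, ha⟩ := Art.quotMk_surjective C J₀ (hJ₀.le.trans hJ) x.1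
          have hx : p x.1 = 0 := x.2
          rw [← ha, quotQuot_quotMk_apply, quotMk_eq_zero_iff] at hx
          exact ⟨⟨a, hx⟩, Subtype.ext ha⟩
        have hex : Function.Exact ι π := by
          intro i
          constructor
          · intro hi
            exact ⟨⟨i.1, (quotMk_eq_zero_iff _ _).1 (congrArg Subtype.val hi)⟩, rfl⟩
          · rintro ⟨j, rfl⟩
            exact Subtype.ext ((quotMk_eq_zero_iff _ _).2 j.2)
        refine (injective_iff_map_eq_zero _).2 fun z hz => ?_
        have hπz : LinearMap.lTensor M π z = 0 := by
          refine h _ _ p hp ?_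
          rw [map_zero, ← LinearMap.lTensor_comp_apply, show P.subtype.comp π = mk.comp (J' : Submodule R R).subtype from rfl,
            LinearMap.lTensor_comp_apply, hz, map_zero]
        obtain ⟨w, rfl⟩ := (lTensor_exact M hex hπ z).1 hπz
        rw [← LinearMap.lTensor_comp_apply] at hz
        rw [show w = 0 from ih J₀ hJ₀ (hJ₀.le.trans hJ) (by rw [map_zero]; exact hz), map_zero]
    exact key I (IsLocalRing.le_maximalIdeal hI)
  exact Module.free_of_flat_of_isLocalRing

end Groth.Agent.Lib.ArtinFun
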