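import Groth.Agent.Lib.LocalFlat.Basic
import Mathlib.LinearAlgebra.TensorProduct.RightExactness
import Mathlib.LinearAlgebra.TensorProduct.Quotient
import Mathlib.RingTheory.Flat.Basic

/-!
# Modules over a square-zero thickening: the multiplication map `M ⊗ J → M`
-/

universe u v w

open TensorProduct

namespace Groth.Agent.Lib.ArtinFun

section

variable {C : Type u} [CommRing C] {A : Type v} [CommRing A] [Algebra C A]
  {M : Type w} [AddCommGroup M] [Module A M] [Module C M] [IsScalarTower C A M]

/-- The multiplication map `M ⊗ J → M`. -/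
noncomputable def mulMap (J : Ideal C) (A : Type v) [CommRing A] [Algebra C A] (M : Type w)
    [AddCommGroup M] [Module A M] [Module C M] [IsScalarTower C A M] : M ⊗[C] ↥J →ₗ[A] M :=
  (AlgebraTensorModule.rid C A M).toLinearMap ∘ₗ AlgebraTensorModule.lTensor A M J.subtype

variable (J : Ideal C)

theorem mulMap_tmul (m : M) (j : J) : mulMap J A M (m ⊗ₜ[C] j) = (j : C) • m := by
  simp [mulMap]

theorem mulMap_eq (z : M ⊗[C] ↥J) :
    mulMap J A M z = TensorProduct.rid C M (LinearMap.lTensor M J.subtype z) := rfl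

theorem mulMap_injective [Module.Flat C M] : Function.Injective (mulMap J A M) :=
  fun _ _ h => Module.Flat.lTensor_preserves_injective_linearMap J.subtype J.injective_subtype
    ((TensorProduct.rid C M).injective h)

theorem map_smul_top_le (I : Ideal C) (P : Submodule A M) (h : ∀ c ∈ I, ∀ m : M, c • m ∈ P) :
    I.map (algebraMap C A) • (⊤ : Submodule A M) ≤ P := by
  rw [Submodule.smul_le]
  intro r hr m _
  have : I.map (algebraMap C A) ≤ P.comap (LinearMap.toSpanSingleton A M m) :=
    Ideal.map_le_iff_le_comap.2 fun c hc => by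
      show algebraMap C A c • m ∈ P
      rw [algebraMap_smul]
      exact h c hc m
  exact this hr

theorem range_mulMap : LinearMap.range (mulMap J A M) =
    J.map (algebraMap C A) • (⊤ : Submodule A M) := by
  refine le_antisymm ?_ (map_smul_top_le J _ fun c hc m => ⟨m ⊗ₜ[C] (⟨c, hc⟩ : J), mulMap_tmul J m _⟩)
  rintro _ ⟨z, rfl⟩
  induction z using TensorProduct.induction_on with
  | zero => rw [map_zero]; exact zero_mem _
  | add x y hx hy => rw [map_add]; exact add_mem hx hy
  | tmul m j =>
    rw [mulMap_tmul, ← algebraMap_smul A (j : C) m]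
    exact Submodule.smul_mem_smul (Ideal.mem_map_of_mem _ j.2) Submodule.mem_top

theorem smul_mulMap (hJ2 : J * J = ⊥) (j : C) (hj : j ∈ J) (z : M ⊗[C] ↥J) :
    j • mulMap J A M z = 0 := by
  induction z using TensorProduct.induction_on with
  | zero => simp
  | add x y hx hy => rw [map_add, smul_add, hx, hy, add_zero]
  | tmul m j' =>
    have : j * (j' : C) ∈ J * J := Ideal.mul_mem_mul hj j'.2
    rw [hJ2, Ideal.mem_bot] at this
    rw [mulMap_tmul, smul_smul, this, zero_smul]

variable {N : Type w} [AddCommGroup N] [Module A N] [Module C N] [IsScalarTower C A N]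

theorem mulMap_naturality (f : M →ₗ[A] N) (z : M ⊗[C] ↥J) :
    mulMap J A N (LinearMap.rTensor ↥J (f.restrictScalars C) z) = f (mulMap J A M z) := by
  induction z using TensorProduct.induction_on with
  | zero => rw [map_zero, map_zero, map_zero, map_zero]
  | add x y hx hy => rw [map_add, map_add, map_add, map_add, hx, hy]
  | tmul m j =>
    rw [LinearMap.rTensor_tmul, mulMap_tmul, mulMap_tmul, f.map_smul_of_tower]
    rfl

theorem exists_tmul_of_rTensor_eq_zero (f : M →ₗ[A] N) (hf : Function.Surjective f)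
    {z : M ⊗[C] ↥J} (hz : LinearMap.rTensor ↥J (f.restrictScalars C) z = 0) :
    ∃ w : ↥(LinearMap.ker (f.restrictScalars C)) ⊗[C] ↥J,
      LinearMap.rTensor ↥J (LinearMap.ker (f.restrictScalars C)).subtype w = z :=
  ((rTensor_exact ↥J (LinearMap.exact_subtype_ker_map (f.restrictScalars C)) hf) z).1 hz

theorem mulMap_mem_of_rTensor_eq_zero (f : M →ₗ[A] N) (hf : Function.Surjective f)
    (P : Submodule A M) (hP : ∀ m, f m = 0 → ∀ j ∈ J, j • m ∈ P)
    {z : M ⊗[C] ↥J} (hz : LinearMap.rTensor ↥J (f.restrictScalars C) z = 0) :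
    mulMap J A M z ∈ P := by
  obtain ⟨w, rfl⟩ := exists_tmul_of_rTensor_eq_zero J f hf hz
  clear hz
  induction w using TensorProduct.induction_on with
  | zero => rw [map_zero, map_zero]; exact zero_mem _
  | add x y hx hy => rw [map_add, map_add]; exact add_mem hx hy
  | tmul m j =>
    rw [LinearMap.rTensor_tmul, mulMap_tmul]
    exact hP _ m.2 j j.2

theorem rTensor_injective_of_forall (f : M →ₗ[A] N) (hf : Function.Surjective f)
    (h : ∀ m, f m = 0 → ∀ j : J, m ⊗ₜ[C] j = (0 : M ⊗[C] ↥J)) :
    Function.Injective (LinearMap.rTensor ↥J (f.restrictScalars C)) := by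
  rw [injective_iff_map_eq_zero]
  intro z hz
  obtain ⟨w, rfl⟩ := exists_tmul_of_rTensor_eq_zero J f hf hz
  clear hz
  induction w using TensorProduct.induction_on with
  | zero => rw [map_zero]
  | add x y hx hy => rw [map_add, hx, hy, add_zero]
  | tmul m j =>
    rw [LinearMap.rTensor_tmul]
    exact h _ m.2 j

/-- If `I * J = 0`, reduction modulo `I` identifies `M ⊗ J` with `(M ⧸ I M) ⊗ J`. -/
theorem bijective_rTensor_mkQ (I : Ideal C) (hIJ : I * J = ⊥) :
    Function.Bijective (LinearMap.rTensor ↥J
      ((I.map (algebraMap C A) • (⊤ : Submodule A M)).mkQ.restrictScalars C)) := by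
  refine ⟨rTensor_injective_of_forall J _ (Submodule.mkQ_surjective _) ?_,
    LinearMap.rTensor_surjective _ (Submodule.mkQ_surjective _)⟩
  intro m hm j
  let P : Submodule A M :=
    { carrier := {x | ∀ j : J, x ⊗ₜ[C] j = (0 : M ⊗[C] ↥J)}
      zero_mem' := fun j => zero_tmul _ j
      add_mem' := fun {x y} hx hy j => by rw [add_tmul, hx j, hy j, add_zero]
      smul_mem' := fun a x hx j => by rw [← smul_tmul', hx j, smul_zero] }
  have hle : I.map (algebraMap C A) • (⊤ : Submodule A M) ≤ P := map_smul_top_le I P <| by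
    intro c hc x j
    have h0 : c • j = 0 := by
      apply Subtype.ext
      have : c * (j : C) ∈ I * J := Ideal.mul_mem_mul hc j.2
      rwa [hIJ, Ideal.mem_bot] at this
    rw [smul_tmul, h0, tmul_zero]
  exact hle ((Submodule.Quotient.mk_eq_zero _).1 hm) j

end

/-- Nilpotent local criterion of flatness. -/
theorem flat_of_nilpotent_of_injective {R : Type u} [CommRing R] {M : Type w} [AddCommGroup M]
    [Module R M] (I : Ideal R) {n : ℕ} (hI : I ^ n = ⊥) [Module.Flat (R ⧸ I) ((R ⧸ I) ⊗[R] M)]
    (h : Function.Injective (I.subtype.lTensor M)) : Module.Flat R M :=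
  LocalFlat.Basic.flat_of_tor1Zero fun _ _ =>
    LocalFlat.Basic.Tor1Zero.of_pow_smul_eq_zero (I := I) h n fun r hr x => by
      rw [hI, Ideal.mem_bot] at hr
      rw [hr, zero_smul]

end Groth.Agent.Lib.ArtinFun
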