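import Groth.Agent.Lib.ArtinFun.PsExtension
import Groth.Agent.Lib.ArtinFun.Presentation
import Groth.Agent.Lib.ArtinFun.Estimates
import Groth.Agent.Lib.ArtinFun.SmoothAdic
import Groth.Agent.H24.PowerSeries
import Mathlib.RingTheory.MvPowerSeries.Derivative
import Mathlib.RingTheory.Nakayama
import Mathlib.RingTheory.Filtration

/-!
# The lifting criterion for derivations characterises power series rings in characteristic zero
-/

universe u v

open CategoryTheory ArtFun MvPowerSeries

set_option linter.style.haveILetI false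

namespace Groth.Agent.Lib.ArtinFun

variable {k : Type u} [Field k]

/-- A minimal presentation by a power series ring. -/
theorem exists_minimal_ps_presentation (R : CRing k k) :
    ∃ (d : ℕ) (q : MvPowerSeries (Fin d) k →ₐ[k] R.carrier), Function.Surjective q ∧
      RingHom.ker q ≤ IsLocalRing.maximalIdeal (MvPowerSeries (Fin d) k) ^ 2 := by
  haveI : IsAdicComplete (IsLocalRing.maximalIdeal k) k := by
    rw [IsLocalRing.maximalIdeal_eq_bot]
    infer_instance
  have hk : Function.Surjective (algebraMap k k) := fun c => ⟨c, rfl⟩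
  let b : CRing k k := baseCRing (Λ := k) hk
  let i₀ : b.carrier →ₐ[k] R.carrier := Algebra.ofId k R.carrier
  have hi₀ : R.res.comp i₀ = b.res := AlgHom.ext fun c => R.res.commutes c
  set m := IsLocalRing.maximalIdeal R.carrier with hm
  obtain ⟨d, x, hxm, hspan, hindep⟩ := exists_min_gens (S := R.carrier) m (m ^ 2)
    (sup_eq_left.2 (Ideal.pow_le_self two_ne_zero))
  have hxres : ∀ i, R.res (x i) = 0 := fun i => (CRing.mem_maximalIdeal_iff R _).1 (hxm i)
  obtain ⟨q, hq, hqC, hqX⟩ := exists_algHom_ps b R i₀ hi₀ x hxres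
  have hqs : Function.Surjective q := surjective_of_span b R i₀ hi₀ q hqC x hqX hxres
    (hspan.ge.trans (sup_le_sup_right le_sup_left _))
  let q' : MvPowerSeries (Fin d) k →ₐ[k] R.carrier := q
  refine ⟨d, q', hqs, fun f hf => ?_⟩
  have hf0 : constantCoeff f = 0 := by
    have h : R.res (q' f) = constantCoeff f := AlgHom.congr_fun hq f
    rw [RingHom.mem_ker.1 hf, map_zero] at h
    exact h.symm
  obtain ⟨h, hh⟩ := exists_eq_C_add_sum f
  rw [hf0, map_zero, zero_add] at hh
  have hsum : ∑ i, q' (h i) * x i = 0 := by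
    have h0 : q' (∑ i, h i * X i) = 0 := by
      refine (congrArg q' hh).symm.trans ?_
      exact hf
    rw [map_sum] at h0
    refine Eq.trans (Finset.sum_congr rfl fun i _ => ?_) h0
    rw [map_mul]
    exact congrArg _ (hqX i).symm
  have hhm : ∀ i, h i ∈ IsLocalRing.maximalIdeal (MvPowerSeries (Fin d) k) := fun i => by
    have h1 := hindep (fun i => q' (h i)) (by rw [hsum]; exact zero_mem _) i
    rw [CRing.mem_maximalIdeal_iff] at h1
    exact (mem_maximalIdeal_ps b d (h i)).2 ((AlgHom.congr_fun hq (h i)).symm.trans h1)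
  rw [hh]
  refine Ideal.sum_mem _ fun i _ => ?_
  rw [pow_two]
  exact Ideal.mul_mem_mul (hhm i) (span_X_le_maximalIdeal b d (Ideal.subset_span ⟨i, rfl⟩))

section Derivation

variable {d : ℕ} {A : Art k k}

lemma map_mem_maximalIdeal {P : Type u} [CommRing P] [IsLocalRing P] [Algebra k P] (π : P →ₐ[k] A)
    {a : P} (ha : a ∈ IsLocalRing.maximalIdeal P) : π a ∈ IsLocalRing.maximalIdeal A := by
  rw [Art.mem_maximalIdeal_iff]
  exact (res_eq_zero_iff (A.res.comp π) (fun c => ⟨algebraMap k P c, (A.res.comp π).commutes c⟩) a).2 ha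

/-- A derivation of a power series ring into a module over an artinian quotient is determined by the
partial derivatives. -/
theorem der_eq_sum {M : Type u} [AddCommGroup M] [Module A M]
    (π : MvPowerSeries (Fin d) k →ₐ[k] A) (D : MvPowerSeries (Fin d) k → M)
    (hadd : ∀ f g, D (f + g) = D f + D g) (hmul : ∀ f g, D (f * g) = π f • D g + π g • D f)
    (hC : ∀ c, D (MvPowerSeries.C c) = 0) (f : MvPowerSeries (Fin d) k) :
    D f = ∑ i, π (pderiv k i f) • D (X i) := by
  classical
  let E : MvPowerSeries (Fin d) k → M := fun g => D g - ∑ i, π (pderiv k i g) • D (X i)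
  have Eadd : ∀ f g, E (f + g) = E f + E g := fun f g => by
    simp only [E, map_add, add_smul, Finset.sum_add_distrib, hadd]
    abel
  have Emul : ∀ f g, E (f * g) = π f • E g + π g • E f := fun f g => by
    simp only [E, Derivation.leibniz, smul_eq_mul, map_add, map_mul, add_smul, Finset.sum_add_distrib,
      hmul, smul_sub, Finset.smul_sum, mul_smul]
    abel
  have EC : ∀ c, E (MvPowerSeries.C c) = 0 := fun c => by simp [E, hC]
  have EX : ∀ i, E (X i) = 0 := fun i => by
    simp only [E, pderiv_X]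
    rw [Finset.sum_eq_single i (fun j _ hj => by rw [Pi.single_eq_of_ne hj.symm, map_zero, zero_smul])
      (fun h => absurd (Finset.mem_univ i) h), Pi.single_eq_same, map_one, one_smul, sub_self]
  have Epoly : ∀ p : MvPolynomial (Fin d) k, E (p : MvPowerSeries (Fin d) k) = 0 := fun p => by
    induction p using MvPolynomial.induction_on with
    | C c => rw [MvPolynomial.coe_C]; exact EC c
    | add p q hp hq => rw [MvPolynomial.coe_add, Eadd, hp, hq, add_zero]
    | mul_X p i hp => rw [MvPolynomial.coe_mul, MvPolynomial.coe_X, Emul, EX, hp, smul_zero, smul_zero, add_zero]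
  obtain ⟨N, hN⟩ := exists_maximalIdeal_pow_eq_bot A
  have hπN : ∀ a ∈ IsLocalRing.maximalIdeal (MvPowerSeries (Fin d) k) ^ N, π a = 0 := fun a ha => by
    have h1 : (IsLocalRing.maximalIdeal (MvPowerSeries (Fin d) k)).map π ≤ IsLocalRing.maximalIdeal A :=
      Ideal.map_le_iff_le_comap.2 fun x hx => map_mem_maximalIdeal π hx
    have h2 := Ideal.pow_right_mono h1 N (Ideal.map_pow π _ N ▸ Ideal.mem_map_of_mem π ha)
    rwa [hN, Ideal.mem_bot] at h2
  have Ehigh : ∀ a ∈ IsLocalRing.maximalIdeal (MvPowerSeries (Fin d) k) ^ (N + N), E a = 0 := fun a ha => by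
    rw [pow_add] at ha
    refine Submodule.mul_induction_on ha (fun x hx y hy => ?_) fun x y hx hy => by rw [Eadd, hx, hy, add_zero]
    rw [Emul, hπN x hx, hπN y hy, zero_smul, zero_smul, add_zero]
  have hXm : Ideal.span (Set.range (X : Fin d → MvPowerSeries (Fin d) k)) ≤
      IsLocalRing.maximalIdeal (MvPowerSeries (Fin d) k) := by
    rw [Ideal.span_le]
    rintro _ ⟨i, rfl⟩
    exact Groth.Agent.H24.PowerSeries.X_mem k i
  have h1 := Ideal.pow_right_mono hXm (N + N)
    (Groth.Agent.Lib.FSAdic.PowerSeries.sub_truncTotal_mem f (N + N))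
  have h2 := Ehigh _ h1
  have h3 : E f = 0 := by
    have h4 := Eadd (f - ((truncTotal (N + N) f : MvPolynomial (Fin d) k) : MvPowerSeries (Fin d) k))
      ((truncTotal (N + N) f : MvPolynomial (Fin d) k) : MvPowerSeries (Fin d) k)
    rw [sub_add_cancel, h2, Epoly, add_zero] at h4
    exact h4
  exact sub_eq_zero.1 h3

end Derivation

/-- An ideal of power series stable under the derivatives is trivial in characteristic zero. -/
theorem eq_bot_of_pderiv_mem [CharZero k] {d : ℕ} (J : Ideal (MvPowerSeries (Fin d) k))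
    (hJ : J ≤ IsLocalRing.maximalIdeal (MvPowerSeries (Fin d) k))
    (h : ∀ f ∈ J, ∀ i, pderiv k i f ∈ J) : J = ⊥ := by
  classical
  suffices key : ∀ (n : ℕ) (f : MvPowerSeries (Fin d) k), f ∈ J → ∀ e : Fin d →₀ ℕ, e.degree = n →
      coeff e f = 0 from
    (Submodule.eq_bot_iff _).2 fun f hf => MvPowerSeries.ext fun e => by
      rw [map_zero]; exact key _ f hf e rfl
  intro n
  induction n with
  | zero =>
    intro f hf e he
    rw [(Finsupp.degree_eq_zero_iff e).1 he, coeff_zero_eq_constantCoeff_apply]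
    by_contra hc
    have hu : IsUnit f := isUnit_iff_constantCoeff.2 (isUnit_iff_ne_zero.2 hc)
    exact (IsLocalRing.mem_maximalIdeal f).1 (hJ hf) hu
  | succ n ih =>
    intro f hf e he
    obtain ⟨i, hi⟩ : ∃ i, e i ≠ 0 := by
      by_contra! h'
      have : e = 0 := Finsupp.ext h'
      rw [this] at he
      simp at he
    obtain ⟨e', rfl⟩ : ∃ e', e = e' + Finsupp.single i 1 := by
      refine ⟨e - Finsupp.single i 1, (tsub_add_cancel_of_le ?_).symm⟩
      rw [Finsupp.single_le_iff]
      omega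
    have hdeg : e'.degree = n := by
      rw [map_add, Finsupp.degree_single] at he
      omega
    have h2 := ih _ (h f hf i) e' hdeg
    rw [coeff_pderiv] at h2
    exact (mul_eq_zero.1 h2).resolve_right (Nat.cast_add_one_ne_zero _)

/-- Lifting of maps into split extensions forces smoothness in characteristic zero. -/
theorem ker_eq_bot_of_lifting [CharZero k] {d : ℕ} {R : Type u} [CommRing R] [Algebra k R]
    (q : MvPowerSeries (Fin d) k →ₐ[k] R) (hq : Function.Surjective q)
    (hker : RingHom.ker q ≤ IsLocalRing.maximalIdeal (MvPowerSeries (Fin d) k) ^ 2)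
    (H : ∀ (A : Art k k) (S : Submodule A (Fin d → A))
      (φ : R →ₐ[k] TrivSqZeroExt A ((Fin d → A) ⧸ S)),
        ∃ ψ : R →ₐ[k] TrivSqZeroExt A (Fin d → A),
          ∀ r, (ψ r).fst = (φ r).fst ∧ S.mkQ (ψ r).snd = (φ r).snd) :
    RingHom.ker q = ⊥ := by
  classical
  haveI := Groth.Agent.H24.PowerSeries.isRegularLocalRing_fin k d
  set n := IsLocalRing.maximalIdeal (MvPowerSeries (Fin d) k) with hn
  set J : Ideal (MvPowerSeries (Fin d) k) := RingHom.ker q with hJdef
  have hn2 : n ^ 2 ≤ n := Ideal.pow_le_self two_ne_zero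
  have hXm : ∀ i, (X i : MvPowerSeries (Fin d) k) ∈ n := Groth.Agent.H24.PowerSeries.X_mem k
  let resP : MvPowerSeries (Fin d) k →ₐ[k] k :=
    { constantCoeff with commutes' := fun c => constantCoeff_C c }
  have hder2 : ∀ f ∈ n ^ 2, ∀ i, pderiv k i f ∈ n := fun f hf i => by
    rw [pow_two] at hf
    refine Submodule.mul_induction_on hf (fun a ha b hb => ?_) fun a b ha hb => by rw [map_add]; exact add_mem ha hb
    rw [Derivation.leibniz, smul_eq_mul, smul_eq_mul]
    exact add_mem (n.mul_mem_right _ ha) (n.mul_mem_right _ hb)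
  refine eq_bot_of_pderiv_mem J (hker.trans hn2) fun f hf i => ?_
  -- it suffices to work modulo all powers of the maximal ideal
  suffices hN : ∀ N, pderiv k i f ∈ J ⊔ n ^ (N + 1) by
    rw [← Ideal.Quotient.eq_zero_iff_mem, ← Ideal.mem_bot]
    haveI : Nontrivial (MvPowerSeries (Fin d) k ⧸ J) := Ideal.Quotient.nontrivial_iff.2 fun h =>
      (IsLocalRing.maximalIdeal.isMaximal _).ne_top (top_le_iff.1 (h ▸ hker.trans hn2))
    haveI : IsLocalRing (MvPowerSeries (Fin d) k ⧸ J) :=
      IsLocalRing.of_surjective' (Ideal.Quotient.mk J) Ideal.Quotient.mk_surjective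
    rw [← Ideal.iInf_pow_eq_bot_of_isLocalRing (IsLocalRing.maximalIdeal (MvPowerSeries (Fin d) k ⧸ J))
      (IsLocalRing.maximalIdeal.isMaximal _).ne_top, Ideal.mem_iInf]
    intro N
    obtain ⟨a, ha, b, hb, hab⟩ := Submodule.mem_sup.1 (hN N)
    rw [← hab, map_add, Ideal.Quotient.eq_zero_iff_mem.2 ha, zero_add,
      ← IsLocalRing.map_maximalIdeal_of_surjective _ (Ideal.Quotient.mk_surjective (I := J)), ← Ideal.map_pow]
    exact Ideal.mem_map_of_mem _ (Ideal.pow_le_pow_right (Nat.le_succ N) hb)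
  intro N
  obtain ⟨A, π, hπs, hπk⟩ := exists_art_quot resP (J ⊔ n ^ (N + 1))
    (sup_le (hker.trans hn2) (Ideal.pow_le_self (Nat.succ_ne_zero N))) (N := N + 1) le_sup_right
  let v : MvPowerSeries (Fin d) k → (Fin d → A) := fun g l => π.1 (pderiv k l g)
  have hv_add : ∀ a b, v (a + b) = v a + v b := fun a b => funext fun l => by
    simp [v, map_add]
  have hv_mul : ∀ a b, v (a * b) = π.1 a • v b + π.1 b • v a := fun a b => funext fun l => by
    simp [v, Derivation.leibniz, map_add, map_mul]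
  have hv_alg : ∀ c, v (algebraMap k _ c) = 0 := fun c => funext fun l => by simp [v]
  let S : Submodule A (Fin d → A) := Submodule.span A (v '' (J : Set (MvPowerSeries (Fin d) k)))
  let Φ : MvPowerSeries (Fin d) k →ₐ[k] TrivSqZeroExt A ((Fin d → A) ⧸ S) :=
    { toFun := fun g => TrivSqZeroExt.inl (π.1 g) + TrivSqZeroExt.inr (S.mkQ (v g))
      map_one' := by
        have : v 1 = 0 := by rw [← map_one (algebraMap k (MvPowerSeries (Fin d) k))]; exact hv_alg 1
        rw [map_one, this, map_zero, TrivSqZeroExt.inr_zero, add_zero, TrivSqZeroExt.inl_one]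
      map_mul' := fun a b => by
        refine TrivSqZeroExt.ext ?_ ?_
        · simp
        · simp only [TrivSqZeroExt.snd_add, TrivSqZeroExt.snd_inl, TrivSqZeroExt.snd_inr, zero_add,
            TrivSqZeroExt.snd_mul, TrivSqZeroExt.fst_add, TrivSqZeroExt.fst_inl, TrivSqZeroExt.fst_inr,
            add_zero, op_smul_eq_smul, hv_mul, map_add, map_smul]
      map_zero' := by
        have : v 0 = 0 := funext fun l => by simp [v]
        rw [map_zero, this, map_zero, TrivSqZeroExt.inl_zero, TrivSqZeroExt.inr_zero, add_zero]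
      map_add' := fun a b => by
        rw [map_add, hv_add, map_add, TrivSqZeroExt.inl_add, TrivSqZeroExt.inr_add]
        abel
      commutes' := fun c => by
        rw [AlgHom.commutes, hv_alg, map_zero, TrivSqZeroExt.inr_zero, add_zero]
        rfl }
  have hπJ : ∀ j ∈ J, π.1 j = 0 := fun j hj => (hπk j).2 (Ideal.mem_sup_left hj)
  obtain ⟨φ, hφ⟩ := comp_lift_eq q hq Φ fun x hx => by
    have hxJ : x ∈ J := RingHom.mem_ker.2 hx
    show TrivSqZeroExt.inl (π.1 x) + TrivSqZeroExt.inr (S.mkQ (v x)) = 0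
    rw [hπJ x hxJ, TrivSqZeroExt.inl_zero, zero_add, Submodule.mkQ_apply,
      (Submodule.Quotient.mk_eq_zero S).2 (Submodule.subset_span ⟨x, hxJ, rfl⟩), TrivSqZeroExt.inr_zero]
  obtain ⟨ψ, hψ⟩ := H A S φ
  have hfst : ∀ g, (ψ (q g)).fst = π.1 g := fun g => by
    rw [(hψ (q g)).1, hφ]
    show (TrivSqZeroExt.inl (π.1 g) + TrivSqZeroExt.inr (S.mkQ (v g))).fst = _
    simp
  have hsnd : ∀ g, S.mkQ (ψ (q g)).snd = S.mkQ (v g) := fun g => by
    rw [(hψ (q g)).2, hφ]
    show (TrivSqZeroExt.inl (π.1 g) + TrivSqZeroExt.inr (S.mkQ (v g))).snd = _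
    simp
  let D : MvPowerSeries (Fin d) k → (Fin d → A) := fun g => (ψ (q g)).snd
  have hD : ∀ g, D g = ∑ l, π.1 (pderiv k l g) • D (X l) := fun g => by
    refine der_eq_sum π.1 D (fun a b => by simp [D]) (fun a b => ?_) (fun c => ?_) g
    · simp only [D, map_mul, TrivSqZeroExt.snd_mul, hfst, op_smul_eq_smul]
    · have hc : (MvPowerSeries.C c : MvPowerSeries (Fin d) k) = algebraMap k _ c := rfl
      simp only [D, hc, AlgHom.commutes]
      rfl
  have hS : S ≤ IsLocalRing.maximalIdeal A • S := by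
    rw [Submodule.span_le]
    rintro _ ⟨j, hj, rfl⟩
    have h0 : D j = 0 := by
      simp only [D, show q j = 0 from hj, map_zero]
      rfl
    have hvX : ∀ l, v (X l) = Pi.single l 1 := fun l => funext fun l' => by
      simp only [v, pderiv_X]
      by_cases hl : l = l'
      · subst hl; simp
      · rw [Pi.single_eq_of_ne hl, Pi.single_eq_of_ne (Ne.symm hl), map_zero]
    have key : v j = - ∑ l, π.1 (pderiv k l j) • (D (X l) - v (X l)) := by
      have h1 := hD j
      rw [h0] at h1
      simp only [smul_sub, Finset.sum_sub_distrib, ← h1, zero_sub, neg_neg, hvX]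
      ext l'
      simp [v, Finset.sum_apply, Pi.single_apply]
    rw [SetLike.mem_coe, key]
    refine neg_mem (Submodule.sum_mem _ fun l _ => Submodule.smul_mem_smul
      (map_mem_maximalIdeal π.1 (hder2 j (hker hj) l)) ?_)
    exact (Submodule.Quotient.eq S).1 (hsnd (X l))
  haveI : IsNoetherianRing A := inferInstance
  have hbot : S = ⊥ := Submodule.eq_bot_of_le_smul_of_le_jacobson_bot _ S (IsNoetherian.noetherian S) hS
    (IsLocalRing.maximalIdeal_le_jacobson ⊥)
  have hvf : v f = 0 := by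
    have : v f ∈ S := Submodule.subset_span ⟨f, hf, rfl⟩
    rwa [hbot, Submodule.mem_bot] at this
  exact (hπk _).1 (congrFun hvf i)

/-- Power series rings satisfy the lifting property. -/
theorem exists_lift_trivSqZero {d : ℕ} {A : Art k k} {M M' : Type u} [AddCommGroup M] [Module A M]
    [Module (A : Type u)ᵐᵒᵖ M] [IsCentralScalar A M] [Module k M] [IsScalarTower k A M]
    [IsScalarTower k (A : Type u)ᵐᵒᵖ M]
    [AddCommGroup M'] [Module A M'] [Module (A : Type u)ᵐᵒᵖ M'] [IsCentralScalar A M'] [Module k M']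
    [IsScalarTower k A M'] [IsScalarTower k (A : Type u)ᵐᵒᵖ M']
    (f : M' →ₗ[A] M) (hf : Function.Surjective f) (φ : MvPowerSeries (Fin d) k →ₐ[k] TrivSqZeroExt A M) :
    ∃ ψ : MvPowerSeries (Fin d) k →ₐ[k] TrivSqZeroExt A M',
      ∀ r, (ψ r).fst = (φ r).fst ∧ f (ψ r).snd = (φ r).snd := by
  classical
  let π : MvPowerSeries (Fin d) k →ₐ[k] A := (TrivSqZeroExt.fstHom k A M).comp φ
  choose y hy using fun l => hf (φ (X l)).snd
  let E : MvPowerSeries (Fin d) k → M' := fun g => ∑ l, π (pderiv k l g) • y l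
  have hEadd : ∀ a b, E (a + b) = E a + E b := fun a b => by
    simp only [E, map_add, add_smul, Finset.sum_add_distrib]
  have hEmul : ∀ a b, E (a * b) = π a • E b + π b • E a := fun a b => by
    simp only [E, Derivation.leibniz, smul_eq_mul, map_add, map_mul, add_smul, Finset.sum_add_distrib,
      Finset.smul_sum, mul_smul]
  have hEalg : ∀ c, E (algebraMap k _ c) = 0 := fun c => by simp [E]
  refine ⟨{ toFun := fun g => TrivSqZeroExt.inl (π g) + TrivSqZeroExt.inr (E g)
            map_one' := ?_, map_mul' := ?_, map_zero' := ?_, map_add' := ?_, commutes' := ?_ },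
    fun r => ⟨?_, ?_⟩⟩
  · have : E 1 = 0 := by rw [← map_one (algebraMap k (MvPowerSeries (Fin d) k))]; exact hEalg 1
    rw [map_one, this, TrivSqZeroExt.inr_zero, add_zero, TrivSqZeroExt.inl_one]
  · intro a b
    refine TrivSqZeroExt.ext ?_ ?_
    · simp
    · simp only [TrivSqZeroExt.snd_add, TrivSqZeroExt.snd_inl, TrivSqZeroExt.snd_inr, zero_add,
        TrivSqZeroExt.snd_mul, TrivSqZeroExt.fst_add, TrivSqZeroExt.fst_inl, TrivSqZeroExt.fst_inr,
        add_zero, op_smul_eq_smul, hEmul]
  · simp [E]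
  · intro a b
    rw [map_add, hEadd, TrivSqZeroExt.inl_add, TrivSqZeroExt.inr_add]
    abel
  · intro c
    rw [AlgHom.commutes, hEalg, TrivSqZeroExt.inr_zero, add_zero]
    rfl
  · show (TrivSqZeroExt.inl (π r) + TrivSqZeroExt.inr (E r)).fst = _
    simp [π]
  · show f (TrivSqZeroExt.inl (π r) + TrivSqZeroExt.inr (E r)).snd = _
    simp only [TrivSqZeroExt.snd_add, TrivSqZeroExt.snd_inl, TrivSqZeroExt.snd_inr, zero_add, E, map_sum,
      map_smul, hy]
    refine (der_eq_sum π (fun g => (φ g).snd) (fun a b => by simp) (fun a b => ?_) (fun c => ?_) r).symm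
    · simp [π, TrivSqZeroExt.snd_mul, op_smul_eq_smul]
    · have hc : (MvPowerSeries.C c : MvPowerSeries (Fin d) k) = algebraMap k _ c := rfl
      simp only [hc, AlgHom.commutes]
      rfl

/-- A split square-zero extension as an artinian object. -/
theorem exists_art_trivSqZero (A : Art k k) (M : Type u) [AddCommGroup M] [Module A M]
    [Module (A : Type u)ᵐᵒᵖ M] [IsCentralScalar A M] [Module k M] [IsScalarTower k A M]
    [IsScalarTower k (A : Type u)ᵐᵒᵖ M] [Module.Finite A M] :
    ∃ (E : Art k k) (π : E ⟶ A) (ι : A ⟶ E) (e : TrivSqZeroExt A M ≃ₐ[k] E.carrier),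
      ι ≫ π = 𝟙 A ∧ RingHom.ker π.toAlgHom * RingHom.ker π.toAlgHom = ⊥ ∧
        (∀ x, π (e x) = x.fst) ∧ ∀ a, ι a = e (TrivSqZeroExt.inl a) := by
  haveI : Nontrivial (TrivSqZeroExt A M) := ⟨⟨0, 1, fun h => zero_ne_one
    (congrArg TrivSqZeroExt.fst h)⟩⟩
  haveI : IsLocalRing (TrivSqZeroExt A M) := IsLocalRing.of_isUnit_or_isUnit_one_sub_self fun x => by
    rw [TrivSqZeroExt.isUnit_iff_isUnit_fst, TrivSqZeroExt.isUnit_iff_isUnit_fst, TrivSqZeroExt.fst_sub,
      TrivSqZeroExt.fst_one]
    exact IsLocalRing.isUnit_or_isUnit_one_sub_self x.fst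
  haveI : Module.Finite A (TrivSqZeroExt A M) := inferInstanceAs (Module.Finite A (A × M))
  haveI : IsArtinianRing (TrivSqZeroExt A M) := IsArtinianRing.of_finite A _
  let res : TrivSqZeroExt A M →ₐ[k] k := A.res.comp (TrivSqZeroExt.fstHom k A M)
  let E : Art k k :=
    { carrier := TrivSqZeroExt A M
      res := res
      res_surjective := fun c => ⟨algebraMap k _ c, res.commutes c⟩ }
  let π : E ⟶ A := Art.homMk (A := E) (TrivSqZeroExt.fstHom k A M) rfl
  let ι : A ⟶ E := Art.homMk (B := E) (TrivSqZeroExt.inlAlgHom k A M) (AlgHom.ext fun _ => rfl)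
  refine ⟨E, π, ι, AlgEquiv.refl, hom_ext_apply fun a => rfl, ?_, fun x => rfl, fun a => rfl⟩
  rw [← le_bot_iff, Ideal.mul_le]
  intro x hx y hy
  have hx0 : (x : TrivSqZeroExt A M).fst = 0 := hx
  have hy0 : (y : TrivSqZeroExt A M).fst = 0 := hy
  rw [Ideal.mem_bot]
  show (x : TrivSqZeroExt A M) * y = 0
  refine TrivSqZeroExt.ext ?_ ?_
  · rw [TrivSqZeroExt.fst_mul, hx0, zero_mul]; rfl
  · rw [TrivSqZeroExt.snd_mul, hx0, hy0, zero_smul, MulOpposite.op_zero, zero_smul, add_zero]; rfl

end Groth.Agent.Lib.ArtinFun
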