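import Groth.Agent.Lib.CotTwo.SmoothAwayT1
import Groth.Agent.S12283
import Mathlib.RingTheory.Jacobson.Artinian
import Mathlib.RingTheory.Spectrum.Prime.Jacobson

/-!
# `T¹` is finite dimensional when the nonsmooth locus is finite
-/

noncomputable section

universe u

open CotT

namespace Groth.Agent.Lib.ArtinFun.T1Finite

open Groth.Agent.Lib.CotTwo

/-- A finite module with finite support over a finite type algebra over a field is finite dimensional. -/
theorem finite_of_finite_support {k B : Type u} [Field k] [CommRing B] [Algebra k B] [Algebra.FiniteType k B]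
    {M : Type u} [AddCommGroup M] [Module B M] [Module k M] [IsScalarTower k B M] [Module.Finite B M]
    {S : Set (PrimeSpectrum B)} (hS : S.Finite) (h : PrimeSpectrum.zeroLocus (Module.annihilator B M : Set B) ⊆ S) :
    Module.Finite k M := by
  let J := Module.annihilator B M
  haveI : IsJacobsonRing (B ⧸ J) := isJacobsonRing_of_finiteType (A := k)
  have hJ : J = Module.annihilator B M := rfl
  haveI : Finite (PrimeSpectrum (B ⧸ J)) := by
    refine @Finite.of_injective _ _ hS.to_subtype (fun p => ⟨PrimeSpectrum.comap (Ideal.Quotient.mk J) p, h ?_⟩)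
      fun p q hpq => PrimeSpectrum.comap_injective_of_surjective _ Ideal.Quotient.mk_surjective (congrArg Subtype.val hpq)
    intro b hb
    show Ideal.Quotient.mk J b ∈ p.asIdeal
    rw [Ideal.Quotient.eq_zero_iff_mem.2 (show b ∈ J from hb)]
    exact zero_mem _
  haveI : DiscreteTopology (PrimeSpectrum (B ⧸ J)) := JacobsonSpace.discreteTopology (Set.toFinite _)
  haveI : Ring.KrullDimLE 0 (B ⧸ J) :=
    (PrimeSpectrum.discreteTopology_iff_finite_and_krullDimLE_zero.mp inferInstance).right
  haveI : IsNoetherianRing (B ⧸ J) := Algebra.FiniteType.isNoetherianRing k _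
  haveI : IsArtinianRing (B ⧸ J) := isArtinianRing_iff_isNoetherianRing_krullDimLE_zero.2 ⟨inferInstance, inferInstance⟩
  haveI : Module.Finite k (B ⧸ J) := (Module.finite_iff_isArtinianRing k (B ⧸ J)).2 inferInstance
  have hM : Module.IsTorsionBySet B M (J : Set B) := fun m a => Module.mem_annihilator.1 a.2 m
  letI : Module (B ⧸ J) M := hM.module
  haveI : IsScalarTower B (B ⧸ J) M := hM.isScalarTower
  haveI : IsScalarTower k (B ⧸ J) M := IsScalarTower.of_algebraMap_smul fun c m => by
    rw [IsScalarTower.algebraMap_apply k B (B ⧸ J), algebraMap_smul (B ⧸ J) (algebraMap k B c) m,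
      algebraMap_smul B c m]
  haveI : Module.Finite (B ⧸ J) M := Module.Finite.of_restrictScalars_finite B (B ⧸ J) M
  exact Module.Finite.trans (B ⧸ J) M

/-- A finite presentation in the universe of the algebra. -/
theorem exists_presentation (k B : Type u) [Field k] [CommRing B] [Algebra k B] [Algebra.FiniteType k B] :
    ∃ (ι σ : Type u) (_ : Finite ι) (_ : Finite σ), Nonempty (Algebra.Presentation k B ι σ) := by
  haveI : Algebra.FinitePresentation k B := Algebra.FinitePresentation.of_finiteType.1 inferInstance
  exact ⟨ULift.{u} (Fin _), ULift.{u} (Fin _), inferInstance, inferInstance,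
    ⟨(Algebra.Presentation.ofFinitePresentation k B).reindex Equiv.ulift Equiv.ulift⟩⟩

variable {k B : Type u} [Field k] [CommRing B] [Algebra k B] [Algebra.FiniteType k B] {ι σ : Type u} [Finite σ]
  (P : Algebra.Presentation k B ι σ)

theorem pow_smul_T1_eq_zero {t : B} (ht : (PrimeSpectrum.basicOpen t : Set (PrimeSpectrum B)) ⊆ Algebra.smoothLocus k B) :
    ∃ N : ℕ, ∀ x : T1 P B, t ^ N • x = 0 := by
  obtain ⟨n, f, hf⟩ := Algebra.FiniteType.iff_quotient_mvPolynomial''.1 (inferInstance : Algebra.FiniteType k B)
  obtain ⟨N, s, hs⟩ := NoSmooth.exists_splitting_pow f hf t ht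
  obtain ⟨e⟩ := (S12283.result k B ι σ _ _ P (CotT.canon k B) B).2.1
  exact ⟨N, fun x => e.injective (by
    rw [map_smul, map_zero]; exact SmoothAway.smul_T1_eq_zero f hf (t ^ N) s hs (e x))⟩

/-- **`T¹` is finite dimensional when the nonsmooth locus is finite.** -/
theorem finite_T1 (h : (Algebra.smoothLocus k B)ᶜ.Finite) : Module.Finite k (T1 P B) := by
  haveI : IsNoetherianRing B := Algebra.FiniteType.isNoetherianRing k B
  haveI : Module.Finite B (L1 P) := Module.Finite.of_basis (L1basis P)
  haveI : Module.Free B (L1 P) := Module.Free.of_basis (L1basis P)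
  haveI : Module.Finite B (L1 P →ₗ[B] B) := inferInstance
  haveI : IsNoetherian B (L1 P →ₗ[B] B) := inferInstance
  refine finite_of_finite_support h fun p hp hps => ?_
  obtain ⟨_, ⟨t, rfl⟩, hpt, htU⟩ := PrimeSpectrum.isTopologicalBasis_basic_opens.exists_subset_of_mem_open hps
    (haveI : Algebra.FinitePresentation k B := Algebra.FinitePresentation.of_finiteType.1 inferInstance
     Algebra.isOpen_smoothLocus)
  obtain ⟨N, hN⟩ := pow_smul_T1_eq_zero P htU
  exact hpt (p.2.mem_of_pow_mem N (hp (Module.mem_annihilator.2 hN)))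

end Groth.Agent.Lib.ArtinFun.T1Finite
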