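import Groth.Agent.Lib.ArtinFun.Basic
import Groth.Prelude.Def_ArtFun3
import Mathlib.LinearAlgebra.TensorProduct.Basis
import Mathlib.LinearAlgebra.Isomorphisms

/-!
# Obstructions are spanned by the obstructions along tiny extensions
-/

universe u v

open CategoryTheory ArtFun
open scoped TensorProduct

namespace Groth.Agent.Lib.ArtinFun

variable {k : Type u} [Field k] {F : Art k k ⥤ Type v} {V : Type u} [AddCommGroup V] [Module k V]

/-- A functional on the kernel of a semismall extension gives a small quotient extension. -/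
theorem exists_tiny_quot (T : ObsTheory F V) {C' C : Art k k} (p : C' ⟶ C)
    (hp : Art.IsSemismallExt p) (u : F.obj C) (χ : ↥(RingHom.ker p.toAlgHom) →ₗ[k] k)
    (hχ : Function.Surjective χ) :
    ∃ (B' : Art k k) (t : B' ⟶ C) (ht : Art.IsSmallExt t) (φ : ↥(RingHom.ker t.toAlgHom) ≃ₗ[k] k),
      TensorProduct.rid k V (LinearMap.lTensor V χ (T.obs p hp u)) =
        TensorProduct.rid k V (LinearMap.lTensor V φ.toLinearMap (T.obs t ht.isSemismallExt u)) := by
  have hsm : ∀ (a : C') (j : ↥(RingHom.ker p.toAlgHom)), a * (j : C') = C'.res a • (j : C') := by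
    intro a j
    have h0 : (a - algebraMap k C' (C'.res a)) * (j : C') = 0 :=
      IsSemismallExt.mul_eq_zero hp (by rw [Art.mem_maximalIdeal_iff, map_sub, AlgHom.commutes]; simp)
        ((mem_ker p _).1 j.2)
    rw [Algebra.smul_def, ← sub_eq_zero, ← sub_mul, h0]
  let K : Ideal C' :=
    { carrier := {x | ∃ h : x ∈ RingHom.ker p.toAlgHom, χ ⟨x, h⟩ = 0}
      add_mem' := fun {x y} ⟨hx, hx'⟩ ⟨hy, hy'⟩ => ⟨add_mem hx hy, by
        have := χ.map_add ⟨x, hx⟩ ⟨y, hy⟩
        rw [hx', hy', add_zero] at this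
        exact this⟩
      zero_mem' := ⟨zero_mem _, χ.map_zero⟩
      smul_mem' := fun a x ⟨hx, hx'⟩ => ⟨Ideal.mul_mem_left _ a hx, by
        have e : (⟨a * x, Ideal.mul_mem_left _ a hx⟩ : ↥(RingHom.ker p.toAlgHom)) =
            C'.res a • ⟨x, hx⟩ := Subtype.ext (hsm a ⟨x, hx⟩)
        change χ ⟨a * x, _⟩ = 0
        rw [e, map_smul, hx', smul_zero]⟩ }
  have hKJ : K ≤ RingHom.ker p.toAlgHom := fun x hx => hx.1
  have hK : K ≤ IsLocalRing.maximalIdeal C' := hKJ.trans (ker_le_maximalIdeal p)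
  set t := Art.quotFactor hK p hKJ with htdef
  let π : ↥(RingHom.ker p.toAlgHom) →ₗ[k] ↥(RingHom.ker t.toAlgHom) :=
    (Art.kerToQuot hK p hKJ).restrictScalars k
  have hπ : Function.Surjective π := by
    intro x
    obtain ⟨a, ha⟩ := Art.quotMk_surjective C' K hK x.1
    have hx := (mem_ker t _).1 x.2
    rw [← ha, htdef, quotFactor_quotMk_apply] at hx
    exact ⟨⟨a, (mem_ker p a).2 hx⟩, Subtype.ext ha⟩
  have hker : ∀ j, π j = 0 ↔ χ j = 0 := fun j => by
    rw [← Submodule.coe_eq_zero]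
    exact (quotMk_eq_zero_iff hK (j : C')).trans ⟨fun h => h.2, fun h => ⟨j.2, h⟩⟩
  have hkers : π.ker = χ.ker := by
    ext j; exact hker j
  let φ : ↥(RingHom.ker t.toAlgHom) ≃ₗ[k] k :=
    ((π.quotKerEquivOfSurjective hπ).symm.trans (Submodule.quotEquivOfEq _ _ hkers)).trans
      (χ.quotKerEquivOfSurjective hχ)
  have hφ : ∀ j, φ (π j) = χ j := fun j => by
    have e : (π.quotKerEquivOfSurjective hπ).symm (π j) = Submodule.Quotient.mk j := by
      rw [LinearEquiv.symm_apply_eq]; rfl
    change χ.quotKerEquivOfSurjective hχ (Submodule.quotEquivOfEq _ _ hkers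
      ((π.quotKerEquivOfSurjective hπ).symm (π j))) = χ j
    rw [e]
    rfl
  obtain ⟨j₀, hj₀⟩ := hχ 1
  have hts : Function.Surjective t := quotFactor_surjective hK p hKJ hp.1
  have hm : ∀ b ∈ IsLocalRing.maximalIdeal (Art.quot C' K hK), b * (π j₀).1 = 0 := by
    intro b hb
    obtain ⟨a, rfl⟩ := Art.quotMk_surjective C' K hK b
    rw [Art.mem_maximalIdeal_iff, Art.res_app, ← Art.mem_maximalIdeal_iff] at hb
    change Ideal.Quotient.mk K a * Ideal.Quotient.mk K (j₀ : C') = 0
    rw [← map_mul, IsSemismallExt.mul_eq_zero hp hb ((mem_ker p _).1 j₀.2), map_zero]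
  have ht : Art.IsSmallExt t := by
    refine isSmallExt_of_generator t hts (π j₀).1 (le_antisymm ?_ ?_) ?_ hm
    · intro x hx
      obtain ⟨j, hj⟩ := hπ ⟨x, hx⟩
      have e : π j = χ j • π j₀ := φ.injective (by rw [map_smul, hφ, hφ, hj₀, smul_eq_mul, mul_one])
      rw [Ideal.mem_span_singleton']
      refine ⟨algebraMap k _ (χ j), ?_⟩
      rw [← Algebra.smul_def, ← show (π j).1 = x from congrArg Subtype.val hj, e]
      rfl
    · rw [Ideal.span_singleton_le_iff_mem]
      exact (π j₀).2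
    · intro h
      have h1 := hφ j₀
      rw [show π j₀ = 0 from Subtype.ext h, map_zero, hj₀] at h1
      exact zero_ne_one h1
  refine ⟨_, t, ht, φ, ?_⟩
  rw [T.obs_quot p hp K hK hKJ ht.isSemismallExt u, ← LinearMap.comp_apply (LinearMap.lTensor V φ.toLinearMap),
    ← LinearMap.lTensor_comp]
  congr 2
  exact congrArg _ (LinearMap.ext fun j => (hφ j).symm)

/-- Every obstruction is a combination of obstructions along small extensions. -/
theorem obs_mem_range_tiny (T : ObsTheory F V) {C' C : Art k k} (p : C' ⟶ C)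
    (hp : Art.IsSemismallExt p) (u : F.obj C) :
    T.obs p hp u ∈ LinearMap.range (LinearMap.rTensor (↥(RingHom.ker p.toAlgHom))
      (Submodule.span k {v : V | ∃ (B' B : Art k k) (t : B' ⟶ B) (ht : Art.IsSmallExt t)
          (w : F.obj B) (φ : ↥(RingHom.ker t.toAlgHom) ≃ₗ[k] k),
          v = TensorProduct.rid k V (LinearMap.lTensor V φ.toLinearMap (T.obs t ht.isSemismallExt w))}).subtype) := by
  classical
  set Ω := Submodule.span k {v : V | ∃ (B' B : Art k k) (t : B' ⟶ B) (ht : Art.IsSmallExt t)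
      (w : F.obj B) (φ : ↥(RingHom.ker t.toAlgHom) ≃ₗ[k] k),
      v = TensorProduct.rid k V (LinearMap.lTensor V φ.toLinearMap (T.obs t ht.isSemismallExt w))}
  let b := Module.Basis.ofVectorSpace k ↥(RingHom.ker p.toAlgHom)
  set x := T.obs p hp u
  have hcoef : ∀ i, TensorProduct.equivFinsuppOfBasisRight b x i =
      TensorProduct.rid k V (LinearMap.lTensor V (b.coord i) x) := fun i => by
    induction x using TensorProduct.induction_on with
    | zero => simp
    | tmul v j => simp [TensorProduct.equivFinsuppOfBasisRight_apply_tmul_apply]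
    | add y z hy hz => simp [hy, hz]
  rw [← (TensorProduct.equivFinsuppOfBasisRight b).symm_apply_apply x,
    TensorProduct.equivFinsuppOfBasisRight_symm_apply]
  refine Submodule.sum_mem _ fun i _ => ?_
  have hmem : TensorProduct.equivFinsuppOfBasisRight b x i ∈ Ω := by
    rw [hcoef]
    obtain ⟨B', t, ht, φ, e⟩ := exists_tiny_quot T p hp u (b.coord i)
      (fun c => ⟨c • b i, by simp⟩)
    exact e ▸ Submodule.subset_span ⟨B', C, t, ht, u, φ, rfl⟩
  exact ⟨(⟨_, hmem⟩ : Ω) ⊗ₜ b i, rfl⟩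

end Groth.Agent.Lib.ArtinFun
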