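import Groth.Agent.Lib.ArtinFun.Obstruction
import Groth.Agent.Lib.ArtinFun.Estimates
import Groth.Prelude.Def_W4bk4hartshdef114Obs

/-!
# Obstruction theories for an algebra, translated to `hR`
-/

universe u

open CategoryTheory ArtFun
open scoped TensorProduct

namespace Groth.Agent.Lib.ArtinFun

variable {k : Type u} [Field k] {R : Type u} [CommRing R] [Algebra k R] {resR : R →ₐ[k] k}
  {V : Type u} [AddCommGroup V] [Module k V]

lemma w4_isSmallExt {C' C : Art k k} (p : C' ⟶ C) (hp : Art.IsSemismallExt p) :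
    W4bk4hartshdef114.IsSmallExt k C' (RingHom.ker p.toAlgHom) := by
  refine ⟨C'.isLocalRing, C'.isArtinianRing, fun x => ⟨C'.res x, ?_⟩, fun x j hx hj => ?_, ?_⟩
  · rw [← IsLocalRing.mem_maximalIdeal, Art.mem_maximalIdeal_iff, map_sub, C'.res.commutes,
      Algebra.algebraMap_self_apply, sub_self]
  · rw [← IsLocalRing.mem_maximalIdeal] at hx
    exact IsSemismallExt.mul_eq_zero hp hx ((mem_ker p j).1 hj)
  · intro h
    have h1 : (1 : C') ∈ RingHom.ker p.toAlgHom := h ▸ Submodule.mem_top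
    have h2 := ker_le_maximalIdeal p h1
    exact (IsLocalRing.maximalIdeal.isMaximal C').ne_top ((Ideal.eq_top_iff_one _).2 h2)

/-- The map `A → C'/J` attached to `u : A → C`. -/
noncomputable def w4Map {C' C : Art k k} (p : C' ⟶ C) (hp : Function.Surjective p)
    (u : HomSet R resR C) : R →ₐ[k] C'.carrier ⧸ RingHom.ker p.toAlgHom :=
  ((Ideal.quotientKerAlgEquivOfSurjective (f := p.toAlgHom) hp).symm : C.carrier →ₐ[k] _).comp u.1

lemma w4Map_spec {C' C : Art k k} (p : C' ⟶ C) (hp : Function.Surjective p) (u : HomSet R resR C)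
    (r : R) (c : C') (h : p c = u.1 r) : w4Map p hp u r = Ideal.Quotient.mk _ c := by
  show (Ideal.quotientKerAlgEquivOfSurjective (f := p.toAlgHom) hp).symm (u.1 r) = _
  rw [AlgEquiv.symm_apply_eq, ← h]
  rfl

lemma w4_obs_congr (T : W4bk4hartshdef114.ObsTheory k R V) {C' : Type u} [CommRing C'] [Algebra k C']
    {J₁ J₂ : Ideal C'} (h : J₁ = J₂) (u₁ : R →ₐ[k] C' ⧸ J₁) (u₂ : R →ₐ[k] C' ⧸ J₂)
    (hu : ∀ r, ∃ c, u₁ r = Ideal.Quotient.mk J₁ c ∧ u₂ r = Ideal.Quotient.mk J₂ c)
    {M : Type u} [AddCommGroup M] [Module k M] (f₁ : M →ₗ[k] ↥J₁) (f₂ : M →ₗ[k] ↥J₂)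
    (hf : ∀ m, (f₁ m : C') = f₂ m) (x : V ⊗[k] M) (hx : T.obs C' J₁ u₁ = LinearMap.lTensor V f₁ x) :
    T.obs C' J₂ u₂ = LinearMap.lTensor V f₂ x := by
  subst h
  have e1 : u₁ = u₂ := AlgHom.ext fun r => by
    obtain ⟨c, h1, h2⟩ := hu r
    rw [h1, h2]
  have e2 : f₁ = f₂ := LinearMap.ext fun m => Subtype.ext (hf m)
  rw [← e1, ← e2, hx]

/-- An obstruction theory for the algebra gives one for the functor it represents. -/
theorem hasObsTheory_hR_of_w4 (T : W4bk4hartshdef114.ObsTheory k R V) :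
    HasObsTheory (hR R resR) V := by
  refine ⟨{
    obs := fun {C' C} p hp u => T.obs C' (RingHom.ker p.toAlgHom) (w4Map p hp.1 u)
    obs_eq_zero_iff := ?_
    obs_quot := ?_ }⟩
  · intro C' C p hp u
    rw [T.obs_eq_zero_iff _ _ (w4_isSmallExt p hp)]
    constructor
    · rintro ⟨u', hu'⟩
      have hval : ∀ r, p (u' r) = u.1 r := fun r => by
        have h := AlgHom.congr_fun hu' r
        have h2 := congrArg (Ideal.quotientKerAlgEquivOfSurjective (f := p.toAlgHom) hp.1) h
        refine h2.trans ?_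
        exact AlgEquiv.apply_symm_apply _ _
      refine ⟨(⟨u', AlgHom.ext fun r => ?_⟩ : HomSet R resR C'), homSet_ext' hval⟩
      rw [AlgHom.comp_apply, ← Art.res_app p (u' r), hval, homSet_res]
    · rintro ⟨u', rfl⟩
      let u₁ : HomSet R resR C' := u'
      exact ⟨u₁.1, AlgHom.ext fun r =>
        (w4Map_spec p hp.1 (HomSet.map p u₁) r (u₁.1 r) rfl).symm⟩
  · intro C' C p hp K hK hKJ hq u
    have hmap : (RingHom.ker p.toAlgHom).map (Ideal.Quotient.mkₐ k K) =
        RingHom.ker (Art.quotFactor hK p hKJ).toAlgHom := by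
      apply le_antisymm
      · rw [Ideal.map_le_iff_le_comap]
        intro a ha
        exact ha
      · intro y hy
        obtain ⟨a, rfl⟩ := Ideal.Quotient.mk_surjective y
        exact Ideal.mem_map_of_mem _ hy
    refine w4_obs_congr T hmap _ _ (fun r => ?_) (W4bk4hartshdef114.idealToQuot k _ K)
      ((Art.kerToQuot hK p hKJ).restrictScalars k) (fun m => rfl) _
      (T.obs_quot C' _ K (w4_isSmallExt p hp) hKJ (w4Map p hp.1 u))
    obtain ⟨a, ha⟩ := hp.1 (u.1 r)
    refine ⟨Ideal.Quotient.mk K a, ?_, w4Map_spec _ hq.1 u r _ ?_⟩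
    · show (DoubleQuot.quotQuotEquivQuotOfLEₐ k hKJ).symm (w4Map p hp.1 u r) = _
      rw [w4Map_spec p hp.1 u r a ha]
      rfl
    · exact ha

/-- Equations of a quotient of a Noetherian local algebra with an obstruction theory. -/
theorem exists_equations_w4 {P : Type u} [CommRing P] [IsLocalRing P] [IsNoetherianRing P] [Algebra k P]
    (hres : Function.Surjective (algebraMap k (IsLocalRing.ResidueField P)))
    (I : Ideal P) (hI : I ≤ IsLocalRing.maximalIdeal P ^ 2) [Module.Finite k V]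
    (T : W4bk4hartshdef114.ObsTheory k (P ⧸ I) V) :
    ∃ s : Finset P, s.card ≤ Module.finrank k V ∧ Ideal.span (s : Set P) = I := by
  have hbij : Function.Bijective (Algebra.ofId k (IsLocalRing.ResidueField P)) :=
    ⟨(algebraMap k (IsLocalRing.ResidueField P)).injective, hres⟩
  let resP : P →ₐ[k] k :=
    ((AlgEquiv.ofBijective _ hbij).symm : IsLocalRing.ResidueField P →ₐ[k] k).comp
      (IsScalarTower.toAlgHom k P (IsLocalRing.ResidueField P))
  let resR : P ⧸ I →ₐ[k] k := Ideal.Quotient.liftₐ I resP fun a ha =>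
    (res_eq_zero_iff_mem resP a).2 (Ideal.pow_le_self two_ne_zero (hI ha))
  obtain ⟨T'⟩ := hasObsTheory_hR_of_w4 (resR := resR) T
  exact exists_equations resP resR (Ideal.Quotient.mkₐ k I) Ideal.Quotient.mk_surjective
    (AlgHom.ext fun _ => rfl) I (Ideal.Quotient.mkₐ_ker k I) hI V T'

end Groth.Agent.Lib.ArtinFun
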